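import Mathlib
import Cfsg.Prelude.Def_CaseTheorems

/-!
# Cores: `O_p(G)`, `O_{p'}(G)`, `F(G)` — basic API
-/

set_option autoImplicit false

namespace H2

open Cfsg Subgroup

variable {G : Type*} [Group G]

/-! ### Cardinality helpers -/

theorem card_mul_relIndex {H K : Subgroup G} (h : H ≤ K) :
    Nat.card H * H.relIndex K = Nat.card K := by
  rw [← relIndex_bot_left, ← relIndex_bot_left]
  exact relIndex_mul_relIndex ⊥ H K bot_le h

theorem card_inf_mul_relIndex (H K : Subgroup G) :
    Nat.card ↥(H ⊓ K) * H.relIndex K = Nat.card K := by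
  rw [← inf_relIndex_right]; exact card_mul_relIndex inf_le_right

theorem relIndex_sup_of_le_normalizer {H K : Subgroup G} (h : H ≤ normalizer (K : Set G)) :
    K.relIndex (H ⊔ K) = K.relIndex H := by
  have : (K.subgroupOf (H ⊔ K)).Normal := normal_subgroupOf_sup_of_le_normalizer h
  have h1 := relIndex_sup_right (H.subgroupOf (H ⊔ K)) (K.subgroupOf (H ⊔ K))
  rw [← subgroupOf_sup le_sup_left le_sup_right, relIndex_subgroupOf le_rfl,
    relIndex_subgroupOf le_sup_left] at h1
  exact h1

/-- product formula `|H K| |H ∩ K| = |H| |K|` when `H` normalizes `K`. -/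
theorem card_sup_mul_card_inf {H K : Subgroup G} (h : H ≤ normalizer (K : Set G)) :
    Nat.card ↥(H ⊔ K) * Nat.card ↥(H ⊓ K) = Nat.card H * Nat.card K := by
  rw [← card_mul_relIndex (le_sup_right : K ≤ H ⊔ K), relIndex_sup_of_le_normalizer h,
    ← card_inf_mul_relIndex K H, inf_comm K H]
  ring

theorem card_sup_dvd_of_le_normalizer {H K : Subgroup G} (h : H ≤ normalizer (K : Set G)) :
    Nat.card ↥(H ⊔ K) ∣ Nat.card H * Nat.card K :=
  Dvd.intro _ (card_sup_mul_card_inf h)

theorem card_sup_dvd (H K : Subgroup G) [K.Normal] :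
    Nat.card ↥(H ⊔ K) ∣ Nat.card H * Nat.card K :=
  card_sup_dvd_of_le_normalizer le_normalizer_of_normal

theorem card_sup_of_disjoint {H K : Subgroup G} (h : H ≤ normalizer (K : Set G))
    (hd : H ⊓ K = ⊥) : Nat.card ↥(H ⊔ K) = Nat.card H * Nat.card K := by
  rw [← card_sup_mul_card_inf h, hd, card_bot, mul_one]

theorem card_comap_mk' (N : Subgroup G) [N.Normal] (H : Subgroup (G ⧸ N)) :
    Nat.card (H.comap (QuotientGroup.mk' N)) = Nat.card N * Nat.card H :=
  QuotientGroup.card_preimage_mk N (H : Set (G ⧸ N))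

theorem card_map_mk'_mul (N H : Subgroup G) [N.Normal] :
    Nat.card ↥(N ⊓ H) * Nat.card (H.map (QuotientGroup.mk' N)) = Nat.card H := by
  rw [← relIndex_ker, QuotientGroup.ker_mk', card_inf_mul_relIndex]

theorem card_subgroupOf_of_le {H K : Subgroup G} (h : H ≤ K) :
    Nat.card (H.subgroupOf K) = Nat.card H :=
  Nat.card_congr (subgroupOfEquivOfLe h).toEquiv

theorem card_subgroupOf (H K : Subgroup G) :
    Nat.card (H.subgroupOf K) = Nat.card ↥(H ⊓ K) := by
  rw [← inf_subgroupOf_right, card_subgroupOf_of_le inf_le_right]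

theorem card_map_subtype {K : Subgroup G} (H : Subgroup K) :
    Nat.card (H.map K.subtype) = Nat.card H :=
  card_map_of_injective K.subtype_injective

theorem card_lt_of_lt [Finite G] {H K : Subgroup G} (h : H < K) : Nat.card H < Nat.card K :=
  lt_of_le_of_ne (card_le_of_le h.le) fun e => h.ne (eq_of_le_of_card_ge h.le e.ge)

theorem card_lt_of_ne_top [Finite G] {H : Subgroup G} (h : H ≠ ⊤) : Nat.card H < Nat.card G := by
  rw [← card_top (G := G)]; exact card_lt_of_lt (lt_top_iff_ne_top.mpr h)

theorem card_quotient_lt [Finite G] {N : Subgroup G} (h : N ≠ ⊥) :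
    Nat.card (G ⧸ N) < Nat.card G := by
  rw [card_eq_card_quotient_mul_card_subgroup N]
  exact lt_mul_of_one_lt_right Nat.card_pos ((one_lt_card_iff_ne_bot _).mpr h)

theorem IsPGroup.eq_bot_of_coprime [Finite G] {p : ℕ} {H : Subgroup G} (hH : IsPGroup p H)
    (hc : (Nat.card H).Coprime p) : H = ⊥ := by
  obtain ⟨n, hn⟩ := isPGroup_iff_card_dvd_pow.mp hH
  exact card_eq_one.mp (Nat.eq_one_of_dvd_coprimes (hc.pow_right n) dvd_rfl hn)

theorem sSup_mem_of_sup_closed [Finite G] (S : Set (Subgroup G)) (h0 : ⊥ ∈ S)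
    (hs : ∀ A ∈ S, ∀ B ∈ S, A ⊔ B ∈ S) : sSup S ∈ S :=
  SupClosed.sSup_mem (fun A hA B hB => hs A hA B hB) (Set.toFinite S) h0 subset_rfl

/-- a `p`-subgroup inside `N ⊔ K` (`N` normal, `K` a `p'`-group) lies in `N`. -/
theorem le_of_isPGroup_of_le_sup_coprime [Finite G] {p : ℕ} {P N K : Subgroup G} [N.Normal]
    (hP : IsPGroup p P) (hK : (Nat.card K).Coprime p) (h : P ≤ N ⊔ K) : P ≤ N := by
  have h1 : P.map (QuotientGroup.mk' N) ≤ K.map (QuotientGroup.mk' N) := by
    refine (map_mono h).trans ?_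
    rw [Subgroup.map_sup, (map_eq_bot_iff N).mpr (by simp), bot_sup_eq]
  have h2 : P.map (QuotientGroup.mk' N) = ⊥ :=
    IsPGroup.eq_bot_of_coprime (hP.map _)
      (Nat.Coprime.coprime_dvd_left ((card_dvd_of_le h1).trans (card_map_dvd _ _)) hK)
  simpa using (map_eq_bot_iff P).mp h2

/-- a `p'`-subgroup inside `N ⊔ K` (`N` normal, `K` a `p`-group) lies in `N`. -/
theorem le_of_coprime_of_le_sup_isPGroup [Finite G] {p : ℕ} {P N K : Subgroup G} [N.Normal]
    (hP : (Nat.card P).Coprime p) (hK : IsPGroup p K) (h : P ≤ N ⊔ K) : P ≤ N := by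
  have h1 : P.map (QuotientGroup.mk' N) ≤ K.map (QuotientGroup.mk' N) := by
    refine (map_mono h).trans ?_
    rw [Subgroup.map_sup, (map_eq_bot_iff N).mpr (by simp), bot_sup_eq]
  have h2 : P.map (QuotientGroup.mk' N) = ⊥ :=
    IsPGroup.eq_bot_of_coprime ((hK.map _).to_le h1)
      (Nat.Coprime.coprime_dvd_left (card_map_dvd _ _) hP)
  simpa using (map_eq_bot_iff P).mp h2

/-- a subgroup of order coprime to the index of a normal subgroup lies in it. -/
theorem le_of_card_coprime_index [Finite G] {H N : Subgroup G} [N.Normal]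
    (h : (Nat.card H).Coprime N.index) : H ≤ N := by
  rw [← relIndex_eq_one]
  exact Nat.eq_one_of_dvd_coprimes h (relIndex_dvd_card N H) (relIndex_dvd_index_of_normal N H)

/-- any family of Sylow subgroups, one for each prime, generates the group. -/
theorem eq_top_of_forall_sylow_le [Finite G] {H : Subgroup G}
    (h : ∀ (p : ℕ) [Fact p.Prime], ∃ P : Sylow p G, (P : Subgroup G) ≤ H) : H = ⊤ := by
  rw [← index_eq_one]
  by_contra hne
  obtain ⟨p, hp, hd⟩ := Nat.exists_prime_and_dvd hne
  have : Fact p.Prime := ⟨hp⟩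
  obtain ⟨P, hP⟩ := h p
  exact P.not_dvd_index (hd.trans (index_dvd_of_le hP))

/-- a subgroup `K` is contained in `H` as soon as, for each prime `p`, some Sylow
`p`-subgroup of `K` is. -/
theorem le_of_forall_sylow_le [Finite G] {K H : Subgroup G}
    (h : ∀ (p : ℕ) [Fact p.Prime], ∃ P : Sylow p K, (P : Subgroup K).map K.subtype ≤ H) :
    K ≤ H := by
  rw [← subgroupOf_eq_top]
  refine eq_top_of_forall_sylow_le fun p _ => ?_
  obtain ⟨P, hP⟩ := h p
  exact ⟨P, map_le_iff_le_comap.mp hP⟩

/-! ### The `p`-core -/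

theorem pCore_isPGroup (p : ℕ) (G : Type*) [Group G] : IsPGroup p (pCore p G) :=
  Sylow.sSup_of_normal _ (fun _ h => h.2) (fun _ h => h.1)

theorem le_pCore {p : ℕ} {N : Subgroup G} (hN : N.Normal) (h : IsPGroup p N) : N ≤ pCore p G :=
  le_sSup ⟨hN, h⟩

theorem pCore_le_sylow {p : ℕ} (P : Sylow p G) : pCore p G ≤ P :=
  (pCore_isPGroup p G).le_sylow_of_normal P

theorem map_pCore_le {G' : Type*} [Group G'] (p : ℕ) {f : G →* G'} (hf : Function.Surjective f) :
    (pCore p G).map f ≤ pCore p G' :=
  le_pCore ((pCore_normal p G).map f hf) ((pCore_isPGroup p G).map f)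

theorem map_pCore_equiv {G' : Type*} [Group G'] (p : ℕ) (e : G ≃* G') :
    (pCore p G).map (e : G →* G') = pCore p G' := by
  refine le_antisymm (map_pCore_le p e.surjective) fun x hx => ?_
  have : e.symm x ∈ pCore p G :=
    map_pCore_le p (f := (e.symm : G' →* G)) e.symm.surjective ⟨x, hx, rfl⟩
  exact ⟨e.symm x, this, by simp⟩

instance pCore_characteristic (p : ℕ) (G : Type*) [Group G] : (pCore p G).Characteristic :=
  characteristic_iff_map_eq.mpr fun e => map_pCore_equiv p e

theorem pCore_eq_iInf_sylow (p : ℕ) (G : Type*) [Group G] :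
    pCore p G = ⨅ P : Sylow p G, (P : Subgroup G) := by
  refine le_antisymm (le_iInf pCore_le_sylow) (le_pCore ⟨fun n hn g => ?_⟩ ?_)
  · rw [mem_iInf] at hn ⊢
    intro P
    have := hn (g⁻¹ • P)
    rw [Sylow.coe_subgroup_smul, mem_pointwise_smul_iff_inv_smul_mem] at this
    simpa using this
  · exact (Classical.arbitrary (Sylow p G)).isPGroup'.to_le (iInf_le _ _)

theorem pCore_eq_normalCore_sylow {p : ℕ} (P : Sylow p G) :
    pCore p G = (P : Subgroup G).normalCore :=
  le_antisymm (normal_le_normalCore.mpr (pCore_le_sylow P))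
    (le_pCore inferInstance (P.isPGroup'.to_le (normalCore_le _)))

theorem pCore_subgroupOf_le (p : ℕ) (H : Subgroup G) : (pCore p G).subgroupOf H ≤ pCore p H :=
  le_pCore inferInstance (pCore_isPGroup p G).comap_subtype

theorem map_subtype_pCore_le (p : ℕ) (N : Subgroup G) [N.Normal] :
    (pCore p N).map N.subtype ≤ pCore p G :=
  le_pCore inferInstance ((pCore_isPGroup p N).map _)

theorem pCore_subgroupOf_eq (p : ℕ) (N : Subgroup G) [N.Normal] :
    (pCore p G).subgroupOf N = pCore p N :=
  le_antisymm (pCore_subgroupOf_le p N) (map_le_iff_le_comap.mp (map_subtype_pCore_le p N))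

theorem map_subtype_pCore_eq (p : ℕ) (N : Subgroup G) [N.Normal] :
    (pCore p N).map N.subtype = pCore p G ⊓ N := by
  rw [← pCore_subgroupOf_eq, subgroupOf_map_subtype]

theorem comap_pCore_of_ker_isPGroup {G' : Type*} [Group G'] {p : ℕ} {f : G →* G'}
    (hf : Function.Surjective f) (hk : IsPGroup p f.ker) :
    (pCore p G').comap f = pCore p G :=
  le_antisymm (le_pCore inferInstance ((pCore_isPGroup p G').comap_of_ker_isPGroup f hk))
    (map_le_iff_le_comap.mp (map_pCore_le p hf))

theorem pCore_quotient_pCore (p : ℕ) (G : Type*) [Group G] : pCore p (G ⧸ pCore p G) = ⊥ := by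
  have h := comap_pCore_of_ker_isPGroup (p := p) (QuotientGroup.mk'_surjective (pCore p G))
    (by rw [QuotientGroup.ker_mk']; exact pCore_isPGroup p G)
  apply comap_injective (QuotientGroup.mk'_surjective (pCore p G))
  rw [h, MonoidHom.comap_bot, QuotientGroup.ker_mk']

theorem pCore_eq_top_iff {p : ℕ} : pCore p G = ⊤ ↔ IsPGroup p G := by
  constructor
  · intro h
    have := pCore_isPGroup p G
    rw [h] at this
    exact this.of_equiv topEquiv
  · intro h
    exact top_le_iff.mp (le_pCore inferInstance (h.to_subgroup ⊤))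

theorem pCore_eq_sylow_of_normal {p : ℕ} (P : Sylow p G) (h : (P : Subgroup G).Normal) :
    pCore p G = P :=
  le_antisymm (pCore_le_sylow P) (le_pCore h P.isPGroup')

theorem IsSubnormal.le_pCore {p : ℕ} {H : Subgroup G} (hH : H.IsSubnormal) :
    (pCore p H).map H.subtype ≤ pCore p G := by
  induction hH with
  | top => exact map_subtype_pCore_le p ⊤
  | step H K hle _ hN ih =>
    refine le_trans ?_ ih
    have h1 := map_subtype_pCore_le p (H.subgroupOf K)
    rw [← map_pCore_equiv p (subgroupOfEquivOfLe hle).symm] at h1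
    rintro _ ⟨x, hx, rfl⟩
    exact ⟨⟨x, hle x.2⟩, h1 ⟨_, ⟨x, hx, rfl⟩, rfl⟩, rfl⟩

theorem le_pCore_of_isSubnormal {p : ℕ} {H : Subgroup G} (hH : H.IsSubnormal)
    (hp : IsPGroup p H) : H ≤ pCore p G := by
  have := IsSubnormal.le_pCore (p := p) hH
  rwa [pCore_eq_top_iff.mpr hp, ← MonoidHom.range_eq_map, range_subtype] at this

/-! ### The `p'`-core -/

theorem pPrimeCore_coprime (p : ℕ) (G : Type*) [Group G] [Finite G] :
    (Nat.card (pPrimeCore p G)).Coprime p := by
  refine (sSup_mem_of_sup_closed {N : Subgroup G | N.Normal ∧ (Nat.card N).Coprime p}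
    ⟨inferInstance, by simp⟩ ?_).2
  rintro A ⟨hA, hA'⟩ B ⟨hB, hB'⟩
  exact ⟨inferInstance, Nat.Coprime.coprime_dvd_left (card_sup_dvd A B) (hA'.mul_left hB')⟩

theorem not_dvd_card_pPrimeCore (p : ℕ) [hp : Fact p.Prime] (G : Type*) [Group G] [Finite G] :
    ¬ p ∣ Nat.card (pPrimeCore p G) :=
  hp.out.coprime_iff_not_dvd.mp (pPrimeCore_coprime p G).symm

theorem le_pPrimeCore {p : ℕ} {N : Subgroup G} (hN : N.Normal) (h : (Nat.card N).Coprime p) :
    N ≤ pPrimeCore p G :=
  le_sSup ⟨hN, h⟩

theorem map_pPrimeCore_le {G' : Type*} [Group G'] (p : ℕ) {f : G →* G'}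
    (hf : Function.Surjective f) : (pPrimeCore p G).map f ≤ pPrimeCore p G' := by
  rw [map_le_iff_le_comap]
  refine sSup_le fun N hN => ?_
  rw [← map_le_iff_le_comap]
  exact le_pPrimeCore (hN.1.map f hf) (Nat.Coprime.coprime_dvd_left (card_map_dvd _ _) hN.2)

theorem map_pPrimeCore_equiv {G' : Type*} [Group G'] (p : ℕ) (e : G ≃* G') :
    (pPrimeCore p G).map (e : G →* G') = pPrimeCore p G' := by
  refine le_antisymm (map_pPrimeCore_le p e.surjective) fun x hx => ?_
  have : e.symm x ∈ pPrimeCore p G :=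
    map_pPrimeCore_le p (f := (e.symm : G' →* G)) e.symm.surjective ⟨x, hx, rfl⟩
  exact ⟨e.symm x, this, by simp⟩

instance pPrimeCore_characteristic (p : ℕ) (G : Type*) [Group G] :
    (pPrimeCore p G).Characteristic :=
  characteristic_iff_map_eq.mpr fun e => map_pPrimeCore_equiv p e

theorem pPrimeCore_subgroupOf_le [Finite G] (p : ℕ) (H : Subgroup G) :
    (pPrimeCore p G).subgroupOf H ≤ pPrimeCore p H :=
  le_pPrimeCore inferInstance (by
    rw [card_subgroupOf]
    exact Nat.Coprime.coprime_dvd_left (card_dvd_of_le inf_le_left) (pPrimeCore_coprime p G))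

theorem map_subtype_pPrimeCore_le [Finite G] (p : ℕ) (N : Subgroup G) [N.Normal] :
    (pPrimeCore p N).map N.subtype ≤ pPrimeCore p G :=
  le_pPrimeCore inferInstance (by rw [card_map_subtype]; exact pPrimeCore_coprime p N)

theorem pPrimeCore_subgroupOf_eq [Finite G] (p : ℕ) (N : Subgroup G) [N.Normal] :
    (pPrimeCore p G).subgroupOf N = pPrimeCore p N :=
  le_antisymm (pPrimeCore_subgroupOf_le p N)
    (map_le_iff_le_comap.mp (map_subtype_pPrimeCore_le p N))

theorem map_subtype_pPrimeCore_eq [Finite G] (p : ℕ) (N : Subgroup G) [N.Normal] :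
    (pPrimeCore p N).map N.subtype = pPrimeCore p G ⊓ N := by
  rw [← pPrimeCore_subgroupOf_eq, subgroupOf_map_subtype]

theorem comap_pPrimeCore_mk' [Finite G] {p : ℕ} (N : Subgroup G) [N.Normal]
    (hN : (Nat.card N).Coprime p) :
    (pPrimeCore p (G ⧸ N)).comap (QuotientGroup.mk' N) = pPrimeCore p G :=
  le_antisymm (le_pPrimeCore inferInstance (by
      rw [card_comap_mk']; exact hN.mul_left (pPrimeCore_coprime p _)))
    (map_le_iff_le_comap.mp (map_pPrimeCore_le p (QuotientGroup.mk'_surjective N)))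

theorem pPrimeCore_quotient_pPrimeCore (p : ℕ) (G : Type*) [Group G] [Finite G] :
    pPrimeCore p (G ⧸ pPrimeCore p G) = ⊥ := by
  have h := comap_pPrimeCore_mk' (pPrimeCore p G) (pPrimeCore_coprime p G)
  apply comap_injective (QuotientGroup.mk'_surjective (pPrimeCore p G))
  rw [h, MonoidHom.comap_bot, QuotientGroup.ker_mk']

theorem pPrimeCore_eq_top_iff [Finite G] {p : ℕ} :
    pPrimeCore p G = ⊤ ↔ (Nat.card G).Coprime p := by
  constructor
  · intro h
    have := pPrimeCore_coprime p G
    rwa [h, card_top] at this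
  · intro h
    exact top_le_iff.mp (le_pPrimeCore inferInstance (by rwa [card_top]))

theorem IsSubnormal.le_pPrimeCore [Finite G] {p : ℕ} {H : Subgroup G} (hH : H.IsSubnormal) :
    (pPrimeCore p H).map H.subtype ≤ pPrimeCore p G := by
  induction hH with
  | top => exact map_subtype_pPrimeCore_le p ⊤
  | step H K hle _ hN ih =>
    refine le_trans ?_ ih
    have h1 := map_subtype_pPrimeCore_le p (H.subgroupOf K)
    rw [← map_pPrimeCore_equiv p (subgroupOfEquivOfLe hle).symm] at h1
    rintro _ ⟨x, hx, rfl⟩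
    exact ⟨⟨x, hle x.2⟩, h1 ⟨_, ⟨x, hx, rfl⟩, rfl⟩, rfl⟩

theorem le_pPrimeCore_of_isSubnormal [Finite G] {p : ℕ} {H : Subgroup G} (hH : H.IsSubnormal)
    (hp : (Nat.card H).Coprime p) : H ≤ pPrimeCore p G := by
  have := IsSubnormal.le_pPrimeCore (p := p) hH
  rwa [pPrimeCore_eq_top_iff.mpr hp, ← MonoidHom.range_eq_map, range_subtype] at this

theorem IsPGroup.card_coprime_of_ne [Finite G] {p q : ℕ} [hp : Fact p.Prime] [hq : Fact q.Prime]
    (hG : IsPGroup q G) (h : q ≠ p) : (Nat.card G).Coprime p := by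
  obtain ⟨n, hn⟩ := IsPGroup.iff_card.mp hG
  rw [hn]
  exact ((Nat.coprime_primes hq.out hp.out).mpr h).pow_left n

theorem pCore_le_pPrimeCore [Finite G] {p q : ℕ} [Fact p.Prime] [Fact q.Prime] (h : q ≠ p) :
    pCore q G ≤ pPrimeCore p G :=
  le_pPrimeCore inferInstance (IsPGroup.card_coprime_of_ne (pCore_isPGroup q G) h)

theorem pCore_inf_pPrimeCore [Finite G] (p : ℕ) : pCore p G ⊓ pPrimeCore p G = ⊥ :=
  IsPGroup.eq_bot_of_coprime (pCore_isPGroup p G).to_inf_left
    (Nat.Coprime.coprime_dvd_left (card_dvd_of_le inf_le_right) (pPrimeCore_coprime p G))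

theorem pPrimeCore_le_centralizer_pCore [Finite G] (p : ℕ) :
    pPrimeCore p G ≤ centralizer (pCore p G : Set G) := by
  rw [← commutator_eq_bot_iff_le_centralizer]
  exact commutator_eq_bot_of_disjoint (by rw [disjoint_iff, inf_comm, pCore_inf_pPrimeCore])

/-! ### The Fitting subgroup -/

instance fitting_normal (G : Type*) [Group G] : (fittingSubgroup G).Normal :=
  Subgroup.sSup_normal _ (fun _ h => h.1)

theorem le_fitting {N : Subgroup G} (hN : N.Normal) (h : Group.IsNilpotent N) :
    N ≤ fittingSubgroup G :=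
  le_sSup ⟨hN, h⟩

theorem isNilpotent_of_isMulCommutative (G : Type*) [Group G] [h : IsMulCommutative G] :
    Group.IsNilpotent G :=
  ⟨1, Subgroup.upperCentralSeries_one_eq_top_iff.mpr h⟩

theorem isSolvable_of_isMulCommutative (G : Type*) [Group G] [IsMulCommutative G] :
    Group.IsSolvable G :=
  Group.isSolvable_of_comm mul_comm'

theorem le_fitting_of_isMulCommutative {N : Subgroup G} (hN : N.Normal) [IsMulCommutative N] :
    N ≤ fittingSubgroup G :=
  le_fitting hN (isNilpotent_of_isMulCommutative N)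

theorem isNilpotent_map {G' : Type*} [Group G'] {H : Subgroup G} (h : Group.IsNilpotent H)
    (f : G →* G') : Group.IsNilpotent (H.map f) :=
  Group.nilpotent_of_surjective (f.subgroupMap H) (f.subgroupMap_surjective H)

theorem isNilpotent_of_le {H K : Subgroup G} (h : Group.IsNilpotent K) (hle : H ≤ K) :
    Group.IsNilpotent H :=
  Group.nilpotent_of_mulEquiv (subgroupOfEquivOfLe hle)

theorem isNilpotent_subgroupOf {H : Subgroup G} (h : Group.IsNilpotent H) (K : Subgroup G) :
    Group.IsNilpotent (H.subgroupOf K) := by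
  rw [← inf_subgroupOf_right]
  have := isNilpotent_of_le h (inf_le_left : H ⊓ K ≤ H)
  exact Group.nilpotent_of_mulEquiv (subgroupOfEquivOfLe inf_le_right).symm

theorem isNilpotent_of_map_subtype {K : Subgroup G} {H : Subgroup K}
    (h : Group.IsNilpotent (H.map K.subtype)) : Group.IsNilpotent H :=
  Group.nilpotent_of_mulEquiv (H.equivMapOfInjective K.subtype K.subtype_injective).symm

theorem map_fitting_le {G' : Type*} [Group G'] {f : G →* G'} (hf : Function.Surjective f) :
    (fittingSubgroup G).map f ≤ fittingSubgroup G' := by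
  rw [map_le_iff_le_comap]
  refine sSup_le fun N hN => ?_
  rw [← map_le_iff_le_comap]
  exact le_fitting (hN.1.map f hf) (isNilpotent_map hN.2 f)

theorem map_fitting_equiv {G' : Type*} [Group G'] (e : G ≃* G') :
    (fittingSubgroup G).map (e : G →* G') = fittingSubgroup G' := by
  refine le_antisymm (map_fitting_le e.surjective) fun x hx => ?_
  have : e.symm x ∈ fittingSubgroup G :=
    map_fitting_le (f := (e.symm : G' →* G)) e.symm.surjective ⟨x, hx, rfl⟩
  exact ⟨e.symm x, this, by simp⟩

instance fitting_characteristic (G : Type*) [Group G] : (fittingSubgroup G).Characteristic :=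
  characteristic_iff_map_eq.mpr fun e => map_fitting_equiv e

theorem pCore_le_fitting [Finite G] (p : ℕ) [Fact p.Prime] : pCore p G ≤ fittingSubgroup G :=
  le_fitting inferInstance (pCore_isPGroup p G).isNilpotent

theorem isNilpotent_iff_forall_sylow_normal [Finite G] :
    Group.IsNilpotent G ↔ ∀ (p : ℕ) (_ : Fact p.Prime) (P : Sylow p G), (P : Subgroup G).Normal :=
  (Group.isNilpotent_of_finite_tfae (G := G)).out 0 3

theorem isNilpotent_iff_forall_coatom_normal [Finite G] :
    Group.IsNilpotent G ↔ ∀ H : Subgroup G, IsCoatom H → H.Normal :=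
  (Group.isNilpotent_of_finite_tfae (G := G)).out 0 2

theorem isNilpotent_iff_normalizerCondition [Finite G] :
    Group.IsNilpotent G ↔ NormalizerCondition G :=
  (Group.isNilpotent_of_finite_tfae (G := G)).out 0 1

/-- A Sylow subgroup of a nilpotent normal subgroup is normal in the whole group. -/
theorem sylow_map_normal_of_nilpotent [Finite G] {N : Subgroup G} [N.Normal]
    (h : Group.IsNilpotent N) {p : ℕ} [Fact p.Prime] (P : Sylow p N) :
    ((P : Subgroup N).map N.subtype).Normal := by
  have := P.characteristic_of_normal inferInstance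
  infer_instance

theorem fitting_eq_iSup_pCore (G : Type*) [Group G] [Finite G] :
    fittingSubgroup G = ⨆ p : Nat.Primes, pCore (p : ℕ) G := by
  refine le_antisymm (sSup_le fun N hN => ?_) (iSup_le fun p => ?_)
  · have := hN.1
    refine le_of_forall_sylow_le fun p hp => ?_
    obtain ⟨P⟩ := (inferInstance : Nonempty (Sylow p N))
    exact ⟨P, (le_pCore (sylow_map_normal_of_nilpotent hN.2 P) (P.isPGroup'.map _)).trans
      (le_iSup (fun p : Nat.Primes => pCore (p : ℕ) G) ⟨p, hp.out⟩)⟩
  · have : Fact (p : ℕ).Prime := ⟨p.2⟩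
    exact pCore_le_fitting p

theorem fitting_le_pCore_sup_pPrimeCore [Finite G] (p : ℕ) [Fact p.Prime] :
    fittingSubgroup G ≤ pCore p G ⊔ pPrimeCore p G := by
  rw [fitting_eq_iSup_pCore]
  refine iSup_le fun q => ?_
  have : Fact (q : ℕ).Prime := ⟨q.2⟩
  by_cases h : (q : ℕ) = p
  · rw [h]; exact le_sup_left
  · exact (pCore_le_pPrimeCore h).trans le_sup_right

/-- a `p`-subgroup of `F(G)` lies in `O_p(G)`. -/
theorem le_pCore_of_le_fitting [Finite G] {p : ℕ} [Fact p.Prime] {P : Subgroup G}
    (hP : IsPGroup p P) (h : P ≤ fittingSubgroup G) : P ≤ pCore p G :=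
  le_of_isPGroup_of_le_sup_coprime hP (pPrimeCore_coprime p G)
    (h.trans (fitting_le_pCore_sup_pPrimeCore p))

/-- a `p'`-subgroup of `F(G)` lies in `O_{p'}(G)`. -/
theorem le_pPrimeCore_of_le_fitting [Finite G] {p : ℕ} [Fact p.Prime] {P : Subgroup G}
    (hP : (Nat.card P).Coprime p) (h : P ≤ fittingSubgroup G) : P ≤ pPrimeCore p G :=
  le_of_coprime_of_le_sup_isPGroup hP (pCore_isPGroup p G)
    (h.trans ((fitting_le_pCore_sup_pPrimeCore p).trans (sup_comm _ _).le))

instance fitting_isNilpotent (G : Type*) [Group G] [Finite G] :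
    Group.IsNilpotent (fittingSubgroup G) := by
  refine isNilpotent_iff_forall_sylow_normal.mpr fun p hp P => ?_
  have h1 : (P : Subgroup (fittingSubgroup G)) ≤ (pCore p G).subgroupOf _ :=
    map_le_iff_le_comap.mp (le_pCore_of_le_fitting (P.isPGroup'.map _) (map_subtype_le _))
  have h2 : (pCore p G).subgroupOf (fittingSubgroup G) = P :=
    P.is_maximal' (pCore_isPGroup p G).comap_subtype h1
  rw [← h2]; infer_instance

theorem fitting_eq_pCore_of_pPrimeCore_eq_bot [Finite G] {p : ℕ} [Fact p.Prime]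
    (h : pPrimeCore p G = ⊥) : fittingSubgroup G = pCore p G :=
  le_antisymm (by simpa [h] using fitting_le_pCore_sup_pPrimeCore (G := G) p) (pCore_le_fitting p)

/-- the join of two normal nilpotent subgroups of a finite group is nilpotent. -/
theorem isNilpotent_sup [Finite G] {A B : Subgroup G} (hA : A.Normal) (hB : B.Normal)
    (hA' : Group.IsNilpotent A) (hB' : Group.IsNilpotent B) : Group.IsNilpotent ↥(A ⊔ B) :=
  isNilpotent_of_le (fitting_isNilpotent G) (sup_le (le_fitting hA hA') (le_fitting hB hB'))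

theorem fitting_subgroupOf_le [Finite G] (H : Subgroup G) :
    (fittingSubgroup G).subgroupOf H ≤ fittingSubgroup H :=
  le_fitting inferInstance (isNilpotent_subgroupOf inferInstance H)

theorem map_subtype_fitting_le [Finite G] (N : Subgroup G) [N.Normal] :
    (fittingSubgroup N).map N.subtype ≤ fittingSubgroup G :=
  le_fitting inferInstance (isNilpotent_map inferInstance _)

theorem fitting_subgroupOf_eq [Finite G] (N : Subgroup G) [N.Normal] :
    (fittingSubgroup G).subgroupOf N = fittingSubgroup N :=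
  le_antisymm (fitting_subgroupOf_le N) (map_le_iff_le_comap.mp (map_subtype_fitting_le N))

theorem map_subtype_fitting_eq [Finite G] (N : Subgroup G) [N.Normal] :
    (fittingSubgroup N).map N.subtype = fittingSubgroup G ⊓ N := by
  rw [← fitting_subgroupOf_eq, subgroupOf_map_subtype]

theorem fitting_eq_top_iff [Finite G] : fittingSubgroup G = ⊤ ↔ Group.IsNilpotent G := by
  constructor
  · intro h
    have := fitting_isNilpotent G
    rw [h] at this
    exact Group.isNilpotent_top.mp this
  · intro h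
    exact top_le_iff.mp (le_fitting inferInstance inferInstance)

theorem IsSubnormal.le_fitting [Finite G] {H : Subgroup G} (hH : H.IsSubnormal) :
    (fittingSubgroup H).map H.subtype ≤ fittingSubgroup G := by
  induction hH with
  | top => exact map_subtype_fitting_le ⊤
  | step H K hle _ hN ih =>
    refine le_trans ?_ ih
    have h1 := map_subtype_fitting_le (H.subgroupOf K)
    rw [← map_fitting_equiv (subgroupOfEquivOfLe hle).symm] at h1
    rintro _ ⟨x, hx, rfl⟩
    exact ⟨⟨x, hle x.2⟩, h1 ⟨_, ⟨x, hx, rfl⟩, rfl⟩, rfl⟩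

theorem le_fitting_of_isSubnormal [Finite G] {H : Subgroup G} (hH : H.IsSubnormal)
    (hn : Group.IsNilpotent H) : H ≤ fittingSubgroup G := by
  have := IsSubnormal.le_fitting hH
  rwa [fitting_eq_top_iff.mpr hn, ← MonoidHom.range_eq_map, range_subtype] at this

theorem center_le_fitting (G : Type*) [Group G] : center G ≤ fittingSubgroup G :=
  le_fitting_of_isMulCommutative inferInstance

theorem frattini_le_fitting (G : Type*) [Group G] [Finite G] : frattini G ≤ fittingSubgroup G :=
  le_fitting inferInstance frattini_nilpotent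

theorem fitting_eq_bot_iff [Finite G] :
    fittingSubgroup G = ⊥ ↔ ∀ p : ℕ, p.Prime → pCore p G = ⊥ := by
  rw [fitting_eq_iSup_pCore, iSup_eq_bot]
  exact ⟨fun h p hp => h ⟨p, hp⟩, fun h p => h p p.2⟩

end H2
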