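import Mathlib
import Cfsg.Agent.H2.Cores

/-!
# Minimal normal subgroups, `C(F(G)) ≤ F(G)`, nilpotent groups
-/

set_option autoImplicit false

namespace H2

open Cfsg Subgroup
open scoped commutatorElement

variable {G : Type*} [Group G]

/-- `N` is a minimal normal subgroup of `G`. -/
def IsMinNormal (N : Subgroup G) : Prop :=
  N.Normal ∧ N ≠ ⊥ ∧ ∀ M : Subgroup G, M.Normal → M ≤ N → M = ⊥ ∨ M = N

theorem exists_isMinNormal_le [Finite G] {N : Subgroup G} (hN : N.Normal) (h : N ≠ ⊥) :
    ∃ M : Subgroup G, IsMinNormal M ∧ M ≤ N := by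
  obtain ⟨M, hM⟩ := exists_minimal_of_wellFoundedLT
    (fun M : Subgroup G => M.Normal ∧ M ≠ ⊥ ∧ M ≤ N) ⟨N, hN, h, le_rfl⟩
  refine ⟨M, ⟨hM.1.1, hM.1.2.1, fun K hK hKM => ?_⟩, hM.1.2.2⟩
  by_cases hb : K = ⊥
  · exact Or.inl hb
  · exact Or.inr (le_antisymm hKM (hM.2 ⟨hK, hb, hKM.trans hM.1.2.2⟩ hKM))

theorem exists_isMinNormal (G : Type*) [Group G] [Finite G] [Nontrivial G] :
    ∃ M : Subgroup G, IsMinNormal M :=
  (exists_isMinNormal_le (N := (⊤ : Subgroup G)) inferInstance top_ne_bot).imp fun _ h => h.1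

theorem isSolvable_of_le {H K : Subgroup G} (h : Group.IsSolvable K) (hle : H ≤ K) :
    Group.IsSolvable H :=
  Group.isSolvable_of_isSolvable_injective (f := inclusion hle) (inclusion_injective hle)

theorem isSolvable_map {G' : Type*} [Group G'] {H : Subgroup G} (h : Group.IsSolvable H)
    (f : G →* G') : Group.IsSolvable (H.map f) :=
  Group.isSolvable_of_surjective (f.subgroupMap_surjective H)

theorem isSolvable_of_mulEquiv {G' : Type*} [Group G'] [Group.IsSolvable G] (e : G ≃* G') :
    Group.IsSolvable G' :=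
  Group.isSolvable_of_surjective (f := (e : G →* G')) e.surjective

theorem isSolvable_subgroupOf {H : Subgroup G} (h : Group.IsSolvable H) (K : Subgroup G) :
    Group.IsSolvable (H.subgroupOf K) := by
  rw [← inf_subgroupOf_right]
  have := isSolvable_of_le h (inf_le_left : H ⊓ K ≤ H)
  exact isSolvable_of_mulEquiv (subgroupOfEquivOfLe inf_le_right).symm

theorem isSolvable_of_map_subtype {K : Subgroup G} {H : Subgroup K}
    (h : Group.IsSolvable (H.map K.subtype)) : Group.IsSolvable H :=
  isSolvable_of_mulEquiv (H.equivMapOfInjective K.subtype K.subtype_injective).symm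

theorem isSolvable_top_iff : Group.IsSolvable (⊤ : Subgroup G) ↔ Group.IsSolvable G :=
  ⟨fun _ => isSolvable_of_mulEquiv topEquiv, fun _ => inferInstance⟩

theorem isSolvable_of_normal_quotient (N : Subgroup G) [N.Normal] (h1 : Group.IsSolvable N)
    (h2 : Group.IsSolvable (G ⧸ N)) : Group.IsSolvable G :=
  (Group.isSolvable_iff_subgroup_quotient N).mpr ⟨h1, h2⟩

/-- the preimage of a solvable subgroup under a map with solvable kernel is solvable -/
theorem isSolvable_comap {G' : Type*} [Group G'] (f : G →* G') {H : Subgroup G'}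
    (hk : Group.IsSolvable f.ker) (hH : Group.IsSolvable H) : Group.IsSolvable (H.comap f) := by
  have hle : f.ker ≤ H.comap f := fun x hx => by
    rw [mem_comap, MonoidHom.mem_ker.mp hx]; exact one_mem _
  refine Group.isSolvable_of_ker_le_range (inclusion hle) (f.subgroupComap H) ?_
  intro x hx
  refine ⟨⟨x, ?_⟩, rfl⟩
  exact congrArg Subtype.val (MonoidHom.mem_ker.mp hx)

/-- `H ⊔ K` is solvable if `H, K` are and `H` normalizes `K`. -/
theorem isSolvable_sup_of_le_normalizer {H K : Subgroup G} (hH : Group.IsSolvable H)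
    (hK : Group.IsSolvable K) (h : H ≤ normalizer (K : Set G)) : Group.IsSolvable ↥(H ⊔ K) := by
  have : (K.subgroupOf (H ⊔ K)).Normal := normal_subgroupOf_sup_of_le_normalizer h
  refine isSolvable_of_normal_quotient (K.subgroupOf (H ⊔ K)) (isSolvable_subgroupOf hK _) ?_
  refine Group.isSolvable_of_surjective
    (f := (QuotientGroup.mk' (K.subgroupOf (H ⊔ K))).comp (inclusion le_sup_left)) ?_
  rw [← MonoidHom.range_eq_top, ← MonoidHom.map_range, inclusion_range]
  apply comap_injective (QuotientGroup.mk'_surjective _)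
  rw [comap_map_eq, QuotientGroup.ker_mk', ← subgroupOf_sup le_sup_left le_sup_right,
    subgroupOf_self, comap_top]

theorem commutator_lt_of_isSolvable {H : Subgroup G} (h : Group.IsSolvable H) (hH : H ≠ ⊥) :
    ⁅H, H⁆ < H := by
  have : Nontrivial H := (nontrivial_iff_ne_bot H).mpr hH
  have h1 := Group.IsSolvable.commutator_lt_top_of_nontrivial H
  refine lt_of_le_of_ne (commutator_le_self H) fun e => h1.ne ?_
  apply map_injective H.subtype_injective
  rw [map_subtype_commutator, e, ← MonoidHom.range_eq_map, range_subtype]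

theorem isMulCommutative_of_le {H K : Subgroup G} (h : IsMulCommutative K) (hle : H ≤ K) :
    IsMulCommutative H :=
  IsMulCommutative.of_setLike_mul_comm fun _ ha _ hb => setLike_mul_comm (hle ha) (hle hb)

/-- the elements of an abelian subgroup killed by `n` -/
def powKer (N : Subgroup G) [IsMulCommutative N] (n : ℕ) : Subgroup G where
  carrier := {x | x ∈ N ∧ x ^ n = 1}
  mul_mem' := fun {a b} ha hb => ⟨mul_mem ha.1 hb.1, by
    have : Commute a b := setLike_mul_comm ha.1 hb.1
    rw [this.mul_pow, ha.2, hb.2, mul_one]⟩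
  one_mem' := ⟨one_mem _, one_pow _⟩
  inv_mem' := fun {a} ha => ⟨inv_mem ha.1, by rw [inv_pow, ha.2, inv_one]⟩

theorem mem_powKer {N : Subgroup G} [IsMulCommutative N] {n : ℕ} {x : G} :
    x ∈ powKer N n ↔ x ∈ N ∧ x ^ n = 1 := Iff.rfl

theorem powKer_le (N : Subgroup G) [IsMulCommutative N] (n : ℕ) : powKer N n ≤ N :=
  fun _ h => h.1

theorem normalizer_le_normalizer_powKer (N : Subgroup G) [IsMulCommutative N] (n : ℕ) :
    normalizer (N : Set G) ≤ normalizer (powKer N n : Set G) := by
  rw [le_normalizer_iff]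
  intro g hg x hx
  exact ⟨(mem_normalizer_iff.mp hg x).mp hx.1, by rw [conj_pow, hx.2]; simp⟩

theorem powKer_normal (N : Subgroup G) [IsMulCommutative N] [N.Normal] (n : ℕ) :
    (powKer N n).Normal := by
  rw [← normalizer_eq_top_iff, eq_top_iff, ← normalizer_eq_top (H := N)]
  exact normalizer_le_normalizer_powKer N n

theorem exists_mem_orderOf_eq_prime [Finite G] {H : Subgroup G} {p : ℕ} (hp : p.Prime)
    (h : p ∣ Nat.card H) : ∃ x ∈ H, orderOf x = p := by
  have : Fact p.Prime := ⟨hp⟩
  obtain ⟨x, hx⟩ := exists_prime_orderOf_dvd_card' (G := H) p h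
  exact ⟨x, x.2, by rw [← hx, orderOf_coe]⟩

theorem exists_prime_dvd_card_of_ne_bot {H : Subgroup G} (h : H ≠ ⊥) :
    ∃ p : ℕ, p.Prime ∧ p ∣ Nat.card H :=
  Nat.exists_prime_and_dvd (mt card_eq_one.mp h)

theorem exists_mem_prime_orderOf [Finite G] {H : Subgroup G} (h : H ≠ ⊥) :
    ∃ x ∈ H, (orderOf x).Prime := by
  obtain ⟨p, hp, hd⟩ := exists_prime_dvd_card_of_ne_bot h
  obtain ⟨x, hx, hx'⟩ := exists_mem_orderOf_eq_prime hp hd
  exact ⟨x, hx, hx' ▸ hp⟩

theorem isPGroup_of_forall_pow_eq_one {p : ℕ} {H : Subgroup G} (h : ∀ x ∈ H, x ^ p = 1) :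
    IsPGroup p H := fun x => ⟨1, Subtype.ext (by simpa using h x x.2)⟩

theorem IsMinNormal.isMulCommutative {N : Subgroup G} (hN : IsMinNormal N)
    (hs : Group.IsSolvable N) : IsMulCommutative N := by
  have := hN.1
  rcases hN.2.2 ⁅N, N⁆ inferInstance (commutator_le_self N) with h | h
  · exact commutator_self_eq_bot_iff.mp h
  · exact absurd h (commutator_lt_of_isSolvable hs hN.2.1).ne

/-- a solvable minimal normal subgroup is an elementary abelian `p`-group. -/
theorem IsMinNormal.exists_prime [Finite G] {N : Subgroup G} (hN : IsMinNormal N)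
    (hs : Group.IsSolvable N) : ∃ p : ℕ, p.Prime ∧ ∀ x ∈ N, x ^ p = 1 := by
  have := hN.1
  have := hN.isMulCommutative hs
  obtain ⟨x, hx, hp⟩ := exists_mem_prime_orderOf hN.2.1
  refine ⟨orderOf x, hp, ?_⟩
  rcases hN.2.2 (powKer N (orderOf x)) (powKer_normal N _) (powKer_le N _) with h | h
  · have : x ∈ powKer N (orderOf x) := ⟨hx, pow_orderOf_eq_one x⟩
    rw [h, mem_bot] at this
    rw [this, orderOf_one] at hp
    exact absurd hp Nat.not_prime_one
  · intro y hy
    rw [← h] at hy
    exact hy.2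

theorem IsMinNormal.exists_isPGroup [Finite G] {N : Subgroup G} (hN : IsMinNormal N)
    (hs : Group.IsSolvable N) : ∃ p : ℕ, p.Prime ∧ IsPGroup p N :=
  (hN.exists_prime hs).imp fun _ h => ⟨h.1, isPGroup_of_forall_pow_eq_one h.2⟩

/-- A nontrivial solvable normal subgroup contains a nontrivial normal elementary abelian
subgroup which is minimal normal. -/
theorem exists_elementary_abelian_normal_le [Finite G] {N : Subgroup G} (hN : N.Normal)
    (hs : Group.IsSolvable N) (h : N ≠ ⊥) :
    ∃ (M : Subgroup G) (p : ℕ), p.Prime ∧ IsMinNormal M ∧ M ≤ N ∧ IsMulCommutative M ∧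
      IsPGroup p M ∧ ∀ x ∈ M, x ^ p = 1 := by
  obtain ⟨M, hM, hle⟩ := exists_isMinNormal_le hN h
  obtain ⟨p, hp, hx⟩ := hM.exists_prime (isSolvable_of_le hs hle)
  exact ⟨M, p, hp, hM, hle, hM.isMulCommutative (isSolvable_of_le hs hle),
    isPGroup_of_forall_pow_eq_one hx, hx⟩

theorem exists_prime_pCore_ne_bot [Finite G] {N : Subgroup G} (hN : N.Normal)
    (hs : Group.IsSolvable N) (h : N ≠ ⊥) : ∃ p : ℕ, p.Prime ∧ pCore p G ⊓ N ≠ ⊥ := by
  obtain ⟨M, p, hp, hM, hle, -, hP, -⟩ := exists_elementary_abelian_normal_le hN hs h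
  exact ⟨p, hp, fun e => hM.2.1 (le_bot_iff.mp (e ▸ le_inf (le_pCore hM.1 hP) hle))⟩

theorem fitting_inf_ne_bot [Finite G] {N : Subgroup G} (hN : N.Normal)
    (hs : Group.IsSolvable N) (h : N ≠ ⊥) : fittingSubgroup G ⊓ N ≠ ⊥ := by
  obtain ⟨p, hp, h⟩ := exists_prime_pCore_ne_bot hN hs h
  have : Fact p.Prime := ⟨hp⟩
  exact fun e => h (le_bot_iff.mp (e ▸ inf_le_inf_right N (pCore_le_fitting p)))

theorem fitting_ne_bot (G : Type*) [Group G] [Finite G] [Group.IsSolvable G] [Nontrivial G] :
    fittingSubgroup G ≠ ⊥ := by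
  simpa using fitting_inf_ne_bot (N := (⊤ : Subgroup G)) inferInstance inferInstance top_ne_bot

/-! ### Nilpotent groups -/

theorem centralizer_anti {H K : Subgroup G} (h : H ≤ K) :
    centralizer (K : Set G) ≤ centralizer (H : Set G) := centralizer_le h

theorem eq_bot_of_le_commutator_of_isNilpotent {M K : Subgroup G} (hK : Group.IsNilpotent K)
    (hMK : M ≤ K) (h : M ≤ ⁅M, K⁆) : M = ⊥ := by
  obtain ⟨n, hn⟩ := (isNilpotent_iff_lowerCentralSeries K).mp hK
  have key : ∀ n, M ≤ K.lowerCentralSeries n := by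
    intro n
    induction n with
    | zero => exact hMK
    | succ n ih => exact h.trans (by rw [Subgroup.lowerCentralSeries_succ]; exact commutator_mono ih le_rfl)
  exact le_bot_iff.mp (hn ▸ key n)

/-- in a nilpotent group `K`, `[M, K] < M` for any nontrivial `M ≤ K` normalized by `K`. -/
theorem commutator_lt_of_isNilpotent {M K : Subgroup G} (hK : Group.IsNilpotent K)
    (hMK : M ≤ K) (hn : K ≤ normalizer (M : Set G)) (h : M ≠ ⊥) : ⁅M, K⁆ < M :=
  lt_of_le_of_ne (le_normalizer_iff_commutator_le_left.mp hn)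
    fun e => h (eq_bot_of_le_commutator_of_isNilpotent hK hMK e.ge)

/-- a nontrivial subgroup of a nilpotent group `K` normalized by `K` meets the centre of `K`. -/
theorem inf_centralizer_ne_bot_of_isNilpotent [Finite G] {M K : Subgroup G}
    (hK : Group.IsNilpotent K) (hMK : M ≤ K) (hn : K ≤ normalizer (M : Set G)) (h : M ≠ ⊥) :
    M ⊓ centralizer (K : Set G) ≠ ⊥ := by
  induction M using WellFoundedLT.induction with
  | ind M ih =>
    by_cases hc : ⁅M, K⁆ = ⊥
    · rwa [inf_eq_left.mpr (commutator_eq_bot_iff_le_centralizer.mp hc)]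
    · have hlt := commutator_lt_of_isNilpotent hK hMK hn h
      have := ih _ hlt (hlt.le.trans hMK) (normalizer_commutator_ge_right M K) hc
      exact fun e => this (le_bot_iff.mp (e ▸ inf_le_inf_right _ hlt.le))

theorem inf_center_ne_bot [Finite G] [Group.IsNilpotent G] {N : Subgroup G} [N.Normal]
    (hN : N ≠ ⊥) : N ⊓ center G ≠ ⊥ := by
  have := inf_centralizer_ne_bot_of_isNilpotent (K := ⊤) inferInstance le_top
    le_normalizer_of_normal hN
  rwa [coe_top, centralizer_univ] at this

/-- a `p`-group normalizing a nontrivial `p`-group has nontrivial fixed points on it. -/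
theorem inf_centralizer_ne_bot_of_isPGroup [Finite G] {p : ℕ} [Fact p.Prime] {P M : Subgroup G}
    (hP : IsPGroup p P) (hM : IsPGroup p M) (hn : P ≤ normalizer (M : Set G)) (h : M ≠ ⊥) :
    M ⊓ centralizer (P : Set G) ≠ ⊥ := by
  have := inf_centralizer_ne_bot_of_isNilpotent (K := P ⊔ M)
    (hP.to_sup_of_normal_right' hM hn).isNilpotent le_sup_right (sup_le hn le_normalizer) h
  exact fun e => this (le_bot_iff.mp (e ▸ inf_le_inf_left _ (centralizer_anti le_sup_left)))

theorem IsMinNormal.le_centralizer_of_isNilpotent {M K : Subgroup G} (hM : IsMinNormal M)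
    (hK : K.Normal) (hn : Group.IsNilpotent K) : M ≤ centralizer (K : Set G) := by
  have := hM.1
  rcases hM.2.2 ⁅M, K⁆ inferInstance (commutator_le_left M K) with h | h
  · exact commutator_eq_bot_iff_le_centralizer.mp h
  · exact absurd (eq_bot_of_le_commutator_of_isNilpotent hn (h ▸ commutator_le_right M K) h.ge)
      hM.2.1

theorem IsMinNormal.le_centralizer_fitting [Finite G] {M : Subgroup G} (hM : IsMinNormal M) :
    M ≤ centralizer (fittingSubgroup G : Set G) :=
  hM.le_centralizer_of_isNilpotent inferInstance inferInstance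

theorem IsMinNormal.le_center [Group.IsNilpotent G] {M : Subgroup G} (hM : IsMinNormal M) :
    M ≤ center G := by
  have := hM.le_centralizer_of_isNilpotent (K := ⊤) inferInstance inferInstance
  rwa [coe_top, centralizer_univ] at this

theorem isNilpotent_of_commutator_commutator_eq_bot {D : Subgroup G} (h : ⁅⁅D, D⁆, D⁆ = ⊥) :
    Group.IsNilpotent D :=
  isNilpotent_of_lowerCentralSeries_eq_bot (n := 2) h

/-- a solvable normal subgroup centralizing `F(G)` lies in `F(G)`. -/
theorem le_fitting_of_le_centralizer_fitting [Finite G] {D : Subgroup G} (hD : D.Normal)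
    (hs : Group.IsSolvable D) (h : D ≤ centralizer (fittingSubgroup G : Set G)) :
    D ≤ fittingSubgroup G := by
  induction D using WellFoundedLT.induction with
  | ind D ih =>
    by_cases hb : D = ⊥
    · rw [hb]; exact bot_le
    have hlt := commutator_lt_of_isSolvable hs hb
    have h1 := ih _ hlt inferInstance (isSolvable_of_le hs hlt.le) (hlt.le.trans h)
    refine le_fitting hD (isNilpotent_of_commutator_commutator_eq_bot ?_)
    rw [commutator_eq_bot_iff_le_centralizer, le_centralizer_iff]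
    exact h.trans (centralizer_le h1)

theorem centralizer_fitting_le (G : Type*) [Group G] [Finite G] [Group.IsSolvable G] :
    centralizer (fittingSubgroup G : Set G) ≤ fittingSubgroup G :=
  le_fitting_of_le_centralizer_fitting inferInstance inferInstance le_rfl

theorem centralizer_pCore_le [Finite G] [Group.IsSolvable G] {p : ℕ} [Fact p.Prime]
    (h : pPrimeCore p G = ⊥) : centralizer (pCore p G : Set G) ≤ pCore p G := by
  rw [← fitting_eq_pCore_of_pPrimeCore_eq_bot h]
  exact centralizer_fitting_le G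

theorem comap_map_mk' (N H : Subgroup G) [N.Normal] :
    (H.map (QuotientGroup.mk' N)).comap (QuotientGroup.mk' N) = H ⊔ N := by
  rw [comap_map_eq, QuotientGroup.ker_mk']

theorem map_mk'_eq_bot_iff {N H : Subgroup G} [N.Normal] :
    H.map (QuotientGroup.mk' N) = ⊥ ↔ H ≤ N := by
  rw [Subgroup.map_eq_bot_iff, QuotientGroup.ker_mk']

theorem le_comap_mk' (N : Subgroup G) [N.Normal] (H : Subgroup (G ⧸ N)) :
    N ≤ H.comap (QuotientGroup.mk' N) := fun x hx => by
  rw [mem_comap, QuotientGroup.mk'_apply, (QuotientGroup.eq_one_iff x).mpr hx]; exact one_mem _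

theorem map_comap_mk' (N : Subgroup G) [N.Normal] (H : Subgroup (G ⧸ N)) :
    (H.comap (QuotientGroup.mk' N)).map (QuotientGroup.mk' N) = H :=
  map_comap_eq_self_of_surjective (QuotientGroup.mk'_surjective N) H

theorem relIndex_eq_card_map_mk' (N H : Subgroup G) [N.Normal] :
    N.relIndex H = Nat.card (H.map (QuotientGroup.mk' N)) := by
  rw [← relIndex_ker, QuotientGroup.ker_mk']

theorem normal_of_map_mk'_normal {N H : Subgroup G} [N.Normal] (hle : N ≤ H)
    (h : (H.map (QuotientGroup.mk' N)).Normal) : H.Normal := by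
  have := h.comap (QuotientGroup.mk' N)
  rwa [comap_map_mk', sup_eq_left.mpr hle] at this

theorem sylow_sup_pPrimeCore_normal [Finite G] [Group.IsSolvable G] {p : ℕ} [Fact p.Prime]
    (P : Sylow p G) (hP : IsMulCommutative P) : ((P : Subgroup G) ⊔ pPrimeCore p G).Normal := by
  set N := pPrimeCore p G
  let Q := P.mapSurjective (QuotientGroup.mk'_surjective N)
  have hQ : IsMulCommutative (Q : Subgroup (G ⧸ N)) :=
    map_isMulCommutative (H := (P : Subgroup G)) (QuotientGroup.mk' N)
  have h1 : (Q : Subgroup (G ⧸ N)) ≤ pCore p (G ⧸ N) :=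
    ((le_centralizer _).trans (centralizer_le (pCore_le_sylow Q))).trans
      (centralizer_pCore_le (pPrimeCore_quotient_pPrimeCore p G))
  have h2 : (Q : Subgroup (G ⧸ N)) = pCore p (G ⧸ N) := le_antisymm h1 (pCore_le_sylow Q)
  have h3 : (Q : Subgroup (G ⧸ N)).Normal := h2 ▸ inferInstance
  rw [← comap_map_mk']
  exact h3.comap _

/-- if `x` commutes with `G` modulo the normal subgroup `N` then `N ⊔ ⟨x⟩` is normal. -/
theorem normal_of_commutator_top_le {H N : Subgroup G} [N.Normal] (h : ⁅H, ⊤⁆ ≤ N) :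
    (N ⊔ H).Normal := by
  refine ⟨fun n hn g => ?_⟩
  obtain ⟨a, ha, x, hx, rfl⟩ := mem_sup_of_normal_left.mp hn
  have h1 : ⁅g, x⁆ ∈ N := h (commutator_comm_le _ _ (commutator_mem_commutator (mem_top g) hx))
  have : g * (a * x) * g⁻¹ = g * a * g⁻¹ * ⁅g, x⁆ * x := by simp [commutatorElement_def, mul_assoc]
  rw [this]
  exact mul_mem (mem_sup_left (mul_mem (Normal.conj_mem inferInstance a ha g) h1))
    (mem_sup_right hx)

theorem normal_of_le_center {H : Subgroup G} (h : H ≤ center G) : H.Normal := by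
  have := normal_of_commutator_top_le (H := H) (N := ⊥)
    (commutator_top_right_eq_bot_iff_le_center.mpr h).le
  rwa [bot_sup_eq] at this

theorem isMulCommutative_sup {A B : Subgroup G} (hA : IsMulCommutative A)
    (hB : IsMulCommutative B) (h : B ≤ centralizer (A : Set G)) : IsMulCommutative ↥(A ⊔ B) := by
  rw [← le_centralizer_iff_isMulCommutative]
  refine sup_le ?_ ?_ <;> rw [le_centralizer_iff]
  · exact sup_le (le_centralizer A) h
  · exact sup_le (le_centralizer_iff.mp h) (le_centralizer B)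

/-- in a nilpotent group, if `N < C` are normal there is `x ∈ C \ N` central modulo `N`. -/
theorem exists_mem_central_mod [Finite G] [Group.IsNilpotent G] {N C : Subgroup G} [N.Normal]
    [C.Normal] (h : ¬ C ≤ N) : ∃ x ∈ C, x ∉ N ∧ ⁅zpowers x, ⊤⁆ ≤ N := by
  have hn : (C.map (QuotientGroup.mk' N)).Normal := Normal.map inferInstance _ (QuotientGroup.mk'_surjective N)
  have := inf_center_ne_bot (N := C.map (QuotientGroup.mk' N)) (mt map_mk'_eq_bot_iff.mp h)
  obtain ⟨⟨_, ⟨x, hx, rfl⟩, hz⟩, hne⟩ := ne_bot_iff_exists_ne_one.mp this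
  refine ⟨x, hx, fun hxN => hne (Subtype.ext ((QuotientGroup.eq_one_iff x).mpr hxN)), ?_⟩
  rw [← map_mk'_eq_bot_iff, map_commutator, commutator_eq_bot_iff_le_centralizer,
    MonoidHom.map_zpowers, zpowers_le]
  exact center_le_centralizer _ hz

theorem centralizer_eq_of_maximal_abelian_normal [Finite G] [Group.IsNilpotent G]
    (N : Subgroup G) [N.Normal] [IsMulCommutative N]
    (hmax : ∀ M : Subgroup G, M.Normal → IsMulCommutative M → N ≤ M → M = N) :
    centralizer (N : Set G) = N := by
  refine le_antisymm ?_ (le_centralizer N)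
  by_contra h
  obtain ⟨x, hx, hxN, hc⟩ := exists_mem_central_mod h
  have := hmax (N ⊔ zpowers x) (normal_of_commutator_top_le hc)
    (isMulCommutative_sup inferInstance inferInstance (zpowers_le.mpr hx)) le_sup_left
  exact hxN (this ▸ mem_sup_right (mem_zpowers x))

/-- existence of a self-centralizing abelian normal subgroup above a given abelian normal one. -/
theorem exists_selfCentralizing_normal_ge [Finite G] [Group.IsNilpotent G]
    (A : Subgroup G) [hA : A.Normal] [hc : IsMulCommutative A] :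
    ∃ N : Subgroup G, A ≤ N ∧ N.Normal ∧ IsMulCommutative N ∧ centralizer (N : Set G) = N := by
  obtain ⟨N, hN⟩ := exists_maximal_of_wellFoundedGT
    (fun M : Subgroup G => M.Normal ∧ IsMulCommutative M ∧ A ≤ M) ⟨A, hA, hc, le_rfl⟩
  obtain ⟨⟨h1, h2, h3⟩, h4⟩ := hN
  exact ⟨N, h3, h1, h2, centralizer_eq_of_maximal_abelian_normal N fun M hM hM' hle =>
    le_antisymm (h4 ⟨hM, hM', h3.trans hle⟩ hle) hle⟩

theorem isSubnormal_of_isNilpotent [Finite G] [Group.IsNilpotent G] (H : Subgroup G) :
    H.IsSubnormal := by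
  induction H using WellFoundedGT.induction with
  | ind H ih =>
    by_cases h : H = ⊤
    · rw [h]; exact IsSubnormal.top
    have hlt := Group.normalizerCondition_of_isNilpotent H (lt_top_iff_ne_top.mpr h)
    exact IsSubnormal.step H _ hlt.le (ih _ hlt) inferInstance

theorem isNilpotent_iff_forall_isSubnormal [Finite G] :
    Group.IsNilpotent G ↔ ∀ H : Subgroup G, H.IsSubnormal := by
  refine ⟨fun _ H => isSubnormal_of_isNilpotent H, fun h => ?_⟩
  refine isNilpotent_iff_forall_coatom_normal.mpr fun M hM => ?_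
  obtain ⟨K, hK, hle, hlt⟩ := (h M).exists_normal_and_le_and_lt_top_of_ne hM.1
  rwa [← (hM.le_iff.mp hle).resolve_left hlt.ne]

/-- relative normalizer condition: a proper subgroup `H` of a nilpotent subgroup `K` is properly
contained in `N_K(H)`. -/
theorem lt_normalizer_inf_of_isNilpotent {H K : Subgroup G} (hK : Group.IsNilpotent K)
    (h : H < K) : H < normalizer (H : Set G) ⊓ K := by
  have h1 : H.subgroupOf K < ⊤ := lt_top_iff_ne_top.mpr (mt subgroupOf_eq_top.mp h.not_ge)
  have h2 := Group.normalizerCondition_of_isNilpotent _ h1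
  rw [← subgroupOf_normalizer_eq h.le] at h2
  refine lt_of_le_of_ne (le_inf le_normalizer h.le) fun e => h2.ne ?_
  rw [← inf_subgroupOf_right (normalizer (H : Set G)), ← e]

theorem index_eq_relIndex_of_sup_eq_top [Finite G] {N M : Subgroup G} [N.Normal]
    (h : M ⊔ N = ⊤) : M.index = M.relIndex N := by
  have h1 := card_sup_mul_card_inf (H := M) (K := N) le_normalizer_of_normal
  rw [h, card_top, ← M.card_mul_index, ← card_inf_mul_relIndex M N, mul_assoc] at h1
  have h2 := Nat.eq_of_mul_eq_mul_left Nat.card_pos h1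
  rw [mul_comm] at h2
  exact Nat.eq_of_mul_eq_mul_left Nat.card_pos h2

theorem isPrimePow_index_of_isCoatom [Finite G] [Group.IsSolvable G] {M : Subgroup G}
    (hM : IsCoatom M) : IsPrimePow M.index := by
  set K := M.normalCore
  have hK : K ≤ M := normalCore_le M
  have : Nontrivial (G ⧸ K) := by
    rw [← Finite.one_lt_card_iff_nontrivial]
    exact one_lt_index_of_ne_top fun e => hM.1 (top_le_iff.mp (e ▸ hK))
  obtain ⟨N, hN⟩ := exists_isMinNormal (G ⧸ K)
  obtain ⟨p, hp, hP⟩ := hN.exists_isPGroup inferInstance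
  have := hN.1
  have : Fact p.Prime := ⟨hp⟩
  have h1 : ¬ N.comap (QuotientGroup.mk' K) ≤ M := fun h => by
    have := normal_le_normalCore.mpr h
    rw [← map_mk'_eq_bot_iff, map_comap_mk'] at this
    exact hN.2.1 this
  have h2 : M ⊔ N.comap (QuotientGroup.mk' K) = ⊤ := hM.2 _ (left_lt_sup.mpr h1)
  have h3 : M.index ∣ Nat.card N := by
    rw [index_eq_relIndex_of_sup_eq_top h2]
    refine (relIndex_dvd_of_le_left _ hK).trans (dvd_of_eq ?_)
    rw [relIndex_eq_card_map_mk', map_comap_mk']
  obtain ⟨n, hn⟩ := IsPGroup.iff_card.mp hP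
  rw [hn] at h3
  obtain ⟨k, -, hk⟩ := (Nat.dvd_prime_pow hp).mp h3
  refine ⟨p, k, hp.prime, Nat.pos_of_ne_zero ?_, hk.symm⟩
  rintro rfl
  exact hM.1 (index_eq_one.mp (by simpa using hk))

end H2
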