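import Mathlib
import Cfsg.Agent.H2.MinNormal

/-!
# The Frattini subgroup
-/

set_option autoImplicit false

namespace H2

open Cfsg Subgroup
open scoped commutatorElement Pointwise

variable {G : Type*} [Group G]

theorem isCoatom_map_of_ker_le {G' : Type*} [Group G'] {f : G →* G'} (hf : Function.Surjective f)
    {M : Subgroup G} (hM : IsCoatom M) (hk : f.ker ≤ M) : IsCoatom (M.map f) := by
  refine ⟨fun h => hM.1 ?_, fun K hK => ?_⟩
  · rw [← comap_map_eq_self hk, h, comap_top]
  · have h1 : M < K.comap f := by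
      refine lt_of_le_of_ne (map_le_iff_le_comap.mp hK.le) fun e => hK.ne ?_
      rw [e, map_comap_eq_self_of_surjective hf]
    rw [← map_comap_eq_self_of_surjective hf K, hM.2 _ h1, map_top_of_surjective f hf]

theorem le_frattini_iff {H : Subgroup G} : H ≤ frattini G ↔ ∀ M : Subgroup G, IsCoatom M → H ≤ M := by
  simp [frattini, Order.radical]

theorem mem_frattini_iff {x : G} : x ∈ frattini G ↔ ∀ M : Subgroup G, IsCoatom M → x ∈ M := by
  simp [frattini, Order.radical, mem_iInf]

theorem eq_top_of_sup_le_frattini [Finite G] {K D : Subgroup G} (hD : D ≤ frattini G)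
    (h : K ⊔ D = ⊤) : K = ⊤ :=
  frattini_nongenerating (top_le_iff.mp (h ▸ sup_le_sup_left hD K))

theorem map_frattini_le {G' : Type*} [Group G'] {f : G →* G'} (hf : Function.Surjective f) :
    (frattini G).map f ≤ frattini G' :=
  map_le_iff_le_comap.mpr (frattini_le_comap_frattini_of_surjective hf)

theorem map_frattini_equiv {G' : Type*} [Group G'] (e : G ≃* G') :
    (frattini G).map (e : G →* G') = frattini G' := by
  refine le_antisymm (map_frattini_le e.surjective) fun x hx => ?_
  have : e.symm x ∈ frattini G :=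
    map_frattini_le (f := (e.symm : G' →* G)) e.symm.surjective ⟨x, hx, rfl⟩
  exact ⟨e.symm x, this, by simp⟩

/-- if the kernel lies in `Φ(G)` then `Φ` of the image is the image of `Φ(G)`. -/
theorem comap_frattini_of_ker_le {G' : Type*} [Group G'] {f : G →* G'} (hf : Function.Surjective f)
    (hk : f.ker ≤ frattini G) : (frattini G').comap f = frattini G := by
  refine le_antisymm (le_frattini_iff.mpr fun M hM => ?_)
    (frattini_le_comap_frattini_of_surjective hf)
  have hkM := hk.trans (frattini_le_coatom hM)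
  rw [← comap_map_eq_self hkM]
  exact comap_mono (frattini_le_coatom (isCoatom_map_of_ker_le hf hM hkM))

theorem frattini_quotient_frattini (G : Type*) [Group G] : frattini (G ⧸ frattini G) = ⊥ := by
  apply comap_injective (QuotientGroup.mk'_surjective (frattini G))
  rw [comap_frattini_of_ker_le (QuotientGroup.mk'_surjective _) (QuotientGroup.ker_mk' _).le,
    MonoidHom.comap_bot, QuotientGroup.ker_mk']

theorem frattini_ne_top (G : Type*) [Group G] [Finite G] [Nontrivial G] : frattini G ≠ ⊤ :=
  fun h => bot_ne_top (frattini_nongenerating (K := (⊥ : Subgroup G)) (by rw [h, bot_sup_eq]))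

/-- modular law (Dedekind) for subgroups with a normalizing hypothesis -/
theorem sup_inf_assoc_of_le_normalizer {A B C : Subgroup G} (hAC : A ≤ C)
    (h : B ≤ normalizer (A : Set G) ∨ A ≤ normalizer (B : Set G)) :
    (A ⊔ B) ⊓ C = A ⊔ (B ⊓ C) := by
  refine le_antisymm ?_ (sup_le (le_inf le_sup_left hAC) (inf_le_inf_right _ le_sup_right))
  intro x ⟨hx, hxC⟩
  have : x ∈ (A : Set G) * (B : Set G) := by
    rcases h with h | h
    · rwa [← coe_mul_of_right_le_normalizer_left A B h]
    · rwa [← coe_mul_of_left_le_normalizer_right A B h]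
  obtain ⟨a, ha, b, hb, rfl⟩ := this
  exact mul_mem (mem_sup_left ha) (mem_sup_right ⟨hb, (mul_mem_cancel_left (hAC ha)).mp hxC⟩)

/-- if `N ⊴ G`, `N ≤ Φ(H)` for a subgroup `H` then `N ≤ Φ(G)`. -/
theorem le_frattini_of_normal_of_le_map_frattini [Finite G] {N H : Subgroup G} [N.Normal]
    (h : N ≤ (frattini H).map H.subtype) : N ≤ frattini G := by
  refine le_frattini_iff.mpr fun M hM => ?_
  by_contra hn
  have hNH : N ≤ H := h.trans (map_subtype_le _)
  have h1 : N ⊔ M = ⊤ := hM.2 _ (right_lt_sup.mpr hn)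
  have h2 : N ⊔ (M ⊓ H) = H := by
    rw [← sup_inf_assoc_of_le_normalizer hNH (Or.inl le_normalizer_of_normal), h1, top_inf_eq]
  have h3 : (M ⊓ H).subgroupOf H ⊔ N.subgroupOf H = ⊤ := by
    rw [← subgroupOf_sup inf_le_right hNH, sup_comm, h2, subgroupOf_self]
  have h4 := eq_top_of_sup_le_frattini (D := N.subgroupOf H) (fun x hx => by
    obtain ⟨y, hy, e⟩ := h hx
    rwa [← Subtype.ext e]) h3
  rw [subgroupOf_eq_top] at h4
  exact hn (hNH.trans (h4.trans inf_le_left))

theorem map_subtype_frattini_le [Finite G] (N : Subgroup G) [N.Normal] :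
    (frattini N).map N.subtype ≤ frattini G :=
  le_frattini_of_normal_of_le_map_frattini le_rfl

theorem isNilpotent_of_frattini_quotient [Finite G] (h : Group.IsNilpotent (G ⧸ frattini G)) :
    Group.IsNilpotent G := by
  refine isNilpotent_iff_forall_coatom_normal.mpr fun M hM => ?_
  have hle := frattini_le_coatom hM
  exact normal_of_map_mk'_normal hle (isNilpotent_iff_forall_coatom_normal.mp h _
    (isCoatom_map_of_ker_le (QuotientGroup.mk'_surjective _) hM (by simpa using hle)))

/-- a normal maximal subgroup has prime index -/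
theorem prime_index_of_isCoatom_of_normal [Finite G] {M : Subgroup G} (hM : IsCoatom M)
    [M.Normal] : M.index.Prime := by
  obtain ⟨p, hp, hd⟩ := Nat.exists_prime_and_dvd (mt index_eq_one.mp hM.1)
  have : Fact p.Prime := ⟨hp⟩
  obtain ⟨K, hK⟩ := Sylow.exists_subgroup_card_pow_prime (G := G ⧸ M) p (n := 1)
    (by rw [pow_one]; exact hd)
  have h1 : M < K.comap (QuotientGroup.mk' M) := by
    refine lt_of_le_of_ne (le_comap_mk' M K) fun e => ?_
    have : K = ⊥ := by rw [← map_comap_mk' M K, ← e, map_mk'_eq_bot_iff]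
    rw [this, card_bot, pow_one] at hK
    exact hp.one_lt.ne hK
  have h2 : K = ⊤ := by
    rw [← map_comap_mk' M K, hM.2 _ h1, map_top_of_surjective _ (QuotientGroup.mk'_surjective M)]
  rw [h2, card_top, pow_one] at hK
  rw [index_eq_card, hK]; exact hp

theorem commutator_le_of_prime_index {M : Subgroup G} [M.Normal] (h : M.index.Prime) :
    commutator G ≤ M := by
  have : Fact M.index.Prime := ⟨h⟩
  have : IsCyclic (G ⧸ M) := isCyclic_of_prime_card (p := M.index) rfl
  exact Normal.quotient_commutative_iff_commutator_le.mp inferInstance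

theorem commutator_le_frattini [Finite G] [h : Group.IsNilpotent G] : commutator G ≤ frattini G :=
  le_frattini_iff.mpr fun M hM =>
    have := isNilpotent_iff_forall_coatom_normal.mp h M hM
    commutator_le_of_prime_index (prime_index_of_isCoatom_of_normal hM)

theorem isNilpotent_of_commutator_le_frattini [Finite G] (h : commutator G ≤ frattini G) :
    Group.IsNilpotent G :=
  isNilpotent_iff_forall_coatom_normal.mpr fun _ hM =>
    Normal.of_commutator_le _ (h.trans (frattini_le_coatom hM))

theorem IsPGroup.normal_of_isCoatom [Finite G] {p : ℕ} [Fact p.Prime] (hG : IsPGroup p G)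
    {M : Subgroup G} (hM : IsCoatom M) : M.Normal :=
  isNilpotent_iff_forall_coatom_normal.mp hG.isNilpotent M hM

theorem IsPGroup.index_eq_of_isCoatom [Finite G] {p : ℕ} [hp : Fact p.Prime] (hG : IsPGroup p G)
    {M : Subgroup G} (hM : IsCoatom M) : M.index = p := by
  have := IsPGroup.normal_of_isCoatom hG hM
  have h := prime_index_of_isCoatom_of_normal hM
  obtain ⟨n, hn⟩ := hG.index M
  exact (Nat.prime_dvd_prime_iff_eq h hp.out).mp (h.dvd_of_dvd_pow (dvd_of_eq hn))

theorem isCoatom_of_index_prime {M : Subgroup G} (h : M.index.Prime) : IsCoatom M := by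
  refine ⟨fun e => by rw [e, index_top] at h; exact Nat.not_prime_one h, fun K hK => ?_⟩
  rcases (Nat.dvd_prime h).mp (index_dvd_of_le hK.le) with h1 | h1
  · exact index_eq_one.mp h1
  · have := relIndex_mul_index hK.le
    rw [h1] at this
    have h2 : M.relIndex K = 1 := Nat.eq_of_mul_eq_mul_right h.pos (by rw [this, one_mul])
    exact absurd (relIndex_eq_one.mp h2) hK.not_ge

theorem IsPGroup.commutator_le_frattini [Finite G] {p : ℕ} [Fact p.Prime] (hG : IsPGroup p G) :
    commutator G ≤ frattini G :=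
  have := hG.isNilpotent
  H2.commutator_le_frattini

theorem IsPGroup.pow_mem_frattini [Finite G] {p : ℕ} [Fact p.Prime] (hG : IsPGroup p G) (x : G) :
    x ^ p ∈ frattini G :=
  mem_frattini_iff.mpr fun M hM => by
    have := IsPGroup.normal_of_isCoatom hG hM
    rw [← IsPGroup.index_eq_of_isCoatom hG hM]
    exact M.pow_index_mem x

/-- If `x ^ p ∈ M`, `x ^ k ∈ M` with `p` prime then `p ∣ k` or `x ∈ M`. -/
theorem mem_of_zpow_mem_of_pow_prime_mem {M : Subgroup G} {x : G} {p : ℕ} (hp : p.Prime)
    (h : x ^ p ∈ M) {k : ℤ} (hk : x ^ k ∈ M) (hnd : ¬ (p : ℤ) ∣ k) : x ∈ M := by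
  have hc : IsCoprime (p : ℤ) k :=
    ((Nat.prime_iff_prime_int.mp hp).irreducible.coprime_iff_not_dvd).mpr hnd
  obtain ⟨a, b, hab⟩ := hc
  have : x = (x ^ p) ^ a * (x ^ k) ^ b := by
    rw [← zpow_natCast, ← zpow_mul, ← zpow_mul, ← zpow_add, mul_comm _ a, mul_comm k, hab, zpow_one]
  rw [this]
  exact mul_mem (zpow_mem h a) (zpow_mem hk b)

/-- `Φ(G) ≤ N` whenever `G / N` is elementary abelian. -/
theorem frattini_le_of_elementary_quotient [Finite G] {p : ℕ} (hp : p.Prime) {N : Subgroup G}
    (hcomm : commutator G ≤ N) (hpow : ∀ x : G, x ^ p ∈ N) : frattini G ≤ N := by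
  intro v hv
  by_contra hvN
  obtain ⟨M, hM⟩ := exists_maximal_of_wellFoundedGT
    (fun M : Subgroup G => N ≤ M ∧ v ∉ M) ⟨N, le_rfl, hvN⟩
  obtain ⟨⟨hNM, hvM⟩, hmax⟩ := hM
  have hMn : M.Normal := Normal.of_commutator_le _ (hcomm.trans hNM)
  have key : ∀ K : Subgroup G, M < K → v ∈ K := fun K hK => by
    by_contra h
    exact hK.not_ge (hmax ⟨hNM.trans hK.le, h⟩ hK.le)
  refine hvM (frattini_le_coatom ⟨fun e => hvM (by rw [e]; exact mem_top v), fun K hK => ?_⟩ hv)
  rw [eq_top_iff]
  intro y _
  by_cases hy : y ∈ M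
  · exact hK.le hy
  have h1 := key (M ⊔ zpowers y) (left_lt_sup.mpr (by rwa [zpowers_le]))
  obtain ⟨m, hm, _, ⟨k, rfl⟩, e⟩ := mem_sup_of_normal_left.mp h1
  have h2 : y ^ k ∈ K := by
    have := key K hK
    rw [← e] at this
    exact (mul_mem_cancel_left (hK.le hm)).mp this
  refine mem_of_zpow_mem_of_pow_prime_mem hp (hK.le (hNM (hpow y))) h2 ?_
  rintro ⟨j, rfl⟩
  apply hvM
  rw [← e]
  refine mul_mem hm ?_
  simp only [zpow_mul, zpow_natCast]
  exact zpow_mem (hNM (hpow y)) j

theorem frattini_eq_bot_of_elementary [Finite G] {p : ℕ} (hp : p.Prime) [IsMulCommutative G]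
    (hpow : ∀ x : G, x ^ p = 1) : frattini G = ⊥ :=
  le_bot_iff.mp (frattini_le_of_elementary_quotient hp (commutator_eq_bot G).le
    fun x => mem_bot.mpr (hpow x))

/-- for a finite `p`-group, `Φ(G) = G' G^p`. -/
theorem IsPGroup.frattini_eq [Finite G] {p : ℕ} [hp : Fact p.Prime] (hG : IsPGroup p G) :
    frattini G = commutator G ⊔ closure (Set.range fun x : G => x ^ p) := by
  refine le_antisymm (frattini_le_of_elementary_quotient hp.out le_sup_left
    fun x => mem_sup_right (subset_closure ⟨x, rfl⟩))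
    (sup_le (IsPGroup.commutator_le_frattini hG) ((closure_le _).mpr ?_))
  rintro _ ⟨x, rfl⟩
  exact IsPGroup.pow_mem_frattini hG x

theorem IsPGroup.frattini_eq_bot_iff [Finite G] {p : ℕ} [hp : Fact p.Prime] (hG : IsPGroup p G) :
    frattini G = ⊥ ↔ IsMulCommutative G ∧ ∀ x : G, x ^ p = 1 := by
  refine ⟨fun h => ⟨?_, fun x => ?_⟩, fun ⟨_, h⟩ => frattini_eq_bot_of_elementary hp.out h⟩
  · rw [← commutator_eq_bot_iff, ← le_bot_iff, ← h]; exact IsPGroup.commutator_le_frattini hG
  · rw [← mem_bot, ← h]; exact IsPGroup.pow_mem_frattini hG x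

/-- homomorphisms of finite `p`-groups map Frattini subgroups into Frattini subgroups;
only the target needs to be a `p`-group. -/
theorem IsPGroup.map_frattini_le [Finite G] {G' : Type*} [Group G'] [Finite G'] {p : ℕ}
    [hp : Fact p.Prime] (hG' : IsPGroup p G') (f : G →* G') : (frattini G).map f ≤ frattini G' := by
  rw [map_le_iff_le_comap]
  refine frattini_le_of_elementary_quotient hp.out ?_ fun x => ?_
  · rw [← map_le_iff_le_comap, map_commutator_eq]
    exact (commutator_mono le_top le_top).trans (IsPGroup.commutator_le_frattini hG')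
  · rw [mem_comap, map_pow]; exact IsPGroup.pow_mem_frattini hG' _

/-- for a surjection out of a finite `p`-group, `Φ` maps onto `Φ`. -/
theorem IsPGroup.map_frattini_eq [Finite G] {G' : Type*} [Group G'] {p : ℕ}
    [hp : Fact p.Prime] (hG : IsPGroup p G) {f : G →* G'} (hf : Function.Surjective f) :
    (frattini G).map f = frattini G' := by
  have := Finite.of_surjective f hf
  refine le_antisymm (H2.map_frattini_le hf) (frattini_le_of_elementary_quotient hp.out ?_ ?_)
  · rw [_root_.commutator_def, ← map_top_of_surjective f hf, ← map_commutator]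
    exact map_mono (IsPGroup.commutator_le_frattini hG)
  · intro x
    obtain ⟨y, rfl⟩ := hf x
    exact ⟨y ^ p, IsPGroup.pow_mem_frattini hG y, map_pow f y p⟩

/-- `Φ(H) ≤ Φ(K)` for `H ≤ K` a finite `p`-group, inside an ambient group. -/
theorem IsPGroup.map_subtype_frattini_mono [Finite G] {p : ℕ} [Fact p.Prime] {H K : Subgroup G}
    (hK : IsPGroup p K) (h : H ≤ K) :
    (frattini H).map H.subtype ≤ (frattini K).map K.subtype := by
  rintro _ ⟨x, hx, rfl⟩
  exact ⟨inclusion h x, IsPGroup.map_frattini_le hK (inclusion h) ⟨x, hx, rfl⟩, rfl⟩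

theorem relIndex_zpowers_eq_prime {H : Subgroup G} {p : ℕ} (hp : p.Prime)
    {t : G} (ht : t ∉ H) (htp : t ^ p ∈ H) : H.relIndex (zpowers t) = p := by
  have : Fact p.Prime := ⟨hp⟩
  let s : zpowers t := ⟨t, mem_zpowers t⟩
  have hs : zpowers s = ⊤ := by
    rw [eq_top_iff]
    rintro ⟨_, k, rfl⟩ -
    exact ⟨k, rfl⟩
  rw [relIndex, ← relIndex_top_right, ← hs, relIndex_eq_card_map_mk', MonoidHom.map_zpowers,
    Nat.card_zpowers]
  apply orderOf_eq_prime
  · rw [← map_pow]; exact (QuotientGroup.eq_one_iff _).mpr htp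
  · exact fun h => ht ((QuotientGroup.eq_one_iff s).mp h)

theorem card_sup_zpowers_of_pow_prime_mem {H : Subgroup G} {p : ℕ} (hp : p.Prime)
    {t : G} (hn : t ∈ normalizer (H : Set G)) (ht : t ∉ H) (htp : t ^ p ∈ H) :
    Nat.card ↥(zpowers t ⊔ H) = p * Nat.card H := by
  rw [← card_mul_relIndex (le_sup_right : H ≤ zpowers t ⊔ H),
    relIndex_sup_of_le_normalizer (zpowers_le.mpr hn), mul_comm,
    relIndex_zpowers_eq_prime hp ht htp]

theorem exists_subset_card_closure_sup {N : Subgroup G} {p : ℕ} (hp : p.Prime)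
    (hcomm : commutator G ≤ N) (hpow : ∀ x : G, x ^ p ∈ N) (S : Finset G) :
    ∃ T : Finset G, T ⊆ S ∧ closure (T : Set G) ⊔ N = closure (S : Set G) ⊔ N ∧
      Nat.card ↥(closure (T : Set G) ⊔ N) = p ^ T.card * Nat.card N := by
  classical
  induction S using Finset.induction_on with
  | empty => exact ⟨∅, subset_rfl, rfl, by simp⟩
  | insert t S htS ih =>
    obtain ⟨T, hTS, h1, h2⟩ := ih
    have hins : ∀ U : Finset G, closure ((insert t U : Finset G) : Set G) ⊔ N =
        zpowers t ⊔ (closure (U : Set G) ⊔ N) := fun U => by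
      rw [Finset.coe_insert, Set.insert_eq, Subgroup.closure_union, ← zpowers_eq_closure, sup_assoc]
    by_cases ht : t ∈ closure (T : Set G) ⊔ N
    · refine ⟨T, hTS.trans (Finset.subset_insert _ _), ?_, h2⟩
      rw [hins, ← h1, sup_eq_right.mpr (zpowers_le.mpr ht)]
    · refine ⟨insert t T, Finset.insert_subset_insert _ hTS, by rw [hins, hins, h1], ?_⟩
      have : (closure (T : Set G) ⊔ N).Normal :=
        Normal.of_commutator_le _ (hcomm.trans le_sup_right)
      rw [hins, card_sup_zpowers_of_pow_prime_mem hp (by simp [normalizer_eq_top]) ht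
        (mem_sup_right (hpow t)), h2, Finset.card_insert_of_notMem fun h => htS (hTS h), pow_succ]
      ring

/-- Burnside's basis theorem -/
theorem IsPGroup.exists_subset_card_eq_closure_eq_top [Finite G] {p n : ℕ} [hp : Fact p.Prime]
    (hG : IsPGroup p G) (hn : (frattini G).index = p ^ n) (S : Finset G)
    (hS : closure (S : Set G) = ⊤) :
    ∃ T : Finset G, T ⊆ S ∧ T.card = n ∧ closure (T : Set G) = ⊤ := by
  obtain ⟨T, hTS, h1, h2⟩ := exists_subset_card_closure_sup hp.out
    (IsPGroup.commutator_le_frattini hG) (IsPGroup.pow_mem_frattini hG) S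
  rw [hS, top_sup_eq] at h1
  refine ⟨T, hTS, ?_, frattini_nongenerating h1⟩
  rw [h1, card_top, ← (frattini G).index_mul_card, hn] at h2
  exact (Nat.pow_right_injective hp.out.two_le (Nat.eq_of_mul_eq_mul_right Nat.card_pos h2)).symm

/-- a finite `p`-group with cyclic Frattini quotient is cyclic; true for any finite group. -/
theorem isCyclic_of_frattini_quotient [Finite G] (h : IsCyclic (G ⧸ frattini G)) : IsCyclic G := by
  obtain ⟨x, hx⟩ := isCyclic_iff_exists_zpowers_eq_top.mp h
  obtain ⟨y, rfl⟩ := QuotientGroup.mk'_surjective _ x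
  refine isCyclic_iff_exists_zpowers_eq_top.mpr ⟨y, frattini_nongenerating ?_⟩
  rw [← comap_map_mk', MonoidHom.map_zpowers, hx, comap_top]

/-- a nilpotent finite group with cyclic abelianization is cyclic. -/
theorem isCyclic_of_quotient_commutator [Finite G] [Group.IsNilpotent G]
    (h : IsCyclic (G ⧸ commutator G)) : IsCyclic G :=
  isCyclic_of_frattini_quotient (isCyclic_of_surjective
    (QuotientGroup.map (commutator G) (frattini G) (MonoidHom.id G) commutator_le_frattini)
    (QuotientGroup.map_surjective_of_surjective _ _ (MonoidHom.id G)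
      (QuotientGroup.mk'_surjective (frattini G)) _))

/-- a noncyclic finite `p`-group has Frattini index at least `p ^ 2`. -/
theorem IsPGroup.sq_dvd_index_frattini [Finite G] {p : ℕ} [hp : Fact p.Prime] (hG : IsPGroup p G)
    (h : ¬ IsCyclic G) : p ^ 2 ∣ (frattini G).index := by
  obtain ⟨n, hn⟩ := hG.index (frattini G)
  rw [hn]
  apply pow_dvd_pow
  by_contra hlt
  refine h (isCyclic_of_frattini_quotient (isCyclic_of_card_dvd_prime (p := p) ?_))
  rw [← index_eq_card, hn]
  exact (pow_dvd_pow p (by omega : n ≤ 1)).trans (pow_one p).dvd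

theorem sylow_sup_eq_top_of_index_eq_pow [Finite G] {p n : ℕ} [hp : Fact p.Prime] (P : Sylow p G)
    {N : Subgroup G} (hN : N.index = p ^ n) : (P : Subgroup G) ⊔ N = ⊤ := by
  rw [← index_eq_one]
  refine Nat.eq_one_of_dvd_coprimes (a := (P : Subgroup G).index) (b := p ^ n) ?_
    (index_dvd_of_le le_sup_left) (hN ▸ index_dvd_of_le le_sup_right)
  exact (hp.out.coprime_iff_not_dvd.mpr P.not_dvd_index).symm.pow_right n

theorem sylow_sup_eq_top_of_isPGroup_quotient [Finite G] {p : ℕ} [Fact p.Prime] (P : Sylow p G)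
    {N : Subgroup G} [N.Normal] (hN : IsPGroup p (G ⧸ N)) : (P : Subgroup G) ⊔ N = ⊤ := by
  obtain ⟨n, hn⟩ := IsPGroup.iff_card.mp hN
  exact sylow_sup_eq_top_of_index_eq_pow P hn

theorem comap_pCore_mk'_of_le_frattini [Finite G] {p : ℕ} [Fact p.Prime] {D : Subgroup G}
    [D.Normal] (hD : D ≤ frattini G) :
    (pCore p (G ⧸ D)).comap (QuotientGroup.mk' D) = pCore p G ⊔ D := by
  refine le_antisymm ?_ (sup_le (map_le_iff_le_comap.mp
    (map_pCore_le p (QuotientGroup.mk'_surjective D))) (le_comap_mk' D _))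
  set O := (pCore p (G ⧸ D)).comap (QuotientGroup.mk' D)
  have hDO : D ≤ O := le_comap_mk' D _
  obtain ⟨P⟩ := (inferInstance : Nonempty (Sylow p O))
  obtain ⟨n, hn⟩ := IsPGroup.iff_card.mp (pCore_isPGroup p (G ⧸ D))
  have h1 : (P : Subgroup O) ⊔ D.subgroupOf O = ⊤ :=
    sylow_sup_eq_top_of_index_eq_pow P (n := n) (by
      rw [← relIndex, relIndex_eq_card_map_mk', map_comap_mk', hn])
  have h2 : (P : Subgroup O).map O.subtype ⊔ D = O := by
    have := congrArg (map O.subtype) h1
    rwa [Subgroup.map_sup, subgroupOf_map_subtype, inf_eq_left.mpr hDO, ← MonoidHom.range_eq_map,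
      range_subtype] at this
  have h3 := Sylow.normalizer_sup_eq_top P
  have h4 : normalizer ((P : Subgroup O).map O.subtype : Set G) ⊔ D = ⊤ := by
    rw [eq_top_iff, ← h3]
    refine sup_le le_sup_left (h2.ge.trans (sup_le_sup_right le_normalizer _))
  have h5 := normalizer_eq_top_iff.mp (eq_top_of_sup_le_frattini hD h4)
  exact h2.ge.trans (sup_le_sup_right (le_pCore h5 (P.isPGroup'.map _)) _)

theorem pCore_quotient_of_le_frattini [Finite G] {p : ℕ} [Fact p.Prime] {D : Subgroup G}
    [D.Normal] (hD : D ≤ frattini G) :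
    pCore p (G ⧸ D) = (pCore p G).map (QuotientGroup.mk' D) := by
  rw [← map_comap_mk' D (pCore p (G ⧸ D)), comap_pCore_mk'_of_le_frattini hD, Subgroup.map_sup,
    map_mk'_eq_bot_iff.mpr le_rfl, sup_bot_eq]

theorem fitting_quotient_of_le_frattini [Finite G] {D : Subgroup G} [D.Normal]
    (hD : D ≤ frattini G) :
    fittingSubgroup (G ⧸ D) = (fittingSubgroup G).map (QuotientGroup.mk' D) := by
  rw [fitting_eq_iSup_pCore, fitting_eq_iSup_pCore, Subgroup.map_iSup]
  refine iSup_congr fun p => ?_
  have : Fact (p : ℕ).Prime := ⟨p.2⟩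
  exact pCore_quotient_of_le_frattini hD

/-- Gaschütz: if `N ⊴ G`, `D ≤ Φ(G)` is normal and `N D / D` is nilpotent then so is `N`. -/
theorem isNilpotent_of_map_mk'_of_le_frattini [Finite G] {D N : Subgroup G} [D.Normal]
    (hD : D ≤ frattini G) (hN : N.Normal) (h : Group.IsNilpotent (N.map (QuotientGroup.mk' D))) :
    Group.IsNilpotent N := by
  have h1 := le_fitting (hN.map _ (QuotientGroup.mk'_surjective D)) h
  rw [fitting_quotient_of_le_frattini hD, map_le_iff_le_comap, comap_map_mk',
    sup_eq_left.mpr (hD.trans (frattini_le_fitting G))] at h1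
  exact isNilpotent_of_le inferInstance h1

theorem prime_dvd_index_frattini [Finite G] {p : ℕ} (hp : p.Prime) (hdvd : p ∣ Nat.card G) :
    p ∣ (frattini G).index := by
  have : Fact p.Prime := ⟨hp⟩
  by_contra hn
  obtain ⟨P⟩ := (inferInstance : Nonempty (Sylow p G))
  obtain ⟨n, hPn⟩ := IsPGroup.iff_card.mp P.isPGroup'
  have h1 : (P : Subgroup G) ≤ frattini G :=
    le_of_card_coprime_index (by rw [hPn]; exact (hp.coprime_iff_not_dvd.mpr hn).pow_left n)
  have h2 : pCore p G = P := le_antisymm (pCore_le_sylow P)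
    (le_pCore_of_le_fitting P.isPGroup' (h1.trans (frattini_le_fitting G)))
  have : (P : Subgroup G).Normal := h2 ▸ inferInstance
  obtain ⟨H, hH⟩ := exists_right_complement'_of_coprime P.card_coprime_index
  have h3 : H = ⊤ := eq_top_of_sup_le_frattini h1 (by rw [sup_comm, hH.sup_eq_top])
  have h4 := hH.disjoint
  rw [h3, disjoint_top] at h4
  exact P.ne_bot_of_dvd_card hdvd h4

universe u in
theorem nilpotencyClass_le_of_card_eq_pow {p : ℕ} [hp : Fact p.Prime] (m : ℕ) :
    ∀ (G : Type u) [Group G] [Finite G], Nat.card G = p ^ m → 1 < m →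
      Group.nilpotencyClass G ≤ m - 1 := by
  induction m using Nat.strong_induction_on with
  | _ m ih =>
    intro G _ _ hG hm
    have hP : IsPGroup p G := IsPGroup.of_card hG
    have := hP.isNilpotent
    have : Nontrivial G := hP.nontrivial_iff_card.mpr ⟨m, by omega, hG⟩
    obtain ⟨k, hk⟩ := IsPGroup.iff_card.mp (hP.to_quotient (center G))
    have hkm : k < m := by
      have := card_quotient_lt (G := G) hP.bot_lt_center.ne'
      rw [hk, hG] at this
      exact (Nat.pow_lt_pow_iff_right hp.out.one_lt).mp this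
    by_cases h1 : 1 < k
    · rw [Group.nilpotencyClass_eq_quotient_center_plus_one]
      have := ih k hkm _ hk h1
      omega
    · have : IsCyclic (G ⧸ center G) := isCyclic_of_card_dvd_prime (p := p) (by
        rw [hk]; exact (pow_dvd_pow p (by omega : k ≤ 1)).trans (pow_one p).dvd)
      have := Group.IsNilpotent.nilpotencyClass_le_one_iff.mpr
        (isMulCommutative_of_isCyclic_quotient_center_self G)
      omega

end H2
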