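import Mathlib
import Cfsg.Agent.H2.Frattini

/-!
# Recognition of dihedral / generalized quaternion groups, and `p`-groups with a unique
subgroup of order `p`
-/

set_option autoImplicit false

namespace H2

open Cfsg Subgroup

variable {G : Type*} [Group G]

/-- `a ^ i` for `i : ZMod n`. -/
def zmodPow (a : G) {n : ℕ} (i : ZMod n) : G := a ^ (ZMod.cast i : ℤ)

theorem zmodPow_intCast {a : G} {n : ℕ} (ha : orderOf a = n) (k : ℤ) :
    zmodPow a (k : ZMod n) = a ^ k := by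
  rw [zmodPow, zpow_eq_zpow_iff_modEq, ha, ← ZMod.intCast_eq_intCast_iff, ZMod.intCast_zmod_cast]

theorem zmodPow_injective {a : G} {n : ℕ} (ha : orderOf a = n) :
    Function.Injective (zmodPow a : ZMod n → G) := by
  intro i j h
  obtain ⟨i, rfl⟩ := ZMod.intCast_surjective i
  obtain ⟨j, rfl⟩ := ZMod.intCast_surjective j
  rwa [zmodPow_intCast ha, zmodPow_intCast ha, zpow_eq_zpow_iff_modEq, ha,
    ← ZMod.intCast_eq_intCast_iff] at h

theorem zpow_mul_eq_of_conj_eq_inv {a b : G} (h : b * a * b⁻¹ = a⁻¹) (k : ℤ) :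
    a ^ k * b = b * a ^ (-k) := by
  have h1 : b * a ^ (-k) * b⁻¹ = a ^ k := by rw [← conj_zpow, h, inv_zpow', neg_neg]
  rw [← h1]; group

/-- Recognition of generalized quaternion groups. -/
theorem nonempty_equiv_quaternion {m : ℕ} {a b : G} (ha : orderOf a = 2 * m)
    (hb : b * a * b⁻¹ = a⁻¹) (hb2 : b * b = a ^ m) (hba : b ∉ zpowers a)
    (hgen : ∀ g : G, g ∈ zpowers a ∨ b⁻¹ * g ∈ zpowers a) : Nonempty (G ≃* QuaternionGroup m) := by
  let f : QuaternionGroup m → G := fun x => match x with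
    | .a i => zmodPow a i
    | .xa i => b * zmodPow a i
  have hmul : ∀ x y, f (x * y) = f x * f y := by
    rintro (i | i) (j | j) <;> obtain ⟨i, rfl⟩ := ZMod.intCast_surjective i <;>
      obtain ⟨j, rfl⟩ := ZMod.intCast_surjective j
    · simp only [f, QuaternionGroup.a_mul_a, ← Int.cast_add, zmodPow_intCast ha, zpow_add]
    · simp only [f, QuaternionGroup.a_mul_xa, ← Int.cast_sub, zmodPow_intCast ha]
      rw [← mul_assoc, zpow_mul_eq_of_conj_eq_inv hb]; group
    · simp only [f, QuaternionGroup.xa_mul_a, ← Int.cast_add, zmodPow_intCast ha, zpow_add,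
        mul_assoc]
    · have : ((m : ZMod (2 * m)) + (j : ZMod (2 * m)) - i) = ((m + j - i : ℤ) : ZMod (2 * m)) := by
        push_cast; rfl
      simp only [f, QuaternionGroup.xa_mul_xa, this, zmodPow_intCast ha]
      rw [mul_assoc, ← mul_assoc (a ^ i), zpow_mul_eq_of_conj_eq_inv hb, ← mul_assoc, ← mul_assoc,
        hb2, ← zpow_natCast]; group
  have hmem : ∀ i : ZMod (2 * m), zmodPow a i ∈ zpowers a := fun i => zpow_mem_zpowers _ _
  refine ⟨(MulEquiv.ofBijective (MonoidHom.mk' f hmul) ⟨?_, fun g => ?_⟩).symm⟩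
  · rintro (i | i) (j | j) h
    · exact congrArg _ (zmodPow_injective ha h)
    · have h' : zmodPow a i = b * zmodPow a j := h
      exact absurd ((mul_mem_cancel_right (hmem j)).mp (h' ▸ hmem i)) hba
    · have h' : b * zmodPow a i = zmodPow a j := h
      exact absurd ((mul_mem_cancel_right (hmem i)).mp (h' ▸ hmem j)) hba
    · have h' : b * zmodPow a i = b * zmodPow a j := h
      exact congrArg _ (zmodPow_injective ha (mul_left_cancel h'))
  · rcases hgen g with ⟨k, hk⟩ | ⟨k, hk⟩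
    · exact ⟨.a k, (zmodPow_intCast ha k).trans hk⟩
    · refine ⟨.xa k, ?_⟩
      change b * zmodPow a (k : ZMod (2 * m)) = g
      rw [zmodPow_intCast ha, show a ^ k = b⁻¹ * g from hk]; group

/-- Recognition of dihedral groups. -/
theorem nonempty_equiv_dihedral {m : ℕ} {a b : G} (ha : orderOf a = m)
    (hb : b * a * b⁻¹ = a⁻¹) (hb2 : b * b = 1) (hba : b ∉ zpowers a)
    (hgen : ∀ g : G, g ∈ zpowers a ∨ b⁻¹ * g ∈ zpowers a) : Nonempty (G ≃* DihedralGroup m) := by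
  let f : DihedralGroup m → G := fun x => match x with
    | .r i => zmodPow a i
    | .sr i => b * zmodPow a i
  have hmul : ∀ x y, f (x * y) = f x * f y := by
    rintro (i | i) (j | j) <;> obtain ⟨i, rfl⟩ := ZMod.intCast_surjective i <;>
      obtain ⟨j, rfl⟩ := ZMod.intCast_surjective j
    · simp only [f, DihedralGroup.r_mul_r, ← Int.cast_add, zmodPow_intCast ha, zpow_add]
    · simp only [f, DihedralGroup.r_mul_sr, ← Int.cast_sub, zmodPow_intCast ha]
      rw [← mul_assoc, zpow_mul_eq_of_conj_eq_inv hb]; group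
    · simp only [f, DihedralGroup.sr_mul_r, ← Int.cast_add, zmodPow_intCast ha, zpow_add,
        mul_assoc]
    · simp only [f, DihedralGroup.sr_mul_sr, ← Int.cast_sub, zmodPow_intCast ha]
      rw [mul_assoc, ← mul_assoc (a ^ i), zpow_mul_eq_of_conj_eq_inv hb, ← mul_assoc, ← mul_assoc,
        hb2]; group
  have hmem : ∀ i : ZMod m, zmodPow a i ∈ zpowers a := fun i => zpow_mem_zpowers _ _
  refine ⟨(MulEquiv.ofBijective (MonoidHom.mk' f hmul) ⟨?_, fun g => ?_⟩).symm⟩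
  · rintro (i | i) (j | j) h
    · exact congrArg _ (zmodPow_injective ha h)
    · have h' : zmodPow a i = b * zmodPow a j := h
      exact absurd ((mul_mem_cancel_right (hmem j)).mp (h' ▸ hmem i)) hba
    · have h' : b * zmodPow a i = zmodPow a j := h
      exact absurd ((mul_mem_cancel_right (hmem i)).mp (h' ▸ hmem j)) hba
    · have h' : b * zmodPow a i = b * zmodPow a j := h
      exact congrArg _ (zmodPow_injective ha (mul_left_cancel h'))
  · rcases hgen g with ⟨k, hk⟩ | ⟨k, hk⟩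
    · exact ⟨.r k, (zmodPow_intCast ha k).trans hk⟩
    · refine ⟨.sr k, ?_⟩
      change b * zmodPow a (k : ZMod m) = g
      rw [zmodPow_intCast ha, show a ^ k = b⁻¹ * g from hk]; group

theorem conj_pow_eq_zpow_pow {x b : G} {r : ℤ} (h : b * x * b⁻¹ = x ^ r) (m : ℕ) :
    b ^ m * x * (b ^ m)⁻¹ = x ^ (r ^ m) := by
  induction m with
  | zero => simp
  | succ m ih =>
    have : b ^ (m + 1) * x * (b ^ (m + 1))⁻¹ = b * (b ^ m * x * (b ^ m)⁻¹) * b⁻¹ := by
      rw [pow_succ']; group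
    rw [this, ih, ← conj_zpow, h, ← zpow_mul, pow_succ']

theorem mul_pow_of_conj_eq_zpow {x b : G} {r : ℤ} (h : b * x * b⁻¹ = x ^ r) (m : ℕ) :
    (x * b) ^ m = x ^ (∑ i ∈ Finset.range m, r ^ i) * b ^ m := by
  induction m with
  | zero => simp
  | succ m ih =>
    rw [pow_succ, ih, Finset.sum_range_succ, zpow_add, ← conj_pow_eq_zpow_pow h, pow_succ]; group

/-- in a finite group, if `N ⊴ G` and a prime `p` divides the index of `N`, there is `b ∉ N` with
`b ^ p ∈ N`. -/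
theorem exists_not_mem_pow_mem [Finite G] {N : Subgroup G} [N.Normal] {p : ℕ} (hp : p.Prime)
    (h : p ∣ N.index) : ∃ b : G, b ∉ N ∧ b ^ p ∈ N := by
  have : Fact p.Prime := ⟨hp⟩
  obtain ⟨x, hx⟩ := exists_prime_orderOf_dvd_card' (G := G ⧸ N) p h
  obtain ⟨b, rfl⟩ := QuotientGroup.mk'_surjective N x
  refine ⟨b, fun hb => ?_, (QuotientGroup.eq_one_iff _).mp ?_⟩
  · rw [QuotientGroup.mk'_apply, (QuotientGroup.eq_one_iff b).mpr hb, orderOf_one] at hx
    exact hp.one_lt.ne hx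
  · rw [← QuotientGroup.mk'_apply, map_pow, ← hx, pow_orderOf_eq_one]

theorem IsPGroup.exists_not_mem_pow_mem [Finite G] {p : ℕ} [hp : Fact p.Prime] (hG : IsPGroup p G)
    {N : Subgroup G} [N.Normal] (h : N ≠ ⊤) : ∃ b : G, b ∉ N ∧ b ^ p ∈ N := by
  obtain ⟨n, hn⟩ := hG.index N
  refine H2.exists_not_mem_pow_mem hp.out (hn ▸ dvd_pow_self p ?_)
  rintro rfl
  exact h (index_eq_one.mp (by simpa using hn))

/-- `G` has at most one subgroup of order `p`, elementwise form. -/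
def UniqueOrderP (p : ℕ) (G : Type*) [Group G] : Prop :=
  ∀ x y : G, x ≠ 1 → x ^ p = 1 → y ^ p = 1 → y ∈ zpowers x

theorem uniqueOrderP_of_card {p : ℕ} [Fact p.Prime]
    (h : ∀ H K : Subgroup G, Nat.card H = p → Nat.card K = p → H = K) : UniqueOrderP p G := by
  intro x y hx hxp hyp
  by_cases hy : y = 1
  · rw [hy]; exact one_mem _
  rw [h (zpowers x) (zpowers y) (by rw [Nat.card_zpowers, orderOf_eq_prime hxp hx])
    (by rw [Nat.card_zpowers, orderOf_eq_prime hyp hy])]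
  exact mem_zpowers y

theorem UniqueOrderP.subgroup {p : ℕ} (h : UniqueOrderP p G) (H : Subgroup G) :
    UniqueOrderP p H := by
  intro x y hx hxp hyp
  obtain ⟨k, hk⟩ := h x y (fun e => hx (Subtype.ext e)) (congrArg Subtype.val hxp)
    (congrArg Subtype.val hyp)
  exact ⟨k, Subtype.ext hk⟩

/-- a finite `p`-group all of whose elementary abelian subgroups have order at most `p` has a
unique subgroup of order `p`. -/
theorem uniqueOrderP_of_card_le [Finite G] {p : ℕ} [hp : Fact p.Prime] (hG : IsPGroup p G)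
    (h : ∀ A : Subgroup G, IsMulCommutative A → (∀ a ∈ A, a ^ p = 1) → Nat.card A ≤ p) :
    UniqueOrderP p G := by
  intro x y hx hxp hyp
  have : Nontrivial G := ⟨x, 1, hx⟩
  obtain ⟨z, hz, hzp⟩ := exists_mem_orderOf_eq_prime (H := center G) hp.out
    (((hG.to_subgroup _).card_eq_or_dvd).resolve_left (mt card_eq_one.mp hG.bot_lt_center.ne'))
  have hcz : Nat.card (zpowers z) = p := by rw [Nat.card_zpowers, hzp]
  have key : ∀ w : G, w ^ p = 1 → w ∈ zpowers z := by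
    intro w hw
    have hc : IsMulCommutative ↥(zpowers w ⊔ zpowers z) := isMulCommutative_sup inferInstance
      inferInstance ((zpowers_le.mpr hz).trans (center_le_centralizer _))
    have h1 : zpowers w ⊔ zpowers z ≤ powKer (zpowers w ⊔ zpowers z) p :=
      sup_le (zpowers_le.mpr ⟨mem_sup_left (mem_zpowers w), hw⟩)
        (zpowers_le.mpr ⟨mem_sup_right (mem_zpowers z), by rw [← hzp, pow_orderOf_eq_one]⟩)
    have h2 := h _ hc fun a ha => (h1 ha).2
    rw [eq_of_le_of_card_ge (le_sup_right : zpowers z ≤ zpowers w ⊔ zpowers z) (hcz ▸ h2)]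
    exact mem_sup_left (mem_zpowers w)
  have h3 : zpowers x = zpowers z := eq_of_le_of_card_ge (zpowers_le.mpr (key x hxp))
    (by rw [hcz, Nat.card_zpowers, orderOf_eq_prime hxp hx])
  rw [h3]; exact key y hyp

theorem uniqueOrderP_of_forall_isCyclic [Finite G] {p : ℕ} [Fact p.Prime] (hG : IsPGroup p G)
    (h : ∀ A : Subgroup G, IsMulCommutative A → (∀ a ∈ A, a ^ p = 1) → IsCyclic A) :
    UniqueOrderP p G := by
  refine uniqueOrderP_of_card_le hG fun A hA hp => ?_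
  obtain ⟨g, rfl⟩ := (Subgroup.isCyclic_iff_exists_zpowers_eq_top A).mp (h A hA hp)
  rw [Nat.card_zpowers]
  exact Nat.le_of_dvd (Fact.out : p.Prime).pos (orderOf_dvd_of_pow_eq_one (hp g (mem_zpowers g)))

theorem UniqueOrderP.mem_zpowers [Finite G] {p : ℕ} [hp : Fact p.Prime] (hG : IsPGroup p G)
    (h : UniqueOrderP p G) {a y : G} (ha : a ≠ 1) (hy : y ^ p = 1) : y ∈ zpowers a := by
  obtain ⟨z, hz, hzp⟩ := exists_mem_orderOf_eq_prime (H := zpowers a) hp.out
    (by rw [Nat.card_zpowers]; exact hG.dvd_orderOf ha)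
  refine zpowers_le.mpr hz (h z y ?_ (by rw [← hzp, pow_orderOf_eq_one]) hy)
  rintro rfl
  exact hp.out.one_lt.ne (by simpa using hzp)

theorem IsPGroup.mem_zpowers_zpow {p : ℕ} [hp : Fact p.Prime] (hG : IsPGroup p G) (a : G) {s : ℤ}
    (hs : ¬ (p : ℤ) ∣ s) : a ∈ zpowers (a ^ s) := by
  obtain ⟨n, hn⟩ := IsPGroup.iff_orderOf.mp hG a
  rw [mem_zpowers_zpow_iff, hn, ← Int.isCoprime_iff_gcd_eq_one]
  push_cast
  exact (((Nat.prime_iff_prime_int.mp hp.out).irreducible.coprime_iff_not_dvd).mpr hs).symm.pow_right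

open scoped IsMulCommutative in
theorem UniqueOrderP.isCyclic_of_comm [Finite G] {p : ℕ} [hp : Fact p.Prime] (hG : IsPGroup p G)
    (h : UniqueOrderP p G) [IsMulCommutative G] : IsCyclic G := by
  obtain ⟨a, ha⟩ := Monoid.exists_orderOf_eq_exponent (G := G) Monoid.ExponentExists.of_finite
  refine isCyclic_iff_exists_zpowers_eq_top.mpr ⟨a, ?_⟩
  by_contra hne
  obtain ⟨b, hb, s, hs⟩ := IsPGroup.exists_not_mem_pow_mem hG hne
  have hs : a ^ s = b ^ p := hs
  have ha1 : a ≠ 1 := by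
    rintro rfl
    have := Monoid.pow_exponent_eq_one b
    rw [← ha, orderOf_one, pow_one] at this
    exact hb (by rw [this]; exact one_mem _)
  by_cases hps : (p : ℤ) ∣ s
  · obtain ⟨t, rfl⟩ := hps
    have : (b * a ^ (-t)) ^ p = 1 := by
      rw [mul_pow, ← hs, ← zpow_natCast, ← zpow_mul, ← zpow_add]; simp [mul_comm]
    exact hb ((mul_mem_cancel_right (zpow_mem_zpowers a _)).mp (h.mem_zpowers hG ha1 this))
  · obtain ⟨k, hk⟩ := IsPGroup.mem_zpowers_zpow hG a hps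
    have hk : (b ^ p) ^ k = a := hs ▸ hk
    obtain ⟨m, hm⟩ := hG.dvd_orderOf ha1
    have h1 : a ^ m = 1 := by
      rw [← hk, ← zpow_natCast, ← zpow_mul, mul_comm, zpow_mul, zpow_natCast, ← pow_mul, ← hm, ha,
        Monoid.pow_exponent_eq_one, one_zpow]
    have h2 := Nat.le_of_dvd (Nat.pos_of_mul_pos_left (hm ▸ orderOf_pos a))
      (orderOf_dvd_of_pow_eq_one h1)
    have := hp.out.one_lt
    have := Nat.pos_of_mul_pos_left (hm ▸ orderOf_pos a)
    nlinarith

theorem UniqueOrderP.aux1 [Finite G] {p : ℕ} [hp : Fact p.Prime] (hG : IsPGroup p G)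
    (h : UniqueOrderP p G) {a b : G} (hC : centralizer (zpowers a : Set G) = zpowers a)
    (hb : b ∉ zpowers a) (hbp : b ^ p ∈ zpowers a) {r u : ℤ} (hr : b * a * b⁻¹ = a ^ r)
    (hu : ∑ i ∈ Finset.range p, r ^ i = p * u) (hpu : ¬ (p : ℤ) ∣ u) : False := by
  obtain ⟨s, hs⟩ := hbp
  have hs : a ^ s = b ^ p := hs
  have ha1 : a ≠ 1 := by
    rintro rfl
    apply hb
    rw [← hC]; simp [mem_centralizer_iff]
  by_cases hps : (p : ℤ) ∣ s
  · obtain ⟨t, rfl⟩ := hps
    obtain ⟨v, hv⟩ := IsPGroup.mem_zpowers_zpow hG a hpu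
    have hv : (a ^ u) ^ v = a := hv
    have hx : b * a ^ (-(t * v)) * b⁻¹ = (a ^ (-(t * v))) ^ r := by
      rw [← conj_zpow, hr, ← zpow_mul, ← zpow_mul, mul_comm]
    have : (a ^ (-(t * v)) * b) ^ p = 1 := by
      rw [mul_pow_of_conj_eq_zpow hx, hu, ← hs, ← zpow_mul,
        show -(t * v) * (p * u) = u * v * (-(p * t)) by ring, zpow_mul, zpow_mul, hv]
      group
    exact hb ((mul_mem_cancel_left (zpow_mem_zpowers a _)).mp (h.mem_zpowers hG ha1 this))
  · obtain ⟨k, hk⟩ := IsPGroup.mem_zpowers_zpow hG a hps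
    have hk : (b ^ p) ^ k = a := hs ▸ hk
    apply hb
    rw [← hC, zpowers_eq_closure, centralizer_closure, mem_centralizer_singleton_iff, ← hk]
    group

theorem UniqueOrderP.aux_odd [Finite G] {p : ℕ} [hp : Fact p.Prime] (hG : IsPGroup p G)
    (h : UniqueOrderP p G) (hp2 : p ≠ 2) {a b : G}
    (hC : centralizer (zpowers a : Set G) = zpowers a)
    (hb : b ∉ zpowers a) (hbp : b ^ p ∈ zpowers a) {r : ℤ} (hr : b * a * b⁻¹ = a ^ r) : False := by
  have ha1 : a ≠ 1 := by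
    rintro rfl
    apply hb
    rw [← hC]; simp [mem_centralizer_iff]
  have h1 : a ^ (r ^ p) = a ^ (1 : ℤ) := by
    rw [← conj_pow_eq_zpow_pow hr]
    obtain ⟨s, hs⟩ := hbp
    rw [← show a ^ s = b ^ p from hs]; group
  have h2 : r ≡ 1 [ZMOD p] := (Int.ModEq.pow_prime_eq_self hp.out r).symm.trans
    ((zpow_eq_zpow_iff_modEq.mp h1).of_dvd (Int.natCast_dvd_natCast.mpr (hG.dvd_orderOf ha1)))
  obtain ⟨k, hk⟩ := h2.symm.dvd
  obtain ⟨c, hc⟩ := odd_sq_dvd_geom_sum₂_sub (1 : ℤ) k (hp.out.odd_of_ne_two hp2)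
  simp only [one_pow, mul_one, show 1 + (p : ℤ) * k = r by linarith] at hc
  refine h.aux1 hG hC hb hbp hr (u := 1 + p * c) (by linarith) fun hd => ?_
  have := (Int.dvd_iff_dvd_of_dvd_add hd).mpr (dvd_mul_right _ _)
  exact (Nat.prime_iff_prime_int.mp hp.out).not_dvd_one this

theorem UniqueOrderP.eq_of_sq [Finite G] (h : UniqueOrderP 2 G) {x y : G} (hx : x ≠ 1)
    (hy : y ≠ 1) (hx2 : x ^ 2 = 1) (hy2 : y ^ 2 = 1) : y = x := by
  obtain ⟨k, hk⟩ := h x y hx hx2 hy2
  have hk : x ^ k = y := hk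
  have hx2' : x ^ (2 : ℤ) = 1 := by rw [← hx2]; norm_cast
  rcases Int.even_or_odd' k with ⟨j, rfl | rfl⟩
  · rw [zpow_mul, hx2', one_zpow] at hk; exact absurd hk.symm hy
  · rw [zpow_add, zpow_mul, hx2'] at hk; simpa using hk.symm

theorem UniqueOrderP.aux_two [Finite G] (hG : IsPGroup 2 G)
    (h : UniqueOrderP 2 G) {a b : G} (hC : centralizer (zpowers a : Set G) = zpowers a)
    (hb : b ∉ zpowers a) (hbp : b ^ 2 ∈ zpowers a) {r : ℤ} (hr : b * a * b⁻¹ = a ^ r) :
    b * a * b⁻¹ = a⁻¹ := by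
  have ha1 : a ≠ 1 := by
    rintro rfl
    apply hb
    rw [← hC]; simp [mem_centralizer_iff]
  obtain ⟨s, hs⟩ := id hbp
  have hs : a ^ s = b ^ 2 := hs
  have h1 : a ^ (r ^ 2) = a ^ (1 : ℤ) := by
    rw [← conj_pow_eq_zpow_pow hr, ← hs]; group
  have h2 : r ≡ 1 [ZMOD 2] := (Int.ModEq.pow_prime_eq_self Nat.prime_two r).symm.trans
    ((zpow_eq_zpow_iff_modEq.mp h1).of_dvd (Int.natCast_dvd_natCast.mpr (hG.dvd_orderOf ha1)))
  obtain ⟨k, hk⟩ := h2.symm.dvd
  by_cases hk2 : (2 : ℤ) ∣ k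
  · exact (h.aux1 hG hC hb hbp hr (u := k + 1) (by simp [Finset.sum_range_succ]; linarith)
      (by push_cast; omega)).elim
  obtain ⟨v, hv⟩ := IsPGroup.mem_zpowers_zpow hG a (s := k) hk2
  have hv : (a ^ k) ^ v = a := hv
  have hsq : ∀ t : ℤ, a ^ (t * (r - 1)) = 1 → (a ^ t) ^ 2 = 1 := fun t ht => by
    rw [← hv, ← zpow_mul, ← zpow_mul, ← zpow_natCast, ← zpow_mul,
      show k * (v * t) * (2 : ℕ) = t * (r - 1) * v by rw [hk]; push_cast; ring, zpow_mul, ht,
      one_zpow]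
  have h3 : (a ^ (r + 1)) ^ 2 = 1 := hsq _ (by
    rw [show (r + 1) * (r - 1) = r ^ 2 - 1 by ring, zpow_sub, h1]; simp)
  have h4 : (a ^ s) ^ 2 = 1 := hsq _ (by
    have : b * a ^ s * b⁻¹ = a ^ s := by rw [hs]; group
    rw [← conj_zpow, hr, ← zpow_mul] at this
    rw [show s * (r - 1) = r * s - s by ring, zpow_sub, this]; simp)
  have h5 : a ^ s ≠ 1 := fun e => hb (h.mem_zpowers hG ha1 (hs ▸ e))
  by_contra hne
  have h6 : a ^ (r + 1) ≠ 1 := fun e => hne (by
    rw [hr, eq_inv_iff_mul_eq_one, ← e, zpow_add_one])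
  have h7 := h.eq_of_sq h5 h6 h4 h3
  have : (a * b) ^ 2 = 1 := by
    rw [mul_pow_of_conj_eq_zpow hr, ← hs, ← h4, sq (a ^ s)]
    congr 1
    rw [← h7]; simp [Finset.sum_range_succ, add_comm]
  exact hb ((mul_mem_cancel_left (Subgroup.mem_zpowers a)).mp (h.mem_zpowers hG ha1 this))

/-- A finite `p`-group with a unique subgroup of order `p` is cyclic or generalized quaternion
(of order at least `8`). -/
theorem UniqueOrderP.isCyclic_or_quaternion [Finite G] {p : ℕ} [hp : Fact p.Prime]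
    (hG : IsPGroup p G) (h : UniqueOrderP p G) :
    IsCyclic G ∨ (p = 2 ∧ ∃ n : ℕ, Nonempty (G ≃* QuaternionGroup (2 ^ (n + 1)))) := by
  have := hG.isNilpotent
  obtain ⟨A, -, hAn, hAc, hC⟩ := exists_selfCentralizing_normal_ge (⊥ : Subgroup G)
  obtain ⟨a, rfl⟩ := (Subgroup.isCyclic_iff_exists_zpowers_eq_top A).mp
    ((h.subgroup A).isCyclic_of_comm (hG.to_subgroup A))
  by_cases htop : zpowers a = ⊤
  · exact Or.inl (isCyclic_iff_exists_zpowers_eq_top.mpr ⟨a, htop⟩)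
  right
  have hconj : ∀ g : G, ∃ r : ℤ, g * a * g⁻¹ = a ^ r := fun g =>
    (hAn.conj_mem a (Subgroup.mem_zpowers a) g).imp fun _ h => h.symm
  obtain ⟨b, hb, hbp⟩ := IsPGroup.exists_not_mem_pow_mem hG htop
  obtain ⟨r, hr⟩ := hconj b
  obtain rfl : p = 2 := by
    by_contra hp2
    exact h.aux_odd hG hp2 hC hb hbp hr
  refine ⟨rfl, ?_⟩
  have hinv := h.aux_two hG hC hb hbp hr
  have hmemC : ∀ g : G, g * a * g⁻¹ = a → g ∈ zpowers a := fun g hg => by
    rw [← hC, zpowers_eq_closure, centralizer_closure, mem_centralizer_singleton_iff]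
    exact mul_inv_eq_iff_eq_mul.mp hg
  have ha2 : a ^ 2 ≠ 1 := fun e => hb (hmemC b (by
    rw [hinv, inv_eq_iff_mul_eq_one, ← sq, e]))
  have ha1 : a ≠ 1 := by rintro rfl; simp at ha2
  obtain ⟨n, hn⟩ := IsPGroup.iff_orderOf.mp hG a
  obtain ⟨n, rfl⟩ : ∃ m, n = m + 2 := by
    rcases n with _ | _ | n
    · exact absurd (orderOf_eq_one_iff.mp hn) ha1
    · exact absurd (by rw [← pow_orderOf_eq_one a, hn]; rfl) ha2
    · exact ⟨n, rfl⟩
  -- every element has square in `A`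
  have hsq : ∀ (k : ℕ) (c : G), c ^ (2 ^ k) ∈ zpowers a → c ^ 2 ∈ zpowers a := by
    intro k
    induction k with
    | zero => intro c hc; exact pow_mem (by simpa using hc) 2
    | succ k ih =>
      intro c hc
      rw [pow_succ', pow_mul] at hc
      by_contra hc2
      obtain ⟨t, ht⟩ := hconj c
      have h1 := conj_pow_eq_zpow_pow ht 2
      have h2 := h.aux_two hG hC hc2 (ih _ hc) h1
      rw [h1, ← zpow_neg_one, zpow_eq_zpow_iff_modEq, hn] at h2
      have h3 : t ^ 2 ≡ -1 [ZMOD 4] := h2.of_dvd ⟨2 ^ n, by push_cast; ring⟩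
      have h4 : t ^ 2 % 4 = 0 ∨ t ^ 2 % 4 = 1 := by
        rcases Int.even_or_odd' t with ⟨j, rfl | rfl⟩
        · left; rw [show (2 * j) ^ 2 = 4 * (j * j) by ring]; omega
        · right; rw [show (2 * j + 1) ^ 2 = 4 * (j * j + j) + 1 by ring]; omega
      unfold Int.ModEq at h3
      omega
  have hb1 : b ^ 2 ≠ 1 := fun e => hb (h.mem_zpowers hG ha1 e)
  have hb4 : (b ^ 2) ^ 2 = 1 := by
    obtain ⟨s, hs⟩ := hbp
    have hs : a ^ s = b ^ 2 := hs
    have h1 : b * a ^ s * b⁻¹ = a ^ s := by rw [hs]; group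
    rw [← conj_zpow, hinv, inv_zpow, inv_eq_iff_mul_eq_one] at h1
    rw [← hs, sq, h1]
  have hz : a ^ (2 ^ (n + 1)) ≠ 1 :=
    pow_ne_one_of_lt_orderOf (by positivity) (by rw [hn]; exact Nat.pow_lt_pow_right (by omega) (by omega))
  have hz2 : (a ^ (2 ^ (n + 1))) ^ 2 = 1 := by rw [← pow_mul, ← pow_succ, ← hn, pow_orderOf_eq_one]
  refine ⟨n, nonempty_equiv_quaternion (a := a) (b := b) (by rw [hn]; ring) hinv
    (by rw [← sq]; exact h.eq_of_sq hz hb1 hz2 hb4) hb fun g => ?_⟩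
  by_cases hg : g ∈ zpowers a
  · exact Or.inl hg
  right
  obtain ⟨k, hk⟩ := hG g
  obtain ⟨t, ht⟩ := hconj g
  have h1 := h.aux_two hG hC hg (hsq k g (hk ▸ one_mem _)) ht
  apply hmemC
  have h2 : b⁻¹ * a⁻¹ * b = a := by rw [← hinv]; group
  calc b⁻¹ * g * a * (b⁻¹ * g)⁻¹ = b⁻¹ * (g * a * g⁻¹) * b := by group
    _ = a := by rw [h1, h2]

theorem UniqueOrderP.isCyclic_of_odd [Finite G] {p : ℕ} [Fact p.Prime]
    (hG : IsPGroup p G) (h : UniqueOrderP p G) (hp2 : p ≠ 2) : IsCyclic G :=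
  (h.isCyclic_or_quaternion hG).resolve_right fun h => hp2 h.1

/-- A finite `p`-group, `p` odd, without elementary abelian subgroup of order `> p` is cyclic. -/
theorem IsPGroup.isCyclic_of_odd_of_card_le [Finite G] {p : ℕ} [Fact p.Prime] (hG : IsPGroup p G)
    (hp2 : p ≠ 2)
    (h : ∀ A : Subgroup G, IsMulCommutative A → (∀ a ∈ A, a ^ p = 1) → Nat.card A ≤ p) :
    IsCyclic G :=
  (uniqueOrderP_of_card_le hG h).isCyclic_of_odd hG hp2

/-- A noncyclic finite `p`-group, `p` odd, has an elementary abelian subgroup of order `p ^ 2`. -/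
theorem IsPGroup.exists_elementary_card_sq_of_not_isCyclic [Finite G] {p : ℕ} [hp : Fact p.Prime]
    (hG : IsPGroup p G) (hp2 : p ≠ 2) (h : ¬ IsCyclic G) :
    ∃ A : Subgroup G, IsMulCommutative A ∧ (∀ a ∈ A, a ^ p = 1) ∧ Nat.card A = p ^ 2 := by
  by_contra hn
  refine h (IsPGroup.isCyclic_of_odd_of_card_le hG hp2 fun A hA hAp => ?_)
  by_contra hlt
  obtain ⟨n, hn'⟩ := IsPGroup.iff_card.mp (hG.to_subgroup A)
  have h2 : p ^ 2 ≤ Nat.card A := by
    rw [hn'] at hlt ⊢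
    refine Nat.pow_le_pow_right hp.out.pos ?_
    by_contra h3
    exact hlt ((Nat.pow_le_pow_right hp.out.pos (by omega : n ≤ 1)).trans (pow_one p).le)
  obtain ⟨B, hB, hB'⟩ := Sylow.exists_subgroup_le_card_pow_prime_of_le_card hp.out hG h2
  exact hn ⟨B, isMulCommutative_of_le hA hB, fun a ha => hAp a (hB ha), hB'⟩

end H2
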