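import Mathlib
import Cfsg.Agent.H2.Frattini

/-!
# Frobenius complements: elementary counting
-/

set_option autoImplicit false

namespace H2

open Cfsg Subgroup
open scoped commutatorElement Pointwise

variable {G : Type*} [Group G]

theorem mem_conj_smul_iff {g x : G} {S : Subgroup G} :
    x ∈ MulAut.conj g • S ↔ g⁻¹ * x * g ∈ S := by
  rw [mem_pointwise_smul_iff_inv_smul_mem]; simp

theorem inv_conj_eq_one_iff {g x : G} : g⁻¹ * x * g = 1 ↔ x = 1 := by
  simpa using (conj_eq_one_iff (a := g⁻¹) (b := x))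

theorem card_conj_smul (g : G) (S : Subgroup G) :
    Nat.card (MulAut.conj g • S : Subgroup G) = Nat.card S :=
  card_map_of_injective (MulAut.conj g).injective

theorem index_conj_smul (g : G) (S : Subgroup G) : (MulAut.conj g • S).index = S.index :=
  index_map_equiv S (MulAut.conj g)

theorem mem_conjugatesOfSet_iff' {A : Set G} {x : G} :
    x ∈ Group.conjugatesOfSet A ↔ ∃ g : G, g⁻¹ * x * g ∈ A := by
  rw [Group.mem_conjugatesOfSet_iff]
  constructor
  · rintro ⟨a, ha, h⟩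
    obtain ⟨g, rfl⟩ := isConj_iff.mp h
    exact ⟨g, by simpa [mul_assoc] using ha⟩
  · rintro ⟨g, hg⟩
    exact ⟨_, hg, isConj_iff.mpr ⟨g, by group⟩⟩

/-- The union of the conjugates of a TI-subset `A` with normalizer `N` has `|G : N| |A|`
elements. -/
theorem ncard_conjugatesOfSet_of_TI (N : Subgroup G) (A : Set G)
    (hN : ∀ n ∈ N, ∀ a ∈ A, n * a * n⁻¹ ∈ A)
    (hTI : ∀ g : G, ∀ a ∈ A, g * a * g⁻¹ ∈ A → g ∈ N) :
    (Group.conjugatesOfSet A).ncard = N.index * A.ncard := by
  rw [← Nat.card_coe_set_eq, ← Nat.card_coe_set_eq, index_eq_card, ← Nat.card_prod]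
  symm
  let f : (G ⧸ N) × A → Group.conjugatesOfSet A := fun x =>
    ⟨x.1.out * x.2 * x.1.out⁻¹, mem_conjugatesOfSet_iff'.mpr ⟨x.1.out, by simp [mul_assoc]⟩⟩
  refine Nat.card_congr (Equiv.ofBijective f ⟨?_, ?_⟩)
  · rintro ⟨q, a⟩ ⟨r, b⟩ h
    have h : q.out * a * q.out⁻¹ = r.out * b * r.out⁻¹ := congrArg Subtype.val h
    have h1 : (r.out⁻¹ * q.out) * a * (r.out⁻¹ * q.out)⁻¹ = b := by
      rw [show (r.out⁻¹ * q.out) * a * (r.out⁻¹ * q.out)⁻¹ =
        r.out⁻¹ * (q.out * a * q.out⁻¹) * r.out by group, h]; group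
    have h2 := hTI _ a a.2 (h1 ▸ b.2)
    have h3 : r = q := by
      rw [← QuotientGroup.out_eq' r, ← QuotientGroup.out_eq' q]
      exact QuotientGroup.eq.mpr h2
    subst h3
    simp only [Prod.mk.injEq, true_and]
    exact Subtype.ext (by simpa using h)
  · rintro ⟨x, hx⟩
    obtain ⟨g, hg⟩ := mem_conjugatesOfSet_iff'.mp hx
    obtain ⟨n, hn⟩ := QuotientGroup.mk_out_eq_mul N g
    refine ⟨⟨(g : G ⧸ N), ⟨(n : G)⁻¹ * (g⁻¹ * x * g) * (n : G)⁻¹⁻¹, hN _ (inv_mem n.2) _ hg⟩⟩,
      Subtype.ext ?_⟩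
    simp only [f, hn]; group

/-- `H` is malnormal: it meets its other conjugates trivially. -/
def Malnormal (H : Subgroup G) : Prop :=
  ∀ g x : G, x ∈ H → x ≠ 1 → g * x * g⁻¹ ∈ H → g ∈ H

theorem malnormal_iff {H : Subgroup G} :
    Malnormal H ↔ ∀ g : G, g ∉ H → H ⊓ (MulAut.conj g • H) = ⊥ := by
  constructor
  · intro h g hg
    rw [eq_bot_iff]
    rintro x ⟨hx, hx'⟩
    by_contra hne
    exact hg (by simpa using h g⁻¹ x hx hne (by simpa using mem_conj_smul_iff.mp hx'))
  · intro h g x hx hx1 hgx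
    by_contra hg
    have : g * x * g⁻¹ ∈ H ⊓ (MulAut.conj g • H) :=
      ⟨hgx, mem_conj_smul_iff.mpr (by simpa [mul_assoc] using hx)⟩
    rw [h g hg, mem_bot] at this
    exact hx1 (by simpa using this)

theorem isFrobeniusComplement_iff {H : Subgroup G} :
    IsFrobeniusComplement H ↔ H ≠ ⊥ ∧ H ≠ ⊤ ∧ Malnormal H := by
  rw [malnormal_iff]; rfl

theorem IsFrobeniusComplement.malnormal {H : Subgroup G} (h : IsFrobeniusComplement H) :
    Malnormal H := malnormal_iff.mpr h.2.2

theorem Malnormal.conj {H : Subgroup G} (h : Malnormal H) (c : G) :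
    Malnormal (MulAut.conj c • H) := by
  intro g x hx hx1 hgx
  rw [mem_conj_smul_iff] at *
  refine h _ _ hx (mt inv_conj_eq_one_iff.mp hx1) ?_
  convert hgx using 1; group

theorem Malnormal.subgroupOf {H : Subgroup G} (h : Malnormal H) (U : Subgroup G) :
    Malnormal (H.subgroupOf U) :=
  fun g x hx hx1 hgx => h g x hx (fun e => hx1 (Subtype.ext e)) hgx

theorem Malnormal.comap {G' : Type*} [Group G'] {H : Subgroup G} (h : Malnormal H) {f : G' →* G}
    (hf : Function.Injective f) : Malnormal (H.comap f) :=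
  fun g x hx hx1 hgx => h (f g) (f x) hx (fun e => hx1 (hf (by simpa using e)))
    (by simpa using hgx)

theorem Malnormal.normalizer_eq {H : Subgroup G} (h : Malnormal H) (hb : H ≠ ⊥) :
    normalizer (H : Set G) = H := by
  refine le_antisymm (fun g hg => ?_) le_normalizer
  obtain ⟨⟨x, hx⟩, hx1⟩ := ne_bot_iff_exists_ne_one.mp hb
  exact h g x hx (fun e => hx1 (Subtype.ext e)) ((mem_normalizer_iff.mp hg x).mp hx)

theorem Malnormal.centralizer_le {H : Subgroup G} (h : Malnormal H) {x : G} (hx : x ∈ H)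
    (hx1 : x ≠ 1) : centralizer {x} ≤ H := fun g hg =>
  h g x hx hx1 (by rw [mem_centralizer_singleton_iff.mp hg]; simpa using hx)

theorem IsFrobeniusComplement.conj {H : Subgroup G} (h : IsFrobeniusComplement H) (c : G) :
    IsFrobeniusComplement (MulAut.conj c • H) := by
  refine isFrobeniusComplement_iff.mpr ⟨fun e => h.1 ?_, fun e => h.2.1 ?_,
    (IsFrobeniusComplement.malnormal h).conj c⟩
  · rw [eq_bot_iff]; intro x hx
    have : c * x * c⁻¹ ∈ MulAut.conj c • H := mem_conj_smul_iff.mpr (by simpa [mul_assoc] using hx)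
    rw [e] at this
    simpa using this
  · rw [eq_top_iff]; intro x _
    have : c * x * c⁻¹ ∈ MulAut.conj c • H := e ▸ mem_top _
    simpa [mul_assoc] using mem_conj_smul_iff.mp this

theorem mem_frobeniusKernel {H : Subgroup G} {x : G} :
    x ∈ frobeniusKernel H ↔ x = 1 ∨ ∀ g : G, g⁻¹ * x * g ∉ H := by
  simp only [frobeniusKernel, Set.mem_ofPred_eq, mem_conj_smul_iff]

theorem not_mem_frobeniusKernel {H : Subgroup G} {x : G} :
    x ∉ frobeniusKernel H ↔ x ≠ 1 ∧ ∃ g : G, g⁻¹ * x * g ∈ H := by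
  simp [mem_frobeniusKernel]

theorem one_mem_frobeniusKernel (H : Subgroup G) : (1 : G) ∈ frobeniusKernel H := Or.inl rfl

theorem conj_mem_frobeniusKernel {H : Subgroup G} {x : G} (hx : x ∈ frobeniusKernel H) (c : G) :
    c * x * c⁻¹ ∈ frobeniusKernel H := by
  rw [mem_frobeniusKernel] at *
  rcases hx with rfl | hx
  · simp
  · exact Or.inr fun g hg => hx (c⁻¹ * g) (by convert hg using 1; group)

theorem frobeniusKernel_conj (H : Subgroup G) (c : G) :
    frobeniusKernel (MulAut.conj c • H) = frobeniusKernel H := by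
  ext x
  simp only [mem_frobeniusKernel, mem_conj_smul_iff]
  refine or_congr_right ⟨fun h g hg => h (g * c⁻¹) (by convert hg using 1; group),
    fun h g hg => h (g * c) (by convert hg using 1; group)⟩

theorem eq_one_of_mem_frobeniusKernel {H : Subgroup G} {x : G} (hx : x ∈ frobeniusKernel H)
    (hH : x ∈ H) : x = 1 :=
  (mem_frobeniusKernel.mp hx).resolve_right fun h => h 1 (by simpa using hH)

theorem Malnormal.ncard_diff {H : Subgroup G} (h : Malnormal H) (X : Set G) (h1 : 1 ∉ X)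
    (hX : ∀ x ∈ X, ∀ g : G, g * x * g⁻¹ ∈ X) :
    (X \ frobeniusKernel H).ncard = H.index * (X ∩ H).ncard := by
  rw [← ncard_conjugatesOfSet_of_TI H (X ∩ H)
    (fun n hn a ha => ⟨hX a ha.1 n, mul_mem (mul_mem hn ha.2) (inv_mem hn)⟩)
    (fun g a ha hg => h g a ha.2 (fun e => h1 (e ▸ ha.1)) hg.2)]
  congr 1
  ext x
  rw [mem_conjugatesOfSet_iff', Set.mem_sdiff, not_mem_frobeniusKernel]
  constructor
  · rintro ⟨hx, -, g, hg⟩
    exact ⟨g, by simpa using hX x hx g⁻¹, hg⟩
  · rintro ⟨g, hg, hg'⟩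
    have : x ∈ X := by simpa [mul_assoc] using hX _ hg g
    exact ⟨this, fun e => h1 (e ▸ this), g, hg'⟩

theorem ncard_coe_diff_one [Finite G] (H : Subgroup G) :
    ((H : Set G) \ {1}).ncard + 1 = Nat.card H := by
  rw [Set.ncard_sdiff_singleton_add_one H.one_mem, ← Nat.card_coe_set_eq]; rfl

theorem Malnormal.ncard_compl_kernel [Finite G] {H : Subgroup G} (h : Malnormal H) :
    (frobeniusKernel H)ᶜ.ncard + H.index = Nat.card G := by
  have h1 := h.ncard_diff {1}ᶜ (by simp) (by simp)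
  have h2 : ({1}ᶜ : Set G) \ frobeniusKernel H = (frobeniusKernel H)ᶜ := by
    ext x
    exact ⟨fun h => h.2, fun h => ⟨fun e => h (e ▸ one_mem_frobeniusKernel H), h⟩⟩
  rw [h2, Set.inter_comm, ← Set.sdiff_eq] at h1
  rw [h1, ← H.index_mul_card, ← ncard_coe_diff_one H]; ring

theorem Malnormal.ncard_kernel [Finite G] {H : Subgroup G} (h : Malnormal H) :
    (frobeniusKernel H).ncard = H.index := by
  have h1 := h.ncard_compl_kernel
  have h2 := Set.ncard_add_ncard_compl (frobeniusKernel H)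
  omega

theorem Malnormal.card_kernel [Finite G] {H : Subgroup G} (h : Malnormal H) :
    Nat.card (frobeniusKernel H) = H.index := by
  rw [Nat.card_coe_set_eq, h.ncard_kernel]

/-- a free action of a finite group: the order of the group divides the size of the set -/
theorem card_dvd_of_free {A X : Type*} [Group A] [MulAction A X]
    (h : ∀ (a : A) (x : X), a • x = x → a = 1) : Nat.card A ∣ Nat.card X := by
  rw [Nat.card_congr (MulAction.selfEquivOrbitsQuotientProd (G := A) (X := X) fun x =>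
    eq_bot_iff.mpr fun a ha => h a x ha), Nat.card_prod]
  exact dvd_mul_left _ _

/-- `A` acts freely by conjugation on an invariant set `X`. -/
theorem card_dvd_ncard_of_free_conj (A : Subgroup G) (X : Set G)
    (hX : ∀ a ∈ A, ∀ x ∈ X, a * x * a⁻¹ ∈ X) (h : ∀ a ∈ A, ∀ x ∈ X, a * x = x * a → a = 1) :
    Nat.card A ∣ X.ncard := by
  let _ : MulAction A X :=
    { smul := fun a x => ⟨a * x * (a : G)⁻¹, hX a a.2 x x.2⟩
      one_smul := fun x => Subtype.ext (by change (1 : G) * x * 1⁻¹ = x; simp)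
      mul_smul := fun a b x => Subtype.ext (by
        change (a * b : G) * x * (a * b : G)⁻¹ = a * (b * x * (b : G)⁻¹) * (a : G)⁻¹; group) }
  rw [← Nat.card_coe_set_eq]
  refine card_dvd_of_free fun a x hx => Subtype.ext (h a a.2 x x.2 ?_)
  have : (a : G) * x * (a : G)⁻¹ = x := congrArg Subtype.val hx
  exact mul_inv_eq_iff_eq_mul.mp this

/-- fixed-point-free action: `|A|` divides `|K| - 1`. -/
theorem card_dvd_sub_one_of_fpf [Finite G] {A K : Subgroup G} (hAK : A ≤ normalizer (K : Set G))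
    (hfpf : ∀ a ∈ A, a ≠ 1 → K ⊓ centralizer {a} = ⊥) : Nat.card A ∣ Nat.card K - 1 := by
  rw [← ncard_coe_diff_one K, Nat.add_sub_cancel]
  refine card_dvd_ncard_of_free_conj A _ (fun a ha x hx =>
    ⟨(mem_normalizer_iff.mp (hAK ha) x).mp hx.1, by simpa using hx.2⟩) fun a ha x hx hc => ?_
  by_contra hne
  have : x ∈ K ⊓ centralizer {a} := ⟨hx.1, mem_centralizer_singleton_iff.mpr hc.symm⟩
  rw [hfpf a ha hne] at this
  exact hx.2 this

theorem coprime_of_dvd_sub_one {a n : ℕ} (hn : 0 < n) (h : a ∣ n - 1) : a.Coprime n := by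
  obtain ⟨c, hc⟩ := h
  rw [show n = a * c + 1 by omega]
  simp

theorem coprime_card_of_fpf [Finite G] {A K : Subgroup G} (hAK : A ≤ normalizer (K : Set G))
    (hfpf : ∀ a ∈ A, a ≠ 1 → K ⊓ centralizer {a} = ⊥) : (Nat.card A).Coprime (Nat.card K) :=
  coprime_of_dvd_sub_one Nat.card_pos (card_dvd_sub_one_of_fpf hAK hfpf)

theorem Malnormal.card_dvd_index_sub_one [Finite G] {H : Subgroup G} (h : Malnormal H) :
    Nat.card H ∣ H.index - 1 := by
  rw [← h.ncard_kernel, ← Set.ncard_sdiff_singleton_of_mem (one_mem_frobeniusKernel H)]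
  refine card_dvd_ncard_of_free_conj H _ (fun a _ x hx =>
    ⟨conj_mem_frobeniusKernel hx.1 a, by simpa using hx.2⟩) fun a ha x hx hc => ?_
  by_contra hne
  exact hx.2 (eq_one_of_mem_frobeniusKernel hx.1
    (h.centralizer_le ha hne (mem_centralizer_singleton_iff.mpr hc.symm)))

theorem Malnormal.index_modEq_one [Finite G] {H : Subgroup G} (h : Malnormal H) :
    H.index ≡ 1 [MOD Nat.card H] :=
  ((Nat.modEq_iff_dvd' (Nat.pos_of_ne_zero index_ne_zero_of_finite)).mpr
    h.card_dvd_index_sub_one).symm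

theorem Malnormal.coprime_card_index [Finite G] {H : Subgroup G} (h : Malnormal H) :
    (Nat.card H).Coprime H.index :=
  coprime_of_dvd_sub_one (Nat.pos_of_ne_zero index_ne_zero_of_finite) h.card_dvd_index_sub_one

theorem two_mul_index_le_card [Finite G] {H : Subgroup G} (h : H ≠ ⊥) :
    2 * H.index ≤ Nat.card G := by
  rw [← H.card_mul_index]
  exact Nat.mul_le_mul_right _ ((one_lt_card_iff_ne_bot H).mpr h)

/-- two nontrivial malnormal subgroups have conjugates which meet nontrivially. -/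
theorem Malnormal.exists_not_mem_kernel [Finite G] {H K : Subgroup G} (hH : Malnormal H)
    (hK : Malnormal K) (hH1 : H ≠ ⊥) (hK1 : K ≠ ⊥) :
    ∃ x : G, x ∉ frobeniusKernel H ∧ x ∉ frobeniusKernel K := by
  by_contra hne
  push Not at hne
  have h1 : (frobeniusKernel H)ᶜ ⊆ frobeniusKernel K \ {1} := fun x hx =>
    ⟨hne x hx, fun e => hx (e ▸ one_mem_frobeniusKernel H)⟩
  have h2 := Set.ncard_le_ncard h1
  have h3 := Set.ncard_sdiff_singleton_add_one (one_mem_frobeniusKernel K)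
  have h4 := hH.ncard_compl_kernel
  have h5 := hK.ncard_kernel
  have h6 := two_mul_index_le_card hH1
  have h7 := two_mul_index_le_card hK1
  omega

/-- Let `U` be a subgroup all of whose nonidentity elements lie in conjugates of the malnormal
subgroup `H`. Then `U` lies in a conjugate of `H`. -/
theorem Malnormal.exists_le_conj_of_inter_kernel [Finite G] {H U : Subgroup G} (hH : Malnormal H)
    (hU : ∀ x ∈ U, x ∈ frobeniusKernel H → x = 1) : ∃ g : G, U ≤ MulAut.conj g • H := by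
  by_cases hb : U = ⊥
  · exact ⟨1, by rw [hb]; exact bot_le⟩
  have key : ∀ x : U, x ≠ 1 → ∃ g : G, x ∈ (MulAut.conj g • H).subgroupOf U := fun x hx => by
    obtain ⟨-, g, hg⟩ := not_mem_frobeniusKernel.mp
      (fun h => hx (Subtype.ext (hU x x.2 h)))
    exact ⟨g, mem_conj_smul_iff.mpr hg⟩
  obtain ⟨x, hx1⟩ := ne_bot_iff_exists_ne_one.mp hb
  obtain ⟨g, hg⟩ := key x hx1
  refine ⟨g, ?_⟩
  by_contra hne
  have hD := (hH.conj g).subgroupOf U
  have h1 : 1 < (frobeniusKernel ((MulAut.conj g • H).subgroupOf U)).ncard := by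
    rw [hD.ncard_kernel]
    exact one_lt_index_of_ne_top (mt subgroupOf_eq_top.mp hne)
  obtain ⟨y, hy, hy1⟩ := Set.exists_ne_of_one_lt_ncard h1 1
  obtain ⟨c, hc⟩ := key y hy1
  obtain ⟨z, hz, hz'⟩ := hD.exists_not_mem_kernel ((hH.conj c).subgroupOf U)
    (ne_bot_iff_exists_ne_one.mpr ⟨⟨x, hg⟩, fun e => hx1 (congrArg Subtype.val e)⟩)
    (ne_bot_iff_exists_ne_one.mpr ⟨⟨y, hc⟩, fun e => hy1 (congrArg Subtype.val e)⟩)
  obtain ⟨hz1, u, hu⟩ := not_mem_frobeniusKernel.mp hz
  obtain ⟨-, v, hv⟩ := not_mem_frobeniusKernel.mp hz'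
  rw [mem_subgroupOf, mem_conj_smul_iff] at hu hv hc
  push_cast at hu hv
  have h2 : g⁻¹ * (u : G)⁻¹ * v * c ∈ H := hH _ _ hv
    (fun e => hz1 (Subtype.ext (inv_conj_eq_one_iff.mp (inv_conj_eq_one_iff.mp e)))) (by convert hu using 1; group)
  refine ((mem_frobeniusKernel.mp hy).resolve_left hy1) (v⁻¹ * u) ?_
  rw [mem_subgroupOf, mem_conj_smul_iff]
  push_cast
  convert mul_mem (mul_mem h2 hc) (inv_mem h2) using 1; group

theorem Malnormal.exists_le_conj_of_card_le [Finite G] {H H₀ : Subgroup G} (hH : Malnormal H)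
    (hH₀ : Malnormal H₀) (hle : Nat.card H₀ ≤ Nat.card H) : ∃ g : G, H₀ ≤ MulAut.conj g • H := by
  refine hH.exists_le_conj_of_inter_kernel fun x hx hxK => ?_
  by_contra hx1
  have h1 := hH₀.ncard_diff (frobeniusKernel H \ {1}) (by simp)
    fun y hy g => ⟨conj_mem_frobeniusKernel hy.1 g, by simpa using hy.2⟩
  have h2 : 0 < ((frobeniusKernel H \ {1}) ∩ H₀).ncard :=
    (Set.ncard_pos (Set.toFinite _)).mpr ⟨x, ⟨hxK, hx1⟩, hx⟩
  have h3 : ((frobeniusKernel H \ {1}) \ frobeniusKernel H₀).ncard ≤ (frobeniusKernel H \ {1}).ncard :=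
    Set.ncard_le_ncard Set.sdiff_subset
  have h4 := Set.ncard_sdiff_singleton_add_one (one_mem_frobeniusKernel H)
  have h5 := hH.ncard_kernel
  have h6 : H.index ≤ H₀.index := by
    have := H.card_mul_index.trans H₀.card_mul_index.symm
    by_contra hlt
    have := Nat.mul_lt_mul_of_le_of_lt hle (not_le.mp hlt) Nat.card_pos
    omega
  have h7 : H₀.index ≤ H₀.index * ((frobeniusKernel H \ {1}) ∩ H₀).ncard := Nat.le_mul_of_pos_right _ h2
  omega

theorem exists_conj_le_of_le_conj {H K : Subgroup G} (h : ∃ g : G, H ≤ MulAut.conj g • K) :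
    ∃ g : G, MulAut.conj g • H ≤ K := by
  obtain ⟨g, hg⟩ := h
  exact ⟨g⁻¹, by rwa [map_inv, ← subset_pointwise_smul_iff]⟩

theorem Malnormal.mul_mem_kernel_of_involution [Finite G] {H : Subgroup G} (hH : Malnormal H)
    {t : G} (ht : t ∈ H) (ht1 : t ≠ 1) (ht2 : t * t = 1) :
    ∀ x ∈ frobeniusKernel H, ∀ y ∈ frobeniusKernel H, x * y ∈ frobeniusKernel H := by
  let τ : G ⧸ H → G := fun q => q.out * t * q.out⁻¹
  have hτ2 : ∀ q, τ q * τ q = 1 := fun q => by
    simp only [τ]
    rw [show q.out * t * q.out⁻¹ * (q.out * t * q.out⁻¹) = q.out * (t * t) * q.out⁻¹ by group, ht2]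
    group
  have hq : ∀ (q : G ⧸ H) (g : G), g⁻¹ * τ q * g ∈ H → q = g := fun q g h => by
    rw [← QuotientGroup.out_eq' q, eq_comm, QuotientGroup.eq]
    exact hH _ t ht ht1 (by convert h using 1; simp only [τ]; group)
  have hinj : Function.Injective τ := fun q r h => by
    rw [hq q r.out (by rw [h]; simpa [τ, mul_assoc] using ht), QuotientGroup.out_eq']
  have hK : ∀ q r, τ q * τ r ∈ frobeniusKernel H := fun q r => by
    by_contra hne
    obtain ⟨h1, g, hg⟩ := not_mem_frobeniusKernel.mp hne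
    have h2 : g⁻¹ * τ q * g ∈ H := hH _ _ hg (mt inv_conj_eq_one_iff.mp h1)
      (by
        convert inv_mem hg using 1
        rw [eq_inv_iff_mul_eq_one, show g⁻¹ * τ q * g * (g⁻¹ * (τ q * τ r) * g) *
          (g⁻¹ * τ q * g)⁻¹ * (g⁻¹ * (τ q * τ r) * g) =
          g⁻¹ * ((τ q * τ q) * (τ r * τ r)) * g by group, hτ2, hτ2]
        group)
    have h3 : g⁻¹ * τ r * g ∈ H := by
      convert mul_mem (inv_mem h2) hg using 1; group
    exact h1 (by rw [hq q g h2, hq r g h3, hτ2])
  have hsurj : ∀ f : G ⧸ H → G, Function.Injective f → (∀ q, f q ∈ frobeniusKernel H) →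
      ∀ x ∈ frobeniusKernel H, ∃ q, f q = x := fun f hf hfK x hx => by
    have := Set.eq_of_subset_of_ncard_le (s := Set.range f) (t := frobeniusKernel H)
      (by rintro _ ⟨q, rfl⟩; exact hfK q)
      (by rw [hH.ncard_kernel, Set.ncard_range_of_injective hf]; rfl)
    rwa [← this] at hx
  intro x hx y hy
  obtain ⟨q, rfl⟩ := hsurj (fun q => τ q * τ (1 : G)) (fun q r h => hinj (by simpa using h))
    (fun q => hK _ _) x hx
  obtain ⟨r, rfl⟩ := hsurj (fun q => τ (1 : G) * τ q) (fun q r h => hinj (by simpa using h))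
    (fun q => hK _ _) y hy
  rw [mul_assoc, ← mul_assoc (τ (1 : G)), hτ2, one_mul]
  exact hK _ _

/-- in a semidirect product `K H`, `H` is malnormal iff it acts fixed-point-freely on `K`. -/
theorem malnormal_iff_fpf {K H : Subgroup G} [hK : K.Normal] (hc : IsComplement' K H) :
    Malnormal H ↔ ∀ h ∈ H, h ≠ 1 → K ⊓ centralizer {h} = ⊥ := by
  constructor
  · intro hH h hh h1
    exact le_bot_iff.mp ((inf_le_inf_left K (hH.centralizer_le hh h1)).trans hc.disjoint.eq_bot.le)
  · intro hf g x hx hx1 hgx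
    obtain ⟨h, hh, k, hk, rfl⟩ := mem_sup_of_normal_right.mp
      (show g ∈ H ⊔ K by rw [sup_comm, hc.sup_eq_top]; exact mem_top g)
    have h1 : k * x * k⁻¹ * x⁻¹ ∈ K ⊓ H := by
      refine mem_inf.mpr ⟨?_, mul_mem ?_ (inv_mem hx)⟩
      · convert mul_mem hk (hK.conj_mem _ (inv_mem hk) x) using 1; group
      · convert mul_mem (mul_mem (inv_mem hh) hgx) hh using 1; group
    rw [hc.disjoint.eq_bot, mem_bot] at h1
    have h2 : k ∈ K ⊓ centralizer {x} := ⟨hk, mem_centralizer_singleton_iff.mpr (by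
      rw [← commutatorElement_eq_one_iff_mul_comm]; exact h1)⟩
    rw [hf x hx hx1, mem_bot] at h2
    simpa [h2] using hh

theorem isFrobeniusComplement_iff_fpf {K H : Subgroup G} [K.Normal] (hc : IsComplement' K H)
    (hK : K ≠ ⊥) (hH : H ≠ ⊥) :
    IsFrobeniusComplement H ↔ ∀ h ∈ H, h ≠ 1 → K ⊓ centralizer {h} = ⊥ := by
  rw [isFrobeniusComplement_iff, malnormal_iff_fpf hc]
  refine ⟨fun h => h.2.2, fun h => ⟨hH, fun e => hK ?_, h⟩⟩
  rw [e] at hc
  exact isComplement'_top_right.mp hc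

/-- if the malnormal subgroup `H` has a normal complement `K`, then `K` is the Frobenius kernel. -/
theorem Malnormal.coe_eq_kernel [Finite G] {K H : Subgroup G} [hK : K.Normal] (hH : Malnormal H)
    (hc : IsComplement' K H) : (K : Set G) = frobeniusKernel H := by
  refine Set.eq_of_subset_of_ncard_le (fun x hx => ?_) ?_
  · by_contra hne
    obtain ⟨h1, g, hg⟩ := not_mem_frobeniusKernel.mp hne
    have : g⁻¹ * x * g ∈ K ⊓ H := ⟨by simpa using hK.conj_mem x hx g⁻¹, hg⟩
    rw [hc.disjoint.eq_bot, mem_bot] at this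
    exact h1 (inv_conj_eq_one_iff.mp this)
  · rw [hH.ncard_kernel, hc.index_eq_card, ← Nat.card_coe_set_eq]; rfl

/-- an involution acting fixed-point-freely inverts `K`, and `K` is abelian. -/
theorem inverts_of_fpf_involution [Finite G] {K : Subgroup G} {s : G}
    (hs : s ∈ normalizer (K : Set G)) (hs2 : s * s = 1) (hf : K ⊓ centralizer {s} = ⊥) :
    (∀ k ∈ K, s * k * s⁻¹ = k⁻¹) ∧ IsMulCommutative K := by
  let φ : MulAut K := K.normalizerMonoidHom ⟨s, hs⟩
  have hφ : ∀ k : K, (φ k : G) = s * k * s⁻¹ := fun k => rfl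
  have h1 : MonoidHom.FixedPointFree φ := fun k hk => by
    have : (k : G) ∈ K ⊓ centralizer {s} := ⟨k.2, mem_centralizer_singleton_iff.mpr (by
      rw [← mul_inv_eq_iff_eq_mul.mp ((hφ k).symm.trans (congrArg Subtype.val hk))])⟩
    rw [hf, mem_bot] at this
    exact Subtype.ext this
  have h2 : Function.Involutive φ := fun k => Subtype.ext (by
    rw [hφ, hφ, show s * (s * k * s⁻¹) * s⁻¹ = (s * s) * k * (s * s)⁻¹ by group, hs2]; simp)
  refine ⟨fun k hk => ?_, ⟨⟨fun a b => h1.commute_all_of_involutive h2 a b⟩⟩⟩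
  exact congrArg Subtype.val (congrFun (h1.coe_eq_inv_of_involutive h2) ⟨k, hk⟩)

theorem unique_involution_of_fpf [Finite G] {K H : Subgroup G} (hHK : H ≤ normalizer (K : Set G))
    (hK : K ≠ ⊥) (hfpf : ∀ h ∈ H, h ≠ 1 → K ⊓ centralizer {h} = ⊥) {s t : G} (hs : s ∈ H)
    (ht : t ∈ H) (hs2 : orderOf s = 2) (ht2 : orderOf t = 2) : t = s := by
  have e : ∀ u : G, orderOf u = 2 → u * u = 1 ∧ u ≠ 1 := fun u hu =>
    ⟨by rw [← sq, ← hu, pow_orderOf_eq_one], by rintro rfl; simp at hu⟩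
  have h1 := (inverts_of_fpf_involution (hHK hs) (e s hs2).1 (hfpf s hs (e s hs2).2)).1
  have h2 := (inverts_of_fpf_involution (hHK ht) (e t ht2).1 (hfpf t ht (e t ht2).2)).1
  by_contra hne
  refine hK (le_bot_iff.mp ?_)
  rw [← hfpf (s⁻¹ * t) (mul_mem (inv_mem hs) ht) (fun h => hne (inv_mul_eq_one.mp h).symm)]
  refine le_inf le_rfl fun k hk => mem_centralizer_singleton_iff.mpr ?_
  have := (h1 k hk).trans (h2 k hk).symm
  calc k * (s⁻¹ * t) = s⁻¹ * (s * k * s⁻¹) * t := by group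
    _ = s⁻¹ * t * k := by rw [this]; group

end H2
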