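import Mathlib

/-! Bender–Glauberman, Appendix C: the finite field lemmas C.1 and C.2 (norms written as powers). -/

set_option autoImplicit false

namespace H2.AppC
open Polynomial Finset

variable {F : Type*} [Field F]

theorem exists_natCast_of_pow_eq (p : ℕ) [hp : Fact p.Prime] [CharP F p] {x : F} (hx : x ^ p = x) :
    ∃ k : ℕ, (k : F) = x := by
  rw [← Subfield.mem_bot_iff_pow_eq_self F p, ← ZMod.fieldRange_castHom_eq_bot p] at hx
  obtain ⟨k, rfl⟩ := hx
  exact ⟨k.val, by simp [ZMod.natCast_val]⟩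

theorem natCast_pow_char (p : ℕ) [hp : Fact p.Prime] [CharP F p] (k : ℕ) : (k : F) ^ p = k := by
  rw [← frobenius_def, map_natCast]

theorem intCast_pow_char (p : ℕ) [hp : Fact p.Prime] [CharP F p] (k : ℤ) : (k : F) ^ p = k := by
  rw [← frobenius_def, map_intCast]

/-- Lemma C.1. -/
theorem lemmaC1 (p q : ℕ) [hp : Fact p.Prime] [CharP F p] (hq : 0 < q) {n : ℕ}
    (hn : n = ∑ i ∈ range q, p ^ i)
    (hinv : ∀ a : F, a ^ n = 1 → (2 - a) ^ n = 1 → (2 - a⁻¹) ^ n = 1) {a : F} (ha : a ^ n = 1)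
    (ha2 : (2 - a) ^ n = 1) (ha1 : a ≠ 1) : p ≤ q := by
  classical
  have hn0 : n ≠ 0 := by
    rw [hn]
    exact (Finset.sum_pos (fun i _ => pow_pos hp.out.pos i) ⟨0, by simpa using hq⟩).ne'
  have hne : ∀ x : F, x ^ n = 1 → x ≠ 0 := fun x hx e => by simp [e, hn0] at hx
  have key : ∀ k : ℕ, (a + (1 - a) * k) ^ n = 1 ∧ (a + (1 - a) * (k + 1)) ^ n = 1 ∧
      (a + (1 - a) * (k + 2)) ^ n = 1 := by
    intro k
    induction k with
    | zero => refine ⟨by simpa using ha, by simp, Eq.trans ?_ ha2⟩; congr 1; push_cast; ring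
    | succ k ih =>
      obtain ⟨h0, h1, h2⟩ := ih
      refine ⟨by push_cast; exact h1, Eq.trans (by congr 1; push_cast; ring) h2, ?_⟩
      have e1 := hne _ h1
      have e2 := hne _ h2
      have := hinv ((a + (1 - a) * (k + 2)) / (a + (1 - a) * (k + 1)))
        (by rw [div_pow, h1, h2, div_one])
        (by
          rw [show 2 - (a + (1 - a) * (k + 2)) / (a + (1 - a) * (k + 1)) =
            (a + (1 - a) * k) / (a + (1 - a) * (k + 1)) by field_simp; ring, div_pow, h0, h1,
            div_one])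
      rw [show 2 - ((a + (1 - a) * (k + 2)) / (a + (1 - a) * (k + 1)))⁻¹ =
        (a + (1 - a) * ((k + 1 : ℕ) + 2)) / (a + (1 - a) * (k + 2)) by
          push_cast; field_simp; ring, div_pow, h2, div_one] at this
      exact this
  have hc : 1 - a ≠ 0 := sub_ne_zero.mpr ha1.symm
  by_contra hlt
  let g : F[X] := ∏ i ∈ range q, (C ((1 - a) ^ p ^ i) * X + C 1)
  have hg : g.natDegree = q := by
    rw [natDegree_prod _ _ fun i _ => ?_]
    · rw [Finset.sum_congr rfl fun i _ => natDegree_linear (pow_ne_zero _ hc)]; simp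
    · intro e
      have := natDegree_linear (b := (1 : F)) (pow_ne_zero (p ^ i) hc)
      rw [e] at this
      simp at this
  have h0 : g - 1 = 0 := by
    refine eq_zero_of_natDegree_lt_card_of_eval_eq_zero' _ ((range p).image (Nat.cast : ℕ → F))
      (fun x hx => ?_) ?_
    · obtain ⟨k, -, rfl⟩ := Finset.mem_image.mp hx
      have := (key k).2.1
      rw [show a + (1 - a) * (k + 1) = (1 - a) * k + 1 by ring, hn,
        ← Finset.prod_pow_eq_pow_sum] at this
      rw [eval_sub, eval_prod, eval_one, sub_eq_zero]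
      refine Eq.trans (Finset.prod_congr rfl fun i _ => ?_) this
      rw [add_pow_char_pow, mul_pow, one_pow, ← iterateFrobenius_def p i (k : F), map_natCast]
      simp
    · rw [Finset.card_image_of_injOn (by simpa using CharP.natCast_injOn_Iio F p), card_range]
      refine lt_of_le_of_lt (natDegree_sub_le _ _) ?_
      simp only [hg, natDegree_one, zero_le, sup_of_le_left]
      omega
  rw [sub_eq_zero] at h0
  rw [h0, natDegree_one] at hg
  omega

/-- Lemma C.2 for `q = 3`. -/
theorem lemmaC2_three [Fintype F] (p : ℕ) [hp : Fact p.Prime] [CharP F p] (hp2 : p ≠ 2)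
    (hF : Fintype.card F = p ^ 3) :
    ∃ a : F, a ≠ 1 ∧ a ^ (1 + p + p ^ 2) = 1 ∧ (2 - a) ^ (1 + p + p ^ 2) = 1 := by
  classical
  have h2 : (2 : ZMod p) ≠ 0 := by
    intro e
    have : ((2 : ℕ) : ZMod p) = 0 := by exact_mod_cast e
    rw [ZMod.natCast_eq_zero_iff] at this
    exact hp2 ((Nat.prime_dvd_prime_iff_eq hp.out Nat.prime_two).mp this)
  obtain ⟨c, hc⟩ : ∃ c : ZMod p, ∀ d : ZMod p, d * (d - 2) * (d - c) + (d - 1) ≠ 0 := by
    by_contra hne
    push Not at hne
    let φ : ZMod p → ZMod p := fun d => d + (d - 1) / (d * (d - 2))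
    have hs : Function.Surjective φ := fun c => by
      obtain ⟨d, hd⟩ := hne c
      have h0 : d ≠ 0 := by rintro rfl; simp at hd
      have h1 : d - 2 ≠ 0 := by
        intro e
        rw [sub_eq_zero] at e
        subst e
        norm_num at hd
      refine ⟨d, ?_⟩
      simp only [φ]
      field_simp
      linear_combination hd
    have hi := Finite.injective_iff_surjective.mpr hs
    obtain ⟨d, hd⟩ := hne 0
    have h0 : d ≠ 0 := by rintro rfl; simp at hd
    have h1 : d - 2 ≠ 0 := by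
      intro e
      rw [sub_eq_zero] at e
      subst e
      norm_num at hd
    refine h0 (hi ?_)
    simp only [φ]
    rw [zero_mul, div_zero, add_zero]
    field_simp
    linear_combination hd
  let f : (ZMod p)[X] := X * (X - C 2) * (X - C c) + (X - C 1)
  have hfd : f.natDegree = 3 := by simp only [f]; compute_degree!
  have hirr : Irreducible f := irreducible_of_degree_le_three_of_not_isRoot (by simp [hfd])
    fun x hx => hc x (by simpa [f] using hx)
  have : Fact (Irreducible f) := ⟨hirr⟩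
  have : Module.Finite (ZMod p) (AdjoinRoot f) := (AdjoinRoot.powerBasis hirr.ne_zero).finite
  have : Finite (AdjoinRoot f) := Module.finite_of_finite (ZMod p)
  have := Fintype.ofFinite (AdjoinRoot f)
  have hK : Fintype.card (AdjoinRoot f) = Fintype.card F := by
    rw [hF, Module.card_eq_pow_finrank (K := ZMod p), ZMod.card,
      (AdjoinRoot.powerBasis hirr.ne_zero).finrank, AdjoinRoot.powerBasis_dim, hfd]
  let e := FiniteField.ringEquivOfCardEq hK
  let ι : ZMod p →+* F := ZMod.castHom (dvd_refl p) F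
  obtain ⟨a, ha⟩ : ∃ a : F, a * (a - 2) * (a - ι c) + (a - 1) = 0 := by
    refine ⟨e (AdjoinRoot.root f), ?_⟩
    have h1 := AdjoinRoot.eval₂_root f
    have h3 : ι c = e (AdjoinRoot.of f c) :=
      congrFun (congrArg DFunLike.coe (Subsingleton.elim ι
        ((e : AdjoinRoot f →+* F).comp (AdjoinRoot.of f)))) c
    have h4 := congrArg e h1
    simp only [f, eval₂_add, eval₂_mul, eval₂_sub, eval₂_X, eval₂_C, map_add, map_mul, map_sub,
      map_zero, map_one, map_ofNat, eval₂_one, eval₂_ofNat] at h4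
    rw [h3]
    exact h4
  have hcp : ι c ^ p = ι c := by rw [← map_pow, ZMod.pow_card]
  have hfrob : ∀ x : F, x * (x - 2) * (x - ι c) + (x - 1) = 0 →
      x ^ p * (x ^ p - 2) * (x ^ p - ι c) + (x ^ p - 1) = 0 := fun x hx => by
    have := congrArg (frobenius F p) hx
    simpa only [map_add, map_mul, map_sub, map_zero, map_one, map_ofNat, frobenius_def, hcp]
      using this
  have hap : a ^ p ≠ a := fun h => by
    obtain ⟨k, rfl⟩ := exists_natCast_of_pow_eq p h
    refine hc k (ι.injective ?_)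
    simpa only [map_add, map_mul, map_sub, map_zero, map_one, map_ofNat, map_natCast] using ha
  have hb := hfrob a ha
  have hd := hfrob _ hb
  have h12 : a - a ^ p ≠ 0 := sub_ne_zero.mpr hap.symm
  have h23 : a ^ p - (a ^ p) ^ p ≠ 0 := sub_ne_zero.mpr fun h =>
    hap (frobenius_inj F p h.symm)
  have h13 : a - (a ^ p) ^ p ≠ 0 := sub_ne_zero.mpr fun h => by
    apply hap
    conv_lhs => rw [h]
    rw [← pow_mul, ← pow_mul, show p * (p * p) = p ^ 3 by ring, ← hF, FiniteField.pow_card]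
  set b := a ^ p with hbdef
  set d := b ^ p with hddef
  have e12 : a ^ 2 + a * b + b ^ 2 - (2 + ι c) * (a + b) + (2 * ι c + 1) = 0 :=
    mul_left_cancel₀ h12 (by linear_combination ha - hb)
  have e13 : a ^ 2 + a * d + d ^ 2 - (2 + ι c) * (a + d) + (2 * ι c + 1) = 0 :=
    mul_left_cancel₀ h13 (by linear_combination ha - hd)
  have e1 : a + b + d = 2 + ι c := mul_left_cancel₀ h23 (by linear_combination e12 - e13)
  have e2 : a * b + a * d + b * d = 2 * ι c + 1 := by linear_combination (a + b) * e1 - e12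
  have e3 : a * b * d = 1 := by linear_combination ha - a ^ 2 * e1 + a * e2
  refine ⟨a, ?_, ?_, ?_⟩
  · rintro rfl
    exact hap (by simp [hbdef])
  · rw [pow_add, pow_add, pow_one, sq, pow_mul]
    exact e3
  · have h2p : (2 : F) ^ p = 2 := by simpa using natCast_pow_char (F := F) p 2
    rw [pow_add, pow_add, pow_one, sq, pow_mul, sub_pow_char, sub_pow_char, h2p, h2p]
    linear_combination (-4) * e1 + 2 * e2 - e3

/-- The character sum estimate behind Lemma C.2. -/
theorem card_sq_le [Fintype F] [DecidableEq F] (U : Finset F) (hU0 : ∀ u ∈ U, u ≠ 0)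
    (hmul : ∀ u ∈ U, ∀ v ∈ U, u * v ∈ U) (hUne : U.Nonempty) {c : F} (hc : c ≠ 0) :
    ((U.card : ℝ)) ^ 2 ≤ (U.filter fun u => c - u ∈ U).card * Fintype.card F +
      Fintype.card F * √(Fintype.card F) := by
  let χ := AddChar.FiniteField.primitiveChar_to_Complex F
  have hχ : χ.IsPrimitive := AddChar.FiniteField.primitiveChar_to_Complex_isPrimitive F
  let S : F → ℂ := fun t => ∑ u ∈ U, χ (t * u)
  have hS : ∀ t, ∀ u ∈ U, S (t * u) = S t := fun t u hu => by
    simp only [S]
    refine Finset.sum_bij (fun v _ => u * v) (fun v hv => hmul u hu v hv)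
      (fun v _ w _ h => mul_left_cancel₀ (hU0 u hu) h) ?_ fun v _ => by rw [mul_assoc]
    intro b hb
    obtain ⟨a, ha, e⟩ := Finset.surj_on_of_inj_on_of_card_le (fun v _ => u * v)
      (fun v hv => hmul u hu v hv) (fun v w _ _ h => mul_left_cancel₀ (hU0 u hu) h) le_rfl b hb
    exact ⟨a, ha, e.symm⟩
  have hn : (0 : ℝ) < U.card := by exact_mod_cast hUne.card_pos
  -- Parseval
  have hP : ∑ t, ‖S t‖ ^ 2 = Fintype.card F * U.card := by
    have : ∑ t, S t * (starRingEnd ℂ) (S t) = Fintype.card F * U.card := by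
      simp only [S, map_sum, Finset.sum_mul_sum, ← AddChar.map_neg_eq_conj,
        ← AddChar.map_add_eq_mul]
      rw [Finset.sum_comm, Finset.sum_congr rfl fun u hu => Finset.sum_comm]
      simp only [← sub_eq_add_neg, ← mul_sub, AddChar.sum_mulShift _ hχ, sub_eq_zero]
      rw [Finset.sum_congr rfl fun u hu => by
        rw [← Nat.cast_sum, Finset.sum_ite_eq, if_pos hu]]
      simp [mul_comm]
    simp only [Complex.mul_conj, Complex.normSq_eq_norm_sq] at this
    exact_mod_cast this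
  have hB : ∀ t, t ≠ 0 → ‖S t‖ ≤ √(Fintype.card F) := fun t ht => by
    refine Real.le_sqrt_of_sq_le (le_of_mul_le_mul_right ?_ hn)
    rw [← hP]
    calc ‖S t‖ ^ 2 * U.card = ∑ u ∈ U, ‖S (t * u)‖ ^ 2 := by
          rw [Finset.sum_congr rfl fun u hu => by rw [hS t u hu]]; simp [mul_comm]
      _ = ∑ x ∈ U.image (t * ·), ‖S x‖ ^ 2 := by
          rw [Finset.sum_image fun u _ v _ h => mul_left_cancel₀ ht h]
      _ ≤ _ := Finset.sum_le_univ_sum_of_nonneg fun _ => by positivity
  have hE : ∑ t, S t ^ 2 * χ (-c * t) =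
      (U.filter fun u => c - u ∈ U).card * Fintype.card F := by
    simp only [S, sq, Finset.sum_mul_sum]
    simp only [Finset.sum_mul, ← AddChar.map_add_eq_mul]
    rw [Finset.sum_comm, Finset.sum_congr rfl fun u hu => Finset.sum_comm]
    have : ∀ u v t : F, t * u + t * v + -c * t = t * (v - (c - u)) := fun u v t => by ring
    simp only [this, AddChar.sum_mulShift _ hχ, sub_eq_zero]
    rw [Finset.sum_congr rfl fun u hu => by rw [← Nat.cast_sum, Finset.sum_ite_eq']]
    rw [Finset.card_filter]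
    push_cast
    rw [Finset.sum_mul]
    refine Finset.sum_congr rfl fun u _ => ?_
    split_ifs <;> simp
  have hE2 : (U.card : ℂ) * ∑ t ∈ univ.erase 0, S t ^ 2 * χ (-c * t) =
      ∑ t ∈ univ.erase 0, S t ^ 2 * S (-c * t) := by
    calc (U.card : ℂ) * ∑ t ∈ univ.erase 0, S t ^ 2 * χ (-c * t)
        = ∑ u ∈ U, ∑ t ∈ univ.erase 0, S t ^ 2 * χ (-c * t) := by
          rw [Finset.sum_const, nsmul_eq_mul]
      _ = ∑ u ∈ U, ∑ t ∈ univ.erase 0, S t ^ 2 * χ (-c * t * u) := by
          refine Finset.sum_congr rfl fun u hu => ?_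
          symm
          refine Finset.sum_bijective (· * u) (mulRight_bijective₀ u (hU0 u hu))
            (fun t => by simp [hU0 u hu]) fun t _ => by rw [hS t u hu, mul_assoc]
      _ = _ := by
          rw [Finset.sum_comm]
          simp only [S, Finset.mul_sum]
  have hE3 : ‖∑ t ∈ univ.erase 0, S t ^ 2 * χ (-c * t)‖ ≤ Fintype.card F * √(Fintype.card F) := by
    refine le_of_mul_le_mul_left ?_ hn
    calc (U.card : ℝ) * ‖∑ t ∈ univ.erase 0, S t ^ 2 * χ (-c * t)‖
        = ‖∑ t ∈ univ.erase 0, S t ^ 2 * S (-c * t)‖ := by rw [← hE2, norm_mul]; simp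
      _ ≤ ∑ t ∈ univ.erase 0, ‖S t‖ ^ 2 * √(Fintype.card F) := by
          refine norm_sum_le_of_le _ fun t ht => ?_
          rw [norm_mul, norm_pow]
          exact mul_le_mul_of_nonneg_left (hB _ (mul_ne_zero (neg_ne_zero.mpr hc)
            (Finset.ne_of_mem_erase ht))) (by positivity)
      _ ≤ (∑ t, ‖S t‖ ^ 2) * √(Fintype.card F) := by
          rw [Finset.sum_mul]
          exact Finset.sum_le_univ_sum_of_nonneg fun _ => by positivity
      _ = _ := by rw [hP]; ring
  rw [← Finset.add_sum_erase _ _ (Finset.mem_univ 0)] at hE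
  have h0 : S 0 ^ 2 * χ (-c * 0) = (U.card : ℂ) ^ 2 := by simp [S]
  rw [h0] at hE
  have h1 := congrArg norm (eq_sub_of_add_eq hE)
  rw [norm_pow, Complex.norm_natCast] at h1
  rw [h1]
  refine (norm_sub_le _ _).trans (add_le_add (le_of_eq ?_) hE3)
  rw [norm_mul, Complex.norm_natCast, Complex.norm_natCast]

theorem card_pow_eq_one [Fintype F] [DecidableEq F] {n : ℕ} (hn : n ∣ Fintype.card F - 1) :
    (univ.filter fun x : F => x ^ n = 1).card = n := by
  have hn0 : 0 < n := Nat.pos_of_dvd_of_pos hn (by have := Fintype.one_lt_card (α := F); omega)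
  obtain ⟨g, hg⟩ := IsCyclic.exists_ofOrder_eq_natCard (α := Fˣ)
  rw [Nat.card_units, Nat.card_eq_fintype_card] at hg
  have h1 : orderOf (g ^ (orderOf g / n)) = n :=
    orderOf_pow_orderOf_div (orderOf_pos g).ne' (hg ▸ hn)
  have h2 : IsPrimitiveRoot ((g ^ (orderOf g / n) : Fˣ) : F) n :=
    IsPrimitiveRoot.coe_units_iff.mpr (by
      have := IsPrimitiveRoot.orderOf (g ^ (orderOf g / n))
      rwa [h1] at this)
  refine Eq.trans ?_ h2.card_nthRootsFinset
  congr 1
  ext x
  simp [mem_nthRootsFinset hn0]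

theorem geom_sum_eq_div {p : ℕ} (hp : 2 ≤ p) (q : ℕ) :
    (p ^ q - 1) / (p - 1) = ∑ i ∈ range q, p ^ i := (Nat.geomSum_eq hp q).symm

theorem geom_sum_mul_pred {p : ℕ} (hp : 2 ≤ p) (q : ℕ) :
    (∑ i ∈ range q, p ^ i) * (p - 1) = p ^ q - 1 := by
  rw [← geom_sum_eq_div hp, Nat.div_mul_cancel (by simpa using Nat.sub_dvd_pow_sub_pow p 1 q)]

/-- Lemma C.2. -/
theorem lemmaC2 [Fintype F] (p q : ℕ) [hp : Fact p.Prime] [CharP F p] (hp2 : p ≠ 2)
    (hq : q.Prime) (hq2 : q ≠ 2) (hF : Fintype.card F = p ^ q) {n : ℕ}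
    (hn : n = ∑ i ∈ range q, p ^ i) : ∃ a : F, a ≠ 1 ∧ a ^ n = 1 ∧ (2 - a) ^ n = 1 := by
  classical
  by_cases hq3 : q = 3
  · subst hq3
    rw [hn, show ∑ i ∈ range 3, p ^ i = 1 + p + p ^ 2 by simp [Finset.sum_range_succ]]
    exact lemmaC2_three p hp2 hF
  have hq5 : 5 ≤ q := hq.five_le_of_ne_two_of_ne_three hq2 hq3
  have hp3 : 3 ≤ p := by have := hp.out.two_le; omega
  have h2 : (2 : F) ≠ 0 := by
    intro e
    have : ((2 : ℕ) : F) = 0 := by exact_mod_cast e
    rw [CharP.cast_eq_zero_iff F p] at this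
    exact hp2 ((Nat.prime_dvd_prime_iff_eq hp.out Nat.prime_two).mp this)
  obtain ⟨r, rfl⟩ : ∃ r, q = r + 5 := ⟨q - 5, by omega⟩
  have hnge : p ^ (r + 4) ≤ n := by
    rw [hn, Finset.sum_range_succ]; exact Nat.le_add_left _ _
  have hn0 : n ≠ 0 := (lt_of_lt_of_le (pow_pos hp.out.pos _) hnge).ne'
  have hcard : (univ.filter fun x : F => x ^ n = 1).card = n :=
    card_pow_eq_one ⟨p - 1, by rw [hF, hn, geom_sum_mul_pred hp.out.two_le]⟩
  by_contra hne
  push Not at hne
  have h := card_sq_le (univ.filter fun x : F => x ^ n = 1)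
    (fun u hu e => by simp [e, hn0] at hu)
    (fun u hu v hv => by simp only [mem_filter, mem_univ, true_and] at *; rw [mul_pow, hu, hv, mul_one])
    ⟨1, by simp⟩ h2
  have h1 : ((univ.filter fun x : F => x ^ n = 1).filter
      fun u => 2 - u ∈ univ.filter fun x : F => x ^ n = 1).card ≤ 1 := by
    refine Finset.card_le_one.mpr fun a ha b hb => ?_
    simp only [mem_filter, mem_univ, true_and] at ha hb
    by_contra hab
    by_cases ha1 : a = 1
    · exact hne b (fun e => hab (ha1.trans e.symm)) hb.1 hb.2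
    · exact hne a ha1 ha.1 ha.2
  rw [hcard, hF] at h
  have h3 : ((n : ℝ)) ^ 2 ≤ (p : ℝ) ^ (r + 5) * (1 + √((p : ℝ) ^ (r + 5))) := by
    have h1' : (((univ.filter fun x : F => x ^ n = 1).filter
      fun u => 2 - u ∈ univ.filter fun x : F => x ^ n = 1).card : ℝ) ≤ 1 := by exact_mod_cast h1
    push_cast at h
    have : (0 : ℝ) ≤ (p : ℝ) ^ (r + 5) := by positivity
    nlinarith
  have hp3' : (3 : ℝ) ≤ p := by exact_mod_cast hp3
  have h4 : ((p : ℝ) ^ (r + 4)) ^ 2 ≤ (n : ℝ) ^ 2 :=
    pow_le_pow_left₀ (by positivity) (by exact_mod_cast hnge) 2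
  have h5 : (p : ℝ) ^ (r + 3) ≤ 1 + √((p : ℝ) ^ (r + 5)) := by
    refine le_of_mul_le_mul_left ?_ (show (0 : ℝ) < (p : ℝ) ^ (r + 5) by positivity)
    refine le_trans (le_of_eq ?_) (h4.trans h3)
    ring
  have h6 : ((p : ℝ) ^ (r + 3) - 1) ^ 2 ≤ (p : ℝ) ^ (r + 5) := by
    have h7 : (1 : ℝ) ≤ (p : ℝ) ^ (r + 3) := one_le_pow₀ (by linarith)
    exact (Real.le_sqrt (by linarith) (by positivity)).mp (by linarith)
  have h8 : (p : ℝ) ^ 3 ≤ (p : ℝ) ^ (r + 3) := pow_le_pow_right₀ (by linarith) (by omega)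
  rw [show (p : ℝ) ^ (r + 5) = (p : ℝ) ^ (r + 3) * p ^ 2 by ring] at h6
  set x := (p : ℝ) ^ (r + 3)
  have h9 : (p : ℝ) ^ 2 + 2 < p ^ 3 := by nlinarith
  have h10 : 0 < x := by positivity
  nlinarith

end H2.AppC
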