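import Mathlib
import Cfsg.Agent.H2.AppCField

/-! Bender–Glauberman, Appendix C: Lemma C.3 and Theorem C. -/

set_option autoImplicit false

namespace H2.AppC
open Subgroup

variable {G : Type*} [Group G] {F : Type*} [Field F]

/-- The hypotheses of Lemma C.3 in the form in which they are used. -/
structure Ctx (p : ℕ) (P U Q : Subgroup G) (f ψ : G → F) (s y : G) : Prop where
  inj : Set.InjOn f (P : Set G)
  surj : ∀ z : F, ∃ x ∈ P, f x = z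
  add : ∀ x ∈ P, ∀ z ∈ P, f (x * z) = f x + f z
  conj_mem : ∀ u ∈ U, ∀ x ∈ P, u * x * u⁻¹ ∈ P
  psi_ne : ∀ u ∈ U, ψ u ≠ 0
  psi_conj : ∀ u ∈ U, ∀ x ∈ P, f (u * x * u⁻¹) = ψ u * f x
  psi_mul : ∀ u ∈ U, ∀ v ∈ U, ψ (u * v) = ψ u * ψ v
  psi_inj : Set.InjOn ψ (U : Set G)
  decomp : ∀ z : F, z ≠ 0 → ∃ u ∈ U, ∃ k : ℕ, z = ψ u * k
  pred : ∀ u ∈ U, u ^ (p - 1) = 1 → u = 1
  ne_bot : U ≠ ⊥
  s_mem : s ∈ P
  f_s : f s = 1
  comm : ∀ a ∈ Q, ∀ b ∈ Q, a * b = b * a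
  pQ : ∀ a ∈ Q, a ^ p = 1 → a = 1
  sQ : s ∈ normalizer (Q : Set G)
  yQ : y ∈ Q
  tU : y⁻¹ * s * y ∈ normalizer (U : Set G)

namespace Ctx

variable {p : ℕ} {P U Q : Subgroup G} {f ψ : G → F} {s y : G} (c : Ctx p P U Q f ψ s y)
include c

theorem f_one : f 1 = 0 := by
  have := c.add 1 P.one_mem 1 P.one_mem
  rw [mul_one] at this
  exact left_eq_add.mp this

theorem f_inv {x : G} (hx : x ∈ P) : f x⁻¹ = -f x := by
  have := c.add x hx x⁻¹ (inv_mem hx)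
  rw [mul_inv_cancel, c.f_one] at this
  exact (neg_eq_of_add_eq_zero_right this.symm).symm

theorem f_pow {x : G} (hx : x ∈ P) (k : ℕ) : f (x ^ k) = k * f x := by
  induction k with
  | zero => simp [c.f_one]
  | succ k ih => rw [pow_succ, c.add _ (pow_mem hx k) _ hx, ih]; push_cast; ring

theorem f_zpow {x : G} (hx : x ∈ P) (k : ℤ) : f (x ^ k) = k * f x := by
  obtain ⟨k, rfl | rfl⟩ := k.eq_nat_or_neg
  · simp [c.f_pow hx]
  · simp [c.f_inv (pow_mem hx k), c.f_pow hx]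

theorem f_s_zpow (k : ℤ) : f (s ^ k) = k := by rw [c.f_zpow c.s_mem, c.f_s, mul_one]

theorem eq_one_of_f {x : G} (hx : x ∈ P) (h : f x = 0) : x = 1 :=
  c.inj hx P.one_mem (h.trans c.f_one.symm)

theorem s_zpow_eq_one {k : ℤ} : s ^ k = 1 ↔ (k : F) = 0 :=
  ⟨fun h => by rw [← c.f_s_zpow, h, c.f_one],
    fun h => c.eq_one_of_f (zpow_mem c.s_mem k) (by rw [c.f_s_zpow, h])⟩

theorem psi_one : ψ 1 = 1 := by
  simpa [c.f_s] using (c.psi_conj 1 U.one_mem s c.s_mem).symm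

theorem psi_pow {u : G} (hu : u ∈ U) (k : ℕ) : ψ (u ^ k) = ψ u ^ k := by
  induction k with
  | zero => simp [c.psi_one]
  | succ k ih => rw [pow_succ, c.psi_mul _ (pow_mem hu k) _ hu, ih, pow_succ]

theorem psi_inv {u : G} (hu : u ∈ U) : ψ u⁻¹ = (ψ u)⁻¹ := by
  have := c.psi_mul u hu u⁻¹ (inv_mem hu)
  rw [mul_inv_cancel, c.psi_one] at this
  exact eq_inv_of_mul_eq_one_right this.symm

theorem commU {u v : G} (hu : u ∈ U) (hv : v ∈ U) : u * v = v * u :=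
  c.psi_inj (mul_mem hu hv) (mul_mem hv hu) (by
    rw [c.psi_mul u hu v hv, c.psi_mul v hv u hu, mul_comm])

theorem commP {u v : G} (hu : u ∈ P) (hv : v ∈ P) : u * v = v * u :=
  c.inj (mul_mem hu hv) (mul_mem hv hu) (by rw [c.add u hu v hv, c.add v hv u hu, add_comm])

theorem eq_one_of_mem {x : G} (hP : x ∈ P) (hU : x ∈ U) : x = 1 := by
  have h := c.psi_conj x hU s c.s_mem
  rw [c.commP hP c.s_mem, mul_inv_cancel_right, c.f_s, mul_one] at h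
  exact c.psi_inj hU U.one_mem (h.symm.trans c.psi_one.symm)

theorem mul_eq_iff {x x' u u' : G} (hx : x ∈ P) (hx' : x' ∈ P) (hu : u ∈ U) (hu' : u' ∈ U) :
    x * u = x' * u' ↔ f x = f x' ∧ u = u' := by
  constructor
  · intro h
    have h1 : x'⁻¹ * x = u' * u⁻¹ := by
      rw [inv_mul_eq_iff_eq_mul, ← mul_assoc, ← h, mul_inv_cancel_right]
    have h2 := c.eq_one_of_mem (mul_mem (inv_mem hx') hx) (h1 ▸ mul_mem hu' (inv_mem hu))
    rw [h2] at h1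
    rw [inv_mul_eq_one] at h2
    exact ⟨by rw [h2], (mul_inv_eq_one.mp h1.symm).symm⟩
  · rintro ⟨h1, rfl⟩
    rw [c.inj hx hx' h1]

theorem sus_eq_iff {i j n : ℤ} {w u v : G} (hw : w ∈ U) (hu : u ∈ U) (hv : v ∈ U) :
    s ^ i * w * s ^ j = u * s ^ n * v ↔ (i : F) + ψ w * j = ψ u * n ∧ w = u * v := by
  have hs := fun k : ℤ => zpow_mem c.s_mem k
  rw [show s ^ i * w * s ^ j = (s ^ i * (w * s ^ j * w⁻¹)) * w by group,
    show u * s ^ n * v = (u * s ^ n * u⁻¹) * (u * v) by group,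
    c.mul_eq_iff (mul_mem (hs i) (c.conj_mem w hw _ (hs j))) (c.conj_mem u hu _ (hs n)) hw
      (mul_mem hu hv), c.add _ (hs i) _ (c.conj_mem w hw _ (hs j)), c.psi_conj w hw _ (hs j),
    c.psi_conj u hu _ (hs n), c.f_s_zpow, c.f_s_zpow, c.f_s_zpow]

variable [hp : Fact p.Prime] [CharP F p]

/-- Step 1, together with its image under the Frobenius map. -/
theorem step1 (i j : ℤ) {w : G} (hw : w ∈ U) : ∃ u ∈ U, ∃ v ∈ U, ∃ n : ℤ,
    s ^ i * w * s ^ j = u * s ^ n * v ∧ s ^ i * w ^ p * s ^ j = u ^ p * s ^ n * v ^ p := by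
  obtain ⟨u, hu, n, hn⟩ : ∃ u ∈ U, ∃ n : ℤ, (i : F) + ψ w * j = ψ u * n := by
    by_cases h : (i : F) + ψ w * j = 0
    · exact ⟨1, U.one_mem, 0, by simp [h]⟩
    · obtain ⟨u, hu, k, hk⟩ := c.decomp _ h
      exact ⟨u, hu, k, by simpa using hk⟩
  have hv := mul_mem (inv_mem hu) hw
  refine ⟨u, hu, u⁻¹ * w, hv, n, (c.sus_eq_iff hw hu hv).mpr ⟨hn, by group⟩,
    (c.sus_eq_iff (pow_mem hw p) (pow_mem hu p) (pow_mem hv p)).mpr ⟨?_, ?_⟩⟩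
  · have := congrArg (frobenius F p) hn
    simpa only [map_add, map_mul, map_intCast, frobenius_def, ← c.psi_pow hw, ← c.psi_pow hu]
      using this
  · rw [← Commute.mul_pow (c.commU hu hv)]; group

/-- Step 2. -/
theorem step2 {i j : ℤ} {u : G} (hu : u ∈ U) (h : s ^ i * u * s ^ j ∈ U) :
    ((i : F) = 0 ∧ (j : F) = 0) ∨ (u = 1 ∧ (i : F) + j = 0) := by
  have h1 := ((c.sus_eq_iff (i := i) (j := j) (n := 0) hu U.one_mem h).mp (by group)).1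
  rw [Int.cast_zero, mul_zero] at h1
  by_cases hj : (j : F) = 0
  · exact Or.inl ⟨by simpa [hj] using h1, hj⟩
  have h2 : ψ u = -i / j := by field_simp; linear_combination h1
  have h3 : u = 1 := by
    refine c.pred u hu (c.psi_inj (pow_mem hu _) U.one_mem ?_)
    rw [c.psi_pow hu, c.psi_one]
    refine mul_right_cancel₀ (c.psi_ne u hu) ?_
    rw [← pow_succ, Nat.sub_add_cancel hp.out.one_le, one_mul, h2, ← frobenius_def, map_div₀,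
      map_neg, map_intCast, map_intCast]
  exact Or.inr ⟨h3, by simpa [h3, c.psi_one] using h1⟩

omit hp in
theorem pow_p_P {x : G} (hx : x ∈ P) : x ^ p = 1 :=
  c.eq_one_of_f (pow_mem hx p) (by rw [c.f_pow hx, CharP.cast_eq_zero, zero_mul])

theorem eq_one_of_pow_p {u : G} (hu : u ∈ U) (h : u ^ p = 1) : u = 1 := by
  refine c.psi_inj hu U.one_mem (frobenius_inj F p ?_)
  rw [frobenius_def, frobenius_def, ← c.psi_pow hu, h, c.psi_one, one_pow]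

omit hp [CharP F p] in
theorem U_le_norm : U ≤ normalizer (P : Set G) := fun u hu =>
  mem_normalizer_iff.mpr fun x => ⟨c.conj_mem u hu x, fun h => by
    simpa [mul_assoc] using c.conj_mem u⁻¹ (inv_mem hu) _ h⟩

omit c hp [CharP F p] in
theorem mul_pow_mem {x g : G} (hx : x ∈ P) (hg : g ∈ normalizer (P : Set G)) (k : ℕ) :
    (x * g) ^ k * (g ^ k)⁻¹ ∈ P := by
  induction k with
  | zero => simp
  | succ k ih =>
    rw [show (x * g) ^ (k + 1) * (g ^ (k + 1))⁻¹ =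
      x * (g * ((x * g) ^ k * (g ^ k)⁻¹) * g⁻¹) by rw [pow_succ', pow_succ]; group]
    exact mul_mem hx ((mem_normalizer_iff.mp hg _).mp ih)

theorem exists_mul_eq_one {j : ℤ} (hj : (j : F) ≠ 0) : ∃ m : ℤ, s ^ (j * m) = s := by
  obtain ⟨k, hk⟩ := exists_natCast_of_pow_eq p (x := (j : F)⁻¹)
    (by rw [inv_pow, intCast_pow_char])
  refine ⟨k, c.inj (zpow_mem c.s_mem _) c.s_mem ?_⟩
  rw [c.f_s_zpow, c.f_s]
  push_cast
  rw [hk, mul_inv_cancel₀ hj]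

/-- Step 3. -/
theorem step3 [Finite G] {j : ℤ} (hj : (j : F) ≠ 0) {h : G} (hh : h ∈ P ⊔ U)
    (hh' : (y⁻¹ * s * y) ^ j * h * ((y⁻¹ * s * y) ^ j)⁻¹ ∈ P ⊔ U) : h ∈ U := by
  set t := y⁻¹ * s * y with ht
  have hmem : ∀ g : G, g ∈ P ⊔ U ↔ ∃ x ∈ P, ∃ u ∈ U, g = x * u := fun g => by
    rw [← SetLike.mem_coe, coe_mul_of_right_le_normalizer_left P U c.U_le_norm]
    exact ⟨fun ⟨x, hx, u, hu, e⟩ => ⟨x, hx, u, hu, e.symm⟩,
      fun ⟨x, hx, u, hu, e⟩ => ⟨x, hx, u, hu, e.symm⟩⟩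
  have htU : ∀ u ∈ U, t ^ j * u * (t ^ j)⁻¹ ∈ P ⊔ U := fun u hu =>
    mem_sup_right ((mem_normalizer_iff.mp (zpow_mem c.tU j) u).mp hu)
  obtain ⟨x, hx, u, hu, rfl⟩ := (hmem h).mp hh
  by_cases hx1 : x = 1
  · simpa [hx1] using hu
  exfalso
  have h1 : t ^ j * x * (t ^ j)⁻¹ ∈ P ⊔ U := by
    have := mul_mem hh' (inv_mem (htU u hu))
    rwa [show t ^ j * (x * u) * (t ^ j)⁻¹ * (t ^ j * u * (t ^ j)⁻¹)⁻¹ = t ^ j * x * (t ^ j)⁻¹ by
      group] at this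
  have hfx : f x ≠ 0 := fun e => hx1 (c.eq_one_of_f hx e)
  have h2 : ∀ z ∈ P, t ^ j * z * (t ^ j)⁻¹ ∈ P := fun z hz => by
    have h3 : t ^ j * z * (t ^ j)⁻¹ ∈ P ⊔ U := by
      by_cases hz1 : f z = 0
      · simp [c.eq_one_of_f hz hz1]
      obtain ⟨v, hv, k, hk⟩ := c.decomp (f z / f x) (div_ne_zero hz1 hfx)
      have : z = v * x ^ k * v⁻¹ := c.inj hz (c.conj_mem v hv _ (pow_mem hx k)) (by
        rw [c.psi_conj v hv _ (pow_mem hx k), c.f_pow hx, ← mul_assoc, ← hk,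
          div_mul_cancel₀ _ hfx])
      have h4 := mul_mem (mul_mem (htU v hv) (pow_mem h1 k)) (inv_mem (htU v hv))
      rw [conj_pow] at h4
      rw [this]
      convert h4 using 1
      group
    obtain ⟨x', hx', u', hu', e⟩ := (hmem _).mp h3
    have h5 := mul_pow_mem hx' (c.U_le_norm hu') p
    rw [← e, conj_pow, c.pow_p_P hz, mul_one, mul_inv_cancel, one_mul] at h5
    have h6 := c.eq_one_of_pow_p hu' (inv_eq_one.mp (c.eq_one_of_mem h5 (inv_mem (pow_mem hu' p))))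
    rw [e, h6, mul_one]
    exact hx'
  have h3 : t ∈ normalizer (P : Set G) := by
    obtain ⟨m, hm⟩ := c.exists_mul_eq_one hj
    have : (t ^ j) ^ m = t := by
      rw [← zpow_mul, ht, show y⁻¹ * s * y = y⁻¹ * s * y⁻¹⁻¹ by rw [inv_inv], conj_zpow, hm]
    rw [← this]
    exact zpow_mem (mem_normalizer_fintype h2) m
  have h4 : s⁻¹ * t ∈ Q := by
    rw [ht, show s⁻¹ * (y⁻¹ * s * y) = (s⁻¹ * y⁻¹ * s⁻¹⁻¹) * y by group]
    exact mul_mem ((mem_normalizer_iff.mp (inv_mem c.sQ) _).mp (inv_mem c.yQ)) c.yQ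
  have h5 := mul_pow_mem (inv_mem c.s_mem) h3 p
  rw [show t ^ p = 1 by
    rw [ht, show y⁻¹ * s * y = y⁻¹ * s * y⁻¹⁻¹ by rw [inv_inv], conj_pow, c.pow_p_P c.s_mem]
    group, inv_one, mul_one] at h5
  have h6 := inv_mul_eq_one.mp (c.pQ _ h4 (c.pQ _ (pow_mem h4 p) (c.pow_p_P h5)))
  obtain ⟨⟨v, hv⟩, hv1⟩ := ne_bot_iff_exists_ne_one.mp c.ne_bot
  have h7 := (mem_normalizer_iff.mp c.tU v).mp hv
  rw [← ht, ← h6] at h7
  rcases c.step2 (i := 1) (j := -1) hv (by simpa using h7) with h8 | h8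
  · simp at h8
  · exact hv1 (Subtype.ext h8.1)

omit hp [CharP F p] in
theorem st_comm (i j : ℤ) : (y⁻¹ * s * y) ^ (-i) * s ^ (i - j) * (y⁻¹ * s * y) ^ j =
    s ^ (-j) * (y⁻¹ * s * y) ^ (j - i) * s ^ i := by
  have hq : ∀ k : ℤ, s ^ (-k) * (y⁻¹ * s * y) ^ k ∈ Q := fun k => by
    rw [show y⁻¹ * s * y = y⁻¹ * s * y⁻¹⁻¹ by rw [inv_inv], conj_zpow,
      show s ^ (-k) * (y⁻¹ * s ^ k * y⁻¹⁻¹) = (s ^ (-k) * y⁻¹ * (s ^ (-k))⁻¹) * y by group]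
    exact mul_mem ((mem_normalizer_iff.mp (zpow_mem c.sQ _) _).mp (inv_mem c.yQ)) c.yQ
  have := c.comm _ (inv_mem (hq i)) _ (hq j)
  generalize y⁻¹ * s * y = t at this ⊢
  calc _ = (s ^ (-i) * t ^ i)⁻¹ * (s ^ (-j) * t ^ j) := by group
    _ = _ := by rw [this]; group

omit hp [CharP F p] in
theorem eqC5 {t a b u1 v1 u2 v2 u3 v3 s1 s2 s3 : G} (ht : t = y⁻¹ * s * y)
    (hab : a * s * a⁻¹ * (b * s * b⁻¹) = s ^ 2)
    (h1 : s ^ (1 : ℤ) * (t ^ (-3 : ℤ) * a * (t ^ (-3 : ℤ))⁻¹) * s ^ (-2 : ℤ) = u1 * s1 * v1)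
    (h2 : s ^ (3 : ℤ) * (t ^ (-2 : ℤ) * (a⁻¹ * b) * (t ^ (-2 : ℤ))⁻¹) * s ^ (-1 : ℤ) = u2 * s2 * v2)
    (h3 : s ^ (2 : ℤ) * (t ^ (-1 : ℤ) * b⁻¹ * (t ^ (-1 : ℤ))⁻¹) * s ^ (-3 : ℤ) = u3 * s3 * v3) :
    t ^ (2 : ℤ) * s1 * (v1 * (t ^ (-1 : ℤ) * u2 * (t ^ (-1 : ℤ))⁻¹)) * t⁻¹ * s2 * t⁻¹ *
      ((t ^ (1 : ℤ) * v2 * (t ^ (1 : ℤ))⁻¹) * u3) * s3 *
      (v3 * (t ^ (2 : ℤ) * u1 * (t ^ (2 : ℤ))⁻¹)) = 1 := by
  have r1 := c.st_comm 3 2
  have r2 := c.st_comm 2 1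
  have r3 := c.st_comm 1 3
  rw [← ht] at r1 r2 r3
  have hE : t ^ (2 : ℤ) * (u1 * s1 * v1) * t⁻¹ * (u2 * s2 * v2) * t⁻¹ * (u3 * s3 * v3) = 1 := by
    rw [← h1, ← h2, ← h3]
    calc _ = t ^ (2 : ℤ) * s * t ^ (-3 : ℤ) * a * t ^ (3 : ℤ) *
          (s ^ (-2 : ℤ) * t ^ (2 - 3 : ℤ) * s ^ (3 : ℤ)) * t ^ (-2 : ℤ) * a⁻¹ * b * t ^ (2 : ℤ) *
          (s ^ (-1 : ℤ) * t ^ (1 - 2 : ℤ) * s ^ (2 : ℤ)) * t⁻¹ * b⁻¹ * t * s ^ (-3 : ℤ) := by group
      _ = t ^ (2 : ℤ) * s * t ^ (-3 : ℤ) * (a * s * a⁻¹ * (b * s * b⁻¹)) * t * s ^ (-3 : ℤ) := by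
          rw [← r1, ← r2]; group
      _ = s ^ (3 : ℤ) * (s ^ (-3 : ℤ) * t ^ (3 - 1 : ℤ) * s ^ (1 : ℤ)) * t ^ (-3 : ℤ) * s ^ 2 * t *
          s ^ (-3 : ℤ) := by rw [hab]; group
      _ = 1 := by rw [← r3]; group
  calc _ = (t ^ (2 : ℤ) * u1⁻¹ * (t ^ (2 : ℤ))⁻¹) * (t ^ (2 : ℤ) * (u1 * s1 * v1) * t⁻¹ *
        (u2 * s2 * v2) * t⁻¹ * (u3 * s3 * v3)) * (t ^ (2 : ℤ) * u1 * (t ^ (2 : ℤ))⁻¹) := by group
    _ = 1 := by rw [hE]; group

omit hp in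
theorem eqC10 {t : G} (ht : t = y⁻¹ * s * y) {n1 n2 n3 : ℤ}
    (h : t ^ (2 : ℤ) * s ^ n1 * t⁻¹ * s ^ n2 * t⁻¹ * s ^ n3 = 1) :
    s ^ (1 + n1) * t ^ (-n1) = t ^ (n1 + n2) * s ^ (1 - (n1 + n2)) := by
  let _ : CommGroup Q := { (inferInstance : Group Q) with
    mul_comm := fun a b => Subtype.ext (c.comm a a.2 b b.2) }
  let σ : MulAut Q := Q.normalizerMonoidHom ⟨s, c.sQ⟩
  have hσ : ∀ (j : ℤ) (x : Q), ((σ ^ j) x : G) = s ^ j * x * (s ^ j)⁻¹ := fun j x => by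
    simp only [σ]
    rw [← map_zpow]
    rfl
  let Y : ℤ → Q := fun j => (σ ^ j) ⟨y, c.yQ⟩
  have hY : ∀ j, (Y j : G) = s ^ j * y * (s ^ j)⁻¹ := fun j => hσ j _
  have hσY : ∀ j, σ (Y j) = Y (j + 1) := fun j => by
    simp only [Y]
    rw [add_comm, zpow_add, zpow_one, MulAut.mul_apply]
  have htz : ∀ j : ℤ, t ^ j = y⁻¹ * s ^ j * y := fun j => by
    rw [ht, show y⁻¹ * s * y = y⁻¹ * s * y⁻¹⁻¹ by rw [inv_inv], conj_zpow, inv_inv]
  have h1 : (((Y 0)⁻¹ * Y 2 * (Y (2 + n1))⁻¹ * Y (1 + n1) * (Y (1 + n1 + n2))⁻¹ * Y (n1 + n2) : Q) :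
      G) * s ^ (n1 + n2 + n3) = 1 := by
    rw [← h, htz, ht]
    simp only [coe_mul, coe_inv, hY]
    group
  have h2 : s ^ (n1 + n2 + n3) = 1 := by
    refine c.pQ _ ?_ (c.pow_p_P (zpow_mem c.s_mem _))
    rw [← inv_eq_of_mul_eq_one_right h1]
    exact inv_mem (Subtype.prop _)
  rw [h2, mul_one, OneMemClass.coe_eq_one] at h1
  have hσp : σ ^ p = 1 := by
    simp only [σ]
    rw [← map_pow, show (⟨s, c.sQ⟩ : normalizer (Q : Set G)) ^ p = 1 from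
      Subtype.ext (c.pow_p_P c.s_mem), map_one]
  let ν : Q →* Q := ∏ i ∈ Finset.range p, ((σ ^ i : MulAut Q) : Q →* Q)
  have hν : ∀ x, ν x = ∏ i ∈ Finset.range p, (σ ^ i) x := fun x => by
    simp [ν, MonoidHom.finsetProd_apply]
  have hνσ : ∀ x, ν (σ x) = ν x := fun x => by
    have e1 := Finset.prod_range_succ (fun i => (σ ^ i) x) p
    rw [Finset.prod_range_succ', hσp, pow_zero] at e1
    rw [hν, hν, ← mul_right_cancel e1]
    rfl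
  have hνY : ∀ j, ν (Y j) = ν (Y 0) := fun j => by
    induction j using Int.induction_on with
    | zero => rfl
    | succ k ih => rw [← hσY, hνσ, ih]
    | pred k ih => rw [← hνσ, hσY, ← ih]; congr 2; ring
  let z : Q := Y 1 * Y 0 * (Y (1 + n1))⁻¹ * (Y (n1 + n2))⁻¹
  have hz : σ z = z := by
    simp only [z, map_mul, map_inv, hσY]
    rw [← mul_inv_eq_one, ← h1, show (1 : ℤ) + 1 = 2 by ring, zero_add,
      show 1 + n1 + 1 = 2 + n1 by ring, show n1 + n2 + 1 = 1 + n1 + n2 by ring]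
    apply Additive.ofMul.injective
    simp only [ofMul_mul, ofMul_inv]
    abel
  have hz1 : z = 1 := by
    have e1 : ν z = 1 := by
      simp only [z, map_mul, map_inv, hνY]
      group
    have e2 : ∀ i : ℕ, (σ ^ i) z = z := fun i => by
      induction i with
      | zero => rfl
      | succ i ih => rw [pow_succ, MulAut.mul_apply, hz, ih]
    rw [hν, Finset.prod_congr rfl fun i _ => e2 i, Finset.prod_const, Finset.card_range] at e1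
    exact Subtype.ext (c.pQ z z.2 (congrArg Subtype.val e1))
  have h3 : (Y (1 + n1))⁻¹ * Y 1 = (Y 0)⁻¹ * Y (n1 + n2) := by
    rw [← mul_inv_eq_one, ← hz1]
    apply Additive.ofMul.injective
    simp only [z, ofMul_mul, ofMul_inv]
    abel
  have h4 := congrArg Subtype.val h3
  simp only [coe_mul, coe_inv, hY] at h4
  rw [htz, htz]
  calc _ = (s ^ (1 + n1) * y * (s ^ (1 + n1))⁻¹)⁻¹ * (s ^ (1 : ℤ) * y * (s ^ (1 : ℤ))⁻¹) * s := by
        group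
    _ = _ := by rw [h4]; group

omit [CharP F p] in
theorem eq_one_of_pow_eq {w : G} (hw : w ∈ U) (h : w ^ p = w) : w = 1 := by
  refine c.pred w hw (mul_right_cancel (b := w) ?_)
  rw [← pow_succ, Nat.sub_add_cancel hp.out.one_le, h, one_mul]

omit hp [CharP F p] in
theorem conj_eq_sq {a b : G} (ha : a ∈ U) (hb : b ∈ U) (hab : ψ a + ψ b = 2) :
    a * s * a⁻¹ * (b * s * b⁻¹) = s ^ 2 := by
  have h1 := c.conj_mem a ha s c.s_mem
  have h2 := c.conj_mem b hb s c.s_mem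
  refine c.inj (mul_mem h1 h2) (pow_mem c.s_mem 2) ?_
  rw [c.add _ h1 _ h2, c.psi_conj a ha s c.s_mem, c.psi_conj b hb s c.s_mem, c.f_pow c.s_mem,
    c.f_s, mul_one, mul_one, hab]
  norm_num

/-- Step 4. -/
theorem step4 [Finite G] (hp2 : p ≠ 2) {t a b : G} (ht : t = y⁻¹ * s * y) (ha : a ∈ U) (hb : b ∈ U)
    (hab : ψ a + ψ b = 2) : ∃ b' ∈ U, ψ (t ^ (-3 : ℤ) * a⁻¹ * (t ^ (-3 : ℤ))⁻¹) + ψ b' = 2 := by
  have h2 : (2 : F) ≠ 0 := by
    intro e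
    have : ((2 : ℕ) : F) = 0 := by exact_mod_cast e
    rw [CharP.cast_eq_zero_iff F p] at this
    exact hp2 ((Nat.prime_dvd_prime_iff_eq hp.out Nat.prime_two).mp this)
  have htU : ∀ (j : ℤ), ∀ u ∈ U, t ^ j * u * (t ^ j)⁻¹ ∈ U := fun j u hu =>
    (mem_normalizer_iff.mp (zpow_mem (ht ▸ c.tU) j) u).mp hu
  have hA := htU (-3) a ha
  have hB := htU (-2) _ (mul_mem (inv_mem ha) hb)
  have hC := htU (-1) _ (inv_mem hb)
  obtain ⟨u1, hu1, v1, hv1, n1, e1, e1'⟩ := c.step1 1 (-2) hA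
  obtain ⟨u2, hu2, v2, hv2, n2, e2, e2'⟩ := c.step1 3 (-1) hB
  obtain ⟨u3, hu3, v3, hv3, n3, e3, e3'⟩ := c.step1 2 (-3) hC
  have hn1 : (n1 : F) ≠ 0 := fun h => by
    rw [c.s_zpow_eq_one.mpr h, mul_one] at e1
    rcases c.step2 hA (e1 ▸ mul_mem hu1 hv1) with h | h
    · simp at h
    · have := h.2; norm_num at this
  have hn3 : (n3 : F) ≠ 0 := fun h => by
    rw [c.s_zpow_eq_one.mpr h, mul_one] at e3
    rcases c.step2 hC (e3 ▸ mul_mem hu3 hv3) with h | h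
    · exact h2 (by simpa using h.1)
    · have := h.2; norm_num at this
  have k1 := c.eqC5 ht (c.conj_eq_sq ha hb hab) e1 e2 e3
  rw [conj_pow] at e1' e2' e3'
  rw [(Commute.mul_pow (c.commU (inv_mem ha) hb)), inv_pow] at e2'
  rw [inv_pow] at e3'
  have k2 := c.eqC5 ht (c.conj_eq_sq (pow_mem ha p) (pow_mem hb p) (by
    rw [c.psi_pow ha, c.psi_pow hb, ← add_pow_char, hab]
    simpa using natCast_pow_char (F := F) p 2)) e1' e2' e3'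
  rw [← conj_pow, ← conj_pow, ← conj_pow, ← Commute.mul_pow (c.commU hv1 (htU _ _ hu2)),
    ← Commute.mul_pow (c.commU (htU _ _ hv2) hu3),
    ← Commute.mul_pow (c.commU hv3 (htU _ _ hu1))] at k2
  have hw3 := mul_mem hv1 (htU (-1) _ hu2)
  have hw1 := mul_mem (htU 1 _ hv2) hu3
  have hw2 := mul_mem hv3 (htU 2 _ hu1)
  generalize v1 * (t ^ (-1 : ℤ) * u2 * (t ^ (-1 : ℤ))⁻¹) = w3 at k1 k2 hw3
  generalize (t ^ (1 : ℤ) * v2 * (t ^ (1 : ℤ))⁻¹) * u3 = w1 at k1 k2 hw1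
  generalize v3 * (t ^ (2 : ℤ) * u1 * (t ^ (2 : ℤ))⁻¹) = w2 at k1 k2 hw2
  have hs : ∀ k : ℤ, s ^ k ∈ P ⊔ U := fun k => mem_sup_left (zpow_mem c.s_mem k)
  have hU : ∀ u ∈ U, u ∈ P ⊔ U := fun u hu => mem_sup_right hu
  have k3 : t ^ (2 : ℤ) * (s ^ n1 * (w3 ^ p * w3⁻¹) * s ^ (-n1)) * (t ^ (2 : ℤ))⁻¹ =
      (w1 ^ p * s ^ n3 * w2 ^ p)⁻¹ * (w1 * s ^ n3 * w2) := by
    calc _ = (t ^ (2 : ℤ) * s ^ n1 * w3 ^ p * t⁻¹ * s ^ n2 * t⁻¹ * w1 ^ p * s ^ n3 * w2 ^ p) *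
          (w1 ^ p * s ^ n3 * w2 ^ p)⁻¹ * (w1 * s ^ n3 * w2) *
          (t ^ (2 : ℤ) * s ^ n1 * w3 * t⁻¹ * s ^ n2 * t⁻¹ * w1 * s ^ n3 * w2)⁻¹ := by group
      _ = _ := by rw [k1, k2]; group
  have k4 : s ^ n1 * (w3 ^ p * w3⁻¹) * s ^ (-n1) ∈ U := by
    refine c.step3 (j := 2) (by simpa using h2) (mul_mem (mul_mem (hs _)
      (hU _ (mul_mem (pow_mem hw3 p) (inv_mem hw3)))) (hs _)) ?_
    rw [← ht, k3]
    exact mul_mem (inv_mem (mul_mem (mul_mem (hU _ (pow_mem hw1 p)) (hs _)) (hU _ (pow_mem hw2 p))))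
      (mul_mem (mul_mem (hU _ hw1) (hs _)) (hU _ hw2))
  have k5 : w3 = 1 := by
    rcases c.step2 (mul_mem (pow_mem hw3 p) (inv_mem hw3)) k4 with h | h
    · exact absurd h.1 hn1
    · exact c.eq_one_of_pow_eq hw3 (mul_inv_eq_one.mp h.1)
  subst k5
  have k6 : s ^ (-n3) * (w1⁻¹ * w1 ^ p) * s ^ n3 = w2 * (w2 ^ p)⁻¹ := by
    calc _ = w2 * ((w1 ^ p * s ^ n3 * w2 ^ p)⁻¹ * (w1 * s ^ n3 * w2))⁻¹ * (w2 ^ p)⁻¹ := by group
      _ = _ := by rw [← k3]; group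
  have k7 : w1⁻¹ * w1 ^ p = 1 := by
    rcases c.step2 (mul_mem (inv_mem hw1) (pow_mem hw1 p))
      (k6 ▸ mul_mem hw2 (inv_mem (pow_mem hw2 p))) with h | h
    · exact absurd h.2 hn3
    · exact h.1
  rw [k7] at k6
  have k8 := c.eq_one_of_pow_eq hw1 (inv_mul_eq_one.mp k7).symm
  have k9 := c.eq_one_of_pow_eq hw2 (mul_inv_eq_one.mp (k6.symm.trans (by group))).symm
  subst k8 k9
  have k10 := c.eqC10 ht (n1 := n1) (n2 := n2) (n3 := n3) (by simpa using k1)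
  obtain ⟨⟨v, hv⟩, hv1'⟩ := ne_bot_iff_exists_ne_one.mp c.ne_bot
  have k11 : s ^ (-(1 + n1)) * v * s ^ (1 + n1) ∈ U := by
    refine c.step3 hn1 (mul_mem (mul_mem (hs _) (hU _ hv)) (hs _)) ?_
    rw [← ht, show t ^ n1 * (s ^ (-(1 + n1)) * v * s ^ (1 + n1)) * (t ^ n1)⁻¹ =
      (s ^ (1 + n1) * t ^ (-n1))⁻¹ * v * (s ^ (1 + n1) * t ^ (-n1)) by group, k10,
      show (t ^ (n1 + n2) * s ^ (1 - (n1 + n2)))⁻¹ * v * (t ^ (n1 + n2) * s ^ (1 - (n1 + n2))) =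
        s ^ (n1 + n2 - 1) * (t ^ (-(n1 + n2)) * v * (t ^ (-(n1 + n2)))⁻¹) * s ^ (1 - (n1 + n2)) by
        group]
    exact mul_mem (mul_mem (hs _) (hU _ (htU _ _ hv))) (hs _)
  have k12 : (n1 : F) = -1 := by
    rcases c.step2 hv k11 with h | h
    · have := h.2
      push_cast at this
      linear_combination this
    · exact absurd (Subtype.ext h.1) hv1'
  obtain ⟨k13, k14⟩ := (c.sus_eq_iff hA hu1 hv1).mp e1
  refine ⟨v1⁻¹, inv_mem hv1, ?_⟩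
  rw [show t ^ (-3 : ℤ) * a⁻¹ * (t ^ (-3 : ℤ))⁻¹ = (t ^ (-3 : ℤ) * a * (t ^ (-3 : ℤ))⁻¹)⁻¹ by group,
    c.psi_inv hA, c.psi_inv hv1]
  rw [k14, c.psi_mul _ hu1 _ hv1] at k13 ⊢
  rw [k12] at k13
  have := c.psi_ne _ hu1
  have := c.psi_ne _ hv1
  field_simp
  push_cast at k13
  linear_combination k13

/-- Lemma C.3. -/
theorem lemmaC3 [Finite G] (hp2 : p ≠ 2) {a b : G} (ha : a ∈ U) (hb : b ∈ U)
    (hab : ψ a + ψ b = 2) : ∃ b' ∈ U, ψ a⁻¹ + ψ b' = 2 := by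
  obtain ⟨t, ht⟩ : ∃ t, t = y⁻¹ * s * y := ⟨_, rfl⟩
  have htU : ∀ (j : ℤ), ∀ u ∈ U, t ^ j * u * (t ^ j)⁻¹ ∈ U := fun j u hu =>
    (mem_normalizer_iff.mp (zpow_mem (ht ▸ c.tU) j) u).mp hu
  have key : ∀ k : ℕ, ∃ b' ∈ U,
      ψ (t ^ (-3 * k : ℤ) * a ^ ((-1) ^ k : ℤ) * (t ^ (-3 * k : ℤ))⁻¹) + ψ b' = 2 := by
    intro k
    induction k with
    | zero => exact ⟨b, hb, by simpa using hab⟩
    | succ k ih =>
      obtain ⟨b', hb', e⟩ := ih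
      obtain ⟨b'', hb'', e'⟩ := c.step4 hp2 ht (htU _ _ (zpow_mem ha _)) hb' e
      refine ⟨b'', hb'', Eq.trans ?_ e'⟩
      congr 2
      push_cast
      rw [pow_succ, mul_neg_one]
      group
  obtain ⟨b', hb', e⟩ := key p
  refine ⟨b', hb', Eq.trans ?_ e⟩
  have htp : t ^ (p : ℤ) = 1 := by
    rw [zpow_natCast, ht, show y⁻¹ * s * y = y⁻¹ * s * y⁻¹⁻¹ by rw [inv_inv], conj_pow,
      c.pow_p_P c.s_mem]
    group
  rw [mul_comm, zpow_mul, htp, (hp.out.odd_of_ne_two hp2).neg_one_pow]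
  simp

end Ctx

/-- Theorem C of Bender–Glauberman. -/
theorem theoremC [Finite G] (p q : ℕ) [hp : Fact p.Prime] [hq : Fact q.Prime]
    (hA : Nat.Coprime ((p ^ q - 1) / (p - 1)) (p - 1))
    [Fintype F] (hF : Fintype.card F = p ^ q) (P U Q : Subgroup G) (f ψ : G → F)
    (hf : Set.BijOn f (P : Set G) Set.univ) (hfadd : ∀ x ∈ P, ∀ z ∈ P, f (x * z) = f x + f z)
    (hUP : U ≤ normalizer (P : Set G))
    (hψ : ∀ u ∈ U, ψ u ≠ 0 ∧ ∀ x ∈ P, f (u * x * u⁻¹) = ψ u * f x)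
    (hψmul : ∀ u ∈ U, ∀ v ∈ U, ψ (u * v) = ψ u * ψ v) (hψinj : Set.InjOn ψ (U : Set G))
    (hUcard : Nat.card U * (p - 1) = p ^ q - 1)
    (hQ : IsMulCommutative Q) (hQp : (Nat.card Q).Coprime p)
    (hP0Q : ∀ x ∈ P, f x ^ p = f x → x ∈ normalizer (Q : Set G))
    (y : G) (hy : y ∈ Q)
    (hP0U : ∀ x ∈ P, f x ^ p = f x → y * x * y⁻¹ ∈ normalizer (U : Set G)) : p ≤ q := by
  classical
  by_cases hp2 : p = 2
  · rw [hp2]; exact hq.out.two_le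
  have hp1 : 0 < p - 1 := by have := hp.out.two_le; omega
  obtain ⟨n, hn⟩ : ∃ n, n = ∑ i ∈ Finset.range q, p ^ i := ⟨_, rfl⟩
  rw [geom_sum_eq_div hp.out.two_le, ← hn] at hA
  have hnp : n * (p - 1) = p ^ q - 1 := hn ▸ geom_sum_mul_pred hp.out.two_le q
  have hU : Nat.card U = n := Nat.eq_of_mul_eq_mul_right hp1 (hUcard.trans hnp.symm)
  have hq2 : q ≠ 2 := by
    rintro rfl
    obtain ⟨k, hk⟩ := hp.out.odd_of_ne_two hp2
    have h1 : 2 ∣ n := ⟨k + 1, by rw [hn]; simp [Finset.sum_range_succ]; omega⟩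
    have h2 : 2 ∣ p - 1 := ⟨k, by omega⟩
    exact absurd (hA.gcd_eq_one ▸ Nat.dvd_gcd h1 h2 : 2 ∣ 1) (by norm_num)
  have : CharP F p := charP_of_card_eq_prime_pow hF
  have hn1 : 1 < n := by
    obtain ⟨r, rfl⟩ : ∃ r, q = r + 2 := ⟨q - 2, by have := hq.out.two_le; omega⟩
    rw [hn, Finset.sum_range_succ]
    exact lt_of_lt_of_le (Nat.one_lt_pow (by omega) hp.out.one_lt) (Nat.le_add_left _ _)
  obtain ⟨s, hs, hfs⟩ := hf.surjOn (Set.mem_univ 1)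
  have hψ1 : ψ 1 = 1 := by simpa [hfs] using ((hψ 1 U.one_mem).2 s hs).symm
  have hψpow : ∀ u ∈ U, ∀ k : ℕ, ψ (u ^ k) = ψ u ^ k := fun u hu k => by
    induction k with
    | zero => simp [hψ1]
    | succ k ih => rw [pow_succ, hψmul _ (pow_mem hu k) _ hu, ih, pow_succ]
  have hUn : ∀ u ∈ U, u ^ n = 1 := fun u hu => by
    rw [← hU]; exact congrArg Subtype.val (pow_card_eq_one' (x := (⟨u, hu⟩ : U)))
  have hrange : ∀ z : F, z ^ n = 1 → ∃ u ∈ U, ψ u = z := by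
    have h1 : ψ '' U = {z | z ^ n = 1} := by
      refine Set.eq_of_subset_of_ncard_le ?_ ?_
      · rintro _ ⟨u, hu, rfl⟩
        rw [Set.mem_ofPred_eq, ← hψpow u hu, hUn u hu, hψ1]
      · rw [hψinj.ncard_image, ← Nat.card_coe_set_eq (U : Set G), SetLike.coe_sort_coe, hU]
        refine le_of_eq (Eq.trans ?_ (card_pow_eq_one (F := F) ⟨p - 1, by rw [hF, hnp]⟩))
        rw [← Set.ncard_coe_finset]
        simp
    intro z hz
    exact (h1.symm ▸ hz : z ∈ ψ '' U)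
  have c : Ctx p P U Q f ψ s y⁻¹ :=
    { inj := hf.injOn
      surj := fun z => hf.surjOn (Set.mem_univ z)
      add := hfadd
      conj_mem := fun u hu x hx => (mem_normalizer_iff.mp (hUP hu) x).mp hx
      psi_ne := fun u hu => (hψ u hu).1
      psi_conj := fun u hu => (hψ u hu).2
      psi_mul := hψmul
      psi_inj := hψinj
      decomp := fun z hz => by
        have hz1 : z ^ (n * (p - 1)) = 1 := by
          rw [hnp, ← hF]; exact FiniteField.pow_card_sub_one_eq_one z hz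
        obtain ⟨u, hu, e⟩ := hrange ((z ^ (p - 1)) ^ Nat.gcdB n (p - 1)) (by
          rw [← zpow_natCast, ← zpow_mul, mul_comm, zpow_mul, zpow_natCast, ← pow_mul, mul_comm,
            hz1, one_zpow])
        obtain ⟨k, hk⟩ := exists_natCast_of_pow_eq p (x := (z ^ n) ^ Nat.gcdA n (p - 1)) (by
          rw [← zpow_natCast, ← zpow_mul, mul_comm, zpow_mul, zpow_natCast]
          congr 1
          conv_lhs => rw [← Nat.sub_add_cancel hp.out.one_le, pow_succ, ← pow_mul, hz1, one_mul])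
        refine ⟨u, hu, k, ?_⟩
        rw [e, hk, ← zpow_natCast, ← zpow_natCast, ← zpow_mul, ← zpow_mul, ← zpow_add₀ hz,
          add_comm, ← Nat.gcd_eq_gcd_ab, hA.gcd_eq_one]
        simp
      pred := fun u hu h => by
        have := pow_gcd_eq_one.mpr ⟨hUn u hu, h⟩
        rwa [hA.gcd_eq_one, pow_one] at this
      ne_bot := fun e => by rw [e, card_bot] at hU; omega
      s_mem := hs
      f_s := hfs
      comm := fun a ha b hb => congrArg Subtype.val (hQ.is_comm.comm ⟨a, ha⟩ ⟨b, hb⟩)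
      pQ := fun a ha h => by
        have h1 : a ^ Nat.card Q = 1 := congrArg Subtype.val (pow_card_eq_one' (x := (⟨a, ha⟩ : Q)))
        have := pow_gcd_eq_one.mpr ⟨h1, h⟩
        rwa [hQp.gcd_eq_one, pow_one] at this
      sQ := hP0Q s hs (by rw [hfs, one_pow])
      yQ := inv_mem hy
      tU := by rw [inv_inv]; exact hP0U s hs (by rw [hfs, one_pow]) }
  obtain ⟨a, ha1, ha, ha2⟩ := lemmaC2 p q hp2 hq.out hq2 hF hn
  refine lemmaC1 p q hq.out.pos hn (fun x hx hx2 => ?_) ha ha2 ha1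
  obtain ⟨u, hu, rfl⟩ := hrange x hx
  obtain ⟨v, hv, e⟩ := hrange _ hx2
  obtain ⟨w, hw, e'⟩ := c.lemmaC3 hp2 hu hv (by rw [e]; ring)
  rw [← c.psi_inv hu, ← e', add_sub_cancel_left, ← hψpow w hw, hUn w hw, hψ1]

theorem norm_eq_one_iff (p q : ℕ) [hp : Fact p.Prime] (hq : q ≠ 0) (a : GaloisField p q) :
    Algebra.norm (ZMod p) a = 1 ↔ a ^ (∑ i ∈ Finset.range q, p ^ i) = 1 := by
  rw [← (algebraMap (ZMod p) (GaloisField p q)).injective.eq_iff,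
    FiniteField.algebraMap_norm_eq_pow, GaloisField.card p q hq, Nat.card_zmod, map_one,
    geom_sum_eq_div hp.out.two_le]

end H2.AppC
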