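import Mathlib

/-!
# Arithmetic for Peterfalvi §14
-/

set_option autoImplicit false

namespace H2.PF14

/-- `(p ^ q - 1) / (p - 1)`. -/
abbrev gN (p q : ℕ) : ℕ := (p ^ q - 1) / (p - 1)

theorem gN_eq {p : ℕ} (hp : 2 ≤ p) (q : ℕ) : gN p q = ∑ i ∈ Finset.range q, p ^ i :=
  (Nat.geomSum_eq hp q).symm

theorem gN_succ {p : ℕ} (hp : 2 ≤ p) (q : ℕ) : gN p (q + 1) = p * gN p q + 1 := by
  rw [gN_eq hp, gN_eq hp, geom_sum_succ]

theorem gN_succ' {p : ℕ} (hp : 2 ≤ p) (q : ℕ) : gN p (q + 1) = p ^ q + gN p q := by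
  rw [gN_eq hp, gN_eq hp, Finset.sum_range_succ, add_comm]

theorem gN_mul {p : ℕ} (hp : 2 ≤ p) (q : ℕ) : gN p q * (p - 1) = p ^ q - 1 :=
  Nat.div_mul_cancel (by simpa using Nat.sub_dvd_pow_sub_pow p 1 q)

theorem gN_dvd {p q : ℕ} (hp : 2 ≤ p) (hq : 1 ≤ q) : p ∣ gN p q - 1 := by
  obtain ⟨q, rfl⟩ := Nat.exists_eq_add_of_le' hq
  rw [gN_succ hp]; simp

theorem gN_gt {p q : ℕ} (hp : 2 ≤ p) (hq : 2 ≤ q) : p ^ (q - 1) + 1 ≤ gN p q := by
  obtain ⟨q, rfl⟩ := Nat.exists_eq_add_of_le' hq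
  rw [gN_succ' hp, gN_succ hp]; simp

theorem succ_pow_lt {p n : ℕ} (hp : 0 < p) (hn : n ≤ p) : (p + 1) ^ n < 3 * p ^ n := by
  have h0 : (0 : ℝ) < p := by exact_mod_cast hp
  have h1 : ((p : ℝ) + 1) ^ n ≤ (p * Real.exp (1 / p)) ^ n := by
    refine pow_le_pow_left₀ (by positivity) ?_ n
    have := Real.add_one_le_exp (1 / (p : ℝ))
    calc (p : ℝ) + 1 = p * (1 / p + 1) := by field_simp; ring
      _ ≤ _ := by gcongr
  have h2 : Real.exp (1 / p) ^ n < 3 := by
    rw [← Real.exp_nat_mul]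
    refine lt_of_le_of_lt (Real.exp_le_exp.2 ?_) (Real.exp_one_lt_d9.trans (by norm_num))
    rw [mul_one_div, div_le_one h0]; exact_mod_cast hn
  have h3 : ((p : ℝ) + 1) ^ n < 3 * p ^ n := by
    rw [mul_pow] at h1
    have : (0 : ℝ) < p ^ n := by positivity
    nlinarith
  exact_mod_cast h3

/-- (14.8)(a). -/
theorem pow_lt_pow_swap {p q : ℕ} (hq : 3 ≤ q) (hqp : q < p) (hp : 5 ≤ p) :
    p ^ (q + 1) < q ^ (p + 1) := by
  have step : ∀ n, q < n → n ^ (q + 1) < q ^ (n + 1) → (n + 1) ^ (q + 1) < q ^ (n + 1 + 1) := by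
    intro n hn h
    have := succ_pow_lt (p := n) (n := q + 1) (by omega) hn
    rw [pow_succ q (n + 1)]
    calc _ < 3 * n ^ (q + 1) := this
      _ ≤ q * q ^ (n + 1) := by gcongr
      _ = _ := mul_comm _ _
  rcases hq.eq_or_lt with rfl | hq
  · induction p, hp using Nat.le_induction with
    | base => norm_num
    | succ n hn ih => exact step n (by omega) (ih (by omega))
  · clear hp
    induction p, hqp using Nat.le_induction with
    | base =>
      have := succ_pow_lt (p := q) (n := q) (by omega) le_rfl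
      have h1 : 3 * (q + 1) ≤ q * q := by nlinarith
      calc (q + 1) ^ (q + 1) = (q + 1) ^ q * (q + 1) := pow_succ _ _
        _ < 3 * q ^ q * (q + 1) := by gcongr
        _ = q ^ q * (3 * (q + 1)) := by ring
        _ ≤ q ^ q * (q * q) := by gcongr
        _ = q ^ (q + 1 + 1) := by ring
    | succ n hn ih => exact step n hn ih

/-- (14.8)(b). -/
theorem gN_swap {p q : ℕ} (hq : 3 ≤ q) (hqp : q < p) (hp : 5 ≤ p) :
    (gN p q - 1) * p < (gN q p - 1) * q := by
  have h := pow_lt_pow_swap hq hqp hp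
  have e1 := gN_mul (p := p) (by omega) q
  have e2 := gN_mul (p := q) (by omega) p
  have l1 := gN_gt (p := p) (q := q) (by omega) (by omega)
  have l2 := gN_gt (p := q) (q := p) (by omega) (by omega)
  have p1 : 1 ≤ p ^ q := Nat.one_le_pow _ _ (by omega)
  have p2 : 1 ≤ q ^ p := Nat.one_le_pow _ _ (by omega)
  rw [pow_succ, pow_succ] at h
  generalize gN p q = a at *
  generalize gN q p = b at *
  generalize p ^ q = x at *
  generalize q ^ p = y at *
  obtain ⟨a, rfl⟩ : ∃ c, a = c + 1 := ⟨a - 1, by omega⟩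
  obtain ⟨b, rfl⟩ : ∃ c, b = c + 1 := ⟨b - 1, by omega⟩
  obtain ⟨q, rfl⟩ : ∃ c, q = c + 1 := ⟨q - 1, by omega⟩
  obtain ⟨p, rfl⟩ : ∃ c, p = c + 1 := ⟨p - 1, by omega⟩
  simp only [Nat.add_sub_cancel] at *
  obtain rfl : x = (a + 1) * p + 1 := by omega
  obtain rfl : y = (b + 1) * q + 1 := by omega
  have hqp' : q ≤ p := by omega
  refine lt_of_mul_lt_mul_right (a := p) ?_ (Nat.zero_le _)
  have : b * (q + 1) * q ≤ b * (q + 1) * p := by gcongr
  nlinarith

theorem le_three_pow {p : ℕ} (hp : 3 ≤ p) : p ≤ 3 ^ (p - 2) := by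
  induction p, hp using Nat.le_induction with
  | base => norm_num
  | succ n hn ih => rw [show n + 1 - 2 = n - 2 + 1 by omega, pow_succ]; omega

theorem mul_le_gN {p q : ℕ} (hq : 3 ≤ q) (hp : 3 ≤ p) : p * q ≤ gN q p := by
  have h := gN_gt (p := q) (q := p) (by omega) (by omega)
  have h1 := le_three_pow hp
  have h2 : 3 ^ (p - 2) ≤ q ^ (p - 2) := Nat.pow_le_pow_left hq _
  rw [show p - 1 = p - 2 + 1 by omega, pow_succ] at h
  nlinarith

theorem sq_lt_three_pow {p : ℕ} (hp : 7 ≤ p) : p ^ 2 < 3 ^ (p - 3) := by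
  induction p, hp using Nat.le_induction with
  | base => norm_num
  | succ n hn ih => rw [show n + 1 - 3 = n - 3 + 1 by omega, pow_succ 3]; nlinarith

/-- end of the proof of (14.14). -/
theorem eq_three_five {p q : ℕ} (hq : 3 ≤ q) (hqp : q < p) (op : Odd p) (oq : Odd q)
    (h : gN q p ≤ p * q * (p * q - 1) + 1) : q = 3 ∧ p = 5 := by
  have h0 := gN_gt (p := q) (q := p) (by omega) (by omega)
  have h1 : p < 7 := by
    by_contra! h7
    have h2 := sq_lt_three_pow h7
    have h3 : 3 ^ (p - 3) ≤ q ^ (p - 3) := Nat.pow_le_pow_left hq _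
    rw [show p - 1 = p - 3 + 2 by omega, pow_add] at h0
    have h4 : p * q * (p * q - 1) ≤ p * q * (p * q) := by gcongr; omega
    have h5 : p ^ 2 * q ^ 2 < q ^ (p - 3) * q ^ 2 := by gcongr; omega
    nlinarith
  obtain ⟨a, rfl⟩ := op
  obtain ⟨b, rfl⟩ := oq
  omega

theorem mod_of_dvd_pred {m a : ℕ} (ha : 0 < a) (h : m ∣ a - 1) : a ≡ 1 [MOD m] :=
  ((Nat.modEq_iff_dvd' ha).2 h).symm

/-- a cofactor `x ≠ 1` of an odd number, congruent to `1` modulo an odd `m`. -/
theorem cofactor_ge {m u x : ℕ} (om : Odd m) (o : Odd (u * x)) (h1 : m ∣ u * x - 1)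
    (h2 : m ∣ u - 1) (hx : x ≠ 1) : 2 * m + 1 ≤ x := by
  have ox : Odd x := (Nat.odd_mul.1 o).2
  have ou : Odd u := (Nat.odd_mul.1 o).1
  have e1 := mod_of_dvd_pred o.pos h1
  have e2 := (mod_of_dvd_pred ou.pos h2).mul_right x
  rw [one_mul] at e2
  obtain ⟨t, ht⟩ := (Nat.modEq_iff_dvd' ox.pos).1 (e1.symm.trans e2)
  have hx1 : x = m * t + 1 := by have := ox.pos; omega
  have : Even t := by
    rw [hx1, Nat.odd_add_one, Nat.not_odd_iff_even, Nat.even_mul] at ox
    exact ox.resolve_left (Nat.not_even_iff_odd.2 om)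
  obtain ⟨s, rfl⟩ := this
  have : s ≠ 0 := by rintro rfl; simp at hx1; exact hx hx1
  obtain ⟨s, rfl⟩ := Nat.exists_eq_succ_of_ne_zero this
  rw [hx1, Nat.succ_eq_add_one]; nlinarith

/-- end of the proof of (14.7). -/
theorem not_small_compl {p q u : ℕ} (hq : 2 ≤ q) (hqp : q < p) (hu : u * q = gN p q)
    (h : p ∣ u - 1) : False := by
  have h0 := gN_gt (p := p) (q := q) (by omega) hq
  have hu0 : 0 < u := Nat.pos_of_ne_zero (by rintro rfl; omega)
  have e1 := mod_of_dvd_pred (by omega) (gN_dvd (p := p) (q := q) (by omega) (by omega))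
  have e2 := (mod_of_dvd_pred hu0 h).mul_right q
  rw [one_mul, hu] at e2
  have := (e1.symm.trans e2).eq_of_lt_of_lt (by omega) hqp
  omega

/-- the arithmetic of (14.15). -/
theorem not_small_compl' {p q u x : ℕ} (hq : 3 ≤ q) (hqp : q < p) (op : Odd p) (oq : Odd q)
    (hpq : p % q = 1) (hu : u * q = gN p q) (o : Odd (u * x)) (h1 : p ∣ u * x - 1)
    (h2 : q ∣ u * x - 1) (h3 : q ∣ u - 1) (h : u * x ≤ p * q * (p * q - 1) + 1) : False := by
  have ox : Odd x := (Nat.odd_mul.1 o).2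
  have ou : Odd u := (Nat.odd_mul.1 o).1
  have h0 := gN_gt (p := p) (q := q) (by omega) (by omega)
  have e1 := (mod_of_dvd_pred (by omega) (gN_dvd (p := p) (q := q) (by omega) (by omega))).mul_right x
  have e2 := (mod_of_dvd_pred o.pos h1).mul_right q
  rw [one_mul] at e1 e2
  rw [← hu, mul_right_comm] at e1
  have e3 : x % p = q := by
    have := e1.symm.trans e2
    rwa [Nat.ModEq, Nat.mod_eq_of_lt hqp] at this
  have e4 := (mod_of_dvd_pred ou.pos h3).mul_right x
  rw [one_mul] at e4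
  have e5 := e4.symm.trans (mod_of_dvd_pred o.pos h2)
  obtain ⟨n, hn⟩ : ∃ n, x = q + p * n := ⟨x / p, by rw [← e3, Nat.mod_add_div]⟩
  have e6 : n % q = 1 := by
    have h5 : p ≡ 1 [MOD q] := by rw [Nat.ModEq, hpq, Nat.mod_eq_of_lt (by omega)]
    have h6 : q + p * n ≡ 0 + 1 * n [MOD q] :=
      ((Nat.modEq_zero_iff_dvd.2 dvd_rfl).add (h5.mul_right n))
    rw [← hn, zero_add, one_mul] at h6
    have := h6.symm.trans e5
    rwa [Nat.ModEq, Nat.mod_eq_of_lt (show 1 < q by omega)] at this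
  have en : Even n := by
    rw [hn, Nat.odd_add, Nat.even_mul] at ox
    exact (ox.1 oq).resolve_left (Nat.not_even_iff_odd.2 op)
  have hn1 : q + 1 ≤ n := by
    by_contra! hlt
    rcases (show n < q ∨ n = q by omega) with h7 | h7
    · rw [Nat.mod_eq_of_lt h7] at e6
      rw [e6] at en; exact absurd en (by decide)
    · rw [h7, Nat.mod_self] at e6; omega
  have hx : p * (q + 1) + q ≤ x := by rw [hn, add_comm]; gcongr
  have h4 : p * q * (p * q - 1) + 1 ≤ p * q * (p * q) := by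
    obtain ⟨k, hk⟩ : ∃ k, p * q = k + 1 := 
      ⟨p * q - 1, by have : 0 < p * q := Nat.mul_pos (by omega) (by omega); omega⟩
    rw [hk, Nat.add_sub_cancel]; nlinarith
  have h5 : p ^ q < u * x := by
    refine lt_of_mul_lt_mul_right (a := q) ?_ (Nat.zero_le _)
    rw [mul_right_comm, hu]
    calc p ^ q * q = p ^ (q - 1) * (p * q) := by
          conv_lhs => rw [show q = q - 1 + 1 by omega, pow_succ]
          rw [show q - 1 + 1 = q by omega]; ring
      _ < (p ^ (q - 1) + 1) * x := by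
          have : p * q < x := by nlinarith
          nlinarith [Nat.zero_le (p ^ (q - 1))]
      _ ≤ _ := by gcongr
  have h6 : q < 4 := by
    by_contra! h7
    have : p ^ 4 ≤ p ^ q := Nat.pow_le_pow_right (by omega) h7
    have : p * q * (p * q) ≤ p * p * (p * p) := by gcongr
    nlinarith
  obtain rfl : q = 3 := by omega
  have h7 : p < 9 := by
    by_contra! h7
    have : p * p * 9 ≤ p * p * p := by gcongr
    nlinarith
  obtain rfl : p = 7 := by obtain ⟨a, rfl⟩ := op; omega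
  norm_num [gN] at hu
  obtain rfl : u = 19 := by omega
  omega

/-- the arithmetic of (14.16). -/
theorem not_large_cofactor {p q x : ℕ} (hq : 3 ≤ q) (hqp : q < p) (hx : 2 * (p * q) + 1 ≤ x)
    (h : gN p q * x ≤ p * q * (p * q - 1) + 1) : False := by
  have h0 := gN_gt (p := p) (q := q) (by omega) (by omega)
  have h1 : p ^ 2 ≤ p ^ (q - 1) := Nat.pow_le_pow_right (by omega) (by omega)
  have h2 : p * q ≤ p ^ 2 := by nlinarith
  have h3 : p * q * (p * q - 1) ≤ p * q * (p * q) := by gcongr; omega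
  have h4 : (p * q + 1) * (2 * (p * q) + 1) ≤ gN p q * x := by gcongr; omega
  have h5 : 0 < p * q := Nat.mul_pos (by omega) (by omega)
  nlinarith

/-- the arithmetic of (14.11.4). -/
theorem final_ineq {p q u v k : ℝ} (hq : 3 ≤ q) (hqp : q < p) (hu : 2 * q + 1 ≤ u)
    (hv : p * q ≤ v) (hk : 2 * p * v ≤ k)
    (h : 1 - p * q / k ≤ 1 / (p * q) + (q - 1) * (p - 1) / (q * p) + 1 / (u * q) + 1 / (v * p)) :
    False := by
  have hp : 0 < p := by linarith
  have hq0 : 0 < q := by linarith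
  have hv0 : 0 < v := lt_of_lt_of_le (by positivity) hv
  have hk0 : 0 < k := lt_of_lt_of_le (by positivity) hk
  have e : (q - 1) * (p - 1) / (q * p) = 1 - 1 / p - 1 / q + 1 / (p * q) := by field_simp; ring
  have h1 : p * q / k ≤ 1 / (2 * p) := by
    rw [div_le_div_iff₀ hk0 (by positivity)]; nlinarith
  have h2 : 1 / (v * p) ≤ 1 / (9 * p) := by
    gcongr; nlinarith
  have h3 : 1 / (p * q) ≤ 1 / (3 * q) := by gcongr; linarith
  have h4 : 1 / (u * q) ≤ 1 / (7 * q) := by gcongr; linarith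
  have h5 : 1 / (2 * p) + 1 / (9 * p) < 1 / p := by
    rw [show 1 / (2 * p) + 1 / (9 * p) = 11 / 18 * (1 / p) by field_simp; ring]
    have : 0 < 1 / p := by positivity
    linarith
  have h6 : 2 * (1 / (3 * q)) + 1 / (7 * q) < 1 / q := by
    rw [show 2 * (1 / (3 * q)) + 1 / (7 * q) = 17 / 21 * (1 / q) by field_simp; ring]
    have : 0 < 1 / q := by positivity
    linarith
  linarith

/-- end of the proof of (14.6). -/
theorem not_dvd_small {p r k : ℕ} (hp : p.Prime) (op : Odd p) (or : Odd r) (hr : 1 < r)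
    (hrp : r < p) (hk : 0 < k) (hk2 : k ≤ 2) (h : p ∣ r ^ k - 1) : False := by
  have h1 : p ∣ (r + 1) * (r - 1) := by
    rw [← Nat.sq_sub_sq]
    rcases (show k = 1 ∨ k = 2 by omega) with rfl | rfl
    · rw [pow_one] at h
      rw [Nat.sq_sub_sq]; exact h.mul_left _
    · simpa using h
  rcases (Nat.Prime.dvd_mul hp).1 h1 with h2 | h2
  · have := Nat.le_of_dvd (by omega) h2
    obtain ⟨a, rfl⟩ := op; obtain ⟨b, rfl⟩ := or; omega
  · have := Nat.le_of_dvd (by omega) h2
    omega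

end H2.PF14
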