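import Mathlib
import Cfsg.Agent.H27.PF13
import Cfsg.Agent.H2.PF14a

/-!
# Peterfalvi §14: preliminary results, valid for both `S` and `T`
-/

set_option autoImplicit false
set_option linter.unusedSectionVars false

namespace H27.PF14

open Cfsg H24 H25 H2.PF14
open scoped ComplexConjugate

universe u

variable {G : Type u} [Group G] [Finite G]

theorem frobK_dvd {L K X Z : Subgroup G} (h : FrobK L K) (hX : X ≤ L) (hi : K ⊓ X = ⊥)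
    (hZ : Z ≤ K) (hn : X ≤ N[Z]) : ♯X ∣ ♯Z - 1 := by
  refine Semireg.dvd_pred (semireg_iff.2 fun x hx h1 y hy e => ?_) hn
  by_contra hy1
  exact h1 (Subgroup.mem_bot.1 (hi ▸ Subgroup.mem_inf.2
    ⟨h.cent_le (hZ hy) hy1 ⟨hX hx, mem_C1.2 e.symm⟩, hx⟩))

theorem odd_int_norm {z : ℂ} (h : ∃ n : ℤ, Odd n ∧ z = n) : 1 ≤ ‖z‖ ^ 2 := by
  obtain ⟨n, hn, rfl⟩ := h
  refine H2.one_le_sq_norm_of_int ⟨n, rfl⟩ ?_
  rintro e
  rw [Int.cast_eq_zero.1 e] at hn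
  exact absurd hn (by decide)

variable [FT G]

section oneSided
variable {S U W W₁ W₂ : Subgroup G} (h : TypeP S U W W₁ W₂) (hS : IsCoatom S)
include h hS

theorem Fc_pi : IsPi {♯W₂} (Fc S) := (h.facts_b hS).1.isPi (h.primes hS).2

theorem Fc_syl : Syl ♯W₂ ⊤ (Fc S) :=
  (FTcore_facts hS).1.hall.congr fun p hp _ => ⟨fun h1 => Fc_pi h hS p hp h1.2,
    fun h1 => h1 ▸ ⟨(h.primes hS).2, card_dvd h.le2⟩⟩

theorem card_S : ♯S = ♯(Fc S) * ♯U * ♯W₁ := by rw [← h.sdHU.card, ← h.sdM.card]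

theorem Fc_TI : NormedTI (shp (Fc S)) S :=
  (h.facts_e hS).1.mono (Fc_sub_typeA0 hS)
    (let ⟨x, hx, h1⟩ := exists_ne_one h.Fc_ne; ⟨x, hx, h1⟩)
    (le_normalizer_set_iff.2 (Fc_shp_norm S))

theorem u_mod : ♯W₁ ∣ ♯U - 1 := (h.facts_a hS).2.2.1.dvd_pred

theorem u_ge : 2 * ♯W₁ + 1 ≤ ♯U :=
  cofactor_ge (u := 1) (mFT_odd _) (by rw [one_mul]; exact mFT_odd _)
    (by rw [one_mul]; exact u_mod h hS) (by simp) (one_lt_card (h.facts_a hS).2.2.1.ker_ne).ne'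

theorem u_le : ♯U ≤ gN ♯W₂ ♯W₁ := by
  have := h.facts_c hS
  rwa [h.reg_Fcore hS, Subgroup.relIndex_bot_left] at this

theorem gal_model (hg : TypePGalois S U) :
    (∃ (F : Type) (_ : Field F) (_ : Fintype F) (f ψ : G → F),
      Fintype.card F = ♯W₂ ^ ♯W₁ ∧ FieldModel (Fc S) ⊥ U ⊥ W₂ ♯W₂ F f ψ) ∧
    Cyc U ∧ (♯U).Coprime (♯W₂ - 1) := by
  obtain ⟨h1, h2, h3, -⟩ := h.Galois_P hS (FTtype5_exclusion hS) hg
  rw [pU, h.pC_eq_bot hS, h.pP_eq hS] at *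
  rw [h.pK_eq_bot hS] at h1
  rw [Subgroup.relIndex_bot_left] at h3
  exact ⟨h1, cyc_of_img (f := coset ⊥) (by rw [N_bot]; exact le_top) (by rw [ker_coset, bot_inf_eq])
    h2, h3⟩

theorem gal_frob (hg : TypePGalois S U) : Frob ⁅S, S⁆ (Fc S) U := by
  obtain ⟨⟨F, _, _, f, ψ, -, hF⟩, -⟩ := gal_model h hS hg
  rw [← h.sdHU.sup]
  refine Frob.mk' h.sdHU.norm h.Fc_ne (h.facts_a hS).2.2.1.ker_ne
    (semireg_iff.2 fun u hu h1 x hx e => ?_)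
  have h2 := hF.act u hu x hx
  rw [← e, mul_inv_cancel_right] at h2
  by_cases h3 : f x = 0
  · exact (hF.ker x hx).1 h3
  · exact absurd ((hF.kerU u hu).1 (mul_right_cancel₀ h3 (by rw [← h2, one_mul]))) h1

theorem coprime_core (hg : TypePGalois S U) {g : G} (h1 : g ∉ classSupp (shp W) ⊤)
    (h2 : g ∉ classSupp (shp (Fc S)) ⊤) : (orderOf g).Coprime ♯W₂ := by
  have hp := (h.primes hS).2
  rw [Nat.coprime_comm, hp.coprime_iff_not_dvd, ← card_zpowers']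
  intro hd
  obtain ⟨x, hx, ho⟩ := exists_orderOf_eq hp hd
  obtain ⟨k, -, hk⟩ := Sylow_Jsub hp (Fc_syl h hS) (piElt_of_orderOf_prime hp ho).isPi le_top
  have hx1 : k * x * k⁻¹ ∈ shp (Fc S) := ⟨hk (conj_mem_cj k (Subgroup.mem_zpowers x)),
    fun e => ne_one_of_orderOf_prime (ho ▸ hp) (conj_eq_one_iff'.1 e)⟩
  have hc : k * g * k⁻¹ ∈ C{k * x * k⁻¹} := by
    rw [← cj_C1]; exact conj_mem_cj k (mem_C1_comm.1 (zpowers_le_C1 g hx))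
  have hgS := (Fc_TI h hS).cent1_le hx1 hc
  have hg1 : k * g * k⁻¹ ≠ 1 := fun e => by
    rw [conj_eq_one_iff'.1 e, Subgroup.zpowers_one_eq_bot, Subgroup.mem_bot] at hx
    exact hx1.2 (by simp [hx])
  by_cases hK : k * g * k⁻¹ ∈ ⁅S, S⁆
  · exact h2 (mem_classSupp.2 ⟨k, trivial, (gal_frob h hS hg).cent1_ker hx1.1 hx1.2 ⟨hK, hc⟩, hg1⟩)
  · obtain ⟨s, -, hs, hs2⟩ := h.prTI.exists_conj_mem hgS hK
    refine h1 (mem_classSupp.2 ⟨s * k, trivial, ?_⟩)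
    rw [show s * k * g * (s * k)⁻¹ = s * (k * g * k⁻¹) * s⁻¹ by group]
    exact ⟨hs, fun e => hs2 (by rw [show s * _ * s⁻¹ = 1 from e]; exact one_mem _)⟩

theorem ncard_ccP : ((classSupp (shp (Fc S)) ⊤).ncard : ℝ) ≤ Nat.card G / (♯U * ♯W₁) := by
  have h1 := H2.card_sharp (Fc S)
  rw [Nat.card_coe_set_eq] at h1
  rw [(Fc_TI h hS).ncard_classSupp, ← S.index_mul_card, card_S h hS, Nat.cast_mul, h1,
    le_div_iff₀ (mul_pos (cardR_pos _) (cardR_pos _))]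
  push_cast
  have : (0 : ℝ) ≤ S.index * (♯U * ♯W₁) := by positivity
  nlinarith

omit hS in
theorem ncard_ccV : ((classSupp (cycV W W₁ W₂) ⊤).ncard : ℝ) =
    Nat.card G * ((♯W₁ - 1) * (♯W₂ - 1) / (♯W₁ * ♯W₂)) := by
  rw [h.normedTI.ncard_classSupp, h.cTI.card_V, ← W.index_mul_card, h.cTI.card_W]
  have := cardR_pos W₁
  have := cardR_pos W₂
  push_cast [Nat.cast_sub (card_pos W₁), Nat.cast_sub (card_pos W₂)]
  field_simp

/-- the case `L = H ⋊ W₁` of (13.17)(c) is only possible if `H ≠ U`. -/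
theorem not_sd_of_eq (h2 : IsOfTypeII S) {L : Subgroup G} (hU : N[U] ≤ L) (hL : SD U W₁ L) :
    False :=
  (h.of_II hS h2).2.2.1 (hU.trans (hL.sup ▸ sup_le h.leUM h.le1))

end oneSided

/-- the data attached to a Frobenius maximal subgroup in (14.3) and (14.10). -/
structure CohI (L : Subgroup G) (ν : (G → ℂ) →ₗ[ℂ] (G → ℂ)) (φ : G → ℂ) : Prop where
  max : IsCoatom L
  frob : FrobK L (Fc L)
  coh : CohWith L ⊤ (seqIndD (Fc L) L (Fc L) ⊥) (tauF L) ν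
  mem : φ ∈ seqIndD (Fc L) L (Fc L) ⊥
  one : φ 1 = (Fc L).relIndex L

theorem exists_cohI {L : Subgroup G} (hL : IsCoatom L) (hF : FrobK L (Fc L)) :
    ∃ ν φ, CohI L ν φ :=
  let ⟨ν, hν⟩ := (FT_Frobenius_coherence hL hF).2
  let ⟨φ, h1, h2⟩ := FTtype1_ref_irr hL
  ⟨ν, φ, hL, hF, hν, h1, h2⟩

namespace CohI
variable {L M : Subgroup G} {ν μ : (G → ℂ) →ₗ[ℂ] (G → ℂ)} {φ ψ ξ : G → ℂ} (h : CohI L ν φ)
include h

theorem typeI : IsOfTypeI L := FT_Frobenius_type1 h.max h.frob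
theorem irr (hξ : ξ ∈ seqIndD (Fc L) L (Fc L) ⊥) : ξ ∈ Irr L :=
  (FT_Frobenius_coherence h.max h.frob).1 hξ
theorem dade : DadeHypothesis (shp (Fc L)) L (supportR L) := FT_DadeF_hyp h.max
theorem dirr (hξ : ξ ∈ seqIndD (Fc L) L (Fc L) ⊥) : IsDirr ⊤ (ν ξ) :=
  H2.cohC1_dirr h.coh (h.irr hξ) hξ
theorem one_lt : 1 < (seqIndD (Fc L) L (Fc L) ⊥).card :=
  H2.seqIndC1_one_lt_card (Fc_nml L) (mFT_odd L) h.mem
theorem beta_vchar : tauF L (bridgeI L φ) ∈ vchar ⊤ := H2.Dade_Ind1_vchar h.dade h.mem h.one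
theorem supp_eq : tildeOf L (typeA L) = dadeSupp (shp (Fc L)) (supportR L) := by
  rw [tildeOf_eq, FTsupp_Frobenius h.max h.frob]
theorem conj_eq : conjC (ν φ) = ν (conjC φ) :=
  (H2.cohC1_conjC h.dade h.coh mFT_odd_card (h.irr h.mem) h.mem).1

theorem disjoint (h' : CohI M μ ψ) (hn : ∀ g, M ≠ cj g L) :
    Disjoint (dadeSupp (shp (Fc L)) (supportR L)) (dadeSupp (shp (Fc M)) (supportR M)) := by
  have := FT_Dade1_support_disjoint h.max h'.max hn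
  rwa [tildeOf_eq, tildeOf_eq, typeA1_eq, typeA1_eq, typeCore_of_I h.typeI,
    typeCore_of_I h'.typeI] at this

theorem ortho (h' : CohI M μ ψ) (hn : ∀ g, M ≠ cj g L) {ζ : G → ℂ}
    (hξ : ξ ∈ seqIndD (Fc L) L (Fc L) ⊥) (hζ : ζ ∈ seqIndD (Fc M) M (Fc M) ⊥) :
    cfdot ⊤ (ν ξ) (μ ζ) = 0 :=
  disjoint_coherent_ortho mFT_odd_card h.dade h'.dade (h.disjoint h' hn) h.coh h'.coh (h.irr hξ) hξ
    (h'.irr hζ) hζ

/-- the estimate in the proof of (14.14). -/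
theorem core_bound (h' : CohI M μ ψ) (hn : ∀ g, M ≠ cj g L)
    (h0 : cfdot ⊤ (tauF L (bridgeI L φ)) (μ ψ) ≠ 0) :
    ♯(Fc M) ≤ (Fc M).relIndex M * ((Fc L).relIndex L - 1) + 1 := by
  obtain ⟨γ, -, -, -, ⟨a, hβ⟩, hb⟩ :=
    H2.Dade_Ind1_sub_lin h.dade h.coh h.one_lt (h.irr h.mem) h.mem h.one
  have hb := (hb (odd_Frobenius_index_ler (mFT_odd L) h.frob)).2
  set x := cfdot ⊤ (tauF L (bridgeI L φ)) (μ ψ) with hx
  have hx1 : 1 ≤ ‖x‖ ^ 2 :=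
    H2.one_le_sq_norm_of_int (vchar_dot_int h.beta_vchar (h'.dirr h'.mem).vchar) h0
  have hγ : ∀ ζ ∈ seqIndD (Fc M) M (Fc M) ⊥, cfdot ⊤ γ (μ ζ) = ζ 1 / (Fc M).relIndex M * x := by
    intro ζ hζ
    have := H2.disjoint_Dade_dot_coh (L₁ := L) h'.dade (h.disjoint h' hn) h'.coh h'.mem h'.one hζ
      (bridgeI L φ)
    rw [hx, ← this, bridgeI, hβ, cfdot_add_left, cfdot_add_left, cfdot_sub_left, cfdot_smul_left,
      cfdot_sum_left, h.ortho h' hn h.mem hζ, cfdot_symm_zero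
        (H2.Dade_Ind1_orth1 h'.dade h'.coh h'.one_lt (h'.irr h'.mem) h'.mem h'.one hζ),
      Finset.sum_eq_zero fun ξ hξ => by rw [cfdot_smul_left, h.ortho h' hn hξ hζ, mul_zero]]
    simp
  set Y := ∑ ζ ∈ seqIndD (Fc M) M (Fc M) ⊥, (ζ 1 / (Fc M).relIndex M / cfnorm M ζ) • μ ζ with hY
  have h1 : cfnorm ⊤ (x • Y) ≤ cfnorm ⊤ γ := by
    refine H2.cfnorm_le_of_dot_sub ?_
    rw [cfdot_smul_right, hY, cfdot_sum_right, Finset.sum_eq_zero, mul_zero]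
    intro ζ hζ
    rw [cfdot_smul_right, cfdot_sub_left, cfdot_smul_left, hγ ζ hζ,
      H2.sumS_dot h'.dade h'.coh hζ]
    ring
  rw [cfnorm_smul, hY, H2.sumS_norm h'.dade h'.coh] at h1
  have h2 : (0 : ℝ) < (Fc M).relIndex M := by exact_mod_cast relIndex_pos _ _
  have h3 : (1 : ℝ) ≤ ♯(Fc M) := by exact_mod_cast card_pos _
  have h4 : ((♯(Fc M) : ℝ) - 1) / (Fc M).relIndex M ≤ (Fc L).relIndex L - 1 :=
    (le_mul_of_one_le_left (div_nonneg (by linarith) h2.le) hx1).trans (h1.trans hb)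
  rw [div_le_iff₀ h2] at h4
  have h5 : (♯(Fc M) : ℝ) ≤ ((Fc M).relIndex M * ((Fc L).relIndex L - 1) + 1 : ℕ) := by
    push_cast [Nat.cast_sub (relIndex_pos (Fc L) L)]; linarith
  exact_mod_cast h5

theorem nonorth (h' : CohI M μ ψ) (hn : ∀ g, M ≠ cj g L) :
    cfdot ⊤ (tauF L (bridgeI L φ)) (μ ψ) ≠ 0 ∨ cfdot ⊤ (tauF M (bridgeI M ψ)) (ν φ) ≠ 0 :=
  Dade_sub_lin_nonorthogonal mFT_odd_card h.dade h'.dade (h.disjoint h' hn) h.coh h'.coh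
    (h.irr h.mem) h.mem h.one (h'.irr h'.mem) h'.mem h'.one

end CohI

section pair
variable {S T U V W W₁ W₂ L : Subgroup G} (hS : TypeP S U W W₁ W₂) (mS : IsCoatom S)
  (hT : TypeP T V W W₂ W₁) (mT : IsCoatom T) {ν : (G → ℂ) →ₗ[ℂ] (G → ℂ)} {φ : G → ℂ}
include hS mS

theorem eta_ortho (h : CohI L ν φ) {ξ : G → ℂ} (hξ : ξ ∈ seqIndD (Fc L) L (Fc L) ⊥) {ω : G → ℂ}
    (hω : ω ∈ Irr W) : cfdot ⊤ (ν ξ) (eta W W₁ W₂ ω) = 0 :=
  let ⟨_, hj, h1⟩ := hS.cTI.exists_J_ne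
  (hS.typeI_bridge_facts mS h.max h.typeI h.coh h.mem h.one hj h1).2.1 ξ hξ ω hω

include hT mT

/-- (14.11.2). -/
theorem support_coherence (h : CohI L ν φ) (he : (Fc L).relIndex L ≤ ♯W₂ * ♯W₁)
    (hu : (((♯U - 1) / ♯W₁ : ℕ) : ℝ) < (♯(Fc L) - 1) / (Fc L).relIndex L)
    (hv : (((♯V - 1) / ♯W₂ : ℕ) : ℝ) < (♯(Fc L) - 1) / (Fc L).relIndex L) :
    (Fc L).relIndex L = ♯W₂ * ♯W₁ ∧ ∃ a : (G → ℂ) → ℤ, (∀ ω ∈ Irr W, Odd (a ω)) ∧
      ∃ χ, (χ = ν φ ∨ χ = -conjC (ν φ)) ∧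
        tauF L (bridgeI L φ) = ∑ ω ∈ Irr W, (a ω : ℂ) • eta W W₁ W₂ ω - χ := by
  classical
  have hc := hS.cTI
  set β := tauF L (bridgeI L φ) with hβ
  have hηv : ∀ ω ∈ Irr W, eta W W₁ W₂ ω ∈ vchar ⊤ := fun ω hω => (hc.iso_dirr hω).vchar
  have h1 : cfdot ⊤ β (eta W W₁ W₂ (cfOne W)) = (1 : ℤ) := by
    rw [hc.iso_one, Int.cast_one]; exact H2.Dade_Ind1_dot_cfOne h.dade h.mem h.one
  have hJ : ∀ j ∈ irrK W W₁, ∃ n : ℤ, Odd n ∧ cfdot ⊤ β (eta W W₁ W₂ j) = n := fun j hj => by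
    by_cases h2 : j = cfOne W
    · exact ⟨1, odd_one, h2 ▸ h1⟩
    · exact ((hS.typeI_bridge_facts mS h.max h.typeI h.coh h.mem h.one hj h2).2.2.2.resolve_left
        fun h3 => h3.2.not_gt hu).1
  have hI : ∀ i ∈ irrK W W₂, ∃ n : ℤ, Odd n ∧ cfdot ⊤ β (eta W W₁ W₂ i) = n := fun i hi => by
    by_cases h2 : i = cfOne W
    · exact ⟨1, odd_one, h2 ▸ h1⟩
    · have := ((hT.typeI_bridge_facts mT h.max h.typeI h.coh h.mem h.one hi h2).2.2.2.resolve_left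
        fun h3 => h3.2.not_gt hv).1
      rwa [eta, cycIso_symm] at this
  have hV : ∀ x ∈ cycV W W₁ W₂, β x = 0 := fun x hx => by
    obtain ⟨j, hj, h2⟩ := hc.exists_J_ne
    have := (hS.typeI_bridge_facts mS h.max h.typeI h.coh h.mem h.one hj h2).1
    rw [h.supp_eq] at this
    exact Dade_mem_cfOn _ _ _ _ x
      (Set.disjoint_right.1 this (Or.inr (subset_classSupp _ _ hx.1)))
  have ha : ∀ ω ∈ Irr W, ∃ n : ℤ, Odd n ∧ cfdot ⊤ β (eta W W₁ W₂ ω) = n := fun ω hω => by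
    obtain ⟨i, hi, j, hj, rfl⟩ := hc.exists_ij hω
    obtain ⟨m, hm, em⟩ := hI i hi
    obtain ⟨n, hn, en⟩ := hJ j hj
    have := hc.cfdot_exchange (vchar_CF h.beta_vchar) hV hi hj hc.one_I hc.one_J
    rw [mul_cfOne (irr_cfOn (cfOne_mem_Irr W)), mul_cfOne (irr_cfOn (irrK_sub _ _ hi)),
      cfOne_mul (irr_cfOn (irrK_sub _ _ hj)), h1, em, en] at this
    exact ⟨m + n - 1, (hm.add_odd hn).sub_odd odd_one, by push_cast at this ⊢; linear_combination this⟩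
  choose! a ha1 ha2 using ha
  have ho1 : ∀ ω ∈ Irr W, cfdot ⊤ (eta W W₁ W₂ ω) (eta W W₁ W₂ ω) = 1 := fun ω hω =>
    (hc.iso_dirr hω).dot_self
  have ho : ∀ ω ∈ Irr W, ∀ ω' ∈ Irr W, ω ≠ ω' → cfdot ⊤ (eta W W₁ W₂ ω) (eta W W₁ W₂ ω') = 0 :=
    fun ω hω ω' hω' hne => by rw [hc.iso_dot_irr hω hω', if_neg hne]
  have hp := cfnorm_eq_proj ho1 ho β
  rw [Finset.sum_congr rfl fun ω hω => congrArg (· • eta W W₁ W₂ ω) (ha2 ω hω),
    cfnorm_sub_comm] at hp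
  set χ := ∑ ω ∈ Irr W, (a ω : ℂ) • eta W W₁ W₂ ω - β with hχ
  have hχv : χ ∈ vchar ⊤ :=
    sub_mem (sum_mem fun ω hω => intCast_smul_mem _ (hηv ω hω)) h.beta_vchar
  obtain ⟨c1, c2, c3⟩ := H2.cohC1_conjC h.dade h.coh mFT_odd_card (h.irr h.mem) h.mem
  have hφc := H2.seqIndC1_conjC h.mem
  have hd : cfdot ⊤ χ (ν φ) - cfdot ⊤ χ (conjC (ν φ)) = 1 := by
    have e : ∀ ξ ∈ seqIndD (Fc L) L (Fc L) ⊥, cfdot ⊤ χ (ν ξ) = -cfdot ⊤ β (ν ξ) := fun ξ hξ => by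
      rw [hχ, cfdot_sub_left, cfdot_sum_left, Finset.sum_eq_zero, zero_sub]
      intro ω hω
      rw [cfdot_smul_left, cfdot_symm_zero (eta_ortho hS mS h hξ hω), mul_zero]
    have e2 : cfdot ⊤ β (ν φ - conjC (ν φ)) = -1 := by
      rw [← c3, hβ, bridgeI, Dade_isometry h.dade (H2.Ind1_sub_CFon h.dade h.mem h.one)
        (sub_mem (irr_CF (h.irr h.mem)) (irr_CF (h.irr hφc))), cfdot_sub_left, cfdot_sub_right,
        cfdot_sub_right, cfdot_symm_zero (H2.seqIndC1_dot_ind1 (Fc_nml L) h.mem),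
        cfdot_symm_zero (H2.seqIndC1_dot_ind1 (Fc_nml L) hφc), irr_dot_self (h.irr h.mem),
        H2.seqIndC1_dot_conjC (Fc_nml L) (mFT_odd L) h.mem]
      norm_num
    rw [cfdot_sub_right, c1] at e2
    rw [c1, e _ h.mem, e _ hφc]
    linear_combination -e2
  have hχ1 : 1 ≤ cfnorm ⊤ χ := vchar_one_le_norm hχv fun e => by
    rw [e, cfdot_zero_left, cfdot_zero_left] at hd; norm_num at hd
  have hs : ((♯W₂ * ♯W₁ : ℕ) : ℝ) ≤ ∑ ω ∈ Irr W, ‖cfdot ⊤ β (eta W W₁ W₂ ω)‖ ^ 2 := by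
    refine le_trans (le_of_eq ?_) (Finset.sum_le_sum fun ω hω => odd_int_norm ⟨_, ha1 ω hω, ha2 ω hω⟩)
    rw [hc.sum_Irr]; simp [hc.card_I, hc.card_J, mul_comm]
  have hn : cfnorm ⊤ β = (Fc L).relIndex L + 1 :=
    H2.Dade_Ind1_norm h.dade (h.irr h.mem) h.mem h.one
  have he' : ((Fc L).relIndex L : ℝ) ≤ (♯W₂ * ♯W₁ : ℕ) := by exact_mod_cast he
  have hχd : IsDirr ⊤ χ := vchar_norm_one hχv (by linarith)
  refine ⟨le_antisymm he (by exact_mod_cast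
    (by linarith : ((♯W₂ * ♯W₁ : ℕ) : ℝ) ≤ (Fc L).relIndex L)), a, ha1, χ,
    ?_, by rw [hχ, sub_sub_cancel]⟩
  have hd2 : IsDirr ⊤ (conjC (ν φ)) := (h.dirr h.mem).aut _
  rcases hχd.dot_cases (h.dirr h.mem) with h2 | ⟨-, h2⟩ | h2
  · exact Or.inl h2.1
  all_goals
    rw [h2] at hd
    rcases hχd.dot_cases hd2 with ⟨-, h3⟩ | h3 | h3
    · rw [h3] at hd; norm_num at hd
    · exact Or.inr h3.1
    · rw [h3] at hd; norm_num at hd

omit mS hT mT in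
/-- the parity argument of (14.11.3). -/
theorem sum_eta_odd {a : (G → ℂ) → ℤ} (ha : ∀ ω ∈ Irr W, Odd (a ω)) {g : G}
    (hg : (orderOf g).Coprime ♯W) :
    ∃ n : ℤ, Odd n ∧ (∑ ω ∈ Irr W, (a ω : ℂ) • eta W W₁ W₂ ω) g = n := by
  classical
  have hc := hS.cTI
  have hn : ∀ ω ∈ Irr W, ∃ n : ℤ, eta W W₁ W₂ ω g = n := fun ω hω =>
    hc.iso_int_coprime hω (card_pos W) (fun x hx => by
      obtain ⟨k, hk⟩ := orderOf_dvd_card' hx
      rw [hk, pow_mul, (hc.lin hω).pow_orderOf hx, one_pow]) hg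
  choose! n hn using hn
  refine ⟨∑ ω ∈ Irr W, a ω * n ω, ?_, by
    rw [Finset.sum_apply, Int.cast_sum]
    exact Finset.sum_congr rfl fun ω hω => by rw [Pi.smul_apply, hn ω hω]; simp⟩
  have h1 : n (cfOne W) = 1 := by
    have := hn _ (cfOne_mem_Irr W)
    rw [hc.iso_one, cfOne_top_apply] at this
    exact_mod_cast this.symm
  have h2 : ∀ ω ∈ Irr W, n (conjC ω) = n ω := fun ω hω => by
    have := congrFun (hc.iso_aut (starRingEnd ℂ) (irr_CF hω)) g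
    rw [hn _ (irr_conjC hω), ← conjC, conjC_apply, hn ω hω, map_intCast] at this
    exact_mod_cast this.symm
  rw [← ZMod.intCast_eq_one_iff_odd, Int.cast_sum,
    Finset.sum_congr rfl fun ω hω => by
      rw [Int.cast_mul, ZMod.intCast_eq_one_iff_odd.2 (ha ω hω), one_mul],
    ← Finset.add_sum_erase _ _ (cfOne_mem_Irr W), h1, Int.cast_one, add_eq_left]
  refine Finset.sum_involution (fun ω _ => conjC ω) (fun ω hω => ?_) (fun ω hω _ => ?_)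
    (fun ω hω => ?_) (fun ω hω => conjC_conjC ω)
  · rw [h2 ω (Finset.mem_of_mem_erase hω)]; exact CharTwo.add_self_eq_zero _
  · exact hc.conjC_ne (Finset.mem_of_mem_erase hω) (Finset.ne_of_mem_erase hω)
  · exact Finset.mem_erase.2 ⟨mt conjC_eq_cfOne_iff.1 (Finset.ne_of_mem_erase hω),
      irr_conjC (Finset.mem_of_mem_erase hω)⟩

end pair

end H27.PF14
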