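import Mathlib
import Cfsg.Agent.H2.PF14b
import Cfsg.Agent.H2.AppC

/-!
# Peterfalvi §14: (14.4) to (14.11)
-/

set_option autoImplicit false
set_option linter.unusedSectionVars false

namespace H27.PF14

open Cfsg H24 H25 H2.PF14
open scoped ComplexConjugate

universe u

variable {G : Type u} [Group G] [Finite G] [FT G]
variable {S T U V W W₁ W₂ L : Subgroup G} (hS : TypeP S U W W₁ W₂) (mS : IsCoatom S)
  (hT : TypeP T V W W₂ W₁) (mT : IsCoatom T)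
include hS mS hT mT

/-- (13.17) restated. -/
theorem support_facts (h2 : IsOfTypeII S) (hL : IsCoatom L) (hU : N[U] ≤ L) :
    FrobK L (Fc L) ∧ U ≤ Fc L ∧
      (SD (Fc L) W₁ L ∨ ∃ y ∈ Fc T, SD (Fc L) (cj y W) L ∧ W₁ ≤ cj y W) := by
  obtain ⟨h1, h3, h4⟩ := hS.typeII_support_facts mS h2 (hS.pair mS mT hT) hL hU
  refine ⟨h1, h3, h4.imp_right fun ⟨y, hy, h5⟩ => ⟨y, hy, ?_⟩⟩
  rw [hS.defW, cj_sup, cj_of_mem_C ((hT.facts_b mT).1.abl.cents le_rfl hT.le2 hy)]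
  exact ⟨h5, le_sup_left⟩

variable (hqp : ♯W₁ < ♯W₂)
include hqp

omit mS hT mT in
theorem five_le : 5 ≤ ♯W₂ := by
  have := hS.cTI.two_lt1
  obtain ⟨a, ha⟩ := mFT_odd W₂
  omega

/-- (14.4). -/
theorem galT : TypePGalois T V := by
  by_contra hg
  have := (hT.nonGalois_facts mT hg).1
  have := five_le hS hqp
  omega

theorem card_V : ♯V = gN ♯W₁ ♯W₂ := by
  rw [hT.card_Galois_compl mT (galT hS mS hT mT hqp), Nat.mod_eq_of_lt hqp,
    if_neg (one_lt_card hS.ne1).ne']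

/-- (14.8)(b). -/
theorem u_lt_v : (((♯U - 1) / ♯W₁ : ℕ) : ℝ) < ((♯V : ℝ) - 1) / ♯W₂ := by
  have h1 := gN_swap hS.cTI.two_lt1 hqp (five_le hS hqp)
  rw [← card_V hS mS hT mT hqp] at h1
  have h2 : (♯U - 1) * ♯W₂ < (♯V - 1) * ♯W₁ :=
    lt_of_le_of_lt (Nat.mul_le_mul_right _ (Nat.sub_le_sub_right (u_le hS mS) 1)) h1
  refine Nat.cast_div_le.trans_lt ?_
  rw [div_lt_div_iff₀ (cardR_pos _) (cardR_pos _), ← Nat.cast_pred (card_pos V)]
  exact_mod_cast h2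

/-- (14.5). -/
theorem L_facts (hL : IsCoatom L) (hU : N[U] ≤ L) :
    FrobK L (Fc L) ∧ U ≤ Fc L ∧ ∃ y ∈ Fc T, SD (Fc L) (cj y W) L ∧ W₁ ≤ cj y W := by
  have h2 := (hS.facts_a mS).2.1 hqp
  obtain ⟨h1, h3, h4⟩ := support_facts hS mS hT mT h2 hL hU
  refine ⟨h1, h3, h4.resolve_left fun h4 => ?_⟩
  obtain ⟨ν, φ, h⟩ := exists_cohI hL h1
  obtain ⟨j, hj, hj1⟩ := hS.cTI.exists_J_ne
  rcases (hS.typeI_bridge_facts mS hL h.typeI h.coh h.mem h.one hj hj1).2.2.2 with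
    ⟨-, h5⟩ | ⟨-, h5⟩
  · have h6 := h5.trans Nat.cast_div_le
    rw [h4.relIndex_left, div_le_div_iff_of_pos_right (cardR_pos _), Nat.cast_pred (card_pos U),
      sub_le_sub_iff_right, Nat.cast_le] at h6
    exact not_sd_of_eq hS mS h2 hU (by rwa [← eq_of_card_ge h3 h6] at h4)
  · rw [h4.relIndex_left] at h5; omega

omit mS hT mT hqp in
theorem cjW₂ {y : G} (h : SD (Fc L) (cj y W) L) : cj y W₂ ≤ L ∧ Fc L ⊓ cj y W₂ = ⊥ :=
  have h1 := cj_mono y hS.cTI.le2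
  ⟨h1.trans h.right_le, eq_bot_of_le h.inf (inf_le_inf_left _ h1)⟩

/-- (14.6). -/
theorem galS : TypePGalois S U := by
  by_contra hg
  have h2 := (hS.facts_a mS).2.1 hqp
  have hU1 := (hS.facts_a mS).2.2.1.ker_ne
  obtain ⟨L, hL, hU⟩ := exists_mmax_norm hU1 (sub_mmax_proper mS hS.leUM)
  obtain ⟨hF, hUH, y, -, hy, -⟩ := L_facts hS mS hT mT hqp hL hU
  obtain ⟨hq, hu⟩ := hS.nonGalois_facts mS hg
  obtain ⟨H₁, a, hH⟩ := hS.Galois_Pn mS (FTtype5_exclusion mS) hg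
  obtain ⟨f, hf⟩ := hH.emb
  have ha := hH.dvd
  rw [hS.pP_eq mS] at ha
  have hp := (hS.primes mS).2
  have hp5 := five_le hS hqp
  have hexp : ∀ x ∈ U, orderOf x ∣ ♯W₂ - 1 := fun x hx => by
    refine (orderOf_dvd_of_pow_eq_one ?_).trans ha
    have := (hf (⟨x, hx⟩ ^ a)).1 (by
      rw [map_pow]; apply Multiplicative.toAdd.injective; funext i; simp)
    rwa [hS.pC_eq_bot mS, Subgroup.mem_bot] at this
  have hnc : ¬ Cyc U := fun hc => by
    obtain ⟨x, hx, e⟩ := hc.exists_gen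
    have h3 := hexp x hx
    rw [← card_zpowers', e] at h3
    obtain ⟨m, hm⟩ := mFT_odd W₂
    have ou := mFT_odd U
    rw [hm, Nat.add_sub_cancel] at h3 hu
    rw [Nat.mul_div_cancel_left _ two_pos] at hu
    have h4 := Nat.le_of_dvd (by omega) ((Nat.coprime_two_right.2 ou).dvd_of_dvd_mul_left h3)
    rw [hu] at h4
    have : 2 ≤ m := by omega
    nlinarith
  obtain ⟨r, hr, A, hA⟩ := abl_exists_pnElem_two (hS.facts_a mS).2.2.2 hnc
  have hrU := hA.prime_dvd_card two_pos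
  have hPU : (♯(Fc S)).Coprime ♯U := by
    have := (Fc_isHall S).2
    rw [hS.sdF.relIndex_left] at this
    exact this.coprime_dvd_right (card_dvd le_sup_left)
  obtain ⟨x, hx, hx1, hc⟩ := exists_cent1_ne_bot hA.abl (hA.not_cyc hr le_rfl)
    (hA.le.trans hS.sdHU.norm) (hPU.coprime_dvd_right (card_dvd hA.le)) hS.Fc_ne
  have hxA : x ∈ typeA0 S := by
    refine typeA_sub0 S ?_
    rw [hS.typeA_def]
    obtain ⟨z, hz, hz1, e⟩ := exists_comm_iff.2 hc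
    exact ⟨hS.leU (hA.le hx), hx1, z, hS.Fc_le_core hz, hz1, e⟩
  have hrp : r < ♯W₂ := by
    have h3 := hexp x (hA.le hx)
    rw [hA.elem.orderOf_eq hr hx hx1] at h3
    have := Nat.le_of_dvd (by omega) h3
    omega
  have hR := (Fc_nil L).le_pcore (hA.isPi hr) (hA.le.trans hUH)
  have hZ1 : omegaOne r Z[O[{r}, Fc L]] ≠ ⊥ :=
    omegaOne_ne_bot_of_pgroup ((pcore_pi _ _).inf_left _) (((pcore_pi _ _).nil hr).center_ne_bot
      (ne_bot_of_le (hA.ne_bot hr two_pos) hR))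
  have hZe := omegaOne_elem (p := r) (abl_center O[{r}, Fc L])
  have hZS : omegaOne r Z[O[{r}, Fc L]] ≤ S := (omegaOne_le _ _).trans
    (inf_le_right.trans ((C_le_C1 (hR hx)).trans ((hS.facts_e mS).1.cent1_le hxA)))
  have hi : ¬ r ∣ U.relIndex S := fun hd => by
    have e := card_mul_relIndex hS.leUM
    rw [card_S hS mS, mul_right_comm, mul_comm] at e
    rw [Nat.eq_of_mul_eq_mul_right (card_pos U) e] at hd
    rcases (Nat.Prime.dvd_mul hr).1 hd with hd | hd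
    · exact hr.one_lt.ne' (Nat.eq_one_of_dvd_coprimes hPU hd hrU)
    · exact hr.one_lt.ne' (Nat.eq_one_of_dvd_coprimes (hS.facts_a mS).2.2.1.coprime hrU hd)
  obtain ⟨R, hR0⟩ := Sylow_exists hr U
  have hrk := ((FTtypeI_II_facts mS (Or.inr ⟨h2, hS.sdHU⟩)).1 r R hr hR0).2
  rw [rank_Syl hr hR0, prank_eq_of_not_dvd_relIndex hr hS.leUM hi] at hrk
  obtain ⟨h3, h4⟩ := cjW₂ hS hy
  have h5 := frobK_dvd hF h3 h4 ((omegaOne_le r _).trans (inf_le_left.trans (pcore_le {r} _)))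
    (norm_omegaOne _ (norm_Z (norm_pcore _ (h3.trans (Fc_nml L).norm))))
  rw [card_cj, hZe.card_eq hr] at h5
  exact not_dvd_small hp (mFT_odd _) (mFT_odd_prime hrU) hr.one_lt hrp
    ((prank_pos_iff hr).2 ((hZe.isPi hr).dvd_card hZ1)) ((prank_mono hr hZS).trans hrk) h5

theorem card_U : ♯U = gN ♯W₂ ♯W₁ ∨ (♯W₂ % ♯W₁ = 1 ∧ ♯U * ♯W₁ = gN ♯W₂ ♯W₁) := by
  have h := hS.card_Galois_compl mS (galS hS mS hT mT hqp)
  split_ifs at h with h1
  · refine Or.inr ⟨h1, ?_⟩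
    rw [h, Nat.div_mul_cancel ((primes_mod_cases (hS.primes mS).2 (hS.primes mS).1
      (mFT_ne_two dvd_rfl) (mFT_ne_two dvd_rfl)).2.1 h1)]
  · exact Or.inl h

/-- (14.7), with Theorem C of B & G, Appendix C. -/
theorem not_norm_U (hL : IsCoatom L) (hU : N[U] ≤ L) (hn : L ≤ N[U]) : False := by
  obtain ⟨hF, hUH, y, hyQ, hy, -⟩ := L_facts hS mS hT mT hqp hL hU
  obtain ⟨h3, h4⟩ := cjW₂ hS hy
  obtain ⟨hq, hp⟩ := hS.primes mS
  rcases card_U hS mS hT mT hqp with hu | ⟨-, hu⟩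
  swap
  · have := frobK_dvd hF h3 h4 hUH (h3.trans hn)
    rw [card_cj] at this
    exact not_small_compl hq.two_le hqp hu this
  obtain ⟨⟨F, _, _, f, ψ, hFc, hM⟩, -, hc⟩ := gal_model hS mS (galS hS mS hT mT hqp)
  have := Fact.mk hp
  have := Fact.mk hq
  have h0 : ∀ x ∈ Fc S, f x ^ ♯W₂ = f x → x ∈ W₂ := fun x hx e => by
    simpa using (hM.prime x hx).2 e
  refine hqp.not_ge (H2.AppC.theoremC ♯W₂ ♯W₁ (hu ▸ hc :) hFc (Fc S) U (Fc T) f ψ
    ⟨fun _ _ => trivial, fun a ha b hb e => ?_, fun z _ => hM.surj z⟩ hM.add hS.sdHU.norm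
    (fun u hu => ⟨hM.ne u hu, hM.act u hu⟩) hM.mul (fun a ha b hb e => ?_)
    (by rw [hu, gN_mul hp.two_le]) (hT.facts_b mT).1.abl ?_
    (fun x hx e => (Fc_nml T).norm (hT.le1 (h0 x hx e))) y hyQ
    fun x hx e => hn (h3 (conj_mem_cj y (h0 x hx e))))
  · have h5 := hM.add _ (mul_mem ha (inv_mem hb)) b hb
    rw [inv_mul_cancel_right, e, right_eq_add] at h5
    exact mul_inv_eq_one.1 ((hM.ker _ (mul_mem ha (inv_mem hb))).1 h5)
  · have h5 := hM.mul _ (mul_mem ha (inv_mem hb)) b hb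
    rw [inv_mul_cancel_right, e] at h5
    exact mul_inv_eq_one.1 ((hM.kerU _ (mul_mem ha (inv_mem hb))).1
      (mul_right_cancel₀ (hM.ne b hb) (by rw [← h5, one_mul])))
  · rw [(hT.facts_b mT).2]
    exact hS.cTI.cop.pow_left _

/-- (14.9). -/
theorem typeII_T : IsOfTypeII T := by
  classical
  by_contra h2
  have hc := hS.cTI
  have hp := (hS.primes mS).2
  have hK := der1_nml T
  have hcore := hT.core_of_not_II mT h2
  have hE := (hT.type34_structure mT h2).1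
  rw [hT.reg_Fcore mT, sup_bot_eq] at hE
  set 𝒯 := seqIndD ⁅T, T⁆ T ⁅T, T⁆ (Fc T) with h𝒯
  have hsub : ConjSub 𝒯 (seqIndD ⁅T, T⁆ T (typeCore T) ⊥) :=
    seqIndD_conjSub _ _ hcore.ge bot_le
  have hmem : ∀ ζ ∈ 𝒯, ζ ∈ Irr T ∧ ζ 1 = ♯W₂ := fun ζ hζ => by
    obtain ⟨θ, hθ, h3, h4, rfl⟩ := mem_seqIndD.1 hζ
    refine ⟨?_, ?_⟩
    · refine ((hT.prTI.res_irr_cases hθ).resolve_left ?_).1
      rintro ⟨j, hj, rfl⟩
      by_cases h5 : j = cfOne W
      · rw [h5, hT.prTI.res_one, cfker_cfOne] at h4; exact h4 le_rfl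
      · exact hT.prTI.not_le_cfker_res hj h5 (hT.le2.trans h3)
    · have h5 := hT.der2_le
      rw [← hT.dpF.sup, hT.reg_Fcore mT, sup_bot_eq] at h5
      rw [cfInd_one hK.le, (irr_lin_of_der_le hθ (h5.trans h3)).one, hT.sdM.relIndex_left, mul_one]
  have hcard : (𝒯.card : ℝ) = ((♯V : ℝ) - 1) / ♯W₂ := by
    have := sum_seqIndD_square hK hK (Fc_nml T) hT.Fc_le le_rfl
    rw [Finset.sum_congr rfl fun ζ hζ => by
      rw [deg_eq_of (hmem ζ hζ).2, irr_norm (hmem ζ hζ).1, div_one], Finset.sum_const,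
      hT.sdM.relIndex_left, hT.sdHU.relIndex_left, Subgroup.relIndex_self, nsmul_eq_mul] at this
    have h3 := cardR_pos W₂
    rw [eq_div_iff h3.ne']
    refine mul_right_cancel₀ h3.ne' ?_
    push_cast at this
    linarith
  obtain ⟨R₀, hR, -⟩ := hT.subcoherent mT
  obtain ⟨τ, hτ⟩ := (hR.sub hsub).uniform_degree_coherence fun φ hφ ψ hψ => by
    rw [(hmem φ hφ).2, (hmem ψ hψ).2]
  have hτη : ∀ ζ ∈ 𝒯, ∀ ω ∈ Irr W, cfdot ⊤ (τ ζ) (eta W W₁ W₂ ω) = 0 := fun ζ hζ ω hω => by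
    have := hT.coherent_ortho_cycTIiso mT hsub hτ hζ (hmem ζ hζ).1 hω
    rwa [eta, cycIso_symm] at this
  obtain ⟨j, hj, hj1⟩ := hc.exists_J_ne
  have hjW := irrK_sub _ _ hj
  obtain ⟨⟨b1, b2, b3⟩, -, ⟨-, g1, g2⟩, hY, -⟩ := hS.bridge_facts mS hj hj1
  set Γ := gapP S W W₁ W₂ j with hΓ
  have hΓv : Γ ∈ vchar ⊤ := add_mem (sub_mem (Dade_vchar (FT_Dade0_hyp mS) b3 b1.2)
    (cfOne_vchar _)) (hc.iso_dirr hjW).vchar
  have hodd : ∀ ζ ∈ 𝒯, ∃ n : ℤ, Odd n ∧ cfdot ⊤ Γ (τ ζ) = n := fun ζ hζ => by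
    have hζT := seqIndD_subT _ _ _ _ hζ
    have hζc := hsub.conj_mem ζ hζ
    have hν := hT.prTI.red_one
    have hon : prRed T W W₂ W₁ (cfOne W) - ζ ∈ CFon T (shp ⁅T, T⁆) := by
      have := H2.sub_mem_CFon1 hK (H2.ind1_mem_seqIndT _ _) hζT (c := 1)
        (by rw [H2.ind1_apply_one hK.le, (hmem ζ hζ).2, hT.sdM.relIndex_left, one_mul])
      rwa [one_smul, ← hν] at this
    have hon0 : prRed T W W₂ W₁ (cfOne W) - ζ ∈ CFon T (typeA0 T) :=
      ⟨hon.1, fun x hx => hon.2 x fun h => hx (typeA_sub0 T (by rwa [hT.typeA_of_not_II mT h2]))⟩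
    have hE := hE ζ hζ
    set B := tau0 T (prRed T W W₂ W₁ (cfOne W) - ζ) with hB
    have hBv : B ∈ vchar ⊤ := Dade_vchar (FT_Dade0_hyp mT)
      (sub_mem (hT.prTI.red_char hT.cTI.one_J).vchar (irr_vchar (hmem ζ hζ).1)) hon0.2
    have hBη : ∀ k ∈ irrK W W₁, cfdot ⊤ B (eta W W₁ W₂ k) = if k = cfOne W then 1 else 0 :=
      fun k hk => by
      have h3 := hE k (irrK_sub _ _ hk)
      have h4 := hc.dot_col hc.one_J hc.one_I hk
      rw [Finset.sum_congr rfl fun i hi => by rw [mul_cfOne (irr_cfOn (irrK_sub _ _ hi))],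
        cfOne_mul (irr_cfOn (irrK_sub _ _ hk))] at h4
      rw [cfdot_sub_left, sub_eq_zero, eta, cycIso_symm] at h3
      rw [h3, h4]; simp only [eq_comm]
    have hB1 : cfdot ⊤ B (cfOne ⊤) = 1 := by
      have := hBη _ hc.one_J
      rwa [hc.iso_one, if_pos rfl] at this
    have hdis : cfdot ⊤ (tau0 S (bridgeP S W W₁ W₂ j)) B = 0 := by
      rw [(hS.facts_e mS).2 _ b1, hB, (hT.facts_e mT).2 _ hon0]
      refine cfdot_eq_zero_of_disjoint (A := {x | ♯W₂ ∣ orderOf x}) (B := {x | ♯W₂ ∣ orderOf x}ᶜ)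
        (cfInd_mem_cfOn_of_conj _ _ (fun x hx => b2.2 x fun h => hx ?_) fun g _ a ha => ?_)
        (cfInd_mem_cfOn_of_conj _ _ (fun x hx => hon.2 x fun h => hx fun h3 => ?_)
          fun g _ a ha => ?_) disjoint_compl_right
      · rcases h with h | h
        · exact ((Fc_pi hS mS).piElt h.1).dvd_orderOf h.2
        · obtain ⟨g, -, hg⟩ := mem_classSupp.1 h
          obtain ⟨a, ha, -, b, hb, hb1, e⟩ := hc.exists_of_mem_V hg
          have h4 := orderOf_dvd_of_mem_zpowers (mem_zpowers_mul_right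
            (hc.abl.comm (hc.le1 ha) (hc.le2 hb)) ((hc.cop.coprime_dvd_left
              (orderOf_dvd_card' ha)).coprime_dvd_right (orderOf_dvd_card' hb)))
          rwa [← e, orderOf_conj, ← card_zpowers', zpowers_eq_of_prime hp hb hb1] at h4
      · rwa [Set.mem_ofPred_eq, orderOf_conj]
      · exact hp.one_lt.ne' (Nat.eq_one_of_dvd_coprimes hT.cop_der
          (Dvd.dvd.trans h3 (orderOf_dvd_card' h.1)) dvd_rfl)
      · rwa [Set.mem_compl_iff, Set.mem_ofPred_eq, orderOf_conj]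
    have hreal : conjC (B - cfOne ⊤ + τ ζ) = B - cfOne ⊤ + τ ζ := by
      have h3 := hτ.ext _ (sub_conjC_mem_zsp0 hζ hζc (irr_vchar (hmem ζ hζ).1))
      rw [conjC_add, conjC_sub, conjC_cfOne, cfConjC_Dade_coherent (FT_Dade0_hyp mT) hτ (mFT_odd T)
        hK le_rfl (hmem ζ hζ).1 hζ, hB, ← Dade_conjC, conjC_sub, hν, H2.conjC_ind1]
      simp only [map_sub] at h3 ⊢
      linear_combination -h3
    obtain ⟨n, hn⟩ := cfdot_real_vchar_even (mFT_odd ⊤) hΓv g2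
      (add_mem (sub_mem hBv (cfOne_vchar _)) (hτ.vchar hζ)) hreal
    have hΓB : cfdot ⊤ Γ B = -1 := by
      rw [hΓ, gapP, cfdot_add_left, cfdot_sub_left, hdis,
        vchar_dot_comm (cfOne_vchar _) hBv, hB1, vchar_dot_comm (hc.iso_dirr hjW).vchar hBv,
        hBη j hj, if_neg hj1]
      norm_num
    rw [cfdot_add_right, cfdot_sub_right, g1, hΓB] at hn
    exact ⟨2 * n + 1, odd_two_mul_add_one n, by push_cast; linear_combination hn⟩
  have ho : ∀ ω ∈ Irr W, ∀ ω' ∈ Irr W, ω ≠ ω' → cfdot ⊤ (eta W W₁ W₂ ω) (eta W W₁ W₂ ω') = 0 :=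
    fun ω hω ω' hω' hne => by rw [hc.iso_dot_irr hω hω', if_neg hne]
  set X := ∑ ω ∈ Irr W, cfdot ⊤ Γ (eta W W₁ W₂ ω) • eta W W₁ W₂ ω with hX
  have hYη : ∀ ω ∈ Irr W, cfdot ⊤ (Γ - X) (eta W W₁ W₂ ω) = 0 := fun ω hω => by
    rw [cfdot_sub_left, hX, cfdot_sum_orth_left ho _ hω, (hc.iso_dirr hω).dot_self, mul_one, sub_self]
  have h3 := hY X (Γ - X) (add_sub_cancel _ _).symm (by
    rw [hX, cfdot_sum_left]
    exact Finset.sum_eq_zero fun ω hω => by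
      rw [cfdot_smul_left, ← hX, cfdot_symm_zero (hYη ω hω), mul_zero]) hYη
  have h4 := sum_sq_cfdot_le (s := 𝒯) (e := τ) (fun ζ hζ => (hτ.dirr hζ (hmem ζ hζ).1).dot_self)
    (fun ζ hζ ξ hξ hne => by rw [hτ.dot hζ hξ, irr_dot_ne (hmem ζ hζ).1 (hmem ξ hξ).1 hne]) (Γ - X)
  have h5 : (𝒯.card : ℝ) ≤ ∑ ζ ∈ 𝒯, ‖cfdot ⊤ (Γ - X) (τ ζ)‖ ^ 2 := by
    rw [Finset.card_eq_sum_ones, Nat.cast_sum]
    refine Finset.sum_le_sum fun ζ hζ => ?_
    rw [cfdot_sub_left, hX, cfdot_sum_left, Finset.sum_eq_zero fun ω hω => by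
      rw [cfdot_smul_left, cfdot_symm_zero (hτη ζ hζ ω hω), mul_zero], sub_zero, Nat.cast_one]
    exact odd_int_norm (hodd ζ hζ)
  have := u_lt_v hS mS hT mT hqp
  linarith

/-- (14.11). -/
theorem M_facts {M : Subgroup G} (hM : IsCoatom M) (hV : N[V] ≤ M) :
    FrobK M (Fc M) ∧ Fc M = V ∧ (Fc M).relIndex M = ♯W₂ * ♯W₁ := by
  have h2 := typeII_T hS mS hT mT hqp
  have hc := hS.cTI
  obtain ⟨hF, hVK, h3⟩ := support_facts hT mT hS mS h2 hM hV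
  have hW : ∀ y, SD (Fc M) (cj y W) M → (Fc M).relIndex M = ♯W₂ * ♯W₁ := fun y h => by
    rw [h.relIndex_left, card_cj, hc.card_W, mul_comm]
  refine ⟨hF, ?_⟩
  by_cases hKV : Fc M = V
  · refine ⟨hKV, h3.elim (fun h => ?_) fun ⟨y, _, h, _⟩ => hW y h⟩
    exact (not_sd_of_eq hT mT h2 hV (hKV ▸ h)).elim
  exfalso
  obtain ⟨he, hW₂, hi⟩ : (Fc M).relIndex M ≤ ♯W₂ * ♯W₁ ∧ W₂ ≤ M ∧ Fc M ⊓ W₂ = ⊥ := by
    rcases h3 with h | ⟨y, -, h, h4⟩
    · exact ⟨h.relIndex_left ▸ Nat.le_mul_of_pos_right _ (card_pos _), h.right_le, h.inf⟩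
    · exact ⟨(hW y h).le, h4.trans h.right_le, eq_bot_of_le h.inf (inf_le_inf_left _ h4)⟩
  have hk : 2 * ♯W₂ * ♯V + 1 ≤ ♯(Fc M) := by
    have e := card_mul_relIndex hVK
    have h4 := cofactor_ge (m := ♯W₂) (u := ♯V) (x := V.relIndex (Fc M)) (mFT_odd _)
      (e ▸ mFT_odd _) (e ▸ frobK_dvd hF hW₂ hi le_rfl (hW₂.trans (Fc_nml M).norm)) (u_mod hT mT)
      fun h => hKV (le_antisymm (Subgroup.relIndex_eq_one.1 h) hVK)
    have := card_pos V
    nlinarith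
  have hq : (3 : ℝ) ≤ ♯W₁ := by exact_mod_cast hc.two_lt1
  have hqp' : (♯W₁ : ℝ) < ♯W₂ := by exact_mod_cast hqp
  have hk' : (2 * ♯W₂ * ♯V + 1 : ℝ) ≤ ♯(Fc M) := by exact_mod_cast hk
  have hv : ((♯V : ℝ) - 1) / ♯W₂ < (♯(Fc M) - 1) / (Fc M).relIndex M := by
    have he' : ((Fc M).relIndex M : ℝ) ≤ ♯W₂ * ♯W₁ := by exact_mod_cast he
    have h0 : (0 : ℝ) < (Fc M).relIndex M := by exact_mod_cast relIndex_pos _ _
    have h1 : (1 : ℝ) ≤ ♯V := by exact_mod_cast card_pos V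
    rw [div_lt_div_iff₀ (cardR_pos _) h0]
    calc ((♯V : ℝ) - 1) * (Fc M).relIndex M ≤ (♯V - 1) * (♯W₂ * ♯W₂) := by
          gcongr; exact he'.trans (by gcongr)
      _ < (2 * ♯W₂ * ♯V) * ♯W₂ := by
          have : (0 : ℝ) < ♯W₂ * ♯W₂ := by nlinarith
          nlinarith
      _ ≤ _ := by gcongr; linarith
  obtain ⟨μ, ψ, h⟩ := exists_cohI hM hF
  obtain ⟨he, a, ha, χ, hχ, hβ⟩ := support_coherence hS mS hT mT h he
    ((u_lt_v hS mS hT mT hqp).trans hv)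
    (Nat.cast_div_le.trans_lt (by rwa [Nat.cast_pred (card_pos V)]))
  set A := dadeSupp (shp (Fc M)) (supportR M) with hA
  set B := A ∪ classSupp (cycV W W₁ W₂) ⊤ ∪ classSupp (shp (Fc S)) ⊤ ∪ classSupp (shp (Fc T)) ⊤
    with hB
  have hG0 : ∀ g ∈ Bᶜ, 1 ≤ ‖μ ψ g‖ ^ 2 := fun g hg => by
    simp only [hB, Set.mem_compl_iff, Set.mem_union, not_or] at hg
    obtain ⟨⟨⟨g1, g2⟩, g3⟩, g4⟩ := hg
    have g5 : g ∉ classSupp (shp W) ⊤ := fun h => by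
      obtain ⟨k, -, hk⟩ := mem_classSupp.1 h
      by_cases k1 : k * g * k⁻¹ ∈ W₁
      · exact g4 (mem_classSupp.2 ⟨k, trivial, hT.le2 k1, hk.2⟩)
      by_cases k2 : k * g * k⁻¹ ∈ W₂
      · exact g3 (mem_classSupp.2 ⟨k, trivial, hS.le2 k2, hk.2⟩)
      exact g2 (mem_classSupp.2 ⟨k, trivial, hk.1, k1, k2⟩)
    obtain ⟨n, hn, e⟩ := sum_eta_odd hS ha (g := g) (by
      rw [hc.card_W]
      exact (coprime_core hT mT (galT hS mS hT mT hqp) g5 g4).mul_right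
        (coprime_core hS mS (galS hS mS hT mT hqp) g5 g3))
    have h0 := congrFun hβ g
    rw [Dade_mem_cfOn _ _ _ _ g g1, Pi.sub_apply, e, eq_comm, sub_eq_zero] at h0
    have h1 := odd_int_norm ⟨n, hn, h0.symm⟩
    rcases hχ with rfl | rfl
    · exact h1
    · rwa [Pi.neg_apply, norm_neg, conjC_apply, Complex.norm_conj] at h1
  have hd := h.dirr h.mem
  have hN : (0 : ℝ) < Nat.card G := by exact_mod_cast Nat.card_pos
  have e1 : ∑ g ∈ fs A, ‖μ ψ g‖ ^ 2 + Bᶜ.ncard ≤ Nat.card G := by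
    have h0 := hd.norm
    rw [cfnorm, H2.card_top_eq, inv_mul_eq_one₀ hN.ne',
      sum_fs_diff (A := ((⊤ : Subgroup G) : Set G)) (B := A) fun _ _ => trivial] at h0
    rw [h0, add_comm, ← card_fs_ncard, Finset.card_eq_sum_ones, Nat.cast_sum]
    gcongr
    refine (Finset.sum_le_sum fun g hg => ?_).trans (Finset.sum_le_sum_of_subset_of_nonneg
      (fs_mono fun g hg => ⟨trivial, fun h => hg (Or.inl (Or.inl (Or.inl h)))⟩)
      fun _ _ _ => by positivity)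
    exact_mod_cast hG0 g (mem_fs.1 hg)
  have e2 : (Nat.card G : ℝ) ≤ Bᶜ.ncard + (A.ncard + (classSupp (cycV W W₁ W₂) ⊤).ncard +
      (classSupp (shp (Fc S)) ⊤).ncard + (classSupp (shp (Fc T)) ⊤).ncard) := by
    rw [← Set.ncard_add_ncard_compl B, add_comm]
    norm_cast
    gcongr
    exact (Set.ncard_union_le _ _).trans (by
      gcongr; exact (Set.ncard_union_le _ _).trans (by gcongr; exact Set.ncard_union_le _ _))
  have e3 : (A.ncard : ℝ) ≤ Nat.card G / (♯W₂ * ♯W₁) := by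
    have h0 := H2.card_sharp (Fc M)
    rw [Nat.card_coe_set_eq] at h0
    rw [hA, card_dadeSupp h.dade, ← M.index_mul_card, ← card_mul_relIndex (Fc_nml M).le, he,
      Nat.cast_mul, h0, le_div_iff₀ (mul_pos (cardR_pos _) (cardR_pos _))]
    push_cast
    have : (0 : ℝ) ≤ M.index * (♯W₂ * ♯W₁) := by positivity
    nlinarith
  obtain ⟨γ, -, -, -, -, hb⟩ := H2.Dade_Ind1_sub_lin h.dade h.coh h.one_lt (h.irr h.mem) h.mem h.one
  have e4 := (hb (odd_Frobenius_index_ler (mFT_odd M) hF)).1.trans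
    (leC_cfnorm_invDade_support h.dade hd.CF).1
  rw [he, le_inv_mul_iff₀ hN, Nat.cast_mul] at e4
  refine final_ineq (u := ♯U) (v := ♯V) (k := ♯(Fc M)) hq hqp' (by exact_mod_cast u_ge hS mS) ?_
    (by linarith) (le_of_mul_le_mul_left ?_ hN)
  · rw [card_V hS mS hT mT hqp]
    exact_mod_cast mul_le_gN hc.two_lt1 hc.two_lt2
  have e5 := ncard_ccP hS mS
  have e6 := ncard_ccP hT mT
  have e7 := ncard_ccV hS
  simp only [mul_add, mul_one_div]
  linarith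

end H27.PF14
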