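import Mathlib
import Cfsg.Agent.H2.Frobenius
import Cfsg.Agent.H4.Galois
import Cfsg.Agent.H4.Central
import Cfsg.Agent.H27.Char
import Cfsg.Agent.H24.Base5

/-! Peterfalvi (6.7). -/

set_option autoImplicit false

namespace H2
open Cfsg H24 H27 H4

universe u
variable {Γ : Type u} [Group Γ]

theorem isIntegral_sum_div_of_free_conj (A : Subgroup Γ) [Finite A] (X : Finset Γ)
    (hX : ∀ a ∈ A, ∀ x ∈ X, a * x * a⁻¹ ∈ X) (hfree : ∀ a ∈ A, ∀ x ∈ X, a * x = x * a → a = 1)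
    (F : Γ → ℂ) (hF : ∀ a ∈ A, ∀ x ∈ X, F (a * x * a⁻¹) = F x) (hint : ∀ x, IsIntegral ℤ (F x)) :
    IsIntegral ℤ ((∑ x ∈ X, F x) / Nat.card A) := by
  classical
  rw [Finset.sum_comp (fun c : ℂ => c) F, Finset.sum_div]
  refine IsIntegral.sum _ fun c hc => ?_
  obtain ⟨x, -, rfl⟩ := Finset.mem_image.mp hc
  obtain ⟨k, hk⟩ := card_dvd_ncard_of_free_conj A (X.filter (fun a => F a = F x) : Set Γ)
    (fun a ha y hy => by
      simp only [Finset.coe_filter, Set.mem_ofPred_eq] at hy ⊢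
      exact ⟨hX a ha y hy.1, (hF a ha y hy.1).trans hy.2⟩)
    (fun a ha y hy => hfree a ha y (Finset.mem_filter.mp hy).1)
  rw [Set.ncard_coe_finset] at hk
  have h0 : (Nat.card A : ℂ) ≠ 0 := by exact_mod_cast (Nat.card_pos (α := A)).ne'
  rw [hk, nsmul_eq_mul, Nat.cast_mul, mul_assoc, mul_div_cancel_left₀ _ h0]
  exact (isIntegral_natCast k).mul (hint x)

theorem eq_one_of_conj_eq_inv {L : Subgroup Γ} (hodd : Odd ♯L) {g z : Γ} (hg : g ∈ L) (hz : z ∈ L)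
    (h : g * z * g⁻¹ = z⁻¹) : z = 1 := by
  obtain ⟨k, hk⟩ := hodd
  have h2 : g ^ 2 ∈ C{z} := mem_C1_iff_conj.mpr (by
    calc g ^ 2 * z * (g ^ 2)⁻¹ = g * (g * z * g⁻¹) * g⁻¹ := by rw [sq]; group
      _ = (g * z * g⁻¹)⁻¹ := by nth_rw 1 [h]; group
      _ = z := by rw [h, inv_inv])
  have hp : ∀ x ∈ L, x ^ (2 * k + 1) = 1 := fun x hx => by
    rw [← hk]; exact congrArg Subtype.val (pow_card_eq_one' (x := (⟨x, hx⟩ : L)))
  have h3 : g ∈ C{z} := by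
    have := inv_mem (pow_mem h2 k)
    rwa [← pow_mul, inv_eq_of_mul_eq_one_right ((pow_succ g _).symm.trans (hp g hg))] at this
  rw [mem_C1_iff_conj.mp h3] at h
  have h4 := hp z hz
  rwa [pow_succ, pow_mul, sq, show z * z = 1 by nth_rw 2 [h]; simp, one_pow, one_mul] at h4

variable [Finite Γ]

/-- Peterfalvi (6.7), for a TI-subgroup `P` that is a Hall subgroup of its normaliser `L`. -/
theorem constant_irr_mod_TI_Hall {P L Z : Subgroup Γ} (hP : IsHall L P) (hodd : Odd ♯L)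
    (hTI : NTI ⊤ L ((P : Set Γ) \ {1})) (hZ : Z ⊴ L) (hZP : Z ≤ Z[P]) {φ : Γ → ℂ}
    (hφ : φ ∈ Irr ⊤) (hc : ∀ x ∈ Z, ∀ y ∈ Z, x ≠ 1 → y ≠ 1 → φ x = φ y) {z : Γ} (hz : z ∈ Z)
    (hz1 : z ≠ 1) : ∃ n : ℤ, φ z = n ∧ (♯P : ℤ) ∣ deg φ - n := by
  classical
  have := Fintype.ofFinite Γ
  have hφ' := mem_Irr_top.mp hφ
  have hzP : z ∈ P := (hZP hz).1
  obtain ⟨n, hn⟩ := hφ'.isGen.exists_int_of_pow (g := z) (orderOf_pos z).ne' (pow_orderOf_eq_one z)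
    fun m hm => hc _ (pow_mem hz m) _ hz (fun e => hz1 (by
      have := pow_gcd_eq_one.mpr ⟨e, pow_orderOf_eq_one z⟩
      rwa [hm.gcd_eq_one, pow_one] at this)) hz1
  refine ⟨n, hn, ?_⟩
  have hnP : L ≤ N[P] := le_N_iff.mpr fun a ha x hx => by
    by_cases h1 : x = 1
    · simp [h1]
    · exact (hTI.norm a ha x ⟨hx, h1⟩).1
  let C := Finset.univ.filter fun g => IsConj z g
  have hC : ∀ u ∈ C, ∃ g, u = g * z * g⁻¹ := fun u hu => by
    obtain ⟨g, hg⟩ := isConj_iff.mp (Finset.mem_filter.mp hu).2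
    exact ⟨g, hg.symm⟩
  have hCZ : ∀ u ∈ C, u ∈ L → u ∈ Z := fun u hu huL => by
    obtain ⟨g, rfl⟩ := hC u hu
    have h1 : g * z * g⁻¹ ∈ P := hP.hall.mem_of_nml hnP
      (((isPi_primesOf P).piElt hzP).conj g) huL
    exact hZ.conj_mem (hTI.ti z ⟨hzP, hz1⟩ g trivial ⟨h1, by simpa using hz1⟩) hz
  let F : Γ → Γ → ℂ := fun w u => φ (u * w) - n
  have hsum : ∀ w ∈ Z, w ≠ 1 → (Nat.card C{z} : ℂ) * ∑ u ∈ C, F w u =
      Nat.card Γ * φ z * φ z / φ 1 - Nat.card Γ * n := fun w hw hw1 => by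
    rw [← sum_conj_eq_card_mul_sum z (F w)]
    simp only [F]
    rw [Finset.sum_sub_distrib, hφ'.sum_conj_mul, hc w hw z hz hw1 hz1]
    simp
  have hint : ∀ w ∈ Z, IsIntegral ℤ ((∑ u ∈ C.filter (· ∉ Z), F w u) / ♯P) := fun w hw => by
    refine isIntegral_sum_div_of_free_conj P _ (fun a ha x hx => ?_) (fun a ha x hx e => ?_) _
      (fun a ha x _ => ?_) fun x => (hφ'.isCharacter.isIntegral _).sub (isIntegral_intCast n)
    · simp only [C, Finset.mem_filter, Finset.mem_univ, true_and] at hx ⊢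
      exact ⟨hx.1.trans (isConj_iff.mpr ⟨a, rfl⟩), fun h =>
        hx.2 ((H24.conj_mem_iff (hZ.norm (hP.le ha))).mp h)⟩
    · by_contra ha1
      refine (Finset.mem_filter.mp hx).2 (hCZ x (Finset.mem_filter.mp hx).1
        (hTI.cent_le (a := a) ⟨ha, ha1⟩ ⟨trivial, mem_C1.mpr e.symm⟩))
    · simp only [F]
      rw [← hφ'.classFun (x * w) a, show a * (x * w) * a⁻¹ = a * x * (w * a⁻¹) by group,
        mem_C'.mp (hZP hw).2 _ (inv_mem ha)]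
      congr 2
      group
  have hZsum : ∀ w ∈ Z, ∑ u ∈ C.filter (· ∈ Z), F w u =
      if w⁻¹ ∈ C then φ 1 - n else 0 := fun w hw => by
    have h0 : ∀ u ∈ C.filter (· ∈ Z), u ≠ w⁻¹ → F w u = 0 := fun u hu hu' => by
      have huZ := (Finset.mem_filter.mp hu).2
      simp only [F]
      rw [hc _ (mul_mem huZ hw) z hz (fun e => hu' (eq_inv_of_mul_eq_one_left e)) hz1, hn, sub_self]
    split_ifs with h
    · rw [Finset.sum_eq_single_of_mem w⁻¹ (Finset.mem_filter.mpr ⟨h, inv_mem hw⟩) h0]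
      simp [F]
    · exact Finset.sum_eq_zero fun u hu => h0 u hu fun e => h (e ▸ (Finset.mem_filter.mp hu).1)
  have h1 : z⁻¹ ∉ C := fun h => by
    obtain ⟨g, hg⟩ := hC _ h
    have hgL := hTI.ti z ⟨hzP, hz1⟩ g trivial ⟨hg ▸ inv_mem hzP, by rw [← hg]; simpa using hz1⟩
    exact hz1 (eq_one_of_conj_eq_inv hodd hgL (hZ.le hz) hg.symm)
  have h2 : z⁻¹⁻¹ ∈ C := Finset.mem_filter.mpr ⟨Finset.mem_univ _, by rw [inv_inv]⟩
  have h3 := mul_left_cancel₀ (cardC_ne_zero _)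
    ((hsum z hz hz1).trans (hsum z⁻¹ (inv_mem hz) (inv_ne_one.mpr hz1)).symm)
  rw [← Finset.sum_filter_add_sum_filter_not C (· ∈ Z), ← Finset.sum_filter_add_sum_filter_not C
    (· ∈ Z), hZsum z hz, hZsum _ (inv_mem hz), if_neg h1, if_pos h2, zero_add] at h3
  have h4 := (hint z hz).sub (hint _ (inv_mem hz))
  rw [← sub_div, h3, add_sub_cancel_right, irr_one_eq hφ] at h4
  refine int_dvd_of_isIntegral_div (by exact_mod_cast H24.card_ne_zero P) ?_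
  push_cast
  exact h4

/-- Peterfalvi (6.7) (MathComp `constant_irr_mod_TI_Sylow`). -/
theorem constant_irr_mod_TI_Sylow {p : ℕ} {P L Z : Subgroup Γ} (hP : Syl p ⊤ P) (hodd : Odd ♯L)
    (hTI : NTI ⊤ L ((P : Set Γ) \ {1})) (hPL : P ≤ L) (hZ : Z ⊴ L) (hZP : Z ≤ Z[P]) {φ : Γ → ℂ}
    (hφ : φ ∈ Irr ⊤) (hc : ∀ x ∈ Z, ∀ y ∈ Z, x ≠ 1 → y ≠ 1 → φ x = φ y) {z : Γ} (hz : z ∈ Z)
    (hz1 : z ≠ 1) : ∃ n : ℤ, φ z = n ∧ (♯P : ℤ) ∣ deg φ - n :=
  constant_irr_mod_TI_Hall (hP.of_le hPL le_top).isHall hodd hTI hZ hZP hφ hc hz hz1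

end H2
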