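import Mathlib
import Cfsg.Agent.H27.Clifford
import Cfsg.Agent.H24.Base5

/-! The sets `T = {Ind θ}` and `S = {Ind θ | θ ≠ 1}` of characters induced from a normal subgroup. -/

set_option autoImplicit false

namespace H2
open Cfsg H24 H27
open scoped ComplexConjugate

universe u
variable {Γ : Type u} [Group Γ] [Finite Γ] {H L : Subgroup Γ} {ξ ζ φ : Γ → ℂ}

theorem mem_seqIndT' : ξ ∈ seqIndT H L ↔ ∃ θ ∈ Irr H, cfInd L H θ = ξ := by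
  classical
  simp [seqIndT]

theorem mem_irrKD1 {θ : Γ → ℂ} : θ ∈ irrKD H H ⊥ ↔ θ ∈ Irr H ∧ θ ≠ cfOne H := by
  rw [mem_irrKD]
  exact and_congr_right fun h => by simp [irr_eq_cfOne_iff h]

theorem mem_seqIndC1 : ξ ∈ seqIndD H L H ⊥ ↔ ∃ θ ∈ Irr H, θ ≠ cfOne H ∧ cfInd L H θ = ξ := by
  classical
  simp [seqIndD, mem_irrKD1, and_assoc]

theorem seqIndC1_sub (h : ξ ∈ seqIndD H L H ⊥) : ξ ∈ seqIndT H L := by
  obtain ⟨θ, h1, -, h2⟩ := mem_seqIndC1.mp h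
  exact mem_seqIndT'.mpr ⟨θ, h1, h2⟩

theorem ind1_mem_seqIndT (H L : Subgroup Γ) : cfInd L H (cfOne H) ∈ seqIndT H L :=
  mem_seqIndT'.mpr ⟨_, cfOne_mem_Irr H, rfl⟩

theorem seqIndT_cases (h : ξ ∈ seqIndT H L) : ξ = cfInd L H (cfOne H) ∨ ξ ∈ seqIndD H L H ⊥ := by
  obtain ⟨θ, h1, rfl⟩ := mem_seqIndT'.mp h
  by_cases e : θ = cfOne H
  · exact Or.inl (by rw [e])
  · exact Or.inr (mem_seqIndC1.mpr ⟨θ, h1, e, rfl⟩)

theorem seqIndT_char (hH : H ≤ L) (h : ξ ∈ seqIndT H L) : IsChar L ξ := by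
  obtain ⟨θ, h1, rfl⟩ := mem_seqIndT'.mp h
  exact (irr_char h1).ind hH

theorem seqIndT_CF (h : ξ ∈ seqIndT H L) : ξ ∈ CF L := by
  obtain ⟨θ, -, rfl⟩ := mem_seqIndT'.mp h
  exact cfInd_mem_CF _ _ _

theorem seqIndT_cfOn (hH : H ⊴ L) (h : ξ ∈ seqIndT H L) : ξ ∈ cfOn (H : Set Γ) := by
  obtain ⟨θ, -, rfl⟩ := mem_seqIndT'.mp h
  exact cfInd_mem_cfOn_nml hH.norm θ

theorem seqIndT_ne_zero (hH : H ≤ L) (h : ξ ∈ seqIndT H L) : ξ ≠ 0 := by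
  obtain ⟨θ, h1, rfl⟩ := mem_seqIndT'.mp h
  exact cfInd_ne_zero hH h1

theorem seqIndT_norm_pos (hH : H ≤ L) (h : ξ ∈ seqIndT H L) : 0 < cfnorm L ξ :=
  cfnorm_pos (seqIndT_CF h).1 (seqIndT_ne_zero hH h)

theorem seqIndT_normC_ne (hH : H ≤ L) (h : ξ ∈ seqIndT H L) : (cfnorm L ξ : ℂ) ≠ 0 := by
  exact_mod_cast (seqIndT_norm_pos hH h).ne'

theorem seqIndT_one (hH : H ≤ L) (h : ξ ∈ seqIndT H L) :
    ∃ d : ℕ, 0 < d ∧ ξ 1 = d * H.relIndex L := by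
  obtain ⟨θ, h1, rfl⟩ := mem_seqIndT'.mp h
  exact ⟨deg θ, irr_deg_pos h1, by rw [cfInd_one hH, irr_one_eq h1, mul_comm]⟩

theorem seqIndT_one_ne (hH : H ≤ L) (h : ξ ∈ seqIndT H L) : ξ 1 ≠ 0 := fun e =>
  seqIndT_ne_zero hH h ((seqIndT_char hH h).eq_zero_of_one e)

theorem seqIndT_orth (hH : H ⊴ L) : PwOrth L (seqIndT H L) := fun ξ h1 ζ h2 hne => by
  obtain ⟨θ, hθ, rfl⟩ := mem_seqIndT'.mp h1
  obtain ⟨ψ, hψ, rfl⟩ := mem_seqIndT'.mp h2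
  exact cfInd_orth_of_ne hH hθ hψ hne

theorem seqIndC1_orth (hH : H ⊴ L) : PwOrth L (seqIndD H L H ⊥) :=
  (seqIndT_orth hH).mono fun _ => seqIndC1_sub

theorem seqIndC1_dot_cfOne (hH : H ≤ L) (h : ξ ∈ seqIndD H L H ⊥) : cfdot L ξ (cfOne L) = 0 := by
  obtain ⟨θ, h1, h2, rfl⟩ := mem_seqIndC1.mp h
  rw [cfdot_cfInd_left hH θ (cfOne_mem_CF L), ← cfdot_cfRes_right, cfRes_cfOne hH]
  exact irr_dot_ne h1 (cfOne_mem_Irr H) h2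

theorem ind1_dot_cfOne (hH : H ≤ L) : cfdot L (cfInd L H (cfOne H)) (cfOne L) = 1 := by
  rw [cfdot_cfInd_left hH _ (cfOne_mem_CF L), ← cfdot_cfRes_right, cfRes_cfOne hH,
    cfdot_cfOne_cfOne]

theorem ind1_not_mem_seqIndC1 (hH : H ≤ L) : cfInd L H (cfOne H) ∉ seqIndD H L H ⊥ := fun h => by
  have := seqIndC1_dot_cfOne hH h
  rw [ind1_dot_cfOne hH] at this
  exact one_ne_zero this

theorem seqIndC1_dot_ind1 (hH : H ⊴ L) (h : ξ ∈ seqIndD H L H ⊥) :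
    cfdot L ξ (cfInd L H (cfOne H)) = 0 :=
  seqIndT_orth hH _ (seqIndC1_sub h) _ (ind1_mem_seqIndT H L)
    fun e => ind1_not_mem_seqIndC1 hH.le (e ▸ h)

theorem ind1_apply_one (hH : H ≤ L) : cfInd L H (cfOne H) 1 = H.relIndex L := by
  rw [cfInd_one hH, cfOne_apply_one, mul_one]

theorem ind1_norm (hH : H ⊴ L) : cfnorm L (cfInd L H (cfOne H)) = H.relIndex L := by
  refine cfnorm_eq_of_cfdot ?_
  rw [cfdot_cfInd_left hH.le _ (cfInd_mem_CF _ _ _), cfInd_cfOne_nml hH, cfdot_smul_right,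
    cfdot_cfOne_cfOne]
  simp

theorem seqIndC1_aut (u : ℂ →+* ℂ) (h : ξ ∈ seqIndD H L H ⊥) : cfAut u ξ ∈ seqIndD H L H ⊥ := by
  obtain ⟨θ, h1, h2, rfl⟩ := mem_seqIndC1.mp h
  exact mem_seqIndC1.mpr ⟨cfAut u θ, irr_aut h1 u, fun e => h2 (cfAut_injective u
    (e.trans (cfAut_cfOne u H).symm)), (cfAut_cfInd u L H θ).symm⟩

theorem seqIndC1_conjC (h : ξ ∈ seqIndD H L H ⊥) : conjC ξ ∈ seqIndD H L H ⊥ := seqIndC1_aut _ h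

theorem seqIndC1_dot_conjC (hH : H ⊴ L) (hodd : Odd ♯L) (h : ξ ∈ seqIndD H L H ⊥) :
    cfdot L ξ (conjC ξ) = 0 := by
  obtain ⟨θ, h1, h2, rfl⟩ := mem_seqIndC1.mp h
  exact odd_induced_orthogonal hH hodd h1 h2

theorem seqIndC1_conjC_ne (hH : H ⊴ L) (hodd : Odd ♯L) (h : ξ ∈ seqIndD H L H ⊥) :
    conjC ξ ≠ ξ := fun e => by
  have := seqIndC1_dot_conjC hH hodd h
  rw [e, cfdot_self] at this
  exact seqIndT_normC_ne hH.le (seqIndC1_sub h) this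

theorem seqIndC1_one_lt_card (hH : H ⊴ L) (hodd : Odd ♯L) (h : ξ ∈ seqIndD H L H ⊥) :
    1 < (seqIndD H L H ⊥).card :=
  Finset.one_lt_card.mpr ⟨_, seqIndC1_conjC h, _, h, seqIndC1_conjC_ne hH hodd h⟩

theorem sum_seqIndT_eq {M : Type*} [AddCommMonoid M] (hH : H ≤ L) (F : (Γ → ℂ) → M) :
    ∑ ξ ∈ seqIndT H L, F ξ = F (cfInd L H (cfOne H)) + ∑ ξ ∈ seqIndD H L H ⊥, F ξ := by
  classical
  rw [← Finset.sum_insert (ind1_not_mem_seqIndC1 hH)]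
  congr 1
  ext ξ
  rw [Finset.mem_insert]
  exact ⟨seqIndT_cases, fun h => h.elim (fun e => e ▸ ind1_mem_seqIndT H L) seqIndC1_sub⟩

theorem sub_mem_CFon1 (hH : H ⊴ L) (hξ : ξ ∈ seqIndT H L) (hζ : ζ ∈ seqIndT H L) {c : ℂ}
    (hc : ξ 1 = c * ζ 1) : ξ - c • ζ ∈ CFon L ((H : Set Γ) \ {1}) := by
  refine ⟨sub_mem (seqIndT_CF hξ) (Submodule.smul_mem _ _ (seqIndT_CF hζ)), fun x hx => ?_⟩
  by_cases h1 : x = 1
  · simp [h1, hc]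
  · have hx' : x ∉ H := fun h => hx ⟨h, h1⟩
    simp [seqIndT_cfOn hH hξ x hx', seqIndT_cfOn hH hζ x hx']

theorem zsp0_seqIndT_CFon1 (hH : H ⊴ L) {S : Finset (Γ → ℂ)} (hS : S ⊆ seqIndT H L)
    (hφ : φ ∈ zsp0 S) : φ ∈ CFon L ((H : Set Γ) \ {1}) := by
  obtain ⟨h1, h2⟩ := mem_zsp0.mp hφ
  refine ⟨zsp_le_C (fun ξ hξ => seqIndT_CF (hS hξ)) h1, fun x hx => ?_⟩
  by_cases hx1 : x = 1
  · rw [hx1, h2]
  · exact zsp_le_C (E := cfOn (H : Set Γ)) (fun ξ hξ => seqIndT_cfOn hH (hS hξ)) h1 x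
      fun h => hx ⟨h, hx1⟩

/-- the differences `ξ - (ξ(1)/ξ₀(1)) ξ₀` span `CF(L, H^#)`. -/
theorem eq_zero_of_dot_seqIndT (hH : H ⊴ L) {ξ₀ : Γ → ℂ} (hφ : φ ∈ CF L)
    (h : ∀ ξ ∈ seqIndT H L, cfdot L (ξ - (ξ 1 / ξ₀ 1) • ξ₀) φ = 0) {x : Γ} (hx : x ∈ H)
    (hx1 : x ≠ 1) : φ x = 0 := by
  rw [← cfRes_of_mem φ hx, CF_apply_eq_sum (cfRes_mem_CF hH.le hφ),
    Finset.sum_congr rfl (g := fun θ => conj (H.relIndex L / ξ₀ 1 * cfdot L ξ₀ φ) * (θ 1 * θ x))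
      fun θ hθ => ?_, ← Finset.mul_sum, sum_Irr_deg_mul, if_neg hx1, mul_zero]
  have := h _ (mem_seqIndT'.mpr ⟨θ, hθ, rfl⟩)
  rw [cfdot_sub_left, cfdot_smul_left, sub_eq_zero, cfdot_cfInd_left hH.le θ hφ,
    cfInd_one hH.le] at this
  rw [cfdot_cfRes_left, ← conj_cfdot, this, ← mul_assoc, ← vchar_conj_one (irr_vchar hθ),
    ← map_mul, vchar_conj_one (irr_vchar hθ)]
  congr 2
  ring

/-- `∑_{ξ ∈ S} ξ(1)/(e ‖ξ‖²) ξ = ρ_H - 1_H`. -/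
theorem sum_seqIndC1_apply (hH : H ⊴ L) (x : Γ) [Decidable (x = 1)] :
    (∑ ξ ∈ seqIndD H L H ⊥, (ξ 1 / H.relIndex L / cfnorm L ξ) • ξ) x =
      (if x = 1 then (♯H : ℂ) else 0) - cfOne H x := by
  classical
  have h1 : ∑ ξ ∈ seqIndD H L H ⊥, (ξ 1 / H.relIndex L / cfnorm L ξ) • ξ =
      ∑ θ ∈ irrKD H H ⊥, θ 1 • θ := by
    have := sum_image_cfInd hH (X := irrKD H H ⊥) (fun θ hθ => (mem_irrKD1.mp hθ).1)
      (fun θ hθ g hg => mem_irrKD1.mpr ⟨irr_conj (mem_irrKD1.mp hθ).1 (hH.norm hg), fun e =>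
        (mem_irrKD1.mp hθ).2 (cfConj_injective g (e.trans (cfConj_cfOne (hH.norm hg)).symm))⟩)
      (fun ξ => (ξ 1 / H.relIndex L / cfnorm L ξ) • ξ) (fun θ => θ 1 • θ) fun θ hθ => by
        rw [div_right_comm, div_eq_inv_mul, mul_smul,
          scaled_cfInd_sum_cfclass hH (mem_irrKD1.mp hθ).1, smul_smul,
          inv_mul_cancel₀ (relIndexC_ne_zero H L), one_smul]
    convert this using 2
    unfold seqIndD
    congr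
  have h2 : irrKD H H ⊥ = (Irr H).erase (cfOne H) := by
    ext θ
    rw [mem_irrKD1, Finset.mem_erase, and_comm]
  rw [h1, h2, Finset.sum_apply, eq_sub_iff_add_eq]
  have h3 := Finset.sum_erase_add (Irr H) (fun θ => (θ 1 • θ) x) (cfOne_mem_Irr H)
  simp only [Pi.smul_apply, cfOne_apply_one, smul_eq_mul, one_mul] at h3 ⊢
  rw [h3, sum_Irr_deg_mul]
  congr

theorem sum_seqIndC1_square (hH : H ⊴ L) :
    ∑ ξ ∈ seqIndD H L H ⊥, (deg ξ : ℝ) ^ 2 / cfnorm L ξ = H.relIndex L * (♯H - 1) := by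
  classical
  have := sum_seqIndC1_apply hH 1
  rw [if_pos rfl, cfOne_apply_one, Finset.sum_apply] at this
  have h2 : ((∑ ξ ∈ seqIndD H L H ⊥, (deg ξ : ℝ) ^ 2 / cfnorm L ξ : ℝ) : ℂ) =
      ((H.relIndex L * (♯H - 1) : ℝ) : ℂ) := by
    push_cast
    rw [← this, Finset.mul_sum]
    refine Finset.sum_congr rfl fun ξ hξ => ?_
    rw [Pi.smul_apply, smul_eq_mul, (seqIndT_char hH.le (seqIndC1_sub hξ)).one_eq]
    have := relIndexC_ne_zero H L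
    field_simp
  exact_mod_cast h2

theorem exists_seqIndC1_lin (hH : H ≤ L) (hs : Sol H) (h1 : H ≠ ⊥) :
    ∃ ζ ∈ seqIndD H L H ⊥, ζ 1 = H.relIndex L := by
  obtain ⟨θ, hθ⟩ := irrKD_nonempty (der1_nml H) (H := H) fun h =>
    (Sol.der1_lt hs h1).not_ge h
  obtain ⟨h2, h3, h4⟩ := mem_irrKD.mp hθ
  refine ⟨cfInd L H θ, mem_seqIndC1.mpr ⟨θ, h2, fun e => h4 ((irr_eq_cfOne_iff h2).mp e), rfl⟩, ?_⟩
  rw [cfInd_one hH, (irr_lin_of_der_le h2 h3).one, mul_one]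

theorem cfnorm_eq_sub_one (hH : H ≤ L) {ρ : Γ → ℂ} (hρ : ρ ∈ cfOn ((H : Set Γ) \ {1}))
    (hφ : φ ∈ cfOn (H : Set Γ)) (h : ∀ x ∈ H, x ≠ 1 → ρ x = φ x) :
    cfnorm L ρ = cfnorm L φ - ‖φ 1‖ ^ 2 / ♯L := by
  rw [cfnorm, cfnorm, ← sum_fs_subset (A := (H : Set Γ) \ {1}) (Set.sdiff_subset.trans hH) _
    fun x _ hx => by simp [hρ x hx], ← sum_fs_subset (A := (H : Set Γ)) hH _
    fun x _ hx => by simp [hφ x hx], sum_fs_diff (A := (H : Set Γ)) (B := {1}) (by simp),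
    sum_fs_singleton, sum_fs_congr fun x hx => by rw [h x hx.1 hx.2]]
  ring

end H2
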