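import Mathlib
import Cfsg.Agent.H2.Frobenius
import Cfsg.Agent.H2.Quaternion
import Cfsg.Agent.H1.CoprimeAbelian

/-!
# Fixed-point-free actions; structure of Frobenius complements
-/

set_option autoImplicit false

namespace H2

open Cfsg Subgroup
open scoped Pointwise

variable {G : Type*} [Group G]

/-- an abelian group acting fixed-point-freely on a nontrivial group is cyclic -/
theorem isCyclic_of_fpf_of_comm [Finite G] {A K : Subgroup G} [IsMulCommutative A] (hK : K ≠ ⊥)
    (hAK : A ≤ normalizer (K : Set G)) (hfpf : ∀ a ∈ A, a ≠ 1 → K ⊓ centralizer {a} = ⊥) :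
    IsCyclic A := by
  by_contra h
  exact hK (le_bot_iff.mp (H1.le_of_centralizer_le A K ⊥ h hAK (coprime_card_of_fpf hAK hfpf)
    fun a ha ha1 => (hfpf a ha ha1).le))

theorem fpf_mono {A K B L : Subgroup G} (hfpf : ∀ a ∈ A, a ≠ 1 → K ⊓ centralizer {a} = ⊥)
    (hB : B ≤ A) (hL : L ≤ K) : ∀ a ∈ B, a ≠ 1 → L ⊓ centralizer {a} = ⊥ := fun a ha ha1 =>
  le_bot_iff.mp ((inf_le_inf_right _ hL).trans (hfpf a (hB ha) ha1).le)

/-- abstract form of the action of a Frobenius group on an abelian group -/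
theorem pow_card_eq_prod_smul {A V : Type*} [Group A] [CommGroup V] [MulDistribMulAction A V]
    (K R : Subgroup A) [Fintype K] [Fintype R] (hRK : R ≤ normalizer (K : Set A))
    (hfpf : ∀ r ∈ R, r ≠ 1 → K ⊓ centralizer {r} = ⊥)
    (hR : ∀ v : V, (∀ r ∈ R, r • v = v) → v = 1) (v : V) :
    v ^ Nat.card K = ∏ k : K, (k : A) • v := by
  classical
  have hN : ∀ w : V, ∏ r : R, (r : A) • w = 1 := fun w => hR _ fun s hs => by
    rw [Finset.smul_prod']
    exact Fintype.prod_equiv (Equiv.mulLeft (⟨s, hs⟩ : R)) _ _ fun r => by simp [mul_smul]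
  have h1 : ∏ r : R, ∏ k : K, ((k : A) * r * (k : A)⁻¹) • v = 1 := by
    rw [Finset.prod_comm]
    refine Finset.prod_eq_one fun k _ => ?_
    simp only [mul_smul]
    rw [← Finset.smul_prod', hN, smul_one]
  have h2 : ∏ r : R, ∏ k : K, ((k : A) * r) • v = 1 := by
    rw [Finset.prod_comm]
    refine Finset.prod_eq_one fun k _ => ?_
    simp only [mul_smul]
    rw [← Finset.smul_prod', hN, smul_one]
  rw [← Finset.mul_prod_erase _ _ (Finset.mem_univ 1)] at h1 h2
  have h3 : ∏ r ∈ Finset.univ.erase (1 : R), ∏ k : K, ((k : A) * r * (k : A)⁻¹) • v =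
      ∏ r ∈ Finset.univ.erase (1 : R), ∏ k : K, ((k : A) * r) • v := by
    refine Finset.prod_congr rfl fun r hr => ?_
    let f : K → K := fun k => ⟨k * (r * (k : A)⁻¹ * (r : A)⁻¹), mul_mem k.2
      ((mem_normalizer_iff.mp (hRK r.2) _).mp (inv_mem k.2))⟩
    have hf : Function.Injective f := fun k l h => by
      have h : (k : A) * (r * (k : A)⁻¹ * (r : A)⁻¹) = l * (r * (l : A)⁻¹ * (r : A)⁻¹) :=
        congrArg Subtype.val h
      have : (l : A)⁻¹ * k ∈ K ⊓ centralizer {(r : A)} :=
        mem_inf.mpr ⟨mul_mem (inv_mem l.2) k.2, mem_centralizer_singleton_iff.mpr (by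
          calc (l : A)⁻¹ * k * r = (l : A)⁻¹ * (k * (r * (k : A)⁻¹ * (r : A)⁻¹)) * r * k := by group
            _ = r * ((l : A)⁻¹ * k) := by rw [h]; group)⟩
      rw [hfpf r r.2 (fun e => (Finset.mem_erase.mp hr).1 (Subtype.ext e)), mem_bot] at this
      exact Subtype.ext (inv_mul_eq_one.mp this).symm
    refine Fintype.prod_bijective f (Finite.injective_iff_bijective.mp hf) _ _ fun k => ?_
    congr 1
    simp only [f]; group
  rw [h3] at h1
  have h4 := mul_right_cancel (h1.trans h2.symm)
  simpa [Nat.card_eq_fintype_card] using h4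

/-- If the Frobenius group `K R` (kernel `K`) normalizes an abelian group `V` of order prime to
`|K|` and `C_V(R) = 1`, then `K` centralizes `V`. -/
theorem le_centralizer_of_frobenius_action [Finite G] {K R V : Subgroup G} [IsMulCommutative V]
    (hRK : R ≤ normalizer (K : Set G)) (hfpf : ∀ r ∈ R, r ≠ 1 → K ⊓ centralizer {r} = ⊥)
    (hKV : K ≤ normalizer (V : Set G)) (hRV : R ≤ normalizer (V : Set G))
    (hcop : (Nat.card K).Coprime (Nat.card V)) (hR : V ⊓ centralizer (R : Set G) = ⊥) :
    K ≤ centralizer (V : Set G) := by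
  classical
  open scoped IsMulCommutative in
  set N := normalizer (V : Set G)
  have := Fintype.ofFinite (K.subgroupOf N)
  have := Fintype.ofFinite (R.subgroupOf N)
  have hsm : ∀ (g : N) (v : V), ((g • v : V) : G) = g * v * (g : G)⁻¹ := fun _ _ => rfl
  have key := pow_card_eq_prod_smul (V := V) (K.subgroupOf N) (R.subgroupOf N)
    ((comap_mono hRK).trans (subgroupOf_normalizer_eq hKV).le)
    (fun r hr hr1 => by
      rw [eq_bot_iff]
      intro k hk
      have : (k : G) ∈ K ⊓ centralizer {(r : G)} := ⟨hk.1, mem_centralizer_singleton_iff.mpr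
        (congrArg Subtype.val (mem_centralizer_singleton_iff.mp hk.2))⟩
      rw [hfpf r hr (fun e => hr1 (Subtype.ext e))] at this
      exact Subtype.ext this)
    (fun v hv => by
      have : (v : G) ∈ V ⊓ centralizer (R : Set G) := ⟨v.2, fun r hr => by
        have := congrArg Subtype.val (hv ⟨r, hRV hr⟩ hr)
        rw [hsm] at this
        exact mul_inv_eq_iff_eq_mul.mp this⟩
      rw [hR] at this
      exact Subtype.ext this)
  rw [card_subgroupOf_of_le hKV] at key
  intro k hk v hv
  obtain ⟨w, hw⟩ := (powCoprime hcop.symm).surjective (⟨v, hv⟩ : V)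
  have h1 : (⟨k, hKV hk⟩ : N) • (⟨v, hv⟩ : V) = ⟨v, hv⟩ := by
    rw [← hw, powCoprime_apply, key, Finset.smul_prod']
    exact Fintype.prod_equiv (Equiv.mulLeft (⟨⟨k, hKV hk⟩, hk⟩ : K.subgroupOf N)) _ _
      fun r => by simp [mul_smul]
  have := congrArg Subtype.val h1
  rw [hsm] at this
  exact (mul_inv_eq_iff_eq_mul.mp this).symm

/-- under coprime action there is an invariant nontrivial abelian subgroup -/
theorem exists_invariant_abelian [Finite G] {A K : Subgroup G} (hK : K ≠ ⊥)
    (hAK : A ≤ normalizer (K : Set G)) (hcop : (Nat.card A).Coprime (Nat.card K))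
    (hs : Group.IsSolvable A ∨ Group.IsSolvable K) :
    ∃ V : Subgroup G, V ≤ K ∧ V ≠ ⊥ ∧ IsMulCommutative V ∧ A ≤ normalizer (V : Set G) := by
  obtain ⟨p, hp, hd⟩ := exists_prime_dvd_card_of_ne_bot hK
  have : Fact p.Prime := ⟨hp⟩
  obtain ⟨P, hP⟩ := H1.exists_invariant_sylow A K hAK hcop hs p
  set Q := (P : Subgroup K).map K.subtype
  have hQ : IsPGroup p Q := P.isPGroup'.map _
  have : Nontrivial Q := (nontrivial_iff_ne_bot Q).mpr fun e =>
    P.ne_bot_of_dvd_card hd ((map_eq_bot_iff_of_injective _ K.subtype_injective).mp e)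
  refine ⟨(center Q).map Q.subtype, (map_subtype_le _).trans (map_subtype_le _), fun e => ?_,
    inferInstance, H1.le_normalizer_map_subtype hP _⟩
  exact hQ.bot_lt_center.ne' ((map_eq_bot_iff_of_injective _ Q.subtype_injective).mp e)

theorem eq_bot_or_eq_of_le_of_prime_card {H K : Subgroup G} (hK : (Nat.card K).Prime) (h : H ≤ K) :
    H = ⊥ ∨ H = K := by
  have : Finite K := Nat.finite_of_card_ne_zero hK.ne_zero
  exact ((Nat.dvd_prime hK).mp (card_dvd_of_le h)).imp card_eq_one.mp
    fun e => eq_of_le_of_card_ge h e.ge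

theorem isMulCommutative_of_fpf_of_card_eq_mul [Finite G] {A K : Subgroup G} (hK : K ≠ ⊥)
    (hAK : A ≤ normalizer (K : Set G)) (hfpf : ∀ a ∈ A, a ≠ 1 → K ⊓ centralizer {a} = ⊥)
    {p q : ℕ} (hp : p.Prime) (hq : q.Prime) (hA : Nat.card A = p * q) : IsMulCommutative A := by
  wlog hpq : p ≤ q generalizing p q
  · exact this hq hp (by rw [hA, mul_comm]) (le_of_not_ge hpq)
  rcases hpq.eq_or_lt with rfl | hlt
  · have : Fact p.Prime := ⟨hp⟩
    exact IsPGroup.isMulCommutative_of_card_eq_prime_sq (p := p) (by rw [hA, sq])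
  obtain ⟨x, hx, hxp⟩ := exists_mem_orderOf_eq_prime (H := A) hp (hA ▸ dvd_mul_right p q)
  obtain ⟨y, hy, hyq⟩ := exists_mem_orderOf_eq_prime (H := A) hq (hA ▸ dvd_mul_left q p)
  have hR : Nat.card (zpowers x) = p := by rw [Nat.card_zpowers, hxp]
  have hQ : Nat.card (zpowers y) = q := by rw [Nat.card_zpowers, hyq]
  have hRA : zpowers x ≤ A := zpowers_le.mpr hx
  have hQA : zpowers y ≤ A := zpowers_le.mpr hy
  have hn : A ≤ normalizer (zpowers y : Set G) := by
    rw [← normal_subgroupOf_iff_le_normalizer hQA]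
    apply normal_of_index_eq_minFac_card
    have h1 := card_mul_relIndex hQA
    rw [hQ, hA, mul_comm p] at h1
    rw [hA, ← relIndex, Nat.eq_of_mul_eq_mul_left hq.pos h1]
    rcases (Nat.Prime.dvd_mul (Nat.minFac_prime (n := p * q) (by nlinarith [hp.two_le, hq.two_le]))).mp
      (Nat.minFac_dvd (p * q)) with h | h
    · exact ((Nat.prime_dvd_prime_iff_eq (Nat.minFac_prime (by nlinarith [hp.two_le, hq.two_le])) hp).mp h).symm
    · have h2 := (Nat.prime_dvd_prime_iff_eq (Nat.minFac_prime (by nlinarith [hp.two_le, hq.two_le])) hq).mp h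
      have h3 := Nat.minFac_le_of_dvd hp.two_le (dvd_mul_right p q)
      omega
  have hcop : (Nat.card (zpowers x)).Coprime (Nat.card (zpowers y)) := by
    rw [hR, hQ]; exact (Nat.coprime_primes hp hq).mpr hlt.ne
  have hsup : zpowers x ⊔ zpowers y = A := eq_of_le_of_card_ge (sup_le hRA hQA) (by
    rw [card_sup_of_disjoint (hRA.trans hn) (disjoint_of_coprime_natCard hcop).eq_bot, hR, hQ, hA])
  by_cases hf : ∀ r ∈ zpowers x, r ≠ 1 → zpowers y ⊓ centralizer {r} = ⊥
  · exfalso
    have hs : Group.IsSolvable A := hsup ▸ isSolvable_sup_of_le_normalizer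
      (isSolvable_of_isMulCommutative _) (isSolvable_of_isMulCommutative _) (hRA.trans hn)
    have hc := coprime_card_of_fpf hAK hfpf
    obtain ⟨V, hVK, hV, _, hAV⟩ := exists_invariant_abelian hK hAK hc (Or.inl hs)
    have hx1 : x ≠ 1 := by rintro rfl; exact hp.one_lt.ne (by simpa using hxp)
    have hy1 : y ≠ 1 := by rintro rfl; exact hq.one_lt.ne (by simpa using hyq)
    have h1 := le_centralizer_of_frobenius_action (hRA.trans hn) hf (hQA.trans hAV) (hRA.trans hAV)
      ((hc.coprime_dvd_left (card_dvd_of_le hQA)).coprime_dvd_right (card_dvd_of_le hVK))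
      (by rw [zpowers_eq_closure, centralizer_closure]; exact fpf_mono hfpf le_rfl hVK x hx hx1)
    rw [le_centralizer_iff, zpowers_eq_closure, centralizer_closure, ← inf_eq_left,
      fpf_mono hfpf le_rfl hVK y hy hy1] at h1
    exact hV h1.symm
  push Not at hf
  obtain ⟨r, hr, hr1, hne⟩ := hf
  have h1 := (eq_bot_or_eq_of_le_of_prime_card (hQ ▸ hq) inf_le_left).resolve_left hne
  have h2 := (eq_bot_or_eq_of_le_of_prime_card (hR ▸ hp) (zpowers_le.mpr hr)).resolve_left
    (by simpa using hr1)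
  rw [← hsup]
  refine isMulCommutative_sup inferInstance inferInstance ?_
  rw [← h2, zpowers_eq_closure r, centralizer_closure, ← h1]
  exact inf_le_right

/-- a group of order `p q` acting fixed-point-freely on a nontrivial group is cyclic -/
theorem isCyclic_of_fpf_of_card_eq_mul [Finite G] {A K : Subgroup G} (hK : K ≠ ⊥)
    (hAK : A ≤ normalizer (K : Set G)) (hfpf : ∀ a ∈ A, a ≠ 1 → K ⊓ centralizer {a} = ⊥)
    {p q : ℕ} (hp : p.Prime) (hq : q.Prime) (hA : Nat.card A = p * q) : IsCyclic A :=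
  have := isMulCommutative_of_fpf_of_card_eq_mul hK hAK hfpf hp hq hA
  isCyclic_of_fpf_of_comm hK hAK hfpf

theorem uniqueOrderP_of_fpf [Finite G] {P K : Subgroup G} (hK : K ≠ ⊥)
    (hPK : P ≤ normalizer (K : Set G)) (hfpf : ∀ a ∈ P, a ≠ 1 → K ⊓ centralizer {a} = ⊥)
    {p : ℕ} [Fact p.Prime] (hP : IsPGroup p P) : UniqueOrderP p P := by
  refine uniqueOrderP_of_forall_isCyclic hP fun A _ _ => ?_
  have := isCyclic_of_fpf_of_comm hK ((map_subtype_le A).trans hPK)
    (fpf_mono hfpf (map_subtype_le A) le_rfl)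
  exact (A.equivMapOfInjective P.subtype P.subtype_injective).isCyclic.mpr this

/-- `p`-groups acting fixed-point-freely are cyclic or generalized quaternion -/
theorem isCyclic_or_quaternion_of_fpf [Finite G] {P K : Subgroup G} (hK : K ≠ ⊥)
    (hPK : P ≤ normalizer (K : Set G)) (hfpf : ∀ a ∈ P, a ≠ 1 → K ⊓ centralizer {a} = ⊥)
    {p : ℕ} [Fact p.Prime] (hP : IsPGroup p P) :
    IsCyclic P ∨ (p = 2 ∧ ∃ n : ℕ, Nonempty (P ≃* QuaternionGroup (2 ^ (n + 1)))) :=
  (uniqueOrderP_of_fpf hK hPK hfpf hP).isCyclic_or_quaternion hP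

theorem isZGroup_of_fpf_of_odd [Finite G] {H K : Subgroup G} (hK : K ≠ ⊥)
    (hHK : H ≤ normalizer (K : Set G)) (hfpf : ∀ a ∈ H, a ≠ 1 → K ⊓ centralizer {a} = ⊥)
    (hodd : ¬ 2 ∣ Nat.card H) : IsZGroup H := by
  refine ⟨fun p hp P => ?_⟩
  have : Fact p.Prime := ⟨hp⟩
  by_cases h2 : p = 2
  · subst h2
    have : (P : Subgroup H) = ⊥ := IsPGroup.eq_bot_of_coprime P.isPGroup'
      (Nat.Coprime.coprime_dvd_left (card_subgroup_dvd_card _)
        ((Nat.coprime_two_right).mpr (Nat.not_even_iff_odd.mp (mt even_iff_two_dvd.mp hodd))))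
    change IsCyclic (P : Subgroup H)
    rw [this]; infer_instance
  · have := (uniqueOrderP_of_fpf hK ((map_subtype_le _).trans hHK)
      (fpf_mono hfpf (map_subtype_le _) le_rfl) (P.isPGroup'.map H.subtype)).isCyclic_of_odd
      (P.isPGroup'.map H.subtype) h2
    exact ((P : Subgroup H).equivMapOfInjective H.subtype H.subtype_injective).isCyclic.mpr this

theorem conj_mem_zpowers_of_mem_cyclic_normal {C : Subgroup G} [hC : C.Normal] [IsCyclic C] {v : G}
    (hv : v ∈ C) (x : G) : x * v * x⁻¹ ∈ zpowers v := by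
  obtain ⟨c, rfl⟩ := (Subgroup.isCyclic_iff_exists_zpowers_eq_top C).mp inferInstance
  obtain ⟨k, rfl⟩ := hv
  obtain ⟨r, hr⟩ := hC.conj_mem c (mem_zpowers c) x
  refine ⟨r, ?_⟩
  simp only at hr ⊢
  rw [← conj_zpow, ← hr, ← zpow_mul, ← zpow_mul, mul_comm]

/-- subgroups of a cyclic normal subgroup are normal -/
theorem normal_of_le_cyclic_normal {C H : Subgroup G} [C.Normal] [IsCyclic C] (h : H ≤ C) :
    H.Normal :=
  ⟨fun v hv x => zpowers_le.mpr hv (conj_mem_zpowers_of_mem_cyclic_normal (h hv) x)⟩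

/-- In a `Z`-group in which subgroups of order `p q` are abelian, every element of prime order
outside the derived subgroup has a conjugate... in particular the centre is nontrivial. -/
theorem center_ne_bot_of_isZGroup [Finite G] [IsZGroup G] [Nontrivial G]
    (h : ∀ (A : Subgroup G) (p q : ℕ), p.Prime → q.Prime → Nat.card A = p * q →
      IsMulCommutative A) : center G ≠ ⊥ := by
  have hcop := IsZGroup.coprime_commutator_index G
  obtain ⟨C, hC⟩ := exists_right_complement'_of_coprime hcop
  have hCb : C ≠ ⊥ := fun e => (IsZGroup.commutator_lt G).ne (by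
    rw [e] at hC; exact isComplement'_bot_right.mp hC)
  have hCc : IsMulCommutative C := by
    rw [← commutator_self_eq_bot_iff, eq_bot_iff, ← hC.disjoint.eq_bot]
    exact le_inf (commutator_mono le_top le_top) (commutator_le_self C)
  have := IsZGroup.isCyclic_commutator G
  obtain ⟨x, hx, hxp⟩ := exists_mem_prime_orderOf hCb
  have hcop' : (Nat.card (zpowers x)).Coprime (Nat.card (commutator G)) := by
    rw [hC.symm.index_eq_card] at hcop
    exact hcop.symm.coprime_dvd_left (card_dvd_of_le (zpowers_le.mpr hx))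
  have h1 := H1.le_centralizer_of_prime_order (zpowers x) (commutator G) le_normalizer_of_normal
    hcop' fun v hv hvp a ha => by
      have := normal_of_le_cyclic_normal (zpowers_le.mpr hv)
      have hc := h (zpowers x ⊔ zpowers v) _ _ hxp hvp (by
        rw [card_sup_of_disjoint le_normalizer_of_normal (disjoint_of_coprime_natCard
          (hcop'.coprime_dvd_right (card_dvd_of_le (zpowers_le.mpr hv)))).eq_bot,
          Nat.card_zpowers, Nat.card_zpowers])
      exact setLike_mul_comm (s := zpowers x ⊔ zpowers v) (mem_sup_left ha)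
        (mem_sup_right (mem_zpowers v))
  have h2 : x ∈ center G := by
    have : commutator G ⊔ C ≤ centralizer (zpowers x : Set G) := sup_le (le_centralizer_iff.mp h1)
      ((le_centralizer C).trans (centralizer_anti (zpowers_le.mpr hx)))
    rw [hC.sup_eq_top, le_centralizer_iff, coe_top, centralizer_univ] at this
    exact this (mem_zpowers x)
  intro e
  rw [e, mem_bot] at h2
  rw [h2, orderOf_one] at hxp
  exact Nat.not_prime_one hxp

/-- a group acting fixed-point-freely on a nontrivial group has nontrivial centre -/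
theorem center_ne_bot_of_fpf [Finite G] {H K : Subgroup G} (hK : K ≠ ⊥) (hH : H ≠ ⊥)
    (hHK : H ≤ normalizer (K : Set G)) (hfpf : ∀ a ∈ H, a ≠ 1 → K ⊓ centralizer {a} = ⊥) :
    center H ≠ ⊥ := by
  by_cases h2 : 2 ∣ Nat.card H
  · obtain ⟨s, hs, hs2⟩ := exists_mem_orderOf_eq_prime Nat.prime_two h2
    have : (⟨s, hs⟩ : H) ∈ center H := mem_center_iff.mpr fun g => Subtype.ext (by
      have := unique_involution_of_fpf hHK hK hfpf hs (mul_mem (mul_mem g.2 hs) (inv_mem g.2)) hs2
        (by rw [← hs2]; exact (MulAut.conj (g : G)).orderOf_eq s)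
      exact mul_inv_eq_iff_eq_mul.mp this)
    intro e
    rw [e, mem_bot] at this
    rw [show s = 1 from congrArg Subtype.val this] at hs2
    simp at hs2
  · have := isZGroup_of_fpf_of_odd hK hHK hfpf h2
    have := (nontrivial_iff_ne_bot H).mpr hH
    refine center_ne_bot_of_isZGroup fun A p q hp hq hA => ?_
    have := isMulCommutative_of_fpf_of_card_eq_mul hK ((map_subtype_le A).trans hHK)
      (fpf_mono hfpf (map_subtype_le A) le_rfl) hp hq (by rwa [card_map_subtype])
    have := comap_injective_isMulCommutative (H := A.map H.subtype) H.subtype_injective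
    rwa [comap_map_eq_self_of_injective H.subtype_injective] at this

/-- a group with a nontrivial proper malnormal subgroup has trivial centre -/
theorem Malnormal.center_eq_bot {H : Subgroup G} (h : Malnormal H) (h1 : H ≠ ⊥) (h2 : H ≠ ⊤) :
    center G = ⊥ := by
  rw [eq_bot_iff]
  intro z hz
  by_contra hne
  have hz1 : z ∈ H := h.normalizer_eq h1 ▸ center_le_normalizer _ hz
  refine h2 (top_le_iff.mp (le_trans ?_ (h.centralizer_le hz1 hne)))
  exact fun g _ => mem_centralizer_singleton_iff.mpr (mem_center_iff.mp hz g)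

end H2
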