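import Mathlib
import Cfsg.Prelude.Def_CaseTheorems
import Cfsg.Prelude.Def_Characters
import Cfsg.Prelude.Def_LieClassical
import Cfsg.Agent.H13.DihBII
import Cfsg.Agent.H0.WM3
import Cfsg.Agent.H4.GD5

/-!
# Vocabulary for groups with quasi-dihedral Sylow 2-subgroups (definitions only)

`S = ⟨ω, s⟩` of order `2 ^ (a + 1)`, `t` its central involution, `i = ω ^ 2 ^ (a - 2)`,
`T = ⟨t, s⟩`, `Q = ⟨ω², ω s⟩`, `H = C(t)`, `U = O(H)`, `R = O(C(T))`.
-/

set_option autoImplicit false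

namespace H2.QD

open H24 Cfsg Subgroup
open H13.Dih (Four V4 Inv CD UU PP FC res)
open scoped MatrixGroups

universe u

/-- odd core -/
scoped notation:max "𝒪[" L "]" => Cfsg.piCoreOf ({2} : Set ℕ)ᶜ L

/-- Coordinates for a group with quasi-dihedral Sylow 2-subgroup and full fusion. -/
structure QC (G : Type u) [Group G] where
  a : ℕ
  ha : 3 ≤ a
  ω : G
  s : G
  ρ : G
  ord_ω : orderOf ω = 2 ^ a
  ord_s : orderOf s = 2
  rel : s * ω * s⁻¹ = ω ^ (2 ^ (a - 1) - 1)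
  s_not : s ∉ zpowers ω
  syl : Syl 2 ⊤ (zpowers ω ⊔ zpowers s)
  ρ_t : ρ * ω ^ 2 ^ (a - 1) * ρ⁻¹ = s
  ρ_s : ρ * s * ρ⁻¹ = ω ^ 2 ^ (a - 1) * s
  fus : ∃ h, h * ω ^ 2 ^ (a - 2) * h⁻¹ = ω * s

namespace QC

variable {G : Type u} [Group G] (c : QC G)

def t : G := c.ω ^ 2 ^ (c.a - 1)
/-- an element of order four interchanging `s` and `t s` -/
def i : G := c.ω ^ 2 ^ (c.a - 2)
def S : Subgroup G := zpowers c.ω ⊔ zpowers c.s
def T : Subgroup G := V4 c.t c.s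
def Q : Subgroup G := zpowers (c.ω ^ 2) ⊔ zpowers (c.ω * c.s)
def H : Subgroup G := C{c.t}
def U : Subgroup G := O[{2}ᶜ, C{c.t}]
/-- `C(T)` -/
def CT : Subgroup G := C{c.t} ⊓ C{c.s}
def R : Subgroup G := O[{2}ᶜ, C{c.t} ⊓ C{c.s}]
/-- `u = |U : C_U(s)|` -/
noncomputable def u : ℕ := (c.U ⊓ C{c.s}).relIndex c.U

/-- `K = [U, s]` -/
def K : Subgroup G := ⁅c.U, zpowers c.s⁆

/-- `X` is root-free -/
def Free (X : Subgroup G) : Prop := ⁅X ⊓ C{c.s}, zpowers c.t⁆ ≤ UU c.s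

/-- the conjugate coordinates -/
def cj (g : G) : QC G where
  a := c.a
  ha := c.ha
  ω := g * c.ω * g⁻¹
  s := g * c.s * g⁻¹
  ρ := g * c.ρ * g⁻¹
  ord_ω := by rw [← c.ord_ω]; exact (MulAut.conj g).orderOf_eq _
  ord_s := by rw [← c.ord_s]; exact (MulAut.conj g).orderOf_eq _
  rel := by rw [conj_pow, ← c.rel]; group
  s_not := fun h => c.s_not (by
    obtain ⟨k, hk⟩ := h
    refine ⟨k, ?_⟩
    simp only [conj_zpow] at hk
    simpa using hk)
  syl := by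
    have := c.syl.cj g
    rwa [cj_top, cj_sup, cj_zpowers, cj_zpowers] at this
  ρ_t := by rw [conj_pow, ← c.ρ_t]; group
  ρ_s := by
    rw [conj_pow]
    calc _ = g * (c.ρ * c.s * c.ρ⁻¹) * g⁻¹ := by group
      _ = _ := by rw [c.ρ_s]; group
  fus := by
    obtain ⟨h, e⟩ := c.fus
    refine ⟨g * h * g⁻¹, ?_⟩
    rw [conj_pow]
    calc _ = g * (h * c.ω ^ 2 ^ (c.a - 2) * h⁻¹) * g⁻¹ := by group
      _ = _ := by rw [e]; group

theorem cj_t (g : G) : (c.cj g).t = g * c.t * g⁻¹ := conj_pow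
theorem cj_i (g : G) : (c.cj g).i = g * c.i * g⁻¹ := conj_pow
theorem cj_s (g : G) : (c.cj g).s = g * c.s * g⁻¹ := rfl
theorem cj_H (g : G) : (c.cj g).H = H24.cj g c.H := by rw [H, cj_t, H, cj_C1]
theorem cj_U [Finite G] (g : G) : (c.cj g).U = H24.cj g c.U := by rw [U, cj_t, U, ← cj_C1, pcore_cj]
theorem cj_S (g : G) : (c.cj g).S = H24.cj g c.S := by
  rw [S, S, cj_sup, cj_zpowers, cj_zpowers]; rfl

theorem mem_cj_H {g x : G} : x ∈ (c.cj g).H ↔ g⁻¹ * x * g ∈ c.H := by rw [cj_H, mem_cj]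

/-- conjugation back into `H` -/
def toH (g : G) : (c.cj g).H →* c.H where
  toFun x := ⟨g⁻¹ * x * g, c.mem_cj_H.1 x.2⟩
  map_one' := Subtype.ext (by simp)
  map_mul' x y := Subtype.ext (by simp [mul_assoc])

/-- `g` acts on `T` like `ρ` -/
def Rot (g : G) : Prop := g * c.t * g⁻¹ = c.s ∧ g * c.s * g⁻¹ = c.t * c.s

end QC

/-- The structure of `H = C(t)`: `H / U ⟨t⟩ = Γ` with `PGL₂(F) ≤ Γ ≤ PΓL₂(F)`, `|Γ : PGL₂(F)|` odd,
and the preimage of `PSL₂(F)` is an extension of `U` by `SL₂(F)`.  `|F| = q ≡ -ε (mod 4)`. -/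
structure Mod {G : Type u} [Group G] (c : QC G) where
  F : Type
  [fld : Field F]
  [finF : Finite F]
  [dec : DecidableEq F]
  h2 : (2 : F) ≠ 0
  Γ : Type
  [grp : Group Γ]
  [fin : Finite Γ]
  E : H0.WM.Emb Γ F
  N : H4.NP
  hq : N.q = Nat.card F
  hn : ∃ n', Odd n' ∧ N.n = 2 ^ (c.a - 1) * n'
  κ : c.H →* Γ
  surj : Function.Surjective κ
  ker : ∀ x : c.H, κ x = 1 ↔ (x : G) ∈ c.U ⊔ zpowers c.t
  S_in : ∀ x ∈ c.S, ap κ x ∈ E.ι.range
  s_out : ap κ c.s ∉ E.L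
  lam : pre κ E.L →* SL(2, F)
  lam_surj : Function.Surjective lam
  lam_ker : ∀ x : pre κ E.L, lam x = 1 ↔ (x : G) ∈ c.U
  lam_κ : ∀ x : pre κ E.L,
    ap κ x = E.ι (Matrix.ProjGenLinGroup.mk (Matrix.SpecialLinearGroup.toGL (lam x)))

attribute [instance] Mod.fld Mod.finF Mod.dec Mod.grp Mod.fin

namespace Mod

variable {G : Type u} [Group G] {c : QC G} (M : Mod c)

theorem ap_toH (g x : G) : ap (M.κ.comp (c.toH g)) x = ap M.κ (g⁻¹ * x * g) := by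
  unfold ap
  by_cases h : x ∈ (c.cj g).H
  · rw [dif_pos h, dif_pos (c.mem_cj_H.1 h)]; rfl
  · rw [dif_neg h, dif_neg fun e => h (c.mem_cj_H.2 e)]

theorem mem_pre_toH {g x : G} {Y : Subgroup M.Γ} :
    x ∈ pre (M.κ.comp (c.toH g)) Y ↔ g⁻¹ * x * g ∈ pre M.κ Y := by
  rw [mem_pre, mem_pre, M.ap_toH, c.mem_cj_H]

/-- conjugation back into the preimage of `PSL₂(F)` -/
noncomputable def toL (g : G) : pre (M.κ.comp (c.toH g)) M.E.L →* pre M.κ M.E.L where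
  toFun x := ⟨g⁻¹ * x * g, M.mem_pre_toH.1 x.2⟩
  map_one' := Subtype.ext (by simp)
  map_mul' x y := Subtype.ext (by simp [mul_assoc])

/-- the conjugate model (same `F`, `Γ`, `E`, `N`) -/
noncomputable def cj [Finite G] (g : G) : Mod (c.cj g) where
  F := M.F
  h2 := M.h2
  Γ := M.Γ
  E := M.E
  N := M.N
  hq := M.hq
  hn := M.hn
  κ := M.κ.comp (c.toH g)
  surj := fun y => by
    obtain ⟨x, rfl⟩ := M.surj y
    exact ⟨⟨g * x * g⁻¹, c.mem_cj_H.2 (by simp [mul_assoc])⟩,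
      congrArg M.κ (Subtype.ext (by simp [QC.toH, mul_assoc]))⟩
  ker := fun x => by
    rw [MonoidHom.comp_apply, M.ker, c.cj_U, c.cj_t, ← cj_zpowers, ← cj_sup, mem_cj]; rfl
  S_in := fun x hx => by
    rw [M.ap_toH]; rw [c.cj_S, mem_cj] at hx; exact M.S_in _ hx
  s_out := by rw [M.ap_toH, c.cj_s]; simpa [mul_assoc] using M.s_out
  lam := M.lam.comp (M.toL g)
  lam_surj := fun y => by
    obtain ⟨x, rfl⟩ := M.lam_surj y
    exact ⟨⟨g * x * g⁻¹, M.mem_pre_toH.2 (by simp [mul_assoc])⟩,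
      congrArg M.lam (Subtype.ext (by simp [toL, mul_assoc]))⟩
  lam_ker := fun x => by rw [MonoidHom.comp_apply, M.lam_ker, c.cj_U, mem_cj]; rfl
  lam_κ := fun x => by rw [M.ap_toH]; exact M.lam_κ (M.toL g x)

theorem cj_κ [Finite G] (g x : G) : ap (M.cj g).κ x = ap M.κ (g⁻¹ * x * g) := M.ap_toH g x

/-- `PSL₂(F)` -/
noncomputable def L : Subgroup M.Γ := M.E.L
/-- `PGL₂(F)` -/
noncomputable def L0 : Subgroup M.Γ := M.E.ι.range
/-- the preimage of `PSL₂(F)` in `H` -/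
noncomputable def Lt : Subgroup G := pre M.κ M.E.L
noncomputable def e : M.Γ := ap M.κ c.s
noncomputable def σ : M.Γ := ap M.κ c.i
/-- odd part of the torus of order `m` -/
noncomputable def Dh : Subgroup M.Γ := O[{2}ᶜ, M.L0 ⊓ C{M.e}]
/-- the torus of order `m` -/
noncomputable def Th : Subgroup M.Γ := M.Dh ⊔ zpowers M.e
noncomputable def Rh : Subgroup M.Γ := O[{2}ᶜ, C{M.e}]
/-- a root group: a Sylow `p`-subgroup of `PSL₂(F)` -/
def Root (X : Subgroup M.Γ) : Prop := X ≤ M.L ∧ IsPi {M.N.p} X ∧ ♯X = M.N.q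

/-- `ε q` -/
def Qe : ℤ := M.N.ε * M.N.q
/-- `ε St(h)`, where `St + 1` is the permutation character on the projective line -/
noncomputable def St (h : G) : ℤ :=
  M.N.ε * (Nat.card (@MulAction.fixedBy _ _ _ M.E.act (ap M.κ h)) - 1)

open Classical in
/-- the linear character of order two of `H` -/
noncomputable def sgn (h : G) : ℤ := if ap M.κ h ^ M.L0.index ∈ M.L then 1 else -1

/-- A character of small degree in the principal 2-block. -/
structure Bud (χ : G → ℂ) (f : ℕ) (δ : ℤ) : Prop where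
  irr : IsIrrCharacter G χ
  deg : χ 1 = f
  le : f + M.N.q + 1 ≤ 2 * M.N.q ^ 2
  real : ∀ g, χ g⁻¹ = χ g
  hδ : δ = 1 ∨ δ = -1
  val : ∀ y ∈ c.H, Odd (orderOf y) → χ (c.t * y) = δ * M.St y
  inv : ∀ g, c.t ∈ zpowers g → ∀ o ∈ c.U, χ (g * o) = χ g

/-- The section `B / B₀` is a direct sum of natural `SL₂(F)`-modules for `J`. -/
def NatSec (J B B₀ : Subgroup G) : Prop :=
  ∃ (W : Type u) (_ : AddCommGroup W) (_ : Module M.F W) (φ : B →* Multiplicative (Fin 2 → W)),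
    Function.Surjective φ ∧ (∀ b : B, φ b = 1 ↔ (b : G) ∈ B₀) ∧
    ∀ j ∈ J, ∀ b ∈ B, ∀ k, (ap φ (j * b * j⁻¹)).toAdd k =
      ∑ l, (ap M.lam j : SL(2, M.F)) k l • (ap φ b).toAdd l

/-- elements of `J` of order five modulo `U ⟨t⟩` act without fixed points on `B / B₀` -/
def Fpf5 (J B B₀ : Subgroup G) : Prop :=
  ∀ j ∈ J, orderOf (ap M.κ j) = 5 → ∀ b ∈ B, j * b * j⁻¹ * b⁻¹ ∈ B₀ → b ∈ B₀

/-- `J` covers `SL₂(F)` and is normalised by `S` -/
structure Cov (J : Subgroup G) : Prop where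
  le : J ≤ M.Lt
  cov : M.L ≤ img M.κ J
  Q_le : c.Q ≤ J
  norm : c.S ≤ N[J]

/-- `L₁ ≅ SL₂(F)` is a normal subgroup of `H` with `L₁ × U = Lt` -/
structure Comp (L₁ : Subgroup G) : Prop where
  nml : L₁ ⊴ c.H
  cent : L₁ ≤ C[c.U]
  sup : L₁ ⊔ c.U = M.Lt
  inf : L₁ ⊓ c.U = ⊥

/-- `X` contains `S` and covers `PSL₂(F)` -/
structure Big (X : Subgroup G) : Prop where
  S_le : c.S ≤ X
  cov : M.L ≤ img M.κ X

/-- a proper subgroup `X = O(X) (X ∩ H)` of characteristic `p` containing `C(T)` and covering `Γ` -/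
structure QT (p : ℕ) (X : Subgroup G) : Prop extends M.Big X where
  ne_top : X ≠ ⊤
  CT_le : c.CT ≤ X
  iso : X ≤ 𝒪[X] ⊔ (X ⊓ c.H)
  chr : C[O[{p}, X]] ≤ O[{p}, X]

/-- `N(T)` acts trivially on `C(T)` modulo the preimage of `PGL₂(F)` -/
def Tw : Prop := ∀ y ∈ c.CT, ap M.κ (c.ρ * y * c.ρ⁻¹) * (ap M.κ y)⁻¹ ∈ M.L0

end Mod

/-- The centraliser of an involution is `GL₂(q)` or `GU₂(q)` modulo a central subgroup of odd
order (in the abstract form `H4.GD`). -/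
def Concl (G : Type u) [Group G] : Prop :=
  ∃ (N : H4.NP) (D : H4.GD G N), D.Full ∧ 4 ∣ N.n ∧
    (N.ε = 1 → ∃ (F : Type) (_ : Field F) (_ : Fintype F), N.q = Fintype.card F ∧
      Nonempty (H4.GL2P D F))

/-- induction hypothesis -/
def IH (G : Type u) [Group G] : Prop :=
  ∀ (X : Type u) [Group X] [Finite X], Nat.card X < Nat.card G → IsSimpleGroup X →
    Nonempty (QC X) → Concl X

/-- The setting of a minimal counterexample. -/
structure MC {G : Type u} [Group G] {c : QC G} (M : Mod c) : Prop where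
  simple : IsSimpleGroup G
  ih : IH G
  q5 : 5 ≤ M.N.q

/-- `B` is a minimal `H`-invariant `p`-subgroup not centralised by `t` -/
structure MinB {G : Type u} [Group G] (c : QC G) (p : ℕ) (B : Subgroup G) : Prop where
  prime : p.Prime
  ne2 : p ≠ 2
  pi : IsPi {p} B
  norm : c.H ≤ N[B]
  ne : ¬ B ≤ C{c.t}
  min : ∀ A < B, c.H ≤ N[A] → A ≤ C{c.t}

/-- Dihedral type: `L / O(L)` is `A₇` or lies between `PSL₂(F)` and `PΓL₂(F)`; a subgroup of index
at most two with dihedral Sylow 2-subgroups contains all involutions and elements of odd order. -/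
structure DT {G : Type u} [Group G] (L : Subgroup G) : Prop where
  nsol : ¬ Sol L
  gw : H13.Dih.GW (res L)
  cd : ∃ L₀ : Subgroup G, L₀ ⊴ L ∧ L₀.relIndex L ≤ 2 ∧ CD L₀ ∧
    ∀ x ∈ L, orderOf x = 2 ∨ Odd (orderOf x) → x ∈ L₀
  model : H13.Dih.IsA7 (L ⧸ oddCore L) ∨
    ∃ (F : Type) (_ : Field F) (_ : Finite F), Odd (Nat.card F) ∧ 5 ≤ Nat.card F ∧
      ∃ θ : L →* H16.PGa F, θ.ker = oddCore L ∧ H16.PH F ≤ θ.range

end H2.QD
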