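import Mathlib
import Cfsg.Agent.H2.QDefs
import Cfsg.Agent.H13.WBasic
import Cfsg.Agent.H22.MCFusion

/-! 2-local basics for groups with quasi-dihedral Sylow 2-subgroups. -/

set_option autoImplicit false
set_option linter.unusedSectionVars false

namespace H2.QD

open H24 Cfsg Subgroup
open H13.Dih (Four V4 Inv CD UU PP FC res)
open H13.Dih (sq_of ne_one_of inv_of two_of two_conj isPi_zp isPi_odd piElt_odd odd_orderOf
  odd_pcore le_O comm_idem comm_zp_eq_bot exists_two odd_of_pi piNat_odd sol_of_odd cop_zp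
  mem_zpowers_of_sq norm_comm_zp)
open H22 (hh qq sig tw_hh)
open scoped MatrixGroups

universe u

variable {G : Type u} [Group G] [Finite G]

namespace QC
variable (c : QC G) {X P : Subgroup G} {g x v w : G}

theorem pi_top (hP : IsPi {2} P) : IsPi {2} (⊤ : Subgroup P) := by rwa [IsPi, card_top]

theorem a1 : 1 ≤ c.a := by have := c.ha; omega
theorem a2 : 2 ≤ c.a := by have := c.ha; omega

theorem exists_co : ∃ E : H22.MC c.S c.a (hh c.a) 0, (∀ k : ℤ, E.r k = c.ω ^ k) ∧ E.s 0 = c.s := by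
  have h1 : 1 ≤ 2 ^ (c.a - 1) := Nat.one_le_two_pow
  have hn : zpowers c.s ≤ N[zpowers c.ω] := zpowers_le.2 (mem_N_of_finite (by
    rintro _ ⟨k, rfl⟩
    simp only
    rw [← conj_zpow, c.rel]
    exact zpow_mem (pow_mem (mem_zpowers _) _) _))
  refine H22.nonempty_MC c.S c.a (hh c.a) 0 c.ω c.s ((2 ^ (c.a - 1) - 1 : ℕ) : ℤ) 0 c.ord_ω
    (by rw [Int.cast_natCast, Nat.cast_sub h1, H22.natCast_two_pow, Nat.cast_one, hh]) Int.cast_zero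
    (by rw [zpow_natCast, c.rel]) (by rw [zpow_zero, sq_of c.ord_s]) c.s_not
    (mem_sup_left (mem_zpowers _)) (mem_sup_right (mem_zpowers _)) ?_
  rw [S, card_sup_of_inf hn, card_zpowers', card_zpowers', c.ord_ω, c.ord_s, mul_comm]
  rw [eq_bot_iff]
  rintro x ⟨h1, h2⟩
  rcases (mem_zpowers_of_sq (sq_of c.ord_s)).1 h2 with rfl | rfl
  · exact one_mem _
  · exact absurd h1 c.s_not

/-- coordinates on `S` -/
noncomputable def co : H22.MC c.S c.a (hh c.a) 0 := c.exists_co.choose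

theorem co_nat (k : ℕ) : c.co.r k = c.ω ^ k := by
  rw [← zpow_natCast, ← c.exists_co.choose_spec.1, Int.cast_natCast]; rfl
theorem co_s : c.co.s 0 = c.s := c.exists_co.choose_spec.2
theorem co_ω : c.co.r 1 = c.ω := by simpa using c.co_nat 1
theorem co_t : c.co.r (hh c.a) = c.t := by rw [t, ← c.co_nat, H22.natCast_two_pow]; rfl
theorem co_i : c.co.r (qq c.a) = c.i := by rw [i, ← c.co_nat, H22.natCast_two_pow]; rfl
theorem co_ts : c.co.s (hh c.a) = c.t * c.s := by rw [← co_t, ← co_s, c.co.r_mul_s, add_zero]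
theorem co_ωs : c.co.s 1 = c.ω * c.s := by rw [← co_ω, ← co_s, c.co.r_mul_s, add_zero]
theorem co_tw : H22.Tw c.a (hh c.a) := tw_hh c.ha
theorem co_qq : qq c.a ∈ H22.K c.a (c.a - 1) := H22.qq_mem_K (by have := c.ha; omega)
theorem co_hh : hh c.a ∈ H22.K c.a (c.a - 1) := H22.hh_mem_K (by have := c.ha; omega)
theorem co_one : (1 : ZMod (2 ^ c.a)) ∉ H22.K c.a (c.a - 1) :=
  H22.one_not_mem_K (by have := c.ha; omega)

theorem four : Four c.t c.s :=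
  ⟨c.co_t ▸ H22.SD.orderOf_r_hh c.co c.ha, c.ord_s, c.co_t ▸ c.co_s ▸ c.co.s_ne_r _ _, by
    rw [← co_t, ← co_s]
    exact c.co.s_comm_r.2 (c.co_tw.sig_eq_self.2 (H22.hh_mem_K le_rfl))⟩
theorem ord_i : orderOf c.i = 4 := c.co_i ▸ H22.SD.orderOf_r_qq c.co c.ha
theorem i_sq : c.i * c.i = c.t := by rw [← co_i, c.co.r_mul_r, H22.qq_add_qq c.a2, co_t]
theorem i_t : c.i * c.t * c.i⁻¹ = c.t := by rw [← i_sq]; group
theorem i_s : c.i * c.s * c.i⁻¹ = c.t * c.s := by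
  rw [← co_ts, ← co_i, ← co_s, c.co.r_conj_s, c.co_tw.sig_eq_neg c.co_qq, sub_neg_eq_add,
    H22.qq_add_qq c.a2, zero_add]
theorem i_ts : c.i * (c.t * c.s) * c.i⁻¹ = c.s := by
  calc _ = c.i * c.t * c.i⁻¹ * (c.i * c.s * c.i⁻¹) := by group
    _ = c.s := by rw [i_t, i_s, c.four.t_ts]
theorem rot_ρ : c.Rot c.ρ := ⟨c.ρ_t, c.ρ_s⟩
theorem Rot.ts {c : QC G} (h : c.Rot g) : g * (c.t * c.s) * g⁻¹ = c.t := by
  calc _ = g * c.t * g⁻¹ * (g * c.s * g⁻¹) := by group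
    _ = c.t := by rw [h.1, h.2, c.four.s_ts]
theorem Rot.mem_NT {c : QC G} (h : c.Rot g) : g ∈ N[c.T] := by
  rw [mem_N_iff_cj, T, Four.cj_V, h.1, h.2]
  exact c.four.V_eq c.four.mul' Four.s_mem Four.ts_mem
theorem Rot.conj {c : QC G} (h : c.Rot g) (hx : x ∈ c.CT) : c.Rot (x * g * x⁻¹) := by
  have h1 := mem_C1_iff_conj.1 (inv_mem hx).1
  have h2 := mem_C1_iff_conj.1 (inv_mem hx).2
  constructor
  · calc _ = x * (g * (x⁻¹ * c.t * x⁻¹⁻¹) * g⁻¹) * x⁻¹ := by group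
      _ = _ := by rw [h1, h.1, mem_C1_iff_conj.1 hx.2]
  · calc _ = x * (g * (x⁻¹ * c.s * x⁻¹⁻¹) * g⁻¹) * x⁻¹ := by group
      _ = _ := by rw [h2, h.2, mem_C1_iff_conj.1 (Four.C_mul hx.1 hx.2)]

theorem i_mem_NT : c.i ∈ N[c.T] := by
  rw [mem_N_iff_cj, T, Four.cj_V, i_t, i_s, c.four.V_mul]

theorem conj_T (hg : g ∈ N[c.T]) (hv : v ∈ c.T) (h1 : v ≠ 1) :
    g * v * g⁻¹ = c.t ∨ g * v * g⁻¹ = c.s ∨ g * v * g⁻¹ = c.t * c.s :=
  (c.four.mem_V.1 (conj_mem hg hv)).resolve_left (by rwa [conj_eq_one_iff'])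

theorem rot_of_swap (h1 : g * c.t * g⁻¹ = c.s ∨ g * c.t * g⁻¹ = c.t * c.s) (hg : g ∈ N[c.T])
    (h2 : g ∈ X) (h3 : c.i ∈ X) : ∃ r ∈ X, c.Rot r := by
  have key : ∀ g ∈ N[c.T], g ∈ X → g * c.t * g⁻¹ = c.s → ∃ r ∈ X, c.Rot r := by
    intro g hg h2 h1
    rcases c.conj_T hg Four.s_mem (ne_one_of c.ord_s) with h | h | h
    · refine ⟨g * c.i, mul_mem h2 h3, ?_, ?_⟩
      · calc _ = g * (c.i * c.t * c.i⁻¹) * g⁻¹ := by group
          _ = _ := by rw [i_t, h1]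
      · calc _ = g * (c.i * c.s * c.i⁻¹) * g⁻¹ := by group
          _ = g * c.t * g⁻¹ * (g * c.s * g⁻¹) := by rw [i_s]; group
          _ = _ := by rw [h1, h, c.four.comm]
    · rw [← h1] at h
      nth_rewrite 1 [h1] at h
      exact absurd (by simpa using h) c.four.ne
    · exact ⟨g, h2, h1, h⟩
  rcases h1 with h1 | h1
  · exact key g hg h2 h1
  · refine key (c.i * g) (mul_mem c.i_mem_NT hg) (mul_mem h3 h2) ?_
    calc _ = c.i * (g * c.t * g⁻¹) * c.i⁻¹ := by group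
      _ = _ := by rw [h1, i_ts]

theorem S_syl : Syl 2 ⊤ c.S := c.syl
theorem S_pi : IsPi {2} c.S := c.syl.pi
theorem card_S : ♯c.S = 2 ^ (c.a + 1) := c.co.card
theorem ω_mem_S : c.ω ∈ c.S := mem_sup_left (mem_zpowers _)
theorem s_mem_S : c.s ∈ c.S := mem_sup_right (mem_zpowers _)
theorem T_le_S : c.T ≤ c.S := Four.V_le.2 ⟨c.co_t ▸ c.co.r_mem _, c.s_mem_S⟩
theorem Q_le_S : c.Q ≤ c.S :=
  sup_le (zpowers_le.2 (pow_mem c.ω_mem_S _)) (zpowers_le.2 (mul_mem c.ω_mem_S c.s_mem_S))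

theorem co_Q : c.co.IsS c.Q (H22.K c.a (c.a - 1)) 1 := by
  obtain ⟨Y, hY⟩ := H22.SD.exists_quat c.co c.ha
  have h2 : c.co.r 2 = c.ω ^ 2 := by simpa using c.co_nat 2
  have : c.Q = Y := le_antisymm (sup_le
    (zpowers_le.2 (h2 ▸ (hY.r_mem _).2 (by simpa using H22.two_mul_mem_K_pred (n := c.a) 1)))
    (zpowers_le.2 (c.co_ωs ▸ hY.self_mem))) (hY.le_of (fun a ha => by
      obtain ⟨b, rfl⟩ := (H22.mem_K_pred c.a1).1 ha
      obtain ⟨b, rfl⟩ := ZMod.natCast_zmod_surjective b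
      rw [mul_comm, ← nsmul_eq_mul, ← c.co.r_pow, h2]
      exact mem_sup_left (pow_mem (mem_zpowers _) _)) (c.co_ωs ▸ mem_sup_right (mem_zpowers _)))
  rwa [this]

theorem co_T : c.co.IsS c.T (H22.K c.a 1) 0 := by
  obtain ⟨Y, hY⟩ := c.co.exists_isS_K (j := 1) 0 (by simp)
  have : c.T = Y := eq_of_card_eq
    (Four.V_le.2 ⟨c.co_t ▸ (hY.r_mem _).2 (H22.hh_mem_K le_rfl), c.co_s ▸ hY.self_mem⟩)
    (by rw [H22.MC.isS_card hY c.a1]; exact c.four.V_card)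
  rwa [this]

theorem card_Q : ♯c.Q = 2 ^ c.a := by
  rw [H22.MC.isS_card c.co_Q (by omega), Nat.sub_add_cancel c.a1]
theorem isQD : IsQuasiDihedral c.S :=
  ⟨c.a, c.ha, c.card_S, ⟨c.ω, c.ω_mem_S⟩, ⟨c.s, c.s_mem_S⟩, by rw [← orderOf_coe, c.ord_ω],
    by rw [← orderOf_coe, c.ord_s], Subtype.ext c.rel⟩
theorem S_le_H : c.S ≤ c.H := fun _ hg => mem_C1_iff_conj.2 (c.co_t ▸ c.co.r_hh_central c.co_tw hg)
theorem i_mem_Q : c.i ∈ c.Q := c.co_i ▸ (c.co_Q.r_mem _).2 c.co_qq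
theorem t_mem_Q : c.t ∈ c.Q := c.i_sq ▸ mul_mem c.i_mem_Q c.i_mem_Q
theorem s_not_Q : c.s ∉ c.Q := fun h => c.co_one (by
  simpa using (c.co_Q.s_mem 0).1 (c.co_s ▸ h))
theorem Q_nml : c.Q ⊴ c.S := ⟨c.Q_le_S, fun _ hg => mem_N_of_finite fun _ hx =>
  H22.MC.conj_mem_of_K c.co_tw (fun b => (c.co_Q.r_mem b).2) (c.Q_le_S hx) hx hg⟩
theorem Q_invol (hx : x ∈ c.Q) (h : x * x = 1) : x = 1 ∨ x = c.t := by
  by_cases h1 : x = 1
  · exact Or.inl h1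
  rcases H22.SD.involution_cases c.co c.ha (c.Q_le_S hx) (two_of h h1) with e | ⟨a, ha, e⟩
  · exact Or.inr (e.trans c.co_t)
  · exact absurd (by simpa using sub_mem ha ((c.co_Q.s_mem a).1 (e ▸ hx))) c.co_one
theorem not_cd_Q : ¬ CD c.Q := fun h => by
  obtain ⟨a, -, H⟩ := h.ex (P := ⊤) (pi_top (c.S_pi.of_le c.Q_le_S))
  have h4 : ∀ y : c.Q, orderOf (y : G) = 4 → y ∈ zpowers a := fun y hy => by
    by_contra e
    have := orderOf_dvd_of_pow_eq_one (n := 2)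
      (show (y : G) ^ 2 = 1 by rw [sq]; exact congrArg Subtype.val (H y trivial e).1)
    rw [hy] at this
    exact absurd this (by decide)
  have := congrArg Subtype.val ((abl_zpowers a).comm (h4 ⟨_, c.i_mem_Q⟩ c.ord_i)
    (h4 ⟨_, c.co_Q.self_mem⟩ (H22.SD.orderOf_s_one c.co c.ha)))
  simp only [coe_mul, ← co_i] at this
  exact H22.qq_not_mem_K_one c.a2 (c.co_tw.sig_eq_self.1 (c.co.r_comm_s.1 this))
theorem S_le (h1 : c.Q ≤ X) (h2 : c.s ∈ X) : c.S ≤ X :=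
  c.co.le_of_s_zero_one (c.co_s ▸ h2) (h1 c.co_Q.self_mem)
theorem T_le_CT : c.T ≤ c.CT := le_inf c.four.V_le_C c.four.V_le_C'
theorem CT_le_H : c.CT ≤ c.H := inf_le_left
theorem C_T : C[c.T] = c.CT := Four.C_V
theorem U_le_H : c.U ≤ c.H := pcore_le _ _
theorem U_nml : c.U ⊴ c.H := pcore_nml _ _
theorem odd_U : Odd ♯c.U := odd_pcore _
theorem s_mem_NU : c.s ∈ N[c.U] := c.U_nml.norm (c.S_le_H c.s_mem_S)
theorem K_le : c.K ≤ c.U := comm_le_left (zpowers_le.2 c.s_mem_NU)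
theorem U_le_NK : c.U ≤ N[c.K] := norm_comm_left _ _
theorem K_comm : ⁅c.K, zpowers c.s⁆ = c.K := comm_idem c.odd_U c.ord_s c.s_mem_NU
theorem K_eq : ⁅c.U, c.T⁆ = c.K := by
  refine le_antisymm ?_ (commutator_mono le_rfl le_sup_right)
  rw [commutator_comm]
  refine H13.W.comm_sup_le c.U_le_NK (zpowers_le.2 ?_) (norm_comm_right _ _) ?_
    (commutator_comm _ _).le
  · exact norm_comm_zp (inf_le_left.trans c.U_nml.norm) inf_le_right
      (mem_inf.2 ⟨self_mem_C1 _, c.four.t_mem_C⟩)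
  · rw [commutator_comm, comm_zp_eq_bot.2 c.U_le_H]; exact bot_le
theorem NT_le_NK : c.H ⊓ N[c.T] ≤ N[c.K] :=
  c.K_eq ▸ norm_comm (inf_le_left.trans c.U_nml.norm) inf_le_right
theorem K_eq_bot : c.K = ⊥ ↔ c.U ≤ C{c.s} := comm_zp_eq_bot
theorem u_eq_one : c.u = 1 ↔ c.U ≤ C{c.s} := by
  rw [u, relIndex_eq_one, le_inf_iff, and_iff_right le_rfl]
theorem odd_u : Odd c.u := c.odd_U.of_dvd_nat (relIndex_dvd_card _ _)

/-- four-subgroups of `S` are conjugate to `T` under `⟨ω⟩` -/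
theorem four_in_S (h : Four v w) (hv : v ∈ c.S) (hw : w ∈ c.S) :
    ∃ b, H24.cj (c.co.r b) (V4 v w) = c.T := by
  obtain ⟨-, d, h1, h2⟩ := c.co.exists_isS_of_isKleinFour (Four.V_le.2 ⟨hv, hw⟩)
    (H22.isKleinFour_of h.V_card fun _ => h.V_sq)
  exact H22.SD.four_conj c.ha h1 c.co_T h2 (by simp)

theorem syl_aux {L : Subgroup G} (hS : c.S ≤ L) (hP : IsPi {2} P) (hT : c.T ≤ P) (hL : P ≤ L) :
    ∃ g ∈ L ⊓ N[c.T], H24.cj g P ≤ c.S := by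
  obtain ⟨g, hg, h⟩ := Sylow_Jsub Nat.prime_two (c.syl.of_le hS le_top) hP hL
  obtain ⟨b, hb⟩ := c.four_in_S (c.four.conj g) (h (conj_mem_cj g (hT Four.t_mem)))
    (h (conj_mem_cj g (hT Four.s_mem)))
  refine ⟨c.co.r b * g, ⟨mul_mem (hS (c.co.r_mem b)) hg, mem_N_iff_cj.2 ?_⟩, ?_⟩
  · rw [cj_mul]; nth_rewrite 1 [T]; rw [Four.cj_V, hb]
  · rw [cj_mul]; exact cj_le_of_mem h (c.co.r_mem b)

theorem NT_le_NCT : N[c.T] ≤ N[c.CT] := c.C_T ▸ N_le_NC _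
theorem NT_le_NR : N[c.T] ≤ N[c.R] := norm_pcore _ c.NT_le_NCT

theorem le_T (hX : IsPi {2} X) (h : X ≤ c.CT) : X ≤ c.T := by
  have h1 : X ≤ N[c.T] := norm_of_cent (c.C_T ▸ h)
  obtain ⟨g, hg, e⟩ := c.syl_aux le_top (c.four.V_pi.sup hX h1) le_sup_left le_top
  have : H24.cj g X ≤ c.T := by
    rw [← H22.MC.inf_centralizer_four c.co_tw c.co_T]
    exact le_inf ((cj_mono g le_sup_right).trans e)
      (c.C_T.symm ▸ cj_le_of_mem_N h (c.NT_le_NCT hg.2) : _ ≤ C[c.T])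
  rwa [cj_le_iff, cj_of_mem_N (inv_mem hg.2)] at this

theorem T_syl : Syl 2 c.CT c.T :=
  syl_of_max Nat.prime_two c.four.V_pi c.T_le_CT fun _ h1 _ h2 => c.le_T h1 h2

theorem CT_dp : DP c.R c.T c.CT :=
  have h : SD c.R c.T c.CT :=
    H26.Burnside_normal_complement Nat.prime_two c.T_syl (inf_le_left.trans c.C_T.ge)
  ⟨cents_symm ((pcore_le _ _).trans c.C_T.ge), h.inf, h.sup⟩

theorem le_R (hX : Odd ♯X) (h : X ≤ c.CT) : X ≤ c.R :=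
  H13.W.le_of_odd_sup (odd_pcore _) c.four.V_pi (norm_of_cent c.CT_dp.cent) hX
    (h.trans c.CT_dp.sup.ge)
theorem mem_R : x ∈ c.R ↔ x ∈ c.CT ∧ Odd (orderOf x) :=
  ⟨fun h => ⟨pcore_le _ _ h, odd_orderOf (odd_pcore _) h⟩, fun h =>
    c.le_R (by rw [card_zpowers']; exact h.2) (zpowers_le.2 h.1) (mem_zpowers x)⟩

theorem i_mem_H : c.i ∈ c.H := c.S_le_H (c.Q_le_S c.i_mem_Q)

theorem NT_cases (hg : g ∈ N[c.T]) (hH : g ∈ c.H) : g ∈ c.CT ∨ g * c.i ∈ c.CT := by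
  have hgt : g * c.t * g⁻¹ = c.t := mem_C1_iff_conj.1 hH
  rcases c.conj_T hg Four.s_mem (ne_one_of c.ord_s) with h | h | h
  · rw [← hgt] at h
    exact absurd (by simpa using h) c.four.ne
  · exact Or.inl ⟨hH, mem_C1_iff_conj.2 h⟩
  · refine Or.inr ⟨mul_mem hH c.i_mem_H, mem_C1_iff_conj.2 ?_⟩
    calc _ = g * (c.i * c.s * c.i⁻¹) * g⁻¹ := by group
      _ = g * c.t * g⁻¹ * (g * c.s * g⁻¹) := by rw [c.i_s]; group
      _ = c.s := by rw [hgt, h, c.four.t_ts]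

theorem NT_le (h1 : c.CT ≤ X) (h2 : c.i ∈ X) (h3 : c.Rot g) (h4 : g ∈ X) : N[c.T] ≤ X := by
  have key : ∀ y ∈ N[c.T], y * c.t * y⁻¹ = c.t → y ∈ X := fun y hy e => by
    rcases c.NT_cases hy (mem_C1_iff_conj.2 e) with h | h
    · exact h1 h
    · exact (mul_mem_cancel_right h2).1 (h1 h)
  intro y hy
  rcases c.conj_T hy Four.t_mem (ne_one_of c.four.ht) with h | h | h
  · exact key y hy h
  · refine (mul_mem_cancel_left (inv_mem h4)).1 (key _ (mul_mem (inv_mem h3.mem_NT) hy) ?_)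
    calc _ = g⁻¹ * (y * c.t * y⁻¹) * g := by group
      _ = _ := by rw [h, ← h3.1]; group
  · refine (mul_mem_cancel_left h4).1 (key _ (mul_mem h3.mem_NT hy) ?_)
    calc _ = g * (y * c.t * y⁻¹) * g⁻¹ := by group
      _ = _ := by rw [h, h3.ts]

theorem invol_cases {L : Subgroup G} (hS : c.S ≤ L) (hx : x ∈ L) (h2 : orderOf x = 2) :
    ∃ g ∈ L, g * x * g⁻¹ = c.t ∨ g * x * g⁻¹ = c.s := by
  obtain ⟨g, hg, h⟩ := Sylow_Jsub Nat.prime_two (c.syl.of_le hS le_top) (isPi_zp h2)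
    (zpowers_le.2 hx)
  rcases H22.SD.involution_cases c.co c.ha (h (conj_mem_cj g (mem_zpowers x))) (two_conj h2 g)
    with e | ⟨a, ha, e⟩
  · exact ⟨g, hg, Or.inl (e.trans c.co_t)⟩
  · obtain ⟨b, hb⟩ := c.co.s_conj c.co_tw c.a1 (d := a) (d' := 0) (by simpa using ha)
    refine ⟨c.co.r b * g, mul_mem (hS (c.co.r_mem b)) hg, Or.inr ?_⟩
    rw [← co_s, ← hb, ← e]; group

theorem invol_H (hx : x ∈ c.H) (h2 : orderOf x = 2) (h1 : x ≠ c.t) :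
    ∃ g ∈ c.H, g * x * g⁻¹ = c.s := by
  obtain ⟨g, hg, h | h⟩ := c.invol_cases c.S_le_H hx h2
  · refine absurd ?_ h1
    have := mem_C1_iff_conj.1 (inv_mem hg)
    rw [← this, ← h]; group
  · exact ⟨g, hg, h⟩

theorem invol_G (h2 : orderOf x = 2) : ∃ g, g * x * g⁻¹ = c.t := by
  obtain ⟨g, -, h | h⟩ := c.invol_cases le_top (mem_top x) h2
  · exact ⟨g, h⟩
  · refine ⟨c.ρ⁻¹ * g, ?_⟩
    calc _ = c.ρ⁻¹ * (g * x * g⁻¹) * c.ρ := by group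
      _ = _ := by rw [h, ← c.rot_ρ.1]; group

theorem exists_four (h : Four v w) : ∃ g, g * c.t * g⁻¹ = v ∧ g * c.s * g⁻¹ = w := by
  obtain ⟨g, hg⟩ := c.invol_G h.ht
  have h' := h.conj g
  rw [hg] at h'
  obtain ⟨k, hk, e⟩ := c.invol_H h'.s_mem_C h'.hs h'.ne
  refine ⟨(k * g)⁻¹, ?_, by rw [← e]; group⟩
  calc _ = g⁻¹ * (k⁻¹ * c.t * k⁻¹⁻¹) * g := by group
    _ = _ := by rw [mem_C1_iff_conj.1 (inv_mem hk), ← hg]; group

theorem exists_NT (h : Four v w) (hv : v ∈ c.T) (hw : w ∈ c.T) :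
    ∃ g ∈ N[c.T], g * c.t * g⁻¹ = v ∧ g * c.s * g⁻¹ = w := by
  obtain ⟨g, h1, h2⟩ := c.exists_four h
  refine ⟨g, mem_N_iff_cj.2 ?_, h1, h2⟩
  rw [T, Four.cj_V, h1, h2]
  exact c.four.V_eq h hv hw

theorem syl_conj (hP : Syl 2 ⊤ P) (hT : c.T ≤ P) (hH : P ≤ c.H) :
    ∃ g ∈ c.CT, P = H24.cj g c.S := by
  obtain ⟨g, hg, e⟩ := c.syl_aux c.S_le_H hP.pi hT hH
  have e' := H24.cj_eq_iff.1 (eq_of_card_eq e (by rw [card_cj]; exact hP.card_eq c.syl))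
  rcases c.NT_cases (inv_mem hg.2) (inv_mem hg.1) with h | h
  · exact ⟨_, h, e'⟩
  · exact ⟨_, h, by rw [cj_mul, cj_of_mem (c.Q_le_S c.i_mem_Q), e']⟩

theorem syl_conj' (hP : Syl 2 ⊤ P) (hT : c.T ≤ P) : ∃ g ∈ N[c.T], P = H24.cj g c.S := by
  obtain ⟨g, hg, e⟩ := c.syl_aux le_top hP.pi hT le_top
  exact ⟨_, inv_mem hg.2,
    H24.cj_eq_iff.1 (eq_of_card_eq e (by rw [card_cj]; exact hP.card_eq c.syl))⟩

theorem two_cases (hP : IsPi {2} P) (hT : c.T ≤ P) : CD P ∨ Syl 2 ⊤ P := by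
  obtain ⟨g, hg, e⟩ := c.syl_aux le_top hP hT le_top
  have h1 : c.co.s 0 ∈ H24.cj g P := c.co_s ▸ cj_mono g hT ((cj_of_mem_N hg.2).ge Four.s_mem)
  obtain ⟨j, hj, e'⟩ := H22.exists_eq_K (c.co.rpart (H24.cj g P))
  have h2 := e' ▸ c.co.isS_of_mem e h1
  rcases hj.lt_or_eq with hj' | rfl
  · obtain ⟨f⟩ := H22.MC.isS_equiv_dihedral h2 hj (by simp) fun a ha =>
      H22.K_mono (show j ≤ c.a - 1 by omega) ha
    obtain ⟨R⟩ : Nonempty (Sylow 2 P) := inferInstance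
    have h3 : (R : Subgroup P) = ⊤ :=
      (syl_top_of_sylow Nat.prime_two R).eq_self (pi_top hP)
    exact Or.inl (H13.Dih.cd_of_dihedral R
      (((MulEquiv.subgroupCongr h3).trans topEquiv).trans ((H22.cjEquiv g P).trans f)))
  · exact Or.inr (c.syl.of_card le_top (by
      rw [← card_cj g, H22.MC.isS_card h2 le_rfl]; exact c.card_S.symm))

theorem inf_ne_bot_of_norm (hP : IsPi {2} P) (hN : P ≤ N[X]) (h : ¬ Odd ♯X) :
    ∃ v ∈ X ⊓ C[P], orderOf v = 2 := by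
  obtain ⟨R, hR, h1⟩ := Sylow_superset Nat.prime_two hP (le_sup_right : P ≤ X ⊔ P)
  have h2 := hR.inf_nml (nml_sup_left hN)
  have h3 := (hR.pi.nil Nat.prime_two).inf_C_ne_bot
    (nml_inf_of_norm (hR.le.trans (nml_sup_left hN).norm))
    (h2.ne_bot Nat.prime_two rfl (by rwa [Nat.not_odd_iff_even, even_iff_two_dvd] at h))
  obtain ⟨v, hv, h4⟩ := H13.Dih.exists_two_of_pi ((hR.pi.inf_left _).inf_left _) h3
  exact ⟨v, ⟨hv.1.2, C_anti h1 hv.2⟩, h4⟩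

theorem mem_T_of_norm (hT : c.T ≤ N[X]) (h : ¬ Odd ♯X) : ∃ v ∈ c.T ⊓ X, v ≠ 1 := by
  obtain ⟨v, hv, h2⟩ := inf_ne_bot_of_norm c.four.V_pi hT h
  exact ⟨v, ⟨c.le_T (isPi_zp h2) (zpowers_le.2 (c.C_T.le hv.2)) (mem_zpowers v), hv.1⟩,
    ne_one_of h2⟩

theorem t_mem_of_norm (hS : c.S ≤ N[X]) (h : ¬ Odd ♯X) : c.t ∈ X := by
  obtain ⟨v, hv, h2⟩ := inf_ne_bot_of_norm c.S_pi hS h
  have h3 := c.le_T (isPi_zp h2) (zpowers_le.2 (c.C_T.le (C_anti c.T_le_S hv.2))) (mem_zpowers v)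
  have h4 := mem_C1_iff_conj.1 (mem_C1_comm.1 (C_le_C1 (c.Q_le_S c.i_mem_Q) hv.2))
  rcases c.four.mem_V.1 h3 with rfl | rfl | rfl | rfl
  · exact absurd rfl (ne_one_of h2)
  · exact hv.1
  · exact absurd (c.i_s.symm.trans h4) c.four.ts_ne_s
  · exact absurd (h4.symm.trans c.i_ts) c.four.ts_ne_s

theorem odd_index : Odd c.H.index := by
  have := c.syl.idx_of_ge c.S_le_H
  rwa [relIndex_top_right, piNat_odd] at this

include c in
theorem no_index_two (K : Subgroup G) : K.index ≠ 2 := fun e => by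
  have := normal_of_index_eq_two e
  have sq : ∀ y : G, y * y ∈ K := fun y => mul_self_mem_of_index_two e y
  obtain ⟨h, e'⟩ := c.fus
  have h1 : c.s ∈ K := c.rot_ρ.1 ▸ this.conj_mem _ (c.i_sq ▸ sq _) _
  have h2 : c.ω * c.s ∈ K := e' ▸ this.conj_mem _ (by
    rw [show c.a - 2 = c.a - 3 + 1 by have := c.ha; omega, pow_succ, pow_mul, _root_.sq]
    exact sq _) _
  have h3 := c.syl.idx_of_ge (c.co.le_of_s_zero_one (c.co_s ▸ h1) (c.co_ωs ▸ h2))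
  rw [relIndex_top_right, piNat_odd, e] at h3
  exact absurd h3 (by decide)

theorem cj_T (g : G) : (c.cj g).T = H24.cj g c.T := by rw [T, T, Four.cj_V, cj_t, cj_s]
theorem cj_Q (g : G) : (c.cj g).Q = H24.cj g c.Q := by
  rw [Q, Q, cj_sup, cj_zpowers, cj_zpowers, ← conj_pow]
  congr 2
  simp only [cj]; group
theorem cj_CT (g : G) : (c.cj g).CT = H24.cj g c.CT := by
  rw [CT, CT, cj_inf, cj_C1, cj_C1, cj_t, cj_s]
theorem cj_R (g : G) : (c.cj g).R = H24.cj g c.R := by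
  rw [R, R, ← pcore_cj]; exact congrArg _ (c.cj_CT g)
theorem cj_K (g : G) : (c.cj g).K = H24.cj g c.K := by
  rw [K, K, cj_comm, cj_zpowers, cj_U, cj_s]
theorem cj_u (g : G) : (c.cj g).u = c.u := by
  rw [u, u, cj_U, cj_s, ← cj_C1, ← cj_inf, relIndex_cj]
theorem cj_T' (hg : g ∈ N[c.T]) : (c.cj g).T = c.T := by rw [cj_T, cj_of_mem_N hg]
theorem cj_CT' (hg : g ∈ N[c.T]) : (c.cj g).CT = c.CT := by
  rw [cj_CT, cj_of_mem_N (c.NT_le_NCT hg)]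
theorem cj_R' (hg : g ∈ N[c.T]) : (c.cj g).R = c.R := by rw [cj_R, cj_of_mem_N (c.NT_le_NR hg)]
theorem Free.cj {c : QC G} (h : c.Free X) (g : G) : (c.cj g).Free (H24.cj g X) := by
  have := cj_mono g h
  rwa [cj_comm, cj_inf, cj_C1, cj_zpowers, ← pcore_cj, cj_C1, ← cj_t] at this
theorem Free.mono {c : QC G} (h : c.Free X) (hP : P ≤ X) : c.Free P :=
  (commutator_mono (inf_le_inf_right _ hP) le_rfl).trans h
theorem Free.ts {c : QC G} (h : c.Free X) (hi : c.i ∈ N[X]) :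
    ⁅X ⊓ C{c.t * c.s}, zpowers c.t⁆ ≤ UU (c.t * c.s) := by
  have := cj_mono c.i h
  rwa [cj_comm, cj_inf, cj_C1, cj_zpowers, ← pcore_cj, cj_C1, c.i_t, c.i_s,
    cj_of_mem_N hi] at this
end QC

theorem MinB.cj {c : QC G} {p : ℕ} {B : Subgroup G} (h : MinB c p B) (g : G) :
    MinB (c.cj g) p (H24.cj g B) where
  prime := h.prime
  ne2 := h.ne2
  pi := h.pi.cj g
  norm := by rw [c.cj_H, ← cj_N]; exact cj_mono g h.norm
  ne := by rw [c.cj_t, ← cj_C1, cj_le_cj]; exact h.ne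
  min := fun A h1 h2 => by
    rw [c.cj_t, ← cj_C1, le_cj_iff]
    refine h.min _ (by rwa [← cj_lt_cj (g := g), cj_cj_inv]) ?_
    rwa [← cj_N, ← cj_le_iff, ← c.cj_H]

theorem MinB.exists {c : QC G} {W : Subgroup G} (hW : Odd ♯W) (hN : c.H ≤ N[W])
    (h : ¬ W ≤ C{c.t}) : ∃ p B, MinB c p B := by
  have ht : c.t ∈ N[W] := hN (self_mem_C1 _)
  have h1 : ¬ F[W] ≤ C{c.t} := fun e => h (by
    rw [← comm_zp_eq_bot, ← comm_idem hW c.four.ht ht, comm_zp_eq_bot]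
    refine (le_Fitting_of_cent (sol_of_odd hW) (comm_le_left (zpowers_le.2 ht)) ?_).trans e
    exact (commutator_mono (Fitting_nml W).norm (cents_symm (by rwa [C_zpowers]))).trans
      (comm_le_right (N_le_NC _)))
  obtain ⟨p, hp, h2, h3⟩ : ∃ p, p.Prime ∧ p ∣ ♯F[W] ∧ ¬ O[{p}, W] ≤ C{c.t} := by
    by_contra! e
    exact h1 (Fitting_le_of_pcore_le e)
  obtain ⟨B, h4, ⟨h5, h6⟩, h7⟩ := exists_min (P := fun B => c.H ≤ N[B] ∧ ¬ B ≤ C{c.t})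
    ⟨norm_pcore _ hN, h3⟩
  refine ⟨p, B, hp, ?_, (pcore_pi _ _).of_le h4, h5, h6, fun A h8 h9 => ?_⟩
  · rintro rfl
    exact absurd (hW.of_dvd_nat (h2.trans (card_dvd (Fitting_le W)))) (by decide)
  · by_contra e
    exact h8.ne (h7 A ⟨h9, e⟩ h8.le)

/-- structure of a minimal `B` -/
theorem MinB.str {c : QC G} {p : ℕ} {B : Subgroup G} (h : MinB c p B) :
    ⁅B, zpowers c.t⁆ = B ∧ B ⊓ C{c.t} = ⁅B, B⁆ ∧ Phi B = ⁅B, B⁆ ∧ ⁅B, B⁆ ≤ C[B] ∧ ⁅B, B⁆ ≤ c.U ∧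
      ¬ B ⊓ C{c.s} ≤ C{c.t} ∧ (∀ A, ⁅B, B⁆ ≤ A → A ≤ B → c.H ≤ N[A] → A = ⁅B, B⁆ ∨ A = B) ∧
      ∀ x ∈ c.H, ⁅B, zpowers x⁆ ≤ ⁅B, B⁆ → x ∈ C[B] := by
  have ho := odd_of_pi h.ne2 h.pi
  have ht : c.t ∈ N[B] := h.norm (self_mem_C1 _)
  have hB : B ≠ ⊥ := fun e => h.ne (e ▸ bot_le)
  have h1 : ⁅B, zpowers c.t⁆ = B := by
    by_contra e
    refine h.ne ?_
    rw [← comm_zp_eq_bot, ← comm_idem ho c.four.ht ht, comm_zp_eq_bot]
    exact h.min _ (lt_of_le_of_ne (comm_le_left (zpowers_le.2 ht)) e) (norm_comm_zp h.norm le_rfl)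
  have hΦ : Phi B ≤ C{c.t} := h.min _ (Phi_lt hB) (norm_Phi h.norm)
  have hD := h.pi.der1_le_Phi h.prime
  have nD : c.H ≤ N[⁅B, B⁆] := norm_comm h.norm h.norm
  have nD' : B ≤ N[⁅B, B⁆] := norm_comm_left _ _
  have h2 : B ⊓ C{c.t} = ⁅B, B⁆ := by
    refine le_antisymm (fun x hx => ?_) (le_inf (der1_le B) (hD.trans hΦ))
    have hA : Abl (quo B ⁅B, B⁆) := abl_quo_der1 B
    have hi := H13.Dih.Abl.inv_comm hA (t := cs ⁅B, B⁆ c.t)
      (by rw [← ap_mul _ (nD (self_mem_C1 _)) (nD (self_mem_C1 _)), sq_of c.four.ht, ap_one])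
      (zpowers_le.1 (quo_zpowers (nD (self_mem_C1 _)) ▸ quo_norm _ (zpowers_le.2 ht)))
    rw [← quo_zpowers (nD (self_mem_C1 _)), ← quo_comm nD' (zpowers_le.2 (nD (self_mem_C1 _))),
      h1] at hi
    have := hi.eq_one (cs_mem_quo hx.1 (nD' hx.1))
      (odd_orderOf (isPi_odd.1 ((isPi_odd.2 ho).quo _)) (cs_mem_quo hx.1 (nD' hx.1)))
      (mem_C1.2 (by rw [← ap_mul _ (nD' hx.1) (nD (self_mem_C1 _)), mem_C1.1 hx.2,
        ap_mul _ (nD (self_mem_C1 _)) (nD' hx.1)]))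
    exact (cs_eq_one (nD' hx.1)).1 this
  have h3 : ⁅B, B⁆ ≤ C[B] := cents_symm (by
    nth_rewrite 1 [← h1]
    exact (commutator_mono nD' (cents_symm (by rw [C_zpowers]; exact hD.trans hΦ))).trans
      (comm_le_right (N_le_NC _)))
  refine ⟨h1, h2, le_antisymm (h2 ▸ le_inf (Phi_le B) hΦ) hD, h3,
    le_O (ho.of_dvd_nat (card_dvd (der1_le B))) ⟨hD.trans hΦ, nD⟩, fun e => h.ne ?_,
    fun A _ h5 h6 => ?_, fun x hx h4 => ?_⟩
  · refine c.four.gen ho ((c.T_le_S.trans c.S_le_H).trans h.norm) inf_le_right e ?_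
    have := cj_mono c.i e
    rwa [cj_inf, cj_C1, cj_C1, c.i_t, c.i_s, cj_of_mem_N (h.norm c.i_mem_H)] at this
  · rcases h5.lt_or_eq with e | e
    · exact Or.inl (le_antisymm (h2 ▸ le_inf h5 (h.min A e h6)) ‹_›)
    · exact Or.inr e
  · have := three_subgroup (A := B) (B := zpowers x) (K := zpowers c.t)
      (comm_zp_eq_bot.2 (h4.trans (hD.trans hΦ)))
      (by rw [comm_zp_eq_bot.2 (zpowers_le.2 hx), commutator_bot_left])
    rw [commutator_comm (zpowers c.t), h1, comm_eq_bot] at this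
    exact zpowers_le.1 (cents_symm this)

end H2.QD
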