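import Mathlib
import Cfsg.Agent.H2.QDefs
import Cfsg.Agent.H13.WPD
import Cfsg.Agent.H16.QPa

/-! # QPG: facts about the group `Γ` between `PGL₂(q)` and `PΓL₂(q)` -/

set_option autoImplicit false
set_option linter.unusedSectionVars false
set_option linter.unusedVariables false

namespace H2.QD

open H24 Cfsg Subgroup
open H13.Dih (Four V4 Inv CD UU PP FC res)
open H13.Dih (sq_of ne_one_of inv_of two_of odd_orderOf piElt_odd isPi_odd odd_pcore)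
open H16 (tor PLine PB self_mem_tor inv_pow_ne)
open H0.WM (LA Ux mem_Ux Ux_fix)
open H16.QP
open scoped MatrixGroups commutatorElement

universe u

attribute [local instance] H0.WM.gaMul

variable {G : Type u} [Group G] [Finite G]

namespace QC
variable (c : QC G)

theorem pg_t : orderOf c.t = 2 := by
  obtain ⟨b, hb⟩ : ∃ b, c.a = b + 1 := ⟨c.a - 1, by have := c.ha; omega⟩
  rw [t, orderOf_pow_of_dvd (by positivity) (by rw [c.ord_ω]; exact pow_dvd_pow 2 (by omega)),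
    c.ord_ω, hb, Nat.add_sub_cancel, pow_succ, Nat.mul_div_cancel_left _ (by positivity)]

theorem pg_ω : c.ω ∈ c.H := mem_C1.2 (Commute.self_pow _ _).eq
theorem pg_tH : c.t ∈ c.H := self_mem_C1 _

theorem pg_rel : c.s * c.ω * c.s⁻¹ = c.t * c.ω⁻¹ := by
  rw [c.rel, t, eq_mul_inv_iff_mul_eq, ← pow_succ, Nat.sub_add_cancel Nat.one_le_two_pow]

theorem pg_conj (k : ℕ) : c.s * c.ω ^ 2 ^ (k + 1) * c.s⁻¹ = (c.ω ^ 2 ^ (k + 1))⁻¹ := by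
  rw [← conj_pow, c.pg_rel, (show Commute c.t c.ω⁻¹ from
    (Commute.pow_self _ _).inv_right).mul_pow, pow_succ' 2, pow_mul, sq, sq_of c.pg_t, one_pow,
    one_mul, inv_pow]

theorem pg_s : c.s ∈ c.H := mem_C1_iff_conj.2 (by
  have := c.pg_conj (c.a - 2)
  rw [show c.a - 2 + 1 = c.a - 1 by have := c.ha; omega] at this
  exact this.trans (inv_of c.pg_t))

theorem pg_i : c.i * c.i = c.t := by
  rw [i, t, ← pow_add, ← two_mul, ← pow_succ', show c.a - 2 + 1 = c.a - 1 by have := c.ha; omega]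

theorem pg_i_not : c.i ∉ c.U ⊔ zpowers c.t := fun h => by
  have hU : c.U ≤ C{c.t} := pcore_le _ _
  obtain ⟨u, hu, z, hz, e⟩ := (mem_sup_of_norm
    (norm_of_cent (cents_symm (hU.trans (C_zpowers c.t).ge)))).1 h
  have h1 : u * u = c.t := by
    rcases (H13.Dih.mem_zpowers_of_sq (sq_of c.pg_t)).1 hz with rfl | rfl
    · rw [← c.pg_i, e, mul_one]
    · rw [← c.pg_i, e, mul_assoc, ← mul_assoc c.t, ← mem_C1.1 (hU hu), mul_assoc, sq_of c.pg_t,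
        mul_one]
  exact H13.Dih.not_mem_of_odd (odd_pcore _) c.pg_t (h1 ▸ mul_mem hu hu)

end QC

namespace Mod
variable {c : QC G} (M : Mod c) {X Y K : Subgroup M.Γ} {x y φ : M.Γ} {p : ℕ}

theorem char_eq : ringChar M.F = M.N.p := by
  have := Fintype.ofFinite M.F
  have := H16.charP_of_card_eq_pow (F := M.F) M.N.hp
    (by rw [← Nat.card_eq_fintype_card, ← M.hq, M.N.hq])
  exact ringChar.eq _ _

theorem four_dvd_n : 4 ∣ M.N.n := by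
  obtain ⟨n', -, h⟩ := M.hn
  exact h ▸ (pow_dvd_pow 2 (show 2 ≤ c.a - 1 by have := c.ha; omega)).mul_right _

theorem m_mod : M.N.m % 4 = 2 := by
  have := M.four_dvd_n
  have := M.N.cases
  omega

theorem card_L0 : ♯M.L0 = M.N.q * M.N.m * M.N.n := by
  rw [L0, MonoidHom.range_eq_map, M.E.card_map, card_top, H16.card_pgl_two, ← M.hq, mul_assoc,
    ← M.N.m_mul_n, Nat.add_sub_cancel]

theorem L_nml : M.L.Normal := M.E.normal_L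
theorem L0_nml : M.L0.Normal := M.E.normal_range
theorem L_le : M.L ≤ M.L0 := map_le_range _ _

theorem card_L : 2 * ♯M.L = M.N.q * M.N.m * M.N.n := by
  rw [← M.card_L0, L0, MonoidHom.range_eq_map, M.E.card_map, card_top, L, H0.WM.Emb.L,
    M.E.card_map, ← (PB M.F).card_mul_index, H0.WM.index_PB M.h2, mul_comm]

theorem odd_index : Odd M.L0.index := M.E.odd

theorem index_dvd : M.L0.index ∣ M.N.f := by
  have := Fintype.ofFinite M.F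
  have := Fact.mk M.N.hp
  have h : M.L0 = (SemidirectProduct.rightHom.comp M.E.j).ker := ext fun g => M.E.mem_range
  rw [h, index_ker, ← H16.card_ringAut (F := M.F) M.N.p M.N.f
    (by rw [← Nat.card_eq_fintype_card, ← M.hq, M.N.hq])]
  exact card_subgroup_dvd_card _

theorem pg_t : ap M.κ c.t = 1 := by
  rw [ap_of_mem _ c.pg_tH, M.ker]; exact mem_sup_right (mem_zpowers _)

theorem pg_w : ap M.κ c.ω ∈ M.L0 := M.S_in _ (mem_sup_left (mem_zpowers _))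
theorem pg_σ : M.σ = ap M.κ c.ω ^ 2 ^ (c.a - 2) := ap_pow _ c.pg_ω _

theorem pg_ew : M.e * ap M.κ c.ω * M.e⁻¹ = (ap M.κ c.ω)⁻¹ := by
  rw [e, ← ap_conj _ c.pg_s c.pg_ω, c.pg_rel, ap_mul _ c.pg_tH (inv_mem c.pg_ω),
    M.pg_t, one_mul, ap_inv _ c.pg_ω]

theorem e_mem : M.e ∈ M.L0 := M.S_in _ (mem_sup_right (mem_zpowers _))
theorem e_not : M.e ∉ M.L := M.s_out

theorem pg_sq (hx : x ∈ M.L0) : x * x ∈ M.L := by
  obtain ⟨y, rfl⟩ := hx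
  exact ⟨_, H0.WM.sq_mem_PB y, map_mul _ _ _⟩

theorem σ_mem : M.σ ∈ M.L := by
  rw [M.pg_σ, show c.a - 2 = c.a - 3 + 1 by have := c.ha; omega, pow_succ, pow_mul, sq]
  exact M.pg_sq (pow_mem M.pg_w _)

theorem four_eσ : Four M.e M.σ := by
  have hi : c.i ∈ c.H := pow_mem c.pg_ω _
  have h1 : M.σ * M.σ = 1 := by rw [σ, ← ap_mul _ hi hi, c.pg_i, M.pg_t]
  refine ⟨two_of ?_ fun h => M.e_not (h ▸ one_mem _), two_of h1 fun h => c.pg_i_not ?_,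
    fun h => M.e_not (h ▸ M.σ_mem), ?_⟩
  · rw [e, ← ap_mul _ c.pg_s c.pg_s, sq_of c.ord_s, ap_one]
  · rwa [σ, ap_of_mem _ hi, M.ker] at h
  · have : M.e * M.σ * M.e⁻¹ = M.σ⁻¹ := by rw [M.pg_σ, ← conj_pow, M.pg_ew, inv_pow]
    rw [inv_eq_of_mul_eq_one_right h1, mul_inv_eq_iff_eq_mul] at this
    exact this.symm

theorem pg_mul (hx : x ∈ M.L0) (hy : y ∈ M.L0) (h1 : x ∉ M.L) (h2 : y ∉ M.L) : x * y ∈ M.L := by
  obtain ⟨x, rfl⟩ := hx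
  obtain ⟨y, rfl⟩ := hy
  exact ⟨_, H16.mul_mem_PB (fun h => h1 ⟨_, h, rfl⟩) fun h => h2 ⟨_, h, rfl⟩, map_mul _ _ _⟩

theorem L_sup_e : M.L ⊔ zpowers M.e = M.L0 := by
  refine le_antisymm (sup_le M.L_le (zpowers_le.2 M.e_mem)) fun x hx => ?_
  by_cases h : x ∈ M.L
  · exact mem_sup_left h
  · simpa using mul_mem (mem_sup_left (M.pg_mul hx M.e_mem h M.e_not) : _ ∈ M.L ⊔ zpowers M.e)
      (inv_mem (mem_sup_right (mem_zpowers M.e)))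

theorem odd_mem_L (hx : x ∈ M.L0) (ho : Odd (orderOf x)) : x ∈ M.L :=
  zpowers_le.2 (M.pg_sq hx) (H13.Dih.mem_zpowers_sq ho)

theorem two_mem_L0 (ho : PiElt {2} x) : x ∈ M.L0 :=
  zpowers_le.1 (le_of_idx_compl (nml_top_iff.2 M.L0_nml)
    (by rw [relIndex_top_right]; exact H13.Dih.piNat_odd.2 M.odd_index) ho.isPi le_top)

theorem comm_le_L (X Y : Subgroup M.Γ) : ⁅X, Y⁆ ≤ M.L :=
  (commutator_mono le_top le_top).trans M.E.comm_le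

theorem cd : CD M.Γ := fun P hP => by
  have h : P ≤ M.E.ι.range := fun x hx =>
    M.two_mem_L0 ((isPi_of_isPGroup Nat.prime_two hP).piElt hx)
  obtain ⟨a, ha, h1⟩ := cd_pgl M.h2 (P.comap M.E.ι) (hP.comap_of_injective _ M.E.ι_inj)
  have hz : ∀ g, M.E.ι g ∈ zpowers (M.E.ι a) ↔ g ∈ zpowers a := fun g => by
    rw [← MonoidHom.map_zpowers, M.E.mem_map]
  refine ⟨_, ha, fun g hg hn => ?_⟩
  obtain ⟨g, rfl⟩ := h hg
  obtain ⟨e1, e2, e3⟩ := h1 g hg fun m => hn ((hz g).2 m)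
  refine ⟨by rw [← map_mul, e1, map_one], by rw [← map_inv, ← map_mul, ← map_mul, e2, map_inv],
    fun k hk hn' => ?_⟩
  obtain ⟨k, rfl⟩ := h hk
  rw [← map_mul, hz]
  exact e3 k hk fun m => hn' ((hz k).2 m)

theorem pg_inv {y : PGL(2, M.F)} (h : orderOf (M.E.ι y) = 2) : y * y = 1 ∧ y ≠ 1 := by
  rw [orderOf_injective _ M.E.ι_inj] at h
  exact ⟨sq_of h, ne_one_of h⟩

/-- `e` as an element of `PGL₂(F)` -/
noncomputable def pe : PGL(2, M.F) := M.e_mem.choose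
/-- `σ` as an element of `PGL₂(F)` -/
noncomputable def pσ : PGL(2, M.F) := (M.L_le M.σ_mem).choose
theorem ι_pe : M.E.ι M.pe = M.e := M.e_mem.choose_spec
theorem ι_pσ : M.E.ι M.pσ = M.σ := (M.L_le M.σ_mem).choose_spec
theorem pe_inv : M.pe * M.pe = 1 ∧ M.pe ≠ 1 := M.pg_inv (M.ι_pe ▸ M.four_eσ.ht)
theorem pσ_inv : M.pσ * M.pσ = 1 ∧ M.pσ ≠ 1 := M.pg_inv (M.ι_pσ ▸ M.four_eσ.hs)
theorem pe_not : M.pe ∉ PB M.F := fun h => M.e_not ⟨_, h, M.ι_pe⟩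
theorem pσ_mem : M.pσ ∈ PB M.F := M.E.mem_map.1 (M.ι_pσ ▸ M.σ_mem)
theorem pe_pow : M.pe ^ ringChar M.F ≠ 1 := inv_pow_ne M.h2 M.pe_inv.1 M.pe_inv.2
theorem pe_C {y : PGL(2, M.F)} : M.E.ι y ∈ C{M.e} ↔ y * M.pe = M.pe * y := by
  rw [← M.ι_pe, M.E.cent_iff']
theorem pσ_comm : M.pσ * M.pe = M.pe * M.pσ := M.pe_C.1 (M.ι_pσ ▸ M.four_eσ.s_mem_C)
theorem pσ_not : M.pσ ∉ tor (PLine M.F) M.pe := fun h =>
  (LA.tor_two M.pe_pow M.pe_inv.1 h M.pσ_inv.1).elim M.pσ_inv.2 fun e => M.pe_not (e ▸ M.pσ_mem)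

theorem invol_out (hx : orderOf x = 2) (h : x ∉ M.L) : ∃ g ∈ M.L, g * x * g⁻¹ = M.e := by
  obtain ⟨x, rfl⟩ := M.two_mem_L0 (H13.Dih.pi_two hx)
  obtain ⟨k, hk, e⟩ := out_conj (M.pg_inv hx).1 M.pe_inv.1 (fun m => h ⟨_, m, rfl⟩) M.pe_not
  exact ⟨_, ⟨k, hk, rfl⟩, by rw [← map_inv, ← map_mul, ← map_mul, e, M.ι_pe]⟩

theorem invol_in (hx : orderOf x = 2) (h : x ∈ M.L) : ∃ g ∈ M.L, g * x * g⁻¹ = M.σ := by
  have h1 := M.σ_mem
  have h2 := M.four_eσ.hs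
  rw [L, ← M.E.range_κ] at h h1 ⊢
  obtain ⟨a, rfl⟩ := h
  obtain ⟨b, hb⟩ := h1
  rw [← hb] at h2 ⊢
  rw [orderOf_injective _ M.E.κ_inj] at hx h2
  obtain ⟨g, hg⟩ := isConj_iff.1 (H16.psl2_involutions_conj M.h2 a b (ne_one_of hx) (sq_of hx)
    (ne_one_of h2) (sq_of h2))
  exact ⟨_, ⟨g, rfl⟩, by rw [← hg, map_mul, map_mul, map_inv]⟩

theorem pg_num : ♯(tor (PLine M.F) M.pe) = M.N.m ∧ ♯(tor (PLine M.F) M.pσ) = M.N.n ∧
    Nat.card (MulAction.fixedBy (OnePoint M.F) M.pe) = (1 + M.N.ε).toNat := by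
  have := Fintype.ofFinite M.F
  obtain ⟨a1, a2, a3⟩ := H0.WM.card_fix M.h2 M.pe_inv.1 M.pe_inv.2
  obtain ⟨b1, b2, b3⟩ := H0.WM.card_fix M.h2 M.pσ_inv.1 M.pσ_inv.2
  have h := FiniteField.isSquare_neg_one_iff (F := M.F)
  rw [← Nat.card_eq_fintype_card] at h
  rw [← M.hq] at h a1 b1
  have h1 := M.pe_not
  have h2 := M.pσ_mem
  have h4 := M.four_dvd_n
  rcases M.N.cases with ⟨e, e1, e2⟩ | ⟨e, e1, e2⟩
  · have h3 : ¬ IsSquare (-1 : M.F) := by rw [h]; omega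
    have := a2 (by tauto)
    have := b3 (by tauto)
    rw [e]; omega
  · have h3 : IsSquare (-1 : M.F) := by rw [h]; omega
    have := a3 (by tauto)
    have := b2 (by tauto)
    rw [e]; omega

theorem le_Rh (hX : Odd ♯X) (h : X ≤ C{M.e}) : X ≤ M.Rh := M.cd.le_U M.four_eσ.ht hX h
theorem pg_Rh : x ∈ M.Rh ↔ x ∈ C{M.e} ∧ Odd (orderOf x) := M.cd.mem_U M.four_eσ.ht
theorem pg_Rh_le : M.Rh ≤ C{M.e} := pcore_le _ _
theorem pg_odd_Rh : Odd ♯M.Rh := odd_pcore _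
theorem pg_odd_Dh : Odd ♯M.Dh := odd_pcore _

theorem pg_norm : C{M.e} ≤ N[M.L0 ⊓ C{M.e}] :=
  haveI := M.L0_nml
  norm_inf (norm_of_normal _ _) (norm_self _)

theorem Rh_inf : M.Rh ⊓ M.L0 = M.Dh := by
  rw [Dh, ← pcore_inf_nml _ ⟨inf_le_right, M.pg_norm⟩, ← inf_assoc]
  exact (inf_eq_left.2 (inf_le_left.trans M.pg_Rh_le)).symm

theorem pg_Dh : x ∈ M.Dh ↔ x ∈ M.L0 ∧ x ∈ C{M.e} ∧ Odd (orderOf x) := by
  rw [← M.Rh_inf, mem_inf, M.pg_Rh, and_comm]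

theorem Dh_le_L : M.Dh ≤ M.L := fun x hx => M.odd_mem_L (M.pg_Dh.1 hx).1 (M.pg_Dh.1 hx).2.2
theorem Dh_le_Rh : M.Dh ≤ M.Rh := M.Rh_inf ▸ inf_le_left
theorem C_norm_Dh : C{M.e} ≤ N[M.Dh] := norm_pcore _ M.pg_norm
theorem C_norm_Th : C{M.e} ≤ N[M.Th] := norm_sup M.C_norm_Dh (norm_zpowers_of_cent le_rfl)

theorem pg_two (hx : x ∈ (tor (PLine M.F) M.pe).map M.E.ι) (h : PiElt {2} x) :
    x ∈ zpowers M.e := by
  have h1 := orderOf_dvd_card' hx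
  obtain ⟨k, hk⟩ := h.exists_pow Nat.prime_two
  rw [M.E.card_map, M.pg_num.1, hk] at h1
  have h3 : k ≤ 1 := by
    by_contra h4
    have := (pow_dvd_pow 2 (show 2 ≤ k by omega)).trans h1
    have := M.m_mod
    omega
  have h4 : x ^ 2 = 1 := orderOf_dvd_iff_pow_eq_one.1 (hk ▸ pow_dvd_pow 2 h3)
  obtain ⟨y, hy, rfl⟩ := hx
  rcases LA.tor_two M.pe_pow M.pe_inv.1 hy (M.E.ι_inj (by rw [map_mul, ← sq, h4, map_one])) with
    rfl | rfl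
  · simp
  · exact M.ι_pe ▸ mem_zpowers _

theorem pg_Th : M.Th = (tor (PLine M.F) M.pe).map M.E.ι := by
  refine le_antisymm (sup_le (fun x hx => ?_) (zpowers_le.2 ⟨_, self_mem_tor, M.ι_pe⟩))
    fun x hx => ?_
  · obtain ⟨⟨y, rfl⟩, h1, h2⟩ := M.pg_Dh.1 hx
    exact ⟨y, (H16.mem_tor_of_odd M.h2 M.pe_inv.1 M.pe_inv.2 h2
      (M.E.ι_inj (by rw [map_pow, pow_orderOf_eq_one, map_one])) (M.pe_C.1 h1)).1, rfl⟩
  · obtain ⟨y, z, hy, hz, hy', hz', rfl⟩ := exists_piElt_decomp {2} x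
    refine mul_mem (mem_sup_right (M.pg_two (zpowers_le.2 hx hy') hy)) (mem_sup_left ?_)
    obtain ⟨z, h1, rfl⟩ := zpowers_le.2 hx hz'
    exact M.pg_Dh.2 ⟨⟨z, rfl⟩, M.pe_C.2 (LA.tor_comm M.pe_pow h1 self_mem_tor), piElt_odd.1 hz⟩

theorem pg_mem_Th {y : PGL(2, M.F)} : M.E.ι y ∈ M.Th ↔ y ∈ tor (PLine M.F) M.pe := by
  rw [M.pg_Th, M.E.mem_map]

theorem Th_cyc : Cyc M.Th := M.pg_Th ▸ Cyc.map (LA.tor_cyc M.pe_pow) _
theorem card_Th : ♯M.Th = M.N.m := by rw [M.pg_Th, M.E.card_map, M.pg_num.1]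
theorem pg_e_Th : M.e ∈ M.Th := mem_sup_right (mem_zpowers _)
theorem pg_Th_C : M.Th ≤ C{M.e} := M.Th_cyc.abl.le_C.trans (C_le_C1 M.pg_e_Th)
theorem pg_Th_L0 : M.Th ≤ M.L0 := M.pg_Th ▸ map_le_range _ _

theorem card_Dh : 2 * ♯M.Dh = M.N.m := by
  rw [← M.card_Th, Th, card_sup_of_inf ((zpowers_le_C1 _).trans M.C_norm_Dh)
    (inf_eq_bot_of_cop (H13.Dih.cop_zp M.pg_odd_Dh M.four_eσ.ht)), card_zpowers', M.four_eσ.ht,
    mul_comm]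

theorem σ_inv : Inv M.σ M.Th := by
  rw [M.pg_Th, ← M.ι_pσ]
  exact Inv.map (fun y hy => LA.tor_inv M.pe_pow M.pσ_comm M.pσ_not hy) _

theorem pg_cases (hx : x ∈ M.L0 ⊓ C{M.e}) : x ∈ M.Th ∨ x * M.σ ∈ M.Th := by
  obtain ⟨⟨y, rfl⟩, h⟩ := hx
  rw [← M.ι_pσ, ← map_mul, M.pg_mem_Th, M.pg_mem_Th]
  exact (em _).imp_right fun n => LA.tor_mul M.pe_pow (M.pe_C.1 h) n M.pσ_comm M.pσ_not

theorem pg_of_mul (h : x * M.σ ∈ X) : x ∈ X ⊔ zpowers M.σ := by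
  simpa using mul_mem (mem_sup_left h : _ ∈ X ⊔ zpowers M.σ)
    (inv_mem (mem_sup_right (mem_zpowers M.σ)))

theorem L0_inf_C : M.L0 ⊓ C{M.e} = M.Th ⊔ zpowers M.σ :=
  le_antisymm (fun x hx => (M.pg_cases hx).elim mem_sup_left M.pg_of_mul)
    (sup_le (le_inf M.pg_Th_L0 M.pg_Th_C)
      (zpowers_le.2 ⟨M.L_le M.σ_mem, M.four_eσ.s_mem_C⟩))

theorem C_e : C{M.e} = M.Rh ⊔ V4 M.e M.σ := by
  refine (M.cd.sd_C M.four_eσ.ht (syl_of_max Nat.prime_two M.four_eσ.V_pi M.four_eσ.V_le_C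
    fun Q hQ h1 h2 x hx => ?_)).sup.symm
  rcases M.pg_cases ⟨M.two_mem_L0 (hQ.piElt hx), h2 hx⟩ with h | h
  · exact mem_sup_left (M.pg_two (M.pg_Th ▸ h) (hQ.piElt hx))
  · exact M.pg_of_mul (M.pg_two (M.pg_Th ▸ h) (hQ.piElt (mul_mem hx (h1 Four.s_mem))))

theorem σ_not : M.σ ∉ M.Rh ⊔ zpowers M.e := fun h => by
  obtain ⟨r, hr, z, hz, e⟩ := (mem_sup_of_norm ((zpowers_le_C1 _).trans (pcore_nml _ _).norm)).1 h
  have h1 : r ∈ V4 M.e M.σ := by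
    rw [← mul_inv_eq_iff_eq_mul] at e
    exact e ▸ mul_mem Four.s_mem (inv_mem (mem_sup_left hz))
  rw [H13.Dih.eq_one_of_odd_of_sq (odd_orderOf M.pg_odd_Rh hr) (M.four_eσ.V_sq h1), one_mul] at e
  rcases (H13.Dih.mem_zpowers_of_sq (sq_of M.four_eσ.ht)).1 (e ▸ hz) with h | h
  · exact ne_one_of M.four_eσ.hs h
  · exact M.four_eσ.ne h

theorem pg_inf_σ : M.Dh ⊓ C{M.σ} = ⊥ := (M.σ_inv.of_le le_sup_left).inf_C M.pg_odd_Dh

theorem Rh_sd : SD M.Dh (M.Rh ⊓ C{M.σ}) M.Rh := by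
  have h : M.σ ∈ N[M.Rh] := (pcore_nml _ _).norm M.four_eσ.s_mem_C
  refine ⟨inf_le_left.trans (M.pg_Rh_le.trans M.C_norm_Dh), ?_,
    ((H13.Dih.cent_prod M.pg_odd_Rh M.four_eσ.hs h).mono_left ?_ M.Dh_le_Rh).sup_eq⟩
  · rw [← inf_assoc, inf_eq_left.2 M.Dh_le_Rh, M.pg_inf_σ]
  · rw [← M.Rh_inf]
    exact le_inf (comm_le_left (zpowers_le.2 h)) ((M.comm_le_L _ _).trans M.L_le)

theorem pg_prod (hx : orderOf x = 2) : IsProd M.L C{x} ⊤ := by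
  refine ⟨le_top, le_top, fun g _ => ?_⟩
  obtain ⟨a, ha, b, hb, e⟩ : ∃ a ∈ M.L, ∃ b ∈ M.L, a * (g * x * g⁻¹) * a⁻¹ = b * x * b⁻¹ := by
    by_cases h : x ∈ M.L
    · obtain ⟨a, ha, e⟩ := M.invol_in (H13.Dih.two_conj hx g) (M.L_nml.conj_mem _ h g)
      obtain ⟨b, hb, e'⟩ := M.invol_in hx h
      exact ⟨a, ha, b, hb, e.trans e'.symm⟩
    · obtain ⟨a, ha, e⟩ := M.invol_out (H13.Dih.two_conj hx g) fun m => h (by
        simpa [mul_assoc] using M.L_nml.conj_mem _ m g⁻¹)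
      obtain ⟨b, hb, e'⟩ := M.invol_out hx h
      exact ⟨a, ha, b, hb, e.trans e'.symm⟩
  refine ⟨a⁻¹ * b, mul_mem (inv_mem ha) hb, b⁻¹ * a * g, mem_C1_iff_conj.2 ?_, by group⟩
  calc _ = b⁻¹ * (a * (g * x * g⁻¹) * a⁻¹) * b := by group
    _ = x := by rw [e]; group

theorem L0_sd : SD M.L0 (M.Rh ⊓ C{M.σ}) ⊤ := by
  haveI := M.L0_nml
  refine ⟨norm_of_normal _ _, by rw [← inf_assoc, inf_comm M.L0, M.Rh_inf, M.pg_inf_σ], ?_⟩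
  rw [eq_top_iff, ← (M.pg_prod M.four_eσ.ht).sup_eq, M.C_e]
  refine sup_le (M.L_le.trans le_sup_left) (sup_le ?_
    ((Four.V_le.2 ⟨M.e_mem, M.L_le M.σ_mem⟩).trans le_sup_left))
  exact M.Rh_sd.sup.ge.trans (sup_le_sup_right (M.Dh_le_L.trans M.L_le) _)

theorem cyc_Eh : Cyc (M.Rh ⊓ C{M.σ}) := by
  haveI := M.L0_nml
  obtain ⟨φ, h⟩ := M.E.cyc_quot
  refine cyc_of_quo M.L0_sd.norm M.L0_sd.inf (Cyc.of_le ((cyc_zpowers φ).quo M.L0) ?_)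
  rw [← quo_sup_left (norm_of_normal (zpowers φ) _)]
  exact quo_mono _ (le_top.trans h.ge)

theorem cent_Th (hx : x ∈ M.Th) (h : x * x ≠ 1) : M.L0 ⊓ C{x} = M.Th := by
  refine le_antisymm ?_ (le_inf M.pg_Th_L0 (M.Th_cyc.abl.le_C.trans (C_le_C1 hx)))
  obtain ⟨x, rfl⟩ := M.pg_Th_L0 hx
  rintro _ ⟨⟨g, rfl⟩, hg⟩
  exact M.pg_mem_Th.2 (LA.tor_cent M.pe_pow (M.pg_mem_Th.1 hx)
    (fun e => h (by rw [← map_mul, e, map_one])) (M.E.cent_iff'.1 hg))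

theorem pg_N_Th : N[M.Th] ≤ C{M.e} := fun g hg => mem_C1_iff_conj.2
  (H13.Dih.eq_of_mem_cyc M.Th_cyc M.four_eσ.ht (H13.Dih.two_conj M.four_eσ.ht g) M.pg_e_Th
    (conj_mem hg M.pg_e_Th))

theorem pg_sq_ne (hx : x ∈ M.Dh) (h : x ≠ 1) : x * x ≠ 1 := fun e =>
  h (H13.Dih.eq_one_of_odd_of_sq (odd_orderOf M.pg_odd_Dh hx) e)

theorem norm_Th (hX : X ≤ M.Dh) (h : X ≠ ⊥) : N[X] ≤ C{M.e} := by
  haveI := M.L0_nml
  obtain ⟨x, hx, h1⟩ := exists_ne_one h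
  have : M.L0 ⊓ C[X] = M.Th := le_antisymm ((inf_le_inf_left _ (C_le_C1 hx)).trans
    (M.cent_Th (mem_sup_left (hX hx)) (M.pg_sq_ne (hX hx) h1)).le)
    (le_inf M.pg_Th_L0 (M.Th_cyc.abl.cents le_rfl (hX.trans le_sup_left)))
  exact (this ▸ norm_inf (norm_of_normal _ _) (N_le_NC X)).trans M.pg_N_Th

theorem card_fix_e : Nat.card (@MulAction.fixedBy _ _ _ M.E.act M.e) = (1 + M.N.ε).toNat := by
  rw [← M.ι_pe, M.E.fixedBy_ι, M.pg_num.2.2]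

/-- cyclic Sylow subgroups with automizer of order at most two -/
theorem cyc_of (hX : X ≤ M.L0) (ho : Odd ♯X) (hp : ¬ M.N.p ∣ ♯X) : Cyc X := by
  rw [← map_comap_eq_self hX]
  exact Cyc.map (H0.WM.cyc_of_odd _ (by rwa [M.E.card_comap hX])
    (by rwa [M.E.card_comap hX, M.char_eq])) _

theorem norm_inv (hx : x ∈ M.L0) (hp : x ^ M.N.p ≠ 1) (hy : y ∈ M.L0) (h : y ∈ N[zpowers x]) :
    y * x * y⁻¹ = x ∨ y * x * y⁻¹ = x⁻¹ := by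
  obtain ⟨x, rfl⟩ := hx
  obtain ⟨y, rfl⟩ := hy
  have h1 := conj_mem h (mem_zpowers _)
  rw [← map_inv, ← map_mul, ← map_mul] at h1 ⊢
  rw [← MonoidHom.map_zpowers, M.E.mem_map] at h1
  rw [← map_inv, M.E.ι_inj.eq_iff, M.E.ι_inj.eq_iff]
  exact norm_inv' (fun e => hp (by rw [← map_pow, ← M.char_eq, e, map_one])) h1

/-- the root group fixing `z` -/
noncomputable def pU (z : OnePoint M.F) : Subgroup M.Γ := (Ux z).map M.E.ι

theorem card_pU (z : OnePoint M.F) : ♯(M.pU z) = M.N.q := by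
  rw [pU, M.E.card_map, H0.WM.card_Ux, M.hq]

theorem root_pU (z : OnePoint M.F) : M.Root (M.pU z) :=
  ⟨map_mono (H0.WM.Ux_le M.h2 z), M.char_eq ▸ M.E.isPi_Ux z, M.card_pU z⟩

theorem le_pU (hX : IsPi {M.N.p} X) (h : X ≤ M.L0) : ∃ z, X ≤ M.pU z := by
  by_cases h0 : X.comap M.E.ι = ⊥
  · exact ⟨OnePoint.infty, by rw [← map_comap_eq_self h, h0]; simp⟩
  obtain ⟨z, hz⟩ := H0.WM.le_Ux _ (M.char_eq ▸ (M.E.isPi_comap hX).isPGroup M.N.hp) h0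
  exact ⟨z, map_comap_eq_self h ▸ map_mono hz⟩

theorem Root.eq_pU {M : Mod c} {X : Subgroup M.Γ} (h : M.Root X) : ∃ z, X = M.pU z := by
  obtain ⟨z, hz⟩ := M.le_pU h.2.1 (h.1.trans M.L_le)
  exact ⟨z, eq_of_card_eq hz (by rw [h.2.2, M.card_pU])⟩

theorem cj_pU (g : M.Γ) (z : OnePoint M.F) : H24.cj g (M.pU z) = M.pU (M.E.j g • z) := by
  refine eq_of_card_eq ?_ (by rw [card_cj, M.card_pU, M.card_pU])
  rintro _ ⟨_, ⟨y, hy, rfl⟩, rfl⟩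
  exact ⟨_, H0.WM.gaAct_mem_Ux hy, (M.E.conj_ι g y).symm⟩

theorem pU_inf {a b : OnePoint M.F} (h : a ≠ b) : M.pU a ⊓ M.pU b = ⊥ := by
  rw [eq_bot_iff]
  rintro _ ⟨⟨y, hy, rfl⟩, h1⟩
  by_contra h0
  exact h (Ux_fix (M.E.mem_map.1 h1) (by rintro rfl; simp at h0) (mem_Ux.1 hy).1)

theorem pU_ne_bot (z : OnePoint M.F) : M.pU z ≠ ⊥ := fun h => by
  have := M.card_pU z
  rw [h, card_bot] at this
  have := M.N.three_le_q
  omega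

theorem pU_inj {a b : OnePoint M.F} (h : M.pU a = M.pU b) : a = b := by_contra fun n =>
  M.pU_ne_bot b (by simpa [h] using M.pU_inf n)

theorem mem_N_pU {z : OnePoint M.F} : x ∈ N[M.pU z] ↔ M.E.j x • z = z := by
  rw [mem_N_iff_cj, M.cj_pU]; exact ⟨M.pU_inj, congrArg _⟩

theorem pg_smul (y : PGL(2, M.F)) (z : OnePoint M.F) : M.E.j (M.E.ι y) • z = y • z := by
  rw [M.E.jι, H0.WM.inl_smul]

theorem ι_mem_N {y : PGL(2, M.F)} {z : OnePoint M.F} : M.E.ι y ∈ N[M.pU z] ↔ y • z = z := by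
  rw [M.mem_N_pU, M.pg_smul]

/-- root groups -/
theorem Root.elem {M : Mod c} {X : Subgroup M.Γ} (h : M.Root X) :
    IsElementaryAbelian M.N.p X := by
  obtain ⟨z, rfl⟩ := h.eq_pU
  refine ⟨Abl.map (abl_iff.2 (le_C_iff.2 fun a ha b hb => Ux_comm ha hb)) _, ?_⟩
  rintro _ ⟨y, hy, rfl⟩
  rw [← map_pow, ← M.char_eq, (mem_Ux.1 hy).2, map_one]

theorem Root.cj {M : Mod c} {X : Subgroup M.Γ} (h : M.Root X) (g : M.Γ) :
    M.Root (H24.cj g X) := by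
  obtain ⟨z, rfl⟩ := h.eq_pU
  exact M.cj_pU g z ▸ M.root_pU _

theorem Root.cent {M : Mod c} {X : Subgroup M.Γ} (h : M.Root X) {x : M.Γ} (hx : x ∈ X)
    (h1 : x ≠ 1) : M.L0 ⊓ C{x} = X := by
  refine le_antisymm ?_ (le_inf (h.1.trans M.L_le) ((Abl.le_C h.elem.1).trans (C_le_C1 hx)))
  obtain ⟨z, rfl⟩ := h.eq_pU
  obtain ⟨x, hx, rfl⟩ := hx
  rintro _ ⟨⟨g, rfl⟩, hg⟩
  exact ⟨g, mem_Ux_of_comm hx (by rintro rfl; simp at h1) (M.E.cent_iff'.1 hg), rfl⟩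

theorem Root.C {M : Mod c} {X : Subgroup M.Γ} (h : M.Root X) : C[X] = X := by
  refine le_antisymm (fun g hg => ?_) (Abl.le_C h.elem.1)
  obtain ⟨z, rfl⟩ := h.eq_pU
  obtain ⟨x, hx, h1⟩ := exists_ne_one (M.pU_ne_bot z)
  refine (h.cent hx h1).le ⟨M.E.mem_range.2 (H0.WM.right_eq_one_of_Ux
    (M.mem_N_pU.1 (C_le_N _ hg)) fun y hy => ?_), C_le_C1 hx hg⟩
  exact M.E.cent_iff.1 (C_le_C1 (⟨y, hy, rfl⟩ : _ ∈ M.pU z) hg)

theorem Root.inf {M : Mod c} {X Y : Subgroup M.Γ} (h : M.Root X) (h' : M.Root Y) (hn : X ≠ Y) :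
    X ⊓ Y = ⊥ := by
  obtain ⟨a, rfl⟩ := h.eq_pU
  obtain ⟨b, rfl⟩ := h'.eq_pU
  exact M.pU_inf fun e => hn (e ▸ rfl)

theorem Root.sup {M : Mod c} {X Y : Subgroup M.Γ} (h : M.Root X) (h' : M.Root Y) (hn : X ≠ Y) :
    X ⊔ Y = M.L := by
  obtain ⟨a, rfl⟩ := h.eq_pU
  obtain ⟨b, rfl⟩ := h'.eq_pU
  rw [pU, pU, ← Subgroup.map_sup, H0.WM.Ux_sup M.h2 fun e => hn (congrArg _ e)]; rfl

theorem Root.conj {M : Mod c} {X : Subgroup M.Γ} (h : M.Root X) {x y : M.Γ} (hx : x ∈ X)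
    (hy : y ∈ X) (h1 : x ≠ 1) (h2 : y ≠ 1) : ∃ g ∈ M.L0 ⊓ N[X], g * x * g⁻¹ = y := by
  obtain ⟨a, rfl⟩ := h.eq_pU
  obtain ⟨x, hx, rfl⟩ := hx
  obtain ⟨y, hy, rfl⟩ := hy
  obtain ⟨b, hb, -⟩ := exists_third a a
  obtain ⟨g, ha, -, e⟩ := H0.WM.Ux_conj hb.symm hx hy (by rintro rfl; simp at h1)
    (by rintro rfl; simp at h2)
  exact ⟨_, ⟨⟨g, rfl⟩, M.ι_mem_N.2 ha⟩, by rw [← e, map_mul, map_mul, map_inv]⟩

theorem Root.trans {M : Mod c} {X Y : Subgroup M.Γ} (h : M.Root X) (h' : M.Root Y) :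
    ∃ g ∈ M.L, Y = H24.cj g X := by
  obtain ⟨a, rfl⟩ := h.eq_pU
  obtain ⟨b, rfl⟩ := h'.eq_pU
  obtain ⟨z, ha, hb⟩ := exists_third a b
  obtain ⟨u, hu, e⟩ := H0.WM.Ux_trans ha.symm hb.symm
  exact ⟨_, ⟨u, H0.WM.Ux_le M.h2 z hu, rfl⟩, by rw [M.cj_pU, M.pg_smul, e]⟩

theorem le_root (hX : IsPi {M.N.p} X) (h : X ≤ M.L0) : ∃ Y, M.Root Y ∧ X ≤ Y :=
  (M.le_pU hX h).elim fun z hz => ⟨_, M.root_pU z, hz⟩

theorem pg_reg {a b : OnePoint M.F} (hab : a ≠ b) {g : PGL(2, M.F)} (ha : g • a = a)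
    (hb : g • b = b) (h1 : M.E.ι g ≠ 1) : M.pU a ⊓ C{M.E.ι g} = ⊥ := by
  rw [eq_bot_iff]
  rintro _ ⟨⟨y, hy, rfl⟩, h⟩
  by_contra h0
  exact hab (Ux_fix (mem_Ux_of_comm hy (by rintro rfl; simp at h0) (M.E.cent_iff'.1 h).symm)
    (by rintro rfl; simp at h1) hb).symm

/-- a cyclic group of order `q - 1` acting regularly on a root group -/
theorem exists_borel : ∃ X y, M.Root X ∧ y ∈ M.L0 ⊓ N[X] ∧ orderOf y + 1 = M.N.q ∧
    ∀ z ∈ zpowers y, z ≠ 1 → X ⊓ C{z} = ⊥ := by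
  obtain ⟨u, hu⟩ := exists_gen_dil (F := M.F)
  refine ⟨_, M.E.ι (H16.dil u), M.root_pU OnePoint.infty,
    ⟨⟨_, rfl⟩, M.ι_mem_N.2 (H16.dil_smul_infty u)⟩, ?_, fun z hz h1 => ?_⟩
  · rw [orderOf_injective _ M.E.ι_inj, hu, M.hq, Nat.sub_add_cancel Nat.card_pos]
  · rw [← MonoidHom.map_zpowers] at hz
    obtain ⟨z, hz, rfl⟩ := hz
    exact M.pg_reg (OnePoint.infty_ne_coe (0 : M.F))
      (zpowers_le.2 (MulAction.mem_stabilizer_iff.2 (H16.dil_smul_infty u)) hz)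
      (zpowers_le.2 (MulAction.mem_stabilizer_iff.2 (by rw [H16.dil_smul_coe, mul_zero])) hz) h1

theorem pg_split {a : OnePoint M.F} (ha : M.pe • a = a) : M.N.ε = 1 ∧ a ≠ M.pσ • a ∧
    (∀ z, M.pe • z = z ↔ z = a ∨ z = M.pσ • a) ∧
    (∀ g, M.E.ι g ∈ M.Th ↔ g • a = a ∧ g • M.pσ • a = M.pσ • a) ∧ M.Rh ≤ N[M.pU a] := by
  obtain ⟨b, hb, hb'⟩ := H0.WM.second_fix ha M.pe_pow
  obtain ⟨h1, h2, h3⟩ := tor_of_fix M.pe_pow hb.symm ha hb'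
  obtain rfl := (h3 _ M.pσ_comm M.pσ_not).1
  refine ⟨M.N.hε.resolve_right fun e => ?_, hb.symm, h1, fun g => M.pg_mem_Th.trans (h2 g),
    fun g hg => M.mem_N_pU.2 ?_⟩
  · have := M.pg_num.2.2
    have : Nonempty (MulAction.fixedBy (OnePoint M.F) M.pe) := ⟨⟨a, ha⟩⟩
    have : 0 < Nat.card (MulAction.fixedBy (OnePoint M.F) M.pe) := Nat.card_pos
    simp_all
  · have h4 := M.E.cent_iff.1 (M.ι_pe ▸ M.pg_Rh_le hg)
    refine H0.WM.fix_of_two ((h1 _).1 (M.E.A_smul h4 ha)) ((h1 _).1 (M.E.A_smul h4 hb'))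
      (M.pg_Rh.1 hg).2 ?_
    rw [← map_pow, pow_orderOf_eq_one, map_one, one_smul]

theorem pg_cj_σ (a : OnePoint M.F) : H24.cj M.σ (M.pU a) = M.pU (M.pσ • a) := by
  rw [M.cj_pU, ← M.ι_pσ, M.pg_smul]

theorem exists_roots (hε : M.N.ε = 1) : ∃ X, M.Root X ∧ M.Rh ⊔ zpowers M.e ≤ N[X] ∧
    H24.cj M.σ X ≠ X ∧ ∀ Y, M.Root Y → M.e ∈ N[Y] → Y = X ∨ Y = H24.cj M.σ X := by
  have h := M.pg_num.2.2
  rw [hε] at h
  obtain ⟨⟨a, ha⟩⟩ := (Nat.card_ne_zero.1 (h.trans_ne (by decide))).1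
  obtain ⟨-, h1, h2, -, h3⟩ := M.pg_split ha
  refine ⟨_, M.root_pU a, sup_le h3 (zpowers_le.2 (M.ι_pe ▸ M.ι_mem_N.2 ha)), ?_, fun Y hY he => ?_⟩
  · rw [M.pg_cj_σ]; exact fun e => h1 (M.pU_inj e).symm
  · obtain ⟨z, rfl⟩ := hY.eq_pU
    rw [M.pg_cj_σ]
    exact ((h2 z).1 (M.ι_mem_N.1 (M.ι_pe ▸ he))).imp (congrArg _) (congrArg _)

theorem root_e (h : M.Root X) (he : M.e ∈ N[X]) : M.N.ε = 1 ∧ Inv M.e X ∧
    M.Rh ≤ N[X] ∧ H24.cj M.σ X ≠ X ∧ (∀ z ∈ M.Th, z ≠ 1 → X ⊓ C{z} = ⊥) ∧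
    (∀ Y ≤ X, M.Dh ≤ N[Y] → Y = ⊥ ∨ Y = X) ∧
    ∀ x ∈ X, x ≠ 1 → ∃ y ∈ H24.cj M.σ X, x * y * x = y * x * y ∧ x * y * x * M.σ ∈ M.Th := by
  obtain ⟨a, rfl⟩ := h.eq_pU
  obtain ⟨hε, h1, -, h2, h3⟩ := M.pg_split (M.ι_mem_N.1 (M.ι_pe ▸ he))
  have h4 : ∀ z ∈ M.Th, z ≠ 1 → M.pU a ⊓ C{z} = ⊥ := fun z hz h0 => by
    obtain ⟨z, rfl⟩ := M.pg_Th_L0 hz
    exact M.pg_reg h1 ((h2 z).1 hz).1 ((h2 z).1 hz).2 h0
  have h5 : Inv M.e (M.pU a) := H13.Dih.inv_of_inf_C (H13.Dih.odd_of_pi M.N.p_ne h.2.1)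
    (sq_of M.four_eσ.ht) he (h4 _ M.pg_e_Th (ne_one_of M.four_eσ.ht))
  rw [M.pg_cj_σ]
  refine ⟨hε, h5, h3, fun e => h1 (M.pU_inj e).symm, h4, fun Y hY hN => ?_, ?_⟩
  · refine (em _).imp_right fun h0 => le_antisymm hY ?_
    obtain ⟨y, hy, y1⟩ := exists_ne_one h0
    obtain ⟨y, hy', rfl⟩ := hY hy
    rintro _ ⟨x, hx, rfl⟩
    by_cases x1 : x = 1
    · simp [x1]
    obtain ⟨g, ga, gb, e⟩ := H0.WM.Ux_conj h1 hy' hx (by rintro rfl; simp at y1) x1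
    rw [← e, map_mul, map_mul, map_inv]
    exact conj_mem ((sup_le hN (zpowers_le.2 (h5.of_le hY).norm) : M.Th ≤ _) ((h2 g).2 ⟨ga, gb⟩)) hy
  · rintro _ ⟨x, hx, rfl⟩ x1
    obtain ⟨y, hy, -, e1, e2, e3⟩ := H0.WM.braid h1 hx (by rintro rfl; simp at x1)
    refine ⟨_, ⟨y, hy, rfl⟩, by simp only [← map_mul, e1], ?_⟩
    rw [← M.ι_pσ, ← map_mul, ← map_mul, ← map_mul, h2, mul_smul _ M.pσ, mul_smul _ M.pσ,
      smul_smul M.pσ, M.pσ_inv.1, one_smul, e3]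
    exact ⟨by rw [← e3, smul_smul, e2, one_smul], rfl⟩

section q5
variable (hq : 5 ≤ M.N.q)
include hq

theorem nml_big (hK : K.Normal) (h : K ≠ ⊥) : M.L ≤ K :=
  M.E.nml_big (by rw [← M.hq]; omega) K hK h

theorem perfect : ⁅M.L, M.L⁆ = M.L := M.E.perfect (by rw [← M.hq]; omega)

theorem C_L : C[M.L] = ⊥ := by
  refine eq_bot_iff.2 fun g hg => M.E.inj ?_
  rw [map_one]
  exact H16.eq_one_of_gaAct fun y hy => M.E.cent_iff.1 (C_le_C1 (⟨y, hy, rfl⟩ : _ ∈ M.L) hg)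

theorem nml_big' (hK : M.L ≤ N[K]) (h : K ≠ ⊥) : M.L ≤ K := by
  have := Matrix.ProjectiveSpecialLinearGroup.rank_two_simple (F := M.F) (by rw [← M.hq]; omega)
  have hn : (K.comap M.E.κ).Normal := ⟨fun x hx g => by
    rw [mem_comap, map_mul, map_mul, map_inv]
    exact conj_mem (hK (M.E.range_κ.le ⟨g, rfl⟩)) hx⟩
  rcases hn.eq_bot_or_eq_top with h1 | h1
  · haveI := M.L_nml
    refine (h (eq_bot_iff.2 ((cents_of_inf_eq_bot (norm_of_normal _ _) hK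
      (eq_bot_iff.2 fun x hx => ?_)).trans (M.C_L hq).le))).elim
    obtain ⟨y, rfl⟩ := M.E.range_κ.ge hx.2
    rw [mem_bot.1 (h1.le hx.1), map_one]; exact one_mem _
  · intro x hx
    obtain ⟨y, rfl⟩ := M.E.range_κ.ge hx
    exact h1.ge (mem_top y)

theorem pg_six : 6 ≤ M.N.m := by
  have := M.m_mod
  have := M.four_dvd_n
  have := M.N.cases
  omega

theorem three_le_Dh : 3 ≤ ♯M.Dh := by
  have := M.card_Dh
  have := M.pg_six hq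
  omega

theorem pg_Dh_ne : M.Dh ≠ ⊥ := fun h => by
  have := M.three_le_Dh hq
  rw [h, card_bot] at this
  omega

theorem le_Dh_of_comm (hφ : φ ∈ M.Rh) (h : ⁅M.Dh, zpowers φ⁆ ≤ C{φ}) : φ ∈ M.Dh := by
  rw [← M.Rh_inf]
  refine ⟨hφ, M.E.mem_range.2 (by_contra fun h1 => ?_)⟩
  have h3 : Odd (orderOf (M.E.j φ).right) := (M.pg_Rh.1 hφ).2.of_dvd_nat
    (orderOf_map_dvd (SemidirectProduct.rightHom.comp M.E.j) φ)
  have h4 := H0.WM.fld_small M.h2 M.pe_inv.1 M.pe_inv.2 h1 h3 ((M.Th ⊓ C{φ}).comap M.E.ι)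
    (fun y hy => M.pg_mem_Th.1 hy.1) fun y hy => M.E.cent_iff.1 (mem_C1_comm.1 hy.2)
  rw [M.E.card_comap (inf_le_left.trans M.pg_Th_L0), ← M.hq] at h4
  have hC := M.pg_Rh_le hφ
  have h5 : ♯(M.Dh ⊓ C{φ}) * 2 ≤ ♯(M.Th ⊓ C{φ}) := by
    rw [← M.four_eσ.ht, ← card_zpowers', ← card_sup_of_inf (norm_of_cent (cents_symm (by
      rw [C_zpowers]; exact inf_le_left.trans (M.Dh_le_Rh.trans M.pg_Rh_le))))
      (inf_eq_bot_of_cop (H13.Dih.cop_zp (odd_of_le M.pg_odd_Dh inf_le_left) M.four_eσ.ht))]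
    exact card_le (sup_le (inf_le_inf_right _ le_sup_left)
      (zpowers_le.2 ⟨M.pg_e_Th, mem_C1_comm.1 hC⟩))
  have hN := M.C_norm_Dh hC
  have ab : Abl M.Dh := M.Th_cyc.abl.of_le le_sup_left
  have hm : ∀ τ ∈ M.Dh, ⁅τ, φ⁆ ∈ M.Dh := fun τ hτ =>
    comm_le_left (zpowers_le.2 hN) (commutator_mem_commutator hτ (mem_zpowers φ))
  let f : M.Dh →* ↥(M.Dh ⊓ C{φ}) := MonoidHom.mk' (fun τ => ⟨⁅(τ : M.Γ), φ⁆, hm τ τ.2,
      h (commutator_mem_commutator τ.2 (mem_zpowers φ))⟩) (by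
    intro a b
    ext
    have e2 := ab.comm (conj_mem hN (inv_mem a.2)) (hm b b.2)
    simp only [coe_mul, commutatorElement_def] at e2 ⊢
    calc (a : M.Γ) * b * φ * ((a : M.Γ) * b)⁻¹ * φ⁻¹
        = a * ((b * φ * (b : M.Γ)⁻¹ * φ⁻¹) * (φ * (a : M.Γ)⁻¹ * φ⁻¹)) := by group
      _ = _ := by rw [← e2]; group)
  have h6 : Nat.card f.ker ≤ ♯(M.Dh ⊓ C{φ}) := by
    rw [← card_subgroupOf_of_le (inf_le_left : M.Dh ⊓ C{φ} ≤ M.Dh)]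
    refine card_le fun x hx => ⟨x.2, mem_C1.2 ?_⟩
    have : ⁅(x : M.Γ), φ⁆ = 1 := congrArg Subtype.val hx
    exact commutatorElement_eq_one_iff_mul_comm.1 this
  have h7 : Nat.card f.range ≤ ♯(M.Dh ⊓ C{φ}) :=
    Nat.card_le_card_of_injective _ Subtype.val_injective
  have h8 := f.ker.card_mul_index
  rw [index_ker] at h8
  have h9 := Nat.mul_le_mul h6 h7
  have h10 := Nat.pow_le_pow_left h5 2
  have := M.card_Dh
  have := M.N.cases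
  have := M.three_le_Dh hq
  rw [h8] at h9
  rw [mul_pow, sq] at h10
  omega

theorem fld_eq : M.Rh ⊓ C[M.Dh] = M.Dh :=
  le_antisymm (fun φ hφ => M.le_Dh_of_comm hq hφ.1
      (by rw [comm_eq_bot'.2 (zpowers_le.2 hφ.2)]; exact bot_le))
    (le_inf M.Dh_le_Rh (M.Th_cyc.abl.of_le le_sup_left).le_C)

theorem F0 (hY : Odd ♯Y) (h : M.Th ≤ N[Y]) :
    Y ≤ C{M.e} ∨ (M.Root ⁅Y, zpowers M.e⁆ ∧ M.e ∈ N[⁅Y, zpowers M.e⁆]) := by
  haveI := M.L0_nml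
  have he := h M.pg_e_Th
  have hW : ⁅Y, zpowers M.e⁆ ≤ Y ⊓ M.L0 :=
    le_inf (comm_le_left (zpowers_le.2 he)) ((M.comm_le_L _ _).trans M.L_le)
  have hN : M.Th ≤ N[Y ⊓ M.L0] := norm_inf h (norm_of_normal _ _)
  have ho : Odd ♯(Y ⊓ M.L0) := odd_of_le hY inf_le_left
  have idem := H13.Dih.comm_idem hY M.four_eσ.ht he
  by_cases hp : M.N.p ∣ ♯(Y ⊓ M.L0)
  · refine Or.inr ⟨?_, H13.Dih.mem_N_comm_zp _ _⟩
    obtain ⟨u, hu, ou⟩ := exists_orderOf_eq M.N.hp hp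
    obtain ⟨a, ha⟩ := M.le_pU (piElt_of_orderOf_prime M.N.hp ou).isPi (zpowers_le.2 hu.2)
    have u1 : u ≠ 1 := ne_one_of_orderOf_prime (ou ▸ M.N.hp)
    have ho' : Odd ♯((Y ⊓ M.L0).comap M.E.ι) := by
      rwa [M.E.card_comap (X := Y ⊓ M.L0) inf_le_right]
    obtain ⟨z, hz⟩ := (LA.subgroup ((Y ⊓ M.L0).comap M.E.ι)).fixed_of_odd ho'
    have key : ∀ b, ∀ v ∈ Y ⊓ M.L0, v ≠ 1 → v ∈ M.pU b → z = PLine.rat b := by
      rintro b _ hv v1 ⟨v, hb, rfl⟩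
      exact LA.unip v _ _ (mem_Ux.1 hb).2 (by rintro rfl; simp at v1)
        (H0.WM.rat_fix.2 (mem_Ux.1 hb).1) (hz ⟨v, hv⟩)
    have za := key a u hu u1 (ha (mem_zpowers u))
    have h1 : N[Y ⊓ M.L0] ≤ N[M.pU a] := fun g hg => M.mem_N_pU.2 (PLine.rat_injective
      ((key _ _ (conj_mem hg hu) (by simpa using u1)
        (M.cj_pU g a ▸ conj_mem_cj g (ha (mem_zpowers u)))).symm.trans za))
    obtain ⟨-, h2, -, -, -, h3, -⟩ := M.root_e (M.root_pU a) (h1 (hN M.pg_e_Th))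
    have h4 : M.pU a ≤ Y := inf_eq_right.1 (by
      simpa [inf_assoc, inf_eq_right.2 ((M.root_pU a).1.trans M.L_le)] using
        (h3 _ (inf_le_right : Y ⊓ M.L0 ⊓ M.pU a ≤ _)
        (le_sup_left.trans (norm_inf hN (hN.trans h1)))).resolve_left
        (ne_bot_of_mem ⟨hu, ha (mem_zpowers u)⟩ u1))
    have h5 : ⁅Y, zpowers M.e⁆ = M.pU a := by
      refine le_antisymm (idem.ge.trans ((comm_mono_left hW).trans (commutator_le.2 ?_)))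
        ((h2.comm_eq (odd_of_le hY h4)).ge.trans (comm_mono_left h4))
      intro x hx y hy
      obtain ⟨x, rfl⟩ := hx.2
      obtain ⟨y, rfl⟩ := zpowers_le.2 M.e_mem hy
      exact ⟨_, comm_mem_Ux (M.ι_mem_N.1 (h1 (norm_self _ hx)))
        (M.ι_mem_N.1 (h1 (hN (mem_sup_right hy)))), by simp [commutatorElement_def]⟩
    exact h5 ▸ M.root_pU a
  · left
    obtain ⟨y, hy, e⟩ := (M.cyc_of inf_le_right ho hp).exists_gen
    obtain ⟨d, hd, d1⟩ := exists_ne_one (M.pg_Dh_ne hq)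
    have hd' : d ∈ M.Th := mem_sup_left hd
    have h1 : y ∈ C{d} := by
      by_cases y1 : y = 1
      · simp [y1]
      have := Fact.mk M.N.hp
      rcases M.norm_inv hy.2 (fun e1 => hp (orderOf_eq_prime e1 y1 ▸ orderOf_dvd_card' hy))
        (M.pg_Th_L0 hd') (e ▸ hN hd') with h2 | h2
      · exact mem_C1_comm.1 (mem_C1_iff_conj.2 h2)
      · refine mem_C1_comm.1 (zpowers_le.2 (mem_C1_iff_conj.2 ?_)
          (H13.Dih.mem_zpowers_sq (odd_orderOf M.pg_odd_Dh hd)))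
        calc _ = d * (d * y * d⁻¹) * d⁻¹ := by group
          _ = d * y⁻¹ * d⁻¹ := by rw [h2]
          _ = (d * y * d⁻¹)⁻¹ := by group
          _ = y := by rw [h2, inv_inv]
    have h2 : Y ⊓ M.L0 ≤ C{M.e} := e ▸ zpowers_le.2
      (M.pg_Th_C ((M.cent_Th hd' (M.pg_sq_ne hd d1)).le ⟨hy.2, h1⟩))
    rw [← H13.Dih.comm_zp_eq_bot, ← idem, H13.Dih.comm_zp_eq_bot]
    exact hW.trans h2

theorem F0p (hY : IsPi {M.N.p} Y) (h : M.Dh ≤ N[Y]) (hc : Y ≤ C{M.e}) : Y = ⊥ := by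
  have h1 : Y ⊓ M.Dh = ⊥ := hY.inf_eq_bot ((isPi_compl_iff M.N.hp).2 fun e =>
    M.N.p_not_dvd_m (M.card_Dh ▸ e.mul_left 2))
  rw [← h1, left_eq_inf, ← M.fld_eq hq]
  exact le_inf (M.le_Rh (H13.Dih.odd_of_pi M.N.p_ne hY) hc)
    (cents_of_inf_eq_bot (hc.trans M.C_norm_Dh) h h1)

theorem F0' (hY : Odd ♯Y) (h : M.L ≤ N[Y]) : Y = ⊥ := by_contra fun h0 =>
  H13.Dih.not_mem_of_odd hY M.four_eσ.hs (M.nml_big' hq h h0 M.σ_mem)

theorem F1 (h : M.Th ≤ K) : M.L ≤ K ∨ K ≤ C{M.e} ∨ ∃ X, M.Root X ∧ K ≤ N[X] := by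
  have hC : (∀ g, M.E.ι g ∈ K → M.E.ι g ∈ C{M.e}) → K ≤ C{M.e} := fun h1 k hk =>
    M.norm_Th le_rfl (M.pg_Dh_ne hq) (mem_N_of_finite fun d hd => by
      obtain ⟨h2, -, h3⟩ := M.pg_Dh.1 hd
      obtain ⟨g, hg⟩ := M.L0_nml.conj_mem _ h2 k
      exact M.pg_Dh.2 ⟨⟨g, hg⟩, hg ▸ h1 g (hg ▸ mul_mem (mul_mem hk (h (mem_sup_left hd)))
        (inv_mem hk)), by rwa [orderOf_conj]⟩)
  obtain ⟨w, hw, e⟩ := M.Th_cyc.exists_gen
  obtain ⟨w, rfl⟩ := M.pg_Th_L0 hw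
  have ow : orderOf w = M.N.m := by
    rw [← orderOf_injective _ M.E.ι_inj, ← card_zpowers', e, M.card_Th]
  have h6 := M.pg_six hq
  rcases dickson_big M.h2 (K.comap M.E.ι) (h hw) (ow ▸ h6)
    (by have := M.N.cases; rw [ow, ← M.hq]; omega) with h1 | ⟨a, h1⟩ | h1
  · refine Or.inr (Or.inl (hC fun g hg => M.pg_N_Th (e ▸ mem_N_of_finite ?_)))
    rintro _ ⟨k, rfl⟩
    dsimp only
    rw [← conj_zpow, ← map_inv, ← map_mul, ← map_mul]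
    rcases h1 g hg with h2 | h2 <;> rw [h2]
    · exact ⟨k, rfl⟩
    · rw [map_inv]; exact zpow_mem (inv_mem (mem_zpowers _)) _
  · by_cases h2 : K ⊓ M.pU a = ⊥
    · refine Or.inr (Or.inl (hC fun g hg => M.pe_C.2 ?_))
      have he : M.E.ι M.pe ∈ K := M.ι_pe ▸ h M.pg_e_Th
      have := h2.le (mem_inf.2 ⟨by simpa only [map_mul, map_inv] using (mul_mem (mul_mem
        (mul_mem hg he) (inv_mem hg)) (inv_mem he)), _, comm_mem_Ux (h1 g hg) (h1 _ he), rfl⟩ :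
          M.E.ι _ ∈ K ⊓ M.pU a)
      rwa [mem_bot, map_eq_one_iff _ M.E.ι_inj, mul_inv_eq_one, mul_inv_eq_iff_eq_mul] at this
    · refine Or.inr (Or.inr ⟨_, M.root_pU a, fun k hk => M.mem_N_pU.2 ?_⟩)
      obtain ⟨u, hu, u1⟩ := exists_ne_one h2
      obtain ⟨v, hv, e1⟩ : k * u * k⁻¹ ∈ M.pU _ := M.cj_pU k a ▸ conj_mem_cj k hu.2
      exact (Ux_fix hv (by rintro rfl; simp [eq_comm, u1] at e1)
        (h1 v (mem_comap.2 (e1 ▸ mul_mem (mul_mem hk hu.1) (inv_mem hk))))).symm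
  · exact Or.inl (map_le_iff_le_comap.2 h1)

theorem F1' (h : M.Th ≤ K) (hω : ap M.κ c.ω ∈ K) : M.L ≤ K := by
  rcases M.F1 hq h with h1 | h1 | ⟨X, hX, h1⟩
  · exact h1
  · refine (ne_one_of M.four_eσ.hs ?_).elim
    have := M.pg_ew
    rw [mem_C1_iff_conj.1 (mem_C1_comm.1 (h1 hω)), eq_inv_iff_mul_eq_one, ← sq] at this
    rw [M.pg_σ, show c.a - 2 = c.a - 3 + 1 by have := c.ha; omega, pow_succ', pow_mul, this,
      one_pow]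
  · exact ((M.root_e hX (h1 (h M.pg_e_Th))).2.2.2.1
      (cj_of_mem_N (h1 (M.pg_σ ▸ pow_mem hω _)))).elim

theorem exists_inv : ∃ y ∈ M.L, y ≠ 1 ∧ Odd (orderOf y) ∧ ¬ M.N.p ∣ orderOf y ∧
    M.e * y * M.e⁻¹ = y⁻¹ := by
  obtain ⟨d, hd, d1⟩ := exists_ne_one (M.pg_Dh_ne hq)
  obtain ⟨g, hg, e⟩ := M.invol_out M.four_eσ.hts
    fun h => M.e_not ((mul_mem_cancel_right M.σ_mem).1 h)
  refine ⟨g * d * g⁻¹, M.L_nml.conj_mem _ (M.Dh_le_L hd) g, by simpa using d1, ?_, ?_, ?_⟩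
  · rw [orderOf_conj]; exact odd_orderOf M.pg_odd_Dh hd
  · rw [orderOf_conj]
    exact fun h => M.N.p_not_dvd_m (M.card_Dh ▸ (h.trans (orderOf_dvd_card' hd)).mul_left 2)
  · have := ((M.σ_inv.cent_mul (M.Th_cyc.abl.le_C M.pg_e_Th)).cj g) _
      (conj_mem_cj g (mem_sup_left hd))
    rwa [e] at this

omit hq in
theorem pg_conj_C (hp : p.Prime) (hφ : orderOf φ = p) {t : PGL(2, M.F)}
    (ht : orderOf (M.E.ι t) = 2) {k : ℕ} (hk : ♯M.L0 = ♯(tor (PLine M.F) t) * k) (h : ¬ p ∣ k) :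
    ∃ s : PGL(2, M.F), s * s = 1 ∧ s ≠ 1 ∧ φ ∈ C{M.E.ι s} := by
  obtain ⟨P, hP⟩ := Sylow_exists hp C{M.E.ι t}
  have h1 : C{M.E.ι t}.relIndex ⊤ ∣ k := by
    rw [((M.pg_prod ht).symm.mono_right M.L_le le_top).relIndex_eq]
    have h2 := card_inf_mul_relIndex C{M.E.ι t} M.L0
    obtain ⟨l, hl⟩ : ♯((tor (PLine M.F) t).map M.E.ι) ∣ ♯(C{M.E.ι t} ⊓ M.L0) := card_dvd (by
      rintro _ ⟨y, hy, rfl⟩
      exact ⟨M.E.cent_iff'.2 (LA.tor_comm (inv_pow_ne M.h2 (M.pg_inv ht).1 (M.pg_inv ht).2) hy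
        self_mem_tor), y, rfl⟩)
    rw [hl, hk, M.E.card_map, mul_assoc] at h2
    exact ⟨l, by rw [← Nat.eq_of_mul_eq_mul_left (card_pos _) h2, mul_comm]⟩
  obtain ⟨g, -, hg⟩ := Sylow_subJ hp (hP.of_idx le_top ((piNat_compl_singleton hp).2
    fun e => h (e.trans h1))) (piElt_of_orderOf_prime hp hφ).isPi le_top
  have h3 := cj_mono g hP.le (hg (mem_zpowers φ))
  rw [cj_C1, M.E.conj_ι] at h3
  obtain ⟨e1, e2⟩ := M.pg_inv (y := M.E.A g t) (by rw [← M.E.conj_ι, orderOf_conj, ht])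
  exact ⟨_, e1, e2, h3⟩

/-- FIX -/
theorem fix (hp : p.Prime) (h2 : p ≠ 2) (hφ : orderOf φ = p) (h : φ ∉ M.L0) :
    ∃ y ∈ M.L, Odd (orderOf y) ∧ ¬ p ∣ orderOf y ∧ φ ∈ N[zpowers y] ∧ φ ∉ C{y} := by
  have := Fact.mk hp
  have hr : (M.E.j φ).right ≠ 1 := fun e => h (M.E.mem_range.2 e)
  have h1 : M.E.j φ ^ p = 1 := by rw [← map_pow, ← hφ, pow_orderOf_eq_one, map_one]
  obtain ⟨t, t1, t0, ht⟩ : ∃ t : PGL(2, M.F), t * t = 1 ∧ t ≠ 1 ∧ φ ∈ C{M.E.ι t} := by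
    by_cases hq' : p ∣ M.N.q
    · have hP : IsPGroup p (zpowers (M.E.j φ)) :=
        (piElt_of_pow_eq_one (piNat_self hp) h1).isPi.isPGroup hp
      obtain ⟨a, ha⟩ := hP.nonempty_fixed_point_of_prime_not_dvd_card (OnePoint M.F) (by
        rw [show Nat.card (OnePoint M.F) = Nat.card M.F + 1 from Finite.card_option, ← M.hq]
        exact fun e => hp.one_lt.ne' (Nat.dvd_one.1 ((Nat.dvd_add_right hq').1 e)))
      have ha' : M.E.j φ • a = a := ha ⟨_, mem_zpowers _⟩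
      obtain ⟨b, hb, hb'⟩ := second_fix_fld (by
        rw [orderOf_eq_prime (p := p) (by
          rw [← SemidirectProduct.rightHom_eq_right, ← map_pow, h1, map_one]) hr, h1]) ha'
      obtain ⟨t, t1, t0, ht⟩ := exists_invol M.h2 hb.symm ha' hb'
      exact ⟨t, t1, t0, M.E.cent_iff.2 ht⟩
    by_cases hn : p ∣ M.N.n
    · exact M.pg_conj_C hp hφ (M.ι_pσ ▸ M.four_eσ.hs) (k := M.N.q * M.N.m)
        (by rw [M.card_L0, M.pg_num.2.1, mul_comm])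
        fun e => (hp.dvd_mul.1 e).elim hq' fun e => h2 (M.N.eq_two_of_dvd hp e hn)
    · exact M.pg_conj_C hp hφ (M.ι_pe ▸ M.four_eσ.ht) (k := M.N.q * M.N.n)
        (by rw [M.card_L0, M.pg_num.1]; ring) fun e => (hp.dvd_mul.1 e).elim hq' hn
  have hT : Cyc ((tor (PLine M.F) t).map M.E.ι) := Cyc.map (LA.tor_cyc (inv_pow_ne M.h2 t1 t0)) _
  have hN : φ ∈ N[(tor (PLine M.F) t).map M.E.ι] := mem_N_of_finite (by
    rintro _ ⟨y, hy, rfl⟩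
    have := H16.gaAct_mem_tor M.h2 (x := M.E.j φ) t1 t0 hy
    rw [show H16.gaAct (M.E.j φ) t = t from M.E.cent_iff.1 ht] at this
    exact ⟨_, this, (M.E.conj_ι φ y).symm⟩)
  by_contra hc
  push Not at hc
  refine hr (H16.right_eq_one M.h2 hp h2 t1 t0 1 (by rwa [pow_one]) (M.E.cent_iff.1 ht)
    fun y hy hy' => M.E.cent_iff.1 ?_)
  obtain ⟨a, b, ha, hb, ha', hb', e⟩ := exists_piElt_decomp {2} (M.E.ι y)
  have hz : zpowers (M.E.ι y) ≤ (tor (PLine M.F) t).map M.E.ι := zpowers_le.2 ⟨y, hy.1, rfl⟩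
  have hL : zpowers (M.E.ι y) ≤ M.L := zpowers_le.2 ⟨y, hy.2, rfl⟩
  rw [mem_C1_comm, e]
  refine mul_mem (mem_C1_comm.1 ?_) (mem_C1_comm.1 (hc b (hL hb') (piElt_odd.1 hb)
    (fun e => hy' (e.trans ?_)) (H25.cyc_N_le hT (zpowers_le.2 (hz hb')) hN)))
  · rw [← C_zpowers]
    exact H13.Dih.cent_of_cyc_two ha.isPi (cyc_zpowers a)
      (H25.cyc_N_le hT (zpowers_le.2 (hz ha')) hN) (hφ ▸ hp.odd_of_ne_two h2)
  · rw [← orderOf_injective _ M.E.ι_inj y]; exact orderOf_dvd_of_mem_zpowers hb'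

/-- GEN -/
theorem gen (hp : p.Prime) (h2 : p ≠ 2) (hx : x ∈ M.L) (ho : orderOf x = p) (h : p ∣ M.N.q + 1)
    (h5 : M.N.q ≠ 5) : ∃ g ∈ M.L0, zpowers x ⊔ zpowers (g * x * g⁻¹) = M.L := by
  obtain ⟨x, hx', rfl⟩ := hx
  rw [orderOf_injective _ M.E.ι_inj] at ho
  have x1 : x ≠ 1 := ne_one_of_orderOf_prime (ho ▸ hp)
  have h3 := Nat.odd_iff.1 M.N.q_odd
  have nofix : ∀ a : OnePoint M.F, x • a ≠ a := fun a ha => by
    by_cases h1 : x ^ ringChar M.F = 1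
    · have h4 : p ∣ M.N.q := (ho ▸ orderOf_dvd_of_pow_eq_one h1).trans (M.char_eq ▸ M.N.p_dvd_q)
      exact hp.one_lt.ne' (Nat.dvd_one.1 ((Nat.dvd_add_right h4).1 h))
    · obtain ⟨b, hb, hb'⟩ := H0.WM.second_fix ha h1
      have h4 := orderOf_dvd_of_pow_eq_one (pow_of_fix hb.symm ha hb')
      rw [ho, ← M.hq] at h4
      exact h2 ((Nat.prime_dvd_prime_iff_eq hp Nat.prime_two).1
        ((Nat.dvd_add_right h4).1 (by rwa [show M.N.q - 1 + 2 = M.N.q + 1 by omega])))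
  obtain ⟨w, ow, ⟨a, b, hab, wa, wb⟩, ht⟩ := exists_split x1 (by rw [← M.hq]; omega)
  rw [← M.hq] at ow
  have w2 : w * w ≠ 1 := fun e => by
    have := Nat.le_of_dvd two_pos (orderOf_dvd_of_pow_eq_one ((sq _).trans e))
    omega
  have wp : w ^ ringChar M.F ≠ 1 := fun e => by
    have h4 : w ∈ Ux a := mem_Ux.2 ⟨wa, e⟩
    exact hab (Ux_fix h4 (by rintro rfl; simp at w2) wb).symm
  obtain ⟨-, h6, h7⟩ := tor_of_fix wp hab wa wb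
  set t := x⁻¹ * w with hdef
  have hL : PB M.F ≤ zpowers x ⊔ zpowers t := by
    have hx : x ∈ zpowers x ⊔ zpowers t := mem_sup_left (mem_zpowers x)
    rcases dickson_big M.h2 (zpowers x ⊔ zpowers t) (w := w)
      (by simpa [hdef] using mul_mem hx (mem_sup_right (mem_zpowers t))) (by omega)
      (by rw [← M.hq]; omega) with h4 | ⟨z, h4⟩ | h4
    · have h8 : x * x * w = w * (x * x) := by
        rw [← mul_inv_eq_iff_eq_mul]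
        rcases h4 x hx with e | e
        · calc _ = x * (x * w * x⁻¹) * x⁻¹ := by group
            _ = w := by rw [e, e]
        · calc _ = x * (x * w * x⁻¹) * x⁻¹ := by group
            _ = x * w⁻¹ * x⁻¹ := by rw [e]
            _ = (x * w * x⁻¹)⁻¹ := by group
            _ = w := by rw [e, inv_inv]
      have h9 := ((h6 _).1 (LA.tor_cent wp self_mem_tor w2 h8)).1
      exact (nofix a (zpowers_le.2 (MulAction.mem_stabilizer_iff.2 h9)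
        (H13.Dih.mem_zpowers_sq (ho ▸ hp.odd_of_ne_two h2)))).elim
    · exact (nofix z (h4 x hx)).elim
    · exact h4
  refine ⟨M.E.ι t, ⟨t, rfl⟩, le_antisymm (sup_le (zpowers_le.2 ⟨x, hx', rfl⟩)
    (zpowers_le.2 (M.L_nml.conj_mem _ ⟨x, hx', rfl⟩ _))) (M.nml_big' hq
    ((map_mono hL).trans ?_) (ne_bot_of_mem (mem_sup_left (mem_zpowers _))
      (by simpa [map_eq_one_iff _ M.E.ι_inj] using x1)))⟩
  rw [Subgroup.map_sup, MonoidHom.map_zpowers, MonoidHom.map_zpowers]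
  refine sup_le (norm_of_le le_sup_left) (zpowers_le.2 (mem_N_iff_cj.2 ?_))
  have e : M.E.ι t * M.E.ι t = 1 := by rw [← map_mul, ht, map_one]
  rw [cj_sup, cj_zpowers, cj_zpowers, sup_comm, ← mul_assoc, ← mul_assoc, e, one_mul, mul_assoc,
    ← mul_inv_rev, e, inv_one, mul_one]

theorem norm_root (hx : x ∈ M.L0) (ho : Odd (orderOf x)) (h : orderOf x ∣ M.N.q - 1) :
    ∃ X, M.Root X ∧ x ∈ N[X] := by
  obtain ⟨x, rfl⟩ := hx
  rw [orderOf_injective _ M.E.ι_inj] at ho h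
  by_cases x1 : x = 1
  · exact ⟨_, M.root_pU OnePoint.infty, by simp [x1]⟩
  obtain ⟨r, hr, h1⟩ := Nat.exists_prime_and_dvd (n := orderOf x) (by simpa using x1)
  obtain ⟨y, hy, oy⟩ := exists_orderOf_eq hr (card_zpowers' x ▸ h1)
  have := Fact.mk hr
  obtain ⟨a, ha⟩ := ((piElt_of_orderOf_prime hr oy).isPi.isPGroup
    hr).nonempty_fixed_point_of_prime_not_dvd_card (OnePoint M.F) (by
      rw [show Nat.card (OnePoint M.F) = Nat.card M.F + 1 from Finite.card_option, ← M.hq]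
      intro e
      have h2 := (Nat.dvd_add_right (h1.trans h)).1
        (show r ∣ M.N.q - 1 + 2 by rwa [show M.N.q - 1 + 2 = M.N.q + 1 by omega])
      rw [(Nat.prime_dvd_prime_iff_eq hr Nat.prime_two).1 h2] at h1
      exact ho.not_two_dvd_nat h1)
  have hp : x ^ ringChar M.F ≠ 1 := fun e => by
    rw [orderOf_eq_prime e x1, M.char_eq] at h
    exact M.N.hp.one_lt.ne' (Nat.dvd_one.1 ((Nat.dvd_add_right h).1
      (by rw [Nat.sub_add_cancel (by omega)]; exact M.N.p_dvd_q)))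
  exact ⟨_, M.root_pU a, M.ι_mem_N.2 (H0.WM.rat_fix.1 ((LA.fix_iff hp
    (zpowers_le.2 self_mem_tor hy) (ne_one_of_orderOf_prime (oy ▸ hr)) _).1
    (H0.WM.rat_fix.2 (ha ⟨y, mem_zpowers y⟩))))⟩

end q5
end Mod

end H2.QD
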