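import Mathlib
import Cfsg.Agent.H2.QB1
import Cfsg.Agent.H2.QPG

/-! # QB2: the model `Γ` and the group `G` -/

set_option autoImplicit false
set_option linter.unusedSectionVars false
set_option linter.unusedVariables false
set_option linter.style.haveILetI false

namespace H2.QD

open H24 Cfsg Subgroup
open H13.Dih (Four V4 Inv CD UU PP FC res)
open H13.Dih (sq_of ne_one_of inv_of two_of odd_orderOf piElt_odd isPi_odd odd_pcore isPi_zp)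
open scoped MatrixGroups

universe u

variable {G : Type u} [Group G] [Finite G]

namespace Mod
variable {c : QC G} (M : Mod c) {X Y J L₁ : Subgroup G} {x y : G} {p : ℕ}

theorem mem_ker (hx : x ∈ c.H) : ap M.κ x = 1 ↔ x ∈ c.U ⊔ zpowers c.t := by
  rw [ap_of_mem _ hx, M.ker]

omit M in
theorem b2_ker_le : c.U ⊔ zpowers c.t ≤ c.H := sup_le c.U_le_H (zpowers_le.2 c.pg_tH)

omit M in
theorem b2_tN : zpowers c.t ≤ N[c.U] := (zpowers_le.2 c.pg_tH).trans c.U_nml.norm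

theorem ker_eq : pre M.κ ⊥ = c.U ⊔ zpowers c.t := by
  ext x
  rw [mem_pre_bot]
  exact ⟨fun h => (M.mem_ker h.1).1 h.2, fun h => ⟨b2_ker_le h, (M.mem_ker (b2_ker_le h)).2 h⟩⟩

theorem mem_U (hx : x ∈ c.H) (h : ap M.κ x = 1) (ho : Odd (orderOf x)) : x ∈ c.U :=
  H13.W.mem_of_odd_sup c.odd_U (isPi_zp c.pg_t) b2_tN ((M.mem_ker hx).1 h) ho

theorem le_U (hX : X ≤ c.H) (ho : Odd ♯X) (h : img M.κ X = ⊥) : X ≤ c.U := fun x hx =>
  M.mem_U (hX hx) (by have := ap_mem_img M.κ hx (hX hx); rwa [h] at this) (odd_orderOf ho hx)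

theorem range_eq : M.κ.range = ⊤ := MonoidHom.range_eq_top.2 M.surj
theorem img_H : img M.κ c.H = ⊤ := by rw [img_dom, M.range_eq]

theorem exists_ap (g : M.Γ) : ∃ x ∈ c.H, ap M.κ x = g := by
  obtain ⟨x, rfl⟩ := M.surj g
  exact ⟨x, x.2, ap_coe _ _⟩

theorem img_U : img M.κ c.U = ⊥ := (img_eq_bot c.U_le_H).2 (by rw [M.ker_eq]; exact le_sup_left)
theorem κ_U (hx : x ∈ c.U) : ap M.κ x = 1 := (M.mem_ker (c.U_le_H hx)).2 (mem_sup_left hx)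
theorem κ_t : ap M.κ c.t = 1 := M.pg_t
theorem κ_ts : ap M.κ (c.t * c.s) = M.e := by rw [ap_mul _ c.pg_tH c.pg_s, M.κ_t, one_mul, e]

theorem img_T : img M.κ c.T = zpowers M.e := by
  rw [QC.T, V4, img_sup _ (zpowers_le.2 c.pg_tH) (zpowers_le.2 c.pg_s), img_zpowers _ c.pg_tH,
    img_zpowers _ c.pg_s, M.κ_t, zpowers_one_eq_bot, bot_sup_eq, e]

include M in
theorem b2_two (hx : x ∈ c.H) (h : ap M.κ x = 1) (h2 : PiElt {2} x) : x = 1 ∨ x = c.t :=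
  (H13.Dih.mem_zpowers_of_sq (sq_of c.pg_t)).1
    (((isProd_sup b2_tN).hall_right (isPi_odd.2 c.odd_U) (isPi_zp c.pg_t)).mem_of_nml
      (norm_zpowers_of_cent b2_ker_le) h2 ((M.mem_ker hx).1 h))

theorem b2_cases (hx : x ∈ c.H) (h : ap M.κ x = 1) : x ∈ c.U ∨ x * c.t ∈ c.U := by
  obtain ⟨o, ho, z, hz, rfl⟩ := (mem_sup_of_norm b2_tN).1 ((M.mem_ker hx).1 h)
  rcases (H13.Dih.mem_zpowers_of_sq (sq_of c.pg_t)).1 hz with rfl | rfl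
  · left; rwa [mul_one]
  · right; rwa [mul_assoc, sq_of c.pg_t, mul_one]

theorem lift_C (hT : c.T ≤ X) (hx : x ∈ X ⊓ c.H) (h : ap M.κ x ∈ C{M.e}) :
    ∃ o ∈ c.U ⊓ X, o * x ∈ N[c.T] := by
  have ht : c.t ∈ X := hT Four.t_mem
  have hs : c.s ∈ X := hT Four.s_mem
  rw [mem_inf] at hx
  have ho : Odd ♯(c.U ⊓ X) := odd_of_le c.odd_U inf_le_left
  have h1 := mul_mem (mul_mem (mul_mem hx.2 c.pg_s) (inv_mem hx.2)) (inv_mem c.pg_s)
  have h2 := mul_mem (mul_mem (mul_mem hx.1 hs) (inv_mem hx.1)) (inv_mem hs)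
  have key : ∀ v ∈ c.T, v * v = 1 → x * c.s * x⁻¹ * v⁻¹ ∈ c.U ⊓ X →
      ∃ o ∈ c.U ⊓ X, o * x ∈ N[c.T] := fun v hv v2 hm => by
    obtain ⟨o, ho', e⟩ := H13.W.conj_of_coset ho v2 (sq_of (H13.Dih.two_conj c.ord_s x)) hm
    refine ⟨o, ho', mem_N_of_cj_le ?_⟩
    rw [QC.T, Four.cj_V, mem_C1_iff_conj.1 (mul_mem (c.U_le_H ho'.1) hx.2)]
    refine Four.V_le.2 ⟨Four.t_mem, ?_⟩
    rwa [mul_inv_rev, ← mul_assoc, mul_assoc o, mul_assoc o, e]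
  rcases M.b2_cases h1 (by
    rw [ap_mul _ (mul_mem (mul_mem hx.2 c.pg_s) (inv_mem hx.2)) (inv_mem c.pg_s),
      ap_conj _ hx.2 c.pg_s, ap_inv _ c.pg_s]
    exact mul_inv_eq_one.2 (mem_C1_iff_conj.1 h)) with h3 | h3
  · exact key _ Four.s_mem (sq_of c.ord_s) ⟨h3, h2⟩
  · refine key _ Four.ts_mem c.four.mul_sq ?_
    rw [mul_inv_rev, inv_of c.pg_t, ← mul_assoc]
    exact ⟨h3, mul_mem h2 ht⟩

theorem b2_CT : img M.κ c.CT ≤ C{M.e} := img_cent1 _ inf_le_right c.pg_s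

theorem img_inf_R' (hT : c.T ≤ X) : img M.κ (X ⊓ c.R) = img M.κ X ⊓ M.Rh := by
  refine le_antisymm (le_inf (img_mono _ inf_le_left) ((img_mono _ inf_le_right).trans
    (M.le_Rh (odd_img (odd_pcore _) _) ((img_mono _ (pcore_le _ _)).trans M.b2_CT)))) fun g hg => ?_
  obtain ⟨x, hx, hH, rfl⟩ := mem_img.1 hg.1
  obtain ⟨o, ho, h⟩ := M.lift_C hT ⟨hx, hH⟩ (M.pg_Rh_le hg.2)
  have h1 := mul_mem (c.U_le_H ho.1) hH
  have h2 := constt_mem {2}ᶜ h1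
  have h3 := piElt_odd.1 (piElt_constt {2}ᶜ (o * x))
  refine mem_img.2 ⟨constt {2}ᶜ (o * x), ⟨constt_mem _ (mul_mem ho.2 hx), c.mem_R.2
    ⟨⟨h2, c.four.odd_fix (constt_mem _ h) h3 h2⟩, h3⟩⟩, h2, ?_⟩
  rw [constt_ap _ _ h1, ap_mul _ (c.U_le_H ho.1) hH, M.κ_U ho.1, one_mul,
    constt_eq_self (piElt_odd.2 (M.pg_Rh.1 hg.2).2)]

theorem img_R : img M.κ c.R = M.Rh := by
  have := M.img_inf_R' (X := c.H) (c.T_le_CT.trans c.CT_le_H)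
  rwa [M.img_H, top_inf_eq, inf_eq_right.2 (c.CT_dp.left_le.trans c.CT_le_H)] at this

theorem img_CT : img M.κ c.CT = M.Rh ⊔ zpowers M.e := by
  rw [← c.CT_dp.sup, img_sup _ (c.CT_dp.left_le.trans c.CT_le_H) (c.T_le_CT.trans c.CT_le_H),
    M.img_R, M.img_T]

theorem img_NT : img M.κ N[c.T] = C{M.e} := by
  have hi : c.i ∈ c.H := c.S_le_H (c.Q_le_S c.i_mem_Q)
  refine le_antisymm (fun g hg => ?_) fun g hg => ?_
  · obtain ⟨x, hx, hH, rfl⟩ := mem_img.1 hg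
    rcases c.NT_cases hx hH with h | h
    · exact M.b2_CT (ap_mem_img _ h hH)
    · have := M.b2_CT (ap_mem_img _ h (mul_mem hH hi))
      rw [ap_mul _ hH hi] at this
      exact (mul_mem_cancel_right M.four_eσ.s_mem_C).1 this
  · obtain ⟨x, hx, rfl⟩ := M.exists_ap g
    obtain ⟨o, ho, h⟩ := M.lift_C le_top ⟨trivial, hx⟩ hg
    have := ap_mem_img M.κ h (mul_mem (c.U_le_H ho.1) hx)
    rwa [ap_mul _ (c.U_le_H ho.1) hx, M.κ_U ho.1, one_mul] at this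

theorem img_norm (hX : X ⊓ c.H ≤ N[Y]) : img M.κ X ≤ N[img M.κ Y] := by
  rw [← img_inf_dom]; exact H24.img_norm _ hX

theorem img_inf_R (hT : c.T ≤ N[X]) (hX : Odd ♯X) :
    img M.κ (X ⊓ c.R) = img M.κ X ⊓ M.Rh := by
  refine le_antisymm (M.img_R ▸ img_inf_le _ _ _)
    ((inf_le_inf_right _ (img_mono _ (le_sup_left : X ≤ X ⊔ c.T))).trans ?_)
  rw [← M.img_inf_R' le_sup_right]
  exact img_mono _ fun x hx =>
    ⟨H13.W.mem_of_odd_sup hX c.four.V_pi hT hx.1 (c.mem_R.1 hx.2).2, hx.2⟩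

theorem mem_Lt : x ∈ M.Lt ↔ x ∈ c.H ∧ ap M.κ x ∈ M.L := mem_pre

theorem Lt_nml : M.Lt ⊴ c.H := by
  have := (nml_top_iff.2 M.L_nml).pre M.κ
  rwa [pre_top] at this

theorem b2_ker_Lt : c.U ⊔ zpowers c.t ≤ M.Lt := M.ker_eq ▸ ker_le_pre _ _
theorem U_le_Lt : c.U ≤ M.Lt := le_sup_left.trans M.b2_ker_Lt
theorem b2_img_Lt : img M.κ M.Lt = M.L := img_pre_of_le (M.range_eq ▸ le_top)

theorem b2_ω : ap M.κ c.ω ∉ M.L := fun h => by
  have := Fact.mk Nat.prime_two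
  have h1 : orderOf (ap M.κ c.ω) = 2 ^ (c.a - 2 + 1) := orderOf_eq_prime_pow
    (M.pg_σ ▸ ne_one_of M.four_eσ.hs) (by
      rw [← ap_pow _ c.pg_ω, show c.a - 2 + 1 = c.a - 1 by have := c.ha; omega]; exact M.κ_t)
  obtain ⟨w, hw, e⟩ := h
  have h2 : M.pσ = w ^ 2 ^ (c.a - 2) := M.E.ι_inj (by rw [map_pow, e, M.ι_pσ, M.pg_σ])
  rw [← e, orderOf_injective _ M.E.ι_inj] at h1
  have h3 : w ∈ H16.tor (H16.PLine M.F) M.pσ := (H0.WM.LA.mem_tor_iff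
    (H16.inv_pow_ne M.h2 M.pσ_inv.1 M.pσ_inv.2) M.pσ_inv.1).2
    ⟨h2 ▸ (Commute.self_pow _ _).eq, fun h => (M.pσ_inv.2 (by
      rw [h2, show c.a - 2 = c.a - 3 + 1 by have := c.ha; omega, pow_succ', pow_mul, sq, h,
        one_pow])).elim⟩
  have h4 := orderOf_dvd_card' (mem_inf.2 ⟨h3, hw⟩)
  have h5 : 2 * ♯(H16.tor (H16.PLine M.F) M.pσ ⊓ H16.PB M.F) = M.N.n := by
    obtain ⟨b1, b2⟩ := H16.card_tor_inf M.h2 M.pσ_inv.1 M.pσ_inv.2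
    obtain ⟨a1, a2, a3⟩ := H0.WM.card_fix M.h2 M.pσ_inv.1 M.pσ_inv.2
    rw [M.pg_num.2.1] at a1
    by_cases h : IsSquare (-1 : M.F) ↔ M.pσ ∈ H16.PB M.F
    · have := b1 h; have := a2 h; omega
    · have := b2 h; have := a3 h; omega
  obtain ⟨n', ho, hn⟩ := M.hn
  rw [h1] at h4
  have h6 := Nat.mul_dvd_mul_left 2 h4
  rw [h5, hn, show c.a - 1 = c.a - 2 + 1 by have := c.ha; omega, mul_comm] at h6
  exact ho.not_two_dvd_nat (Nat.dvd_of_mul_dvd_mul_left (by positivity) h6)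

theorem S_inf_Lt : c.S ⊓ M.Lt = c.Q := by
  have h1 : c.Q ≤ c.S ⊓ M.Lt := le_inf c.Q_le_S (sup_le
    (zpowers_le.2 (M.mem_Lt.2 ⟨pow_mem c.pg_ω _, by
      rw [ap_pow _ c.pg_ω, sq]; exact M.pg_sq M.pg_w⟩))
    (zpowers_le.2 (M.mem_Lt.2 ⟨mul_mem c.pg_ω c.pg_s, by
      rw [ap_mul _ c.pg_ω c.pg_s]; exact M.pg_mul M.pg_w M.e_mem M.b2_ω M.e_not⟩)))
  refine (eq_of_card_ge h1 ?_).symm
  have h2 := card_lt (lt_of_le_of_ne (inf_le_left : c.S ⊓ M.Lt ≤ c.S)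
    fun e => M.e_not (M.mem_Lt.1 (e.ge c.s_mem_S).2).2)
  obtain ⟨k, hk⟩ := (c.S_pi.inf_left M.Lt).card_eq_pow Nat.prime_two
  rw [hk, c.card_S, Nat.pow_lt_pow_iff_right one_lt_two] at h2
  rw [hk, c.card_Q]
  exact Nat.pow_le_pow_right two_pos (by omega)

theorem Q_syl : Syl 2 M.Lt c.Q := M.S_inf_Lt ▸ (c.S_syl.of_le c.S_le_H le_top).inf_nml M.Lt_nml

theorem invol_Lt (hx : x ∈ M.Lt) (h : x * x = 1) : x = 1 ∨ x = c.t := by
  obtain ⟨g, hg, h1⟩ := Sylow_Jsub Nat.prime_two M.Q_syl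
    (piElt_of_pow_eq_one (piNat_self Nat.prime_two) ((sq x).trans h)).isPi (zpowers_le.2 hx)
  refine (c.Q_invol (h1 (conj_mem_cj g (mem_zpowers x))) (by rw [conj_mul, h]; group)).imp
    (by simp) fun e => ?_
  rw [← mem_C1_iff_conj.1 (M.Lt_nml.le hg)] at e
  simpa using e

theorem comm_le_Lt : ⁅c.H, c.H⁆ ≤ M.Lt :=
  (img_le_iff (der1_le _)).1 (img_comm M.κ le_rfl le_rfl ▸ M.comm_le_L _ _)

theorem lam_t : ap M.lam c.t = -1 := by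
  have ht : c.t ∈ pre M.κ M.E.L := M.b2_ker_Lt (mem_sup_right (mem_zpowers _))
  have h := M.lam_κ ⟨_, ht⟩
  rw [M.κ_t, eq_comm, map_eq_one_iff _ M.E.ι_inj, H16.pgl2_mk_eq_one_iff] at h
  rw [ap_of_mem _ ht]
  exact ((H16.sl2_mem_center_iff' _).1 ((H16.sl2_mem_center_iff _).2 h)).resolve_left fun e =>
    H13.Dih.not_mem_of_odd c.odd_U c.pg_t ((M.lam_ker _).1 e)

theorem img_eq_top (h2 : c.CT ≤ X) (h3 : M.L ≤ img M.κ X) : img M.κ X = ⊤ := by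
  have h := M.img_CT ▸ img_mono M.κ h2
  rw [eq_top_iff, ← M.L0_sd.sup, ← M.L_sup_e]
  exact sup_le (sup_le h3 (le_sup_right.trans h)) (inf_le_left.trans (le_sup_left.trans h))

theorem H_le (h1 : c.U ≤ X) (h2 : c.CT ≤ X) (h3 : M.L ≤ img M.κ X) : c.H ≤ X :=
  (le_of_img_le (f := M.κ) le_rfl (inf_le_right : X ⊓ c.H ≤ _)
    (M.ker_eq ▸ le_inf (sup_le h1 (zpowers_le.2 (h2 (c.T_le_CT Four.t_mem)))) b2_ker_le)
    (by rw [img_inf_dom, M.img_eq_top h2 h3]; exact le_top)).trans inf_le_left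

theorem t_mem_of_cov (h : M.L ≤ img M.κ Y) : c.t ∈ Y := by
  obtain ⟨y, hy, hH, e⟩ := mem_img.1 (h M.σ_mem)
  have h1 := constt_mem {2} hH
  have h2 : ap M.κ (constt {2} y) = M.σ := by
    rw [constt_ap _ _ hH, e, constt_eq_self (H13.Dih.pi_two M.four_eσ.hs)]
  rcases M.b2_two (mul_mem h1 h1) (by rw [ap_mul _ h1 h1, h2, sq_of M.four_eσ.hs])
    ((piElt_constt _ _).mul (piElt_constt _ _) rfl) with h3 | h3
  · refine (ne_one_of M.four_eσ.hs ?_).elim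
    rcases M.invol_Lt (M.mem_Lt.2 ⟨h1, h2 ▸ M.σ_mem⟩) h3 with h4 | h4
    · rw [← h2, h4, ap_one]
    · rw [← h2, h4, M.κ_t]
  · exact h3 ▸ mul_mem (constt_mem _ hy) (constt_mem _ hy)

theorem b2_sup (h : M.L ≤ img M.κ Y) : c.U ⊔ Y ⊓ M.Lt = M.Lt := by
  refine le_antisymm (sup_le M.U_le_Lt inf_le_right) ?_
  have h1 := (img_le_img_iff (f := M.κ) M.Lt_nml.le (inf_le_right.trans M.Lt_nml.le :
    Y ⊓ M.Lt ≤ _)).1 (by rw [M.b2_img_Lt, Lt, img_inf_pre]; exact le_inf h le_rfl)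
  rw [M.ker_eq] at h1
  exact h1.trans (sup_le le_sup_right (sup_le le_sup_left (zpowers_le.2 (mem_sup_right
    ⟨M.t_mem_of_cov h, M.b2_ker_Lt (mem_sup_right (mem_zpowers _))⟩))))

omit M in
theorem b2_odd (hX : X ≤ c.H) : Odd (X.relIndex (c.U ⊔ X)) :=
  c.odd_U.of_dvd_nat (isProd_sup (hX.trans c.U_nml.norm)).symm.relIndex_dvd

theorem Q_le_of_cov (h : M.L ≤ img M.κ Y) (hS : c.Q ≤ N[Y]) : c.Q ≤ Y := by
  have h1 := b2_odd (c := c) (X := Y ⊓ M.Lt) (inf_le_right.trans M.Lt_nml.le)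
  rw [M.b2_sup h] at h1
  refine (le_of_idx_compl (nml_sup_left (norm_inf hS (norm_of_le M.Q_syl.le)))
    (H13.Dih.piNat_odd.2 (h1.of_dvd_nat ?_)) M.Q_syl.pi le_sup_right).trans inf_le_left
  exact Dvd.intro _ (relIndex_mul_relIndex _ _ _ le_sup_left (sup_le inf_le_right M.Q_syl.le))

theorem big_of (hT : c.T ≤ X) (h : M.L ≤ img M.κ X) : ∃ g ∈ c.CT, M.Big (H24.cj g X) := by
  have hT' : c.T ≤ X ⊓ c.H := le_inf hT (c.T_le_CT.trans c.CT_le_H)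
  obtain ⟨P, hP, h1⟩ := Sylow_superset Nat.prime_two c.four.V_pi hT'
  have h2 : c.S ≤ c.U ⊔ X ⊓ c.H := c.S_le (M.Q_syl.le.trans ((M.b2_sup h).ge.trans
    (sup_le_sup_left (inf_le_inf_left _ M.Lt_nml.le) _))) (mem_sup_right (hT' Four.s_mem))
  obtain ⟨g, hg, rfl⟩ := c.syl_conj ((hP.of_idx le_sup_right (H13.Dih.piNat_odd.2
    (b2_odd inf_le_right))).of_idx le_top (c.S_syl.idx_of_ge h2)) h1 (hP.le.trans inf_le_right)
  refine ⟨g⁻¹, inv_mem hg, cj_le_iff.1 (hP.le.trans inf_le_left), ?_⟩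
  rw [img_cj _ (inv_mem (c.CT_le_H hg)), le_cj_iff]
  haveI := M.L_nml
  rwa [cj_of_mem_N (norm_of_normal ⊤ _ trivial)]

theorem Big.mono {M : Mod c} (h : M.Big X) (hY : X ≤ Y) : M.Big Y :=
  ⟨h.S_le.trans hY, h.cov.trans (img_mono _ hY)⟩

theorem big_H : M.Big c.H := ⟨c.S_le_H, M.img_H ▸ le_top⟩

omit M in
theorem b2_card (hX : X ≤ c.U) : ♯(X ⊔ zpowers c.t) = 2 * ♯X := by
  rw [card_sup_of_inf (norm_of_cent (cents_symm (hX.trans (c.U_le_H.trans (C_zpowers c.t).ge))))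
    (inf_eq_bot_of_cop (H13.Dih.cop_zp (odd_of_le c.odd_U hX) c.pg_t)), card_zpowers', c.pg_t,
    mul_comm]

theorem card_H : ♯c.H = 2 * ♯c.U * Nat.card M.Γ := by
  rw [← card_img_mul M.κ le_rfl, M.img_H, card_top, M.ker_eq, inf_eq_left.2 b2_ker_le,
    b2_card le_rfl]

theorem index_s : (c.H ⊓ C{c.s}).relIndex c.H = c.u * (M.N.q * M.N.n) := by
  have h1 := card_mul_relIndex c.CT_le_H
  have h2 := card_img_mul M.κ c.CT_le_H
  have h3 : c.U ⊓ c.CT = c.U ⊓ C{c.s} := by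
    rw [← inf_eq_left.2 c.U_le_H, inf_assoc, inf_assoc, inf_eq_right.2 c.CT_le_H]; rfl
  rw [M.ker_eq, ← group_modr b2_tN (zpowers_le.2 (c.T_le_CT Four.t_mem)), b2_card inf_le_left, h3,
    M.img_CT, card_sup_of_inf (A := M.Rh) ((zpowers_le_C1 _).trans (pcore_nml _ _).norm)
    (inf_eq_bot_of_cop (H13.Dih.cop_zp M.pg_odd_Rh M.four_eσ.ht)), card_zpowers',
    M.four_eσ.ht] at h2
  have h4 := card_mul_relIndex (inf_le_left : c.U ⊓ C{c.s} ≤ c.U)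
  rw [M.card_H, ← card_top (G := M.Γ), M.L0_sd.card, M.card_L0, ← M.card_Dh, ← h4, ← h2] at h1
  change 2 * _ * (♯M.Rh * 2) * _ = _ at h1
  rw [M.Rh_sd.card] at h1
  have := card_pos (c.U ⊓ C{c.s})
  have := card_pos M.Dh
  have := card_pos (M.Rh ⊓ C{M.σ})
  refine Nat.eq_of_mul_eq_mul_left (by positivity) (h1.trans ?_)
  unfold QC.u
  ring

theorem sol_H (h : M.N.q = 3) : Sol c.H := by
  have := Fintype.ofFinite M.F
  obtain ⟨e⟩ := H16.pgl2_three (F := M.F) (by rw [← Nat.card_eq_fintype_card, ← M.hq, h])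
  have := H16.solvable_S4
  have := H16.solvable_of_equiv e
  refine sol_of_img (f := M.κ) le_rfl ?_ ?_
  · rw [M.ker_eq]
    exact ((H13.Dih.sol_of_odd c.odd_U).sup (cyc_zpowers _).sol b2_tN).of_le inf_le_left
  · rw [M.img_H]
    refine M.L0_sd.sol ?_ M.cyc_Eh.sol
    rw [L0, MonoidHom.range_eq_map]
    exact sol_top.map _

theorem q_cases : M.N.q = 3 ∨ 5 ≤ M.N.q := by
  have := M.N.three_le_q
  have := Nat.odd_iff.1 M.N.q_odd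
  omega

/-- lifting an element inverted by `e` -/
theorem lift_inv (hs : c.s ∈ N[X]) (hX : X ≤ c.H) {g : M.Γ} (hg : g ∈ img M.κ X)
    (ho : Odd (orderOf g)) (h : M.e * g * M.e⁻¹ = g⁻¹) :
    ∃ y ∈ X, c.s * y * c.s⁻¹ = y⁻¹ ∧ ap M.κ y = g ∧ ∀ r, r.Prime → r ∣ orderOf y → r ∣ orderOf g := by
  obtain ⟨k, hk⟩ := ho
  obtain ⟨x, hx, hH, e⟩ := mem_img.1 (pow_mem hg (k + 1))
  have h1 : x * (c.s * x⁻¹ * c.s⁻¹) ∈ X := mul_mem hx (conj_mem hs (inv_mem hx))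
  have h2 : ap M.κ (x * (c.s * x⁻¹ * c.s⁻¹)) = g := by
    rw [ap_mul _ hH (hX (conj_mem hs (inv_mem hx))), ap_conj _ c.pg_s (inv_mem hH), ap_inv _ hH, e,
      ← inv_pow, ← conj_pow]
    change _ * (M.e * g⁻¹ * M.e⁻¹) ^ _ = _
    rw [← conj_inv, h, inv_inv, ← pow_add, show k + 1 + (k + 1) = 2 * k + 1 + 1 by ring, ← hk,
      pow_succ, pow_orderOf_eq_one, one_mul]
  refine ⟨constt {r | r ∣ orderOf g} _, constt_mem _ h1, H13.Dih.inv_zpowers ?_ _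
    (constt_mem_zpowers _ _), ?_, piElt_constt _ _⟩
  · have := sq_of c.ord_s
    calc _ = c.s * x * (c.s * c.s) * c.s⁻¹ * x⁻¹ * (c.s * c.s)⁻¹ := by group
      _ = _ := by rw [this]; group
  · rw [constt_ap _ _ (hX h1), h2]; exact constt_eq_self fun _ _ h => h

theorem cj_e (g : G) : (M.cj g).e = M.e := by
  rw [e, M.cj_κ, c.cj_s, e]; congr 1; group
theorem cj_σ (g : G) : (M.cj g).σ = M.σ := by
  rw [σ, M.cj_κ, c.cj_i, σ]; congr 1; group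
theorem cj_Dh (g : G) : (M.cj g).Dh = M.Dh := by rw [Dh, M.cj_e]; rfl
theorem cj_Th (g : G) : (M.cj g).Th = M.Th := by rw [Th, M.cj_e, M.cj_Dh]; rfl
theorem cj_Rh (g : G) : (M.cj g).Rh = M.Rh := by rw [Rh, M.cj_e]; rfl
theorem cj_Lt (g : G) : (M.cj g).Lt = H24.cj g M.Lt := by
  ext x; rw [mem_cj]; exact M.mem_pre_toH

theorem cj_img (g : G) (X : Subgroup G) : img (M.cj g).κ (H24.cj g X) = img M.κ X := by
  ext z
  refine mem_img.trans (Iff.trans ?_ mem_img.symm)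
  constructor
  · rintro ⟨x, hx, hH, e⟩
    exact ⟨_, mem_cj.1 hx, c.mem_cj_H.1 hH, (M.cj_κ g x).symm.trans e⟩
  · rintro ⟨x, hx, hH, e⟩
    refine ⟨_, conj_mem_cj g hx, c.mem_cj_H.2 (by simpa [mul_assoc] using hH), ?_⟩
    rw [M.cj_κ, ← e]; congr 1; group

theorem cj_lam (g x : G) : ap (M.cj g).lam (g * x * g⁻¹) = ap M.lam x := by
  have e : g⁻¹ * (g * x * g⁻¹) * g = x := by group
  by_cases h : x ∈ pre M.κ M.E.L
  · rw [ap_of_mem _ h]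
    exact (ap_of_mem _ (M.mem_pre_toH.2 (e.symm ▸ h))).trans (congrArg M.lam (Subtype.ext e))
  · unfold ap
    rw [dif_neg h]
    exact dif_neg fun m => h (e ▸ M.mem_pre_toH.1 m)

theorem Big.cj {M : Mod c} (h : M.Big X) (g : G) : (M.cj g).Big (H24.cj g X) :=
  ⟨c.cj_S g ▸ cj_mono g h.S_le, (M.cj_img g X).symm ▸ h.cov⟩

theorem QT.cj {M : Mod c} (h : M.QT p X) (g : G) : (M.cj g).QT p (H24.cj g X) where
  toBig := h.toBig.cj g
  ne_top := fun e => h.ne_top (cj_eq_top.1 e)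
  CT_le := c.cj_CT g ▸ cj_mono g h.CT_le
  iso := by
    have := cj_mono g h.iso
    rwa [cj_sup, cj_inf, ← pcore_cj, ← c.cj_H] at this
  chr := by
    have := cj_mono g h.chr
    rwa [cj_C, ← pcore_cj] at this

theorem Cov.cj {M : Mod c} (h : M.Cov J) (g : G) : (M.cj g).Cov (H24.cj g J) :=
  ⟨(M.cj_Lt g).symm ▸ cj_mono g h.le, (M.cj_img g J).symm ▸ h.cov, c.cj_Q g ▸ cj_mono g h.Q_le,
    c.cj_S g ▸ norm_cj h.norm g⟩

theorem Comp.cj {M : Mod c} (h : M.Comp L₁) (g : G) : (M.cj g).Comp (H24.cj g L₁) :=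
  ⟨c.cj_H g ▸ h.nml.cj g, c.cj_U g ▸ cent_cj h.cent g,
    by rw [c.cj_U, M.cj_Lt, ← cj_sup, h.sup], by rw [c.cj_U, ← cj_inf, h.inf, cj_bot]⟩

theorem Comp.img_eq {M : Mod c} (h : M.Comp L₁) : img M.κ L₁ = M.L := by
  rw [← M.b2_img_Lt, ← h.sup, img_sup _ h.nml.le c.U_le_H, M.img_U, sup_bot_eq]

theorem Comp.Q_le {M : Mod c} (h : M.Comp L₁) : c.Q ≤ L₁ :=
  M.Q_le_of_cov h.img_eq.ge (c.Q_le_S.trans (c.S_le_H.trans h.nml.norm))

theorem Comp.cov {M : Mod c} (h : M.Comp L₁) : M.Cov L₁ :=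
  ⟨h.sup ▸ le_sup_left, h.img_eq.ge, h.Q_le, c.S_le_H.trans h.nml.norm⟩

theorem Comp.ker {M : Mod c} (h : M.Comp L₁) (hx : x ∈ L₁) (h1 : ap M.κ x = 1) :
    x = 1 ∨ x = c.t :=
  (M.b2_cases (h.nml.le hx) h1).imp (fun h2 => mem_bot.1 (h.inf.le ⟨hx, h2⟩)) fun h2 => by
    rw [← inv_of c.pg_t, ← mul_eq_one_iff_eq_inv]
    exact mem_bot.1 (h.inf.le ⟨mul_mem hx (h.Q_le c.t_mem_Q), h2⟩)

theorem Comp.b2_eq {M : Mod c} (h : M.Comp L₁) (hJ : J ≤ L₁) (hc : M.L ≤ img M.κ J) : J = L₁ := by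
  have h1 := M.b2_sup hc
  rw [inf_eq_left.2 (hJ.trans h.cov.le)] at h1
  have := group_modr (A := c.U) (hJ.trans (h.nml.le.trans c.U_nml.norm)) hJ
  rwa [h1, inf_comm, h.inf, bot_sup_eq, inf_eq_right.2 h.cov.le] at this

section q5
variable (hq : 5 ≤ M.N.q)
include hq

theorem cov_of_norm (hX : M.L ≤ img M.κ X) (hN : X ⊓ c.H ≤ N[Y]) (h : img M.κ Y ≠ ⊥) :
    M.L ≤ img M.κ Y := M.nml_big' hq (hX.trans (M.img_norm hN)) h

theorem cov_inf (hX : M.L ≤ img M.κ X) (hY : M.L ≤ img M.κ Y) (h1 : X ⊓ c.H ≤ N[Y])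
    (h2 : Y ⊓ c.H ≤ N[X]) : M.L ≤ img M.κ (X ⊓ Y) := by
  rw [← img_inf_dom] at hX hY
  refine (M.perfect hq).ge.trans ((commutator_mono hX hY).trans ?_)
  rw [← img_comm _ inf_le_right inf_le_right]
  exact img_mono _ (le_inf ((comm_mono_left inf_le_left).trans (comm_le_left h2))
    ((comm_mono_right inf_le_left).trans (comm_le_right h1)))

theorem cov_res (h : M.L ≤ img M.κ Y) :
    M.L ≤ img M.κ (res (Y ⊓ c.H)) ∧ res (Y ⊓ c.H) ≤ M.Lt := by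
  refine ⟨?_, (H13.Dih.res_perfect _).ge.trans
    ((der1_mono ((H13.Dih.res_le _).trans inf_le_right)).trans M.comm_le_Lt)⟩
  rw [res, img_der _ _ inf_le_right, img_inf_dom]
  exact (H13.Dih.der_of_perfect (M.perfect hq) _).ge.trans (der_mono _ h)

theorem exists_cov (h : M.L ≤ img M.κ Y) (hS : c.S ≤ N[Y]) :
    M.Cov (res (Y ⊓ c.H)) :=
  have h1 := H13.Dih.norm_res (norm_inf hS (norm_of_le c.S_le_H))
  ⟨(M.cov_res hq h).2, (M.cov_res hq h).1,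
    M.Q_le_of_cov (M.cov_res hq h).1 (c.Q_le_S.trans h1), h1⟩

theorem le_U_of_cov (h : M.L ≤ img M.κ X) (hY : Odd ♯Y) (hn : X ⊓ c.H ≤ N[Y]) :
    Y ⊓ c.H ≤ c.U :=
  M.le_U inf_le_right (odd_of_le hY inf_le_left) (by
    rw [img_inf_dom]; exact M.F0' hq (odd_img hY _) (h.trans (M.img_norm hn)))

theorem p0_inv (hX : IsPi {M.N.p} X) (hN : c.CT ≤ N[X]) : X ⊓ c.CT ≤ c.U :=
  M.le_U (inf_le_right.trans c.CT_le_H) (H13.Dih.odd_of_pi M.N.p_ne (hX.inf_left _))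
    (M.F0p hq ((hX.inf_left _).img _) ((M.Dh_le_Rh.trans (le_sup_left.trans M.img_CT.ge)).trans
      (H24.img_norm _ (norm_inf hN (norm_self _)))) ((img_mono _ inf_le_right).trans M.b2_CT))

theorem inv_cases (hX : Odd ♯X) (hH : X ≤ c.H) (hN : c.CT ≤ N[X]) :
    ⁅X, zpowers c.s⁆ ≤ c.U ∨ (M.Root (img M.κ ⁅X, zpowers c.s⁆) ∧
      M.e ∈ N[img M.κ ⁅X, zpowers c.s⁆]) := by
  have h1 : ⁅X, zpowers c.s⁆ ≤ X := comm_le_left (zpowers_le.2 (hN (c.T_le_CT Four.s_mem)))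
  have h2 : img M.κ ⁅X, zpowers c.s⁆ = ⁅img M.κ X, zpowers M.e⁆ := by
    rw [img_comm _ hH (zpowers_le.2 c.pg_s), img_zpowers _ c.pg_s, e]
  rw [h2]
  exact (M.F0 hq (odd_img hX _) (((sup_le_sup_right M.Dh_le_Rh _).trans M.img_CT.ge).trans
    (H24.img_norm _ hN))).imp_left fun h =>
      M.le_U (h1.trans hH) (odd_of_le hX h1) (h2.trans (H13.Dih.comm_zp_eq_bot.2 h))

theorem C_le_of_cov (h : M.L ≤ img M.κ X) : c.H ⊓ C[X ⊓ c.H] ≤ c.U ⊔ zpowers c.t := by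
  rw [← M.ker_eq, ← img_eq_bot inf_le_left, eq_bot_iff, ← M.C_L hq]
  refine (img_cent _ inf_le_right).trans (C_anti ?_)
  rwa [img_inf_dom]

theorem Comp.perfect {L₁ : Subgroup G} (h : M.Comp L₁) : ⁅L₁, L₁⁆ = L₁ :=
  h.b2_eq (der1_le _) (by rw [img_comm _ h.nml.le h.nml.le, h.img_eq, M.perfect hq])

theorem Comp.C_le {L₁ : Subgroup G} (h : M.Comp L₁) : C[L₁] = c.U ⊔ zpowers c.t := by
  refine le_antisymm (le_trans ?_ (M.C_le_of_cov hq h.img_eq.ge)) (sup_le (cents_symm h.cent)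
    (cents_symm (h.nml.le.trans (C_zpowers c.t).ge)))
  exact le_inf (C_le_C1 (h.Q_le c.t_mem_Q)) (C_anti inf_le_left)

theorem Comp.le_of_cov {L₁ : Subgroup G} (h : M.Comp L₁) (hY : M.L ≤ img M.κ Y) : L₁ ≤ Y := by
  obtain ⟨h1, h2⟩ := M.cov_res hq hY
  have h3 := (h2.trans M.Lt_nml.le).trans h.nml.norm
  refine (h.b2_eq ((quo_eq_bot h3).1 (H13.Dih.eq_bot_of_perfect ?_ ?_)) h1).ge.trans
    ((H13.Dih.res_le _).trans inf_le_left)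
  · rw [← quo_comm h3 h3, H13.Dih.res_perfect]
  · refine ((H13.Dih.sol_of_odd c.odd_U).quo L₁).of_le ?_
    rw [← quo_sup_left (c.U_le_H.trans h.nml.norm), h.sup]
    exact quo_mono _ h2

end q5
end Mod

theorem MC.cj {c : QC G} {M : Mod c} (h : MC M) (g : G) : MC (M.cj g) := ⟨h.simple, h.ih, h.q5⟩

end H2.QD
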