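import Mathlib
import Cfsg.Agent.H2.QDefs
import Cfsg.Agent.H5.SIrr

/-!
# Vocabulary for the character theory of groups with quasi-dihedral Sylow 2-subgroups

`D = {g | t ∈ ⟨g⟩}` is a trivial intersection subset of `H`.  A function on `D` is described by a
pair `(α, φ)`; see `Mod.Sp`.
-/

set_option autoImplicit false

namespace H2.QD

open H24 Cfsg Subgroup Finset
open scoped ComplexConjugate

universe u

/-- data `(α, φ)` describing a function on `D` -/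
abbrev Dat : Type := ℂ × (ℕ → ℂ)

/-- `ζ ^ (k j) + ζ ^ (k j (2 ^ (a - 1) - 1))`, `ζ` a primitive `2 ^ a`-th root of unity -/
noncomputable def sym (a k j : ℕ) : ℂ :=
  Complex.exp (2 * Real.pi * Complex.I / 2 ^ a) ^ (k * j) +
    Complex.exp (2 * Real.pi * Complex.I / 2 ^ a) ^ (k * j * (2 ^ (a - 1) - 1))

/-- the principal character -/
noncomputable def d1 : Dat := (1 / 2, fun _ => 1)
/-- `ε St` -/
noncomputable def dS : Dat := (1 / 2, fun _ => -1)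
/-- `sgn` -/
noncomputable def dsg : Dat := (1 / 2, fun j => (-1) ^ j)
/-- `ε St sgn` -/
noncomputable def dSs : Dat := (1 / 2, fun j => -(-1) ^ j)
/-- `-ε β`, `β` of degree `n` -/
noncomputable def dB : Dat := (1, fun _ => 0)
/-- `ε θ_k`, `θ_k` of degree `m` -/
noncomputable def dθ (a k : ℕ) : Dat := (0, fun j => -sym a k j)
noncomputable def dV (a k : ℕ) : Dat := d1 - dS + dθ a k
noncomputable def dW : Dat := d1 - dS - dsg + dSs
noncomputable def dX : Dat := dS + dsg + dB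

/-- the inner product over `D` in terms of the data -/
noncomputable def bf (a : ℕ) (d d' : Dat) : ℂ :=
  d.1 * conj d'.1 / 2 + (4 * 2 ^ (a - 1) : ℂ)⁻¹ * ∑ j ∈ (range (2 ^ a)).erase 0, d.2 j * conj (d'.2 j)

/-- `θ_k = θ_l` -/
def Rel (a k l : ℕ) : Prop := k ≡ l [MOD 2 ^ a] ∨ k ≡ l * (2 ^ (a - 1) - 1) [MOD 2 ^ a]

variable {G : Type u} [Group G]

open Classical in
/-- the inner product over `D` -/
noncomputable def QC.dip [Fintype G] (c : QC G) (f f' : G → ℂ) : ℂ :=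
  (Nat.card c.H : ℂ)⁻¹ * ∑ g ∈ univ.filter (fun g => c.t ∈ zpowers g), f g * conj (f' g)

namespace Mod

variable {c : QC G} (M : Mod c)

/-- The values of `f` on `D` are described by `d`, twisted by the linear character `μ`. -/
structure Sp (μ : M.Γ →* ℂˣ) (f : G → ℂ) (d : Dat) : Prop where
  cls : ∀ g, c.t ∈ zpowers g → ∀ h ∈ c.H, f (h * g * h⁻¹) = f g
  cen : ∀ y ∈ c.H, Odd (orderOf y) → f (c.t * y) =
    μ (ap M.κ y) * (d.1 * (1 + M.St y) + d.2 (2 ^ (c.a - 1)) * (1 - M.St y) / 2)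
  om : ∀ j < 2 ^ c.a, ¬ 2 ^ (c.a - 1) ∣ j → ∀ y ∈ C{c.ω ^ j}, Odd (orderOf y) →
    f (c.ω ^ j * y) = μ (ap M.κ y) * d.2 j

/-- `μ` is trivial on `PGL₂(F)` and respects the fusion in `G` -/
structure Fus (μ : M.Γ →* ℂˣ) : Prop where
  ker : M.L0 ≤ μ.ker
  fus : ∀ a ∈ c.H, ∀ b ∈ c.H, IsConj a b → μ (ap M.κ a) = μ (ap M.κ b)

/-- `|s ^ H| ^ 2 / |G : H|` -/
noncomputable def rho : ℚ := ((c.u * (M.N.q * M.N.n) : ℕ) : ℚ) ^ 2 / c.H.index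

/-- the restriction of `f` to `H` is a signed irreducible character with the given values -/
structure HC (f : G → ℂ) (d : Dat) (A B C : ℂ) : Prop where
  irr : IsIrrCharacter c.H (fun h => f h) ∨ IsIrrCharacter c.H (fun h => -f h)
  sp : M.Sp 1 f d
  odd : ∀ y ∈ c.H, Odd (orderOf y) → f y = A + B * M.St y
  out : ∀ y ∈ c.R, f (c.s * y) = C

/-- The signed irreducible characters of `G` in the block attached to `μ`. -/
structure Pin [Fintype G] (μ : M.Γ →* ℂˣ) where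
  e0 : G → ℂ
  ex : G → ℂ
  ey : G → ℂ
  ez : G → ℂ
  eb : G → ℂ
  ek : ℕ → G → ℂ
  d0 : ℤ
  x : ℤ
  y : ℤ
  z : ℤ
  i0 : H5.SIrr e0
  ix : H5.SIrr ex
  iy : H5.SIrr ey
  iz : H5.SIrr ez
  ib : H5.SIrr eb
  ik : ∀ k, ¬ 2 ^ (c.a - 1) ∣ k → H5.SIrr (ek k)
  deg0 : e0 1 = d0
  degx : ex 1 = x
  degy : ey 1 = y
  degz : ez 1 = z
  sp0 : M.Sp μ e0 d1
  spx : M.Sp μ ex dS
  spy : M.Sp μ ey (-dSs)
  spz : M.Sp μ ez (-dsg)
  spb : M.Sp μ eb dB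
  spk : ∀ k, ¬ 2 ^ (c.a - 1) ∣ k → M.Sp μ (ek k) (dθ c.a k)
  oddV : ∀ k, ¬ 2 ^ (c.a - 1) ∣ k → ∀ g, Odd (orderOf g) → (e0 - ex + ek k) g = 0
  oddW : ∀ g, Odd (orderOf g) → (e0 - ex + ez - ey) g = 0
  oddX : ∀ g, Odd (orderOf g) → (ex - ez + eb) g = 0
  one : μ = 1 → e0 = fun _ => 1
  eqV : (1 / d0 - M.Qe ^ 2 / x + (M.Qe - 1) ^ 2 / (x - d0) : ℚ) = M.rho * (1 - 1 / M.Qe)
  eqW : (1 / d0 - M.Qe ^ 2 / x + 1 / z - M.Qe ^ 2 / y : ℚ) = 0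
  eqX : (M.Qe ^ 2 / x - 1 / z + (M.Qe + 1) ^ 2 / (z - x) : ℚ) = M.rho * (1 + 1 / M.Qe)
  m0 : d0 ≡ 1 [ZMOD 2 ^ (c.a + 1)]
  mx : x ≡ -(M.Qe + 2) [ZMOD 2 ^ (c.a + 1)]
  mz : -z ≡ 1 + 2 ^ c.a [ZMOD 2 ^ (c.a + 1)]

end Mod

end H2.QD
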