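import Mathlib
import Cfsg.Agent.H2.QDefs2
import Cfsg.Agent.H2.QB2
import Cfsg.Agent.H17.JB4
import Cfsg.Agent.H3.QC1

/-! # QCh1: the set `D`, values of `St` and `sgn`, the predicate `Sp` -/

set_option autoImplicit false
set_option linter.unusedSectionVars false
set_option linter.unusedVariables false

namespace H2.QD

open H24 Cfsg Subgroup Finset
open H13.Dih (Four V4 Inv CD UU PP FC res sq_of ne_one_of inv_of)
open H1.WS H3.QC H4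
open scoped ComplexConjugate MatrixGroups

universe u

variable {G : Type u} [Group G]

theorem c1_cop {a : ℕ} (ha : 3 ≤ a) : Nat.Coprime (2 ^ (a - 1)) (2 ^ (a - 1) - 1) :=
  (Nat.coprime_self_sub_right Nat.one_le_two_pow).2 (by simp)

theorem c1_dvd (a : ℕ) : 2 ^ (a - 1) ∣ 2 ^ a := pow_dvd_pow 2 (by omega)

theorem c1_two {a : ℕ} (ha : 3 ≤ a) : 2 ^ a = 2 * 2 ^ (a - 1) := by
  rw [← pow_succ', Nat.sub_add_cancel (by omega)]

theorem c1_τ {a j : ℕ} (ha : 3 ≤ a) : 2 ^ (a - 1) ∣ j * (2 ^ (a - 1) - 1) % 2 ^ a ↔ 2 ^ (a - 1) ∣ j := by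
  rw [Nat.dvd_mod_iff (c1_dvd a), (c1_cop ha).dvd_mul_right]

theorem c1_fix {a j : ℕ} (ha : 3 ≤ a) (h : j * (2 ^ (a - 1) - 1) ≡ j [MOD 2 ^ a]) : 2 ^ (a - 1) ∣ j := by
  obtain ⟨b, rfl⟩ : ∃ b, a = b + 3 := ⟨a - 3, by omega⟩
  have h1 : 1 ≤ 2 ^ b := Nat.one_le_two_pow
  have h2 := (Nat.modEq_iff_dvd' (Nat.le_mul_of_pos_right j (by
    rw [show b + 3 - 1 = b + 2 by omega, pow_add]; omega))).1 h.symm
  rw [show b + 3 - 1 = b + 2 by omega] at h2 ⊢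
  rw [← Nat.mul_sub_one, show 2 ^ (b + 2) - 1 - 1 = 2 * (2 ^ (b + 1) - 1) by rw [pow_add, pow_add]; omega,
    mul_left_comm, pow_succ' 2 (b + 2), Nat.mul_dvd_mul_iff_left two_pos] at h2
  exact (Nat.Coprime.pow_left _ (Nat.coprime_two_left.2 (Nat.Even.sub_odd
    Nat.one_le_two_pow (Nat.even_pow.2 ⟨even_two, by omega⟩) odd_one))).dvd_of_dvd_mul_right h2

theorem c1_half {a j : ℕ} (ha : 3 ≤ a) (hj : j < 2 ^ a) (h : 2 ^ (a - 1) ∣ j) : j = 0 ∨ j = 2 ^ (a - 1) := by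
  obtain ⟨k, rfl⟩ := h
  rw [c1_two ha, mul_comm, Nat.mul_lt_mul_right (by positivity)] at hj
  interval_cases k <;> simp

/-- the exponents `j` with `ω ^ j` of order at least four -/
def JJ (a : ℕ) : Finset ℕ := ((range (2 ^ a)).erase 0).erase (2 ^ (a - 1))

theorem mem_JJ {a j : ℕ} (ha : 3 ≤ a) : j ∈ JJ a ↔ j < 2 ^ a ∧ ¬ 2 ^ (a - 1) ∣ j := by
  simp only [JJ, mem_erase, mem_range]
  exact ⟨fun h => ⟨h.2.2, fun e => (c1_half ha h.2.2 e).elim h.2.1 h.1⟩,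
    fun h => ⟨fun e => h.2 (e ▸ dvd_rfl), fun e => h.2 (e ▸ dvd_zero _), h.1⟩⟩

theorem half_mem {a : ℕ} (ha : 3 ≤ a) : 2 ^ (a - 1) ∈ (range (2 ^ a)).erase 0 :=
  mem_erase.2 ⟨by positivity, mem_range.2 (Nat.pow_lt_pow_right one_lt_two (by omega))⟩

theorem card_JJ {a : ℕ} (ha : 3 ≤ a) : (#(JJ a) : ℂ) = 2 * 2 ^ (a - 1) - 2 := by
  have h1 := card_erase_add_one (half_mem ha)
  have h2 := card_erase_add_one (mem_range.2 (show 0 < 2 ^ a by positivity))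
  rw [card_range, ← h1, c1_two ha] at h2
  rw [JJ, c1_two ha, eq_sub_iff_add_eq]
  exact_mod_cast h2

namespace QC
variable [Finite G] (c : QC G) {g x y : G} {j : ℕ}

theorem mem_H_of (hg : c.t ∈ zpowers g) : g ∈ c.H := mem_C1.2 (comm_of_zpowers (mem_zpowers g) hg)

theorem ti (h1 : c.t ∈ zpowers g) (h2 : c.t ∈ zpowers (x * g * x⁻¹)) : x ∈ c.H :=
  mem_C1_iff_conj.2 (inv_unique ((mem_zpowers_conj x).2 h1) h2 (by rw [orderOf_conj, c.pg_t]) c.pg_t)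

theorem D_conj (hg : c.t ∈ zpowers g) (hx : x ∈ c.H) : c.t ∈ zpowers (x * g * x⁻¹) :=
  mem_C1_iff_conj.1 hx ▸ (mem_zpowers_conj x).2 hg

theorem exists_D (h : ¬ Odd (orderOf g)) : ∃ x, c.t ∈ zpowers (x * g * x⁻¹) := by
  obtain ⟨v, hv, h2⟩ := exists_inv h
  obtain ⟨x, e⟩ := c.invol_G h2
  exact ⟨x, e ▸ (mem_zpowers_conj x).2 hv⟩

theorem c1_t : PiElt {2} c.t := two_of_sq (sq_of c.pg_t)
theorem c1_s : PiElt {2} c.s := two_of_sq (sq_of c.ord_s)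
theorem c1_ω (j : ℕ) : PiElt {2} (c.ω ^ j) :=
  (two_of_pow (k := c.a) (by rw [← c.ord_ω, pow_orderOf_eq_one])).pow j
theorem c1_ωH (j : ℕ) : c.ω ^ j ∈ c.H := pow_mem c.pg_ω j

theorem D_cen (hy : y ∈ c.H) (ho : Odd (orderOf y)) : c.t ∈ zpowers (c.t * y) :=
  left_mem c.c1_t ho (mem_C1.1 hy).symm

theorem c1_t_mem (hj : ¬ 2 ^ c.a ∣ j) : c.t ∈ zpowers (c.ω ^ j) := by
  obtain ⟨v, hv, h⟩ := exists_inv (not_odd_of_two (c.c1_ω j) fun e => hj (c.ord_ω ▸ orderOf_dvd_of_pow_eq_one e))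
  rwa [inv_unique (v := c.t) (pow_mem (mem_zpowers c.ω) _) (zpowers_le.2 (pow_mem (mem_zpowers c.ω) j) hv) c.pg_t h]

theorem c1_C (hj : ¬ 2 ^ (c.a - 1) ∣ j) : C{c.ω ^ j} ≤ c.H :=
  C1_le_C1_of_mem_zpowers (c.c1_t_mem fun e => hj ((c1_dvd _).trans e))

theorem D_om (hj : ¬ 2 ^ (c.a - 1) ∣ j) (hy : y ∈ C{c.ω ^ j}) (ho : Odd (orderOf y)) :
    c.t ∈ zpowers (c.ω ^ j * y) ∧ y ∈ c.H :=
  ⟨zpowers_le.2 (left_mem (c.c1_ω j) ho (mem_C1.1 hy).symm) (c.c1_t_mem fun e => hj ((c1_dvd _).trans e)),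
    c.c1_C hj hy⟩

theorem c1_s_eq (j : ℕ) : c.co.s j = c.ω ^ j * c.s := by rw [← c.co_nat, ← c.co_s, c.co.r_mul_s, add_zero]

theorem c1_S (hx : x ∈ c.S) : ∃ j < 2 ^ c.a, x = c.ω ^ j ∨ x = c.ω ^ j * c.s := by
  rcases c.co.cases hx with ⟨b, rfl⟩ | ⟨b, rfl⟩
  · exact ⟨b.val, b.val_lt, Or.inl (by rw [← c.co_nat, ZMod.natCast_zmod_val])⟩
  · exact ⟨b.val, b.val_lt, Or.inr (by rw [← c.c1_s_eq, ZMod.natCast_zmod_val])⟩

theorem c1_rel (j : ℕ) : c.s * c.ω ^ j * c.s⁻¹ = c.ω ^ (j * (2 ^ (c.a - 1) - 1) % 2 ^ c.a) := by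
  rw [← c.ord_ω, pow_mod_orderOf, ← conj_pow, c.rel, ← pow_mul, mul_comm]

theorem conj_ωs (j : ℕ) : (∃ h ∈ c.H, h * (c.ω ^ (2 * j + 1) * c.s) * h⁻¹ = c.i) ∧
    ∃ h ∈ c.H, h * (c.ω ^ (2 * j) * c.s) * h⁻¹ = c.s := by
  have k : -(2 * j : ZMod (2 ^ c.a)) ∈ H22.K c.a (c.a - 1) := neg_mem (H22.two_mul_mem_K_pred _)
  constructor
  · obtain ⟨b, hb⟩ := c.co.s_conj c.co_tw c.a1 (d := (2 * j + 1 : ℕ)) (d' := 1) (by simpa using k)
    obtain ⟨h, e⟩ := c.fus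
    have h1 : h ∈ c.H := mem_C1_iff_conj.2 (by
      rw [← c.i_sq, ← conj_mul, i, e, ← co_ωs, c.co.s_mul_self, mul_one, add_zero, co_t, ← i, i_sq])
    refine ⟨h⁻¹ * c.co.r b, mul_mem (inv_mem h1) (c.S_le_H (c.co.r_mem b)), ?_⟩
    rw [c.c1_s_eq, co_ωs, ← e] at hb
    calc _ = h⁻¹ * (c.co.r b * (c.ω ^ (2 * j + 1) * c.s) * (c.co.r b)⁻¹) * h := by group
      _ = _ := by rw [hb, i]; group
  · obtain ⟨b, hb⟩ := c.co.s_conj c.co_tw c.a1 (d := (2 * j : ℕ)) (d' := 0) (by simpa using k)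
    exact ⟨_, c.S_le_H (c.co.r_mem b), by rw [← c.c1_s_eq, hb, co_s]⟩

theorem c1_two_H (hx : x ∈ c.H) (h2 : PiElt {2} x) : ∃ h ∈ c.H, h * x * h⁻¹ = c.s ∨
    ∃ j < 2 ^ c.a, h * x * h⁻¹ = c.ω ^ j := by
  obtain ⟨h, hh, e⟩ := Sylow_Jsub Nat.prime_two (c.syl.of_le c.S_le_H le_top) h2.isPi (zpowers_le.2 hx)
  obtain ⟨j, hj, e | e⟩ := c.c1_S (e (conj_mem_cj h (mem_zpowers x)))
  · exact ⟨h, hh, Or.inr ⟨j, hj, e⟩⟩
  obtain ⟨k, rfl | rfl⟩ := j.even_or_odd'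
  · obtain ⟨l, hl, e'⟩ := (c.conj_ωs k).2
    exact ⟨l * h, mul_mem hl hh, Or.inl (by rw [← e', ← e]; group)⟩
  · obtain ⟨l, hl, e'⟩ := (c.conj_ωs k).1
    exact ⟨l * h, mul_mem hl hh, Or.inr ⟨_, Nat.pow_lt_pow_right one_lt_two (show c.a - 2 < c.a by
      have := c.ha; omega), by rw [← i, ← e', ← e]; group⟩⟩

theorem c1_cases (hg : g ∈ c.H) : Odd (orderOf g) ∨ Sec c.H c.t g ∨ Sec c.H c.s g ∨
    ∃ j ∈ JJ c.a, Sec c.H (c.ω ^ j) g := by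
  obtain ⟨x, y, hx, hy, hx', hy', e, hc⟩ := decomp g
  have h0 : Sec c.H x g := ⟨1, one_mem _, y, ⟨zpowers_le.2 hg hy', mem_C1.2 hc.symm⟩, hy, by simpa using e⟩
  obtain ⟨h, hh, e' | ⟨j, hj, e'⟩⟩ := c.c1_two_H (zpowers_le.2 hg hx') hx
  · exact Or.inr (Or.inr (Or.inl (e' ▸ h0.of_conj hh)))
  by_cases d : 2 ^ (c.a - 1) ∣ j
  · rcases c1_half c.ha hj d with rfl | rfl
    · rw [pow_zero, conj_eq_one_iff'] at e'
      exact Or.inl (by rwa [e, e', one_mul])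
    · exact Or.inr (Or.inl ((show _ = c.t from e') ▸ h0.of_conj hh))
  · exact Or.inr (Or.inr (Or.inr ⟨j, (mem_JJ c.ha).2 ⟨hj, d⟩, e' ▸ h0.of_conj hh⟩))

theorem c1_not_s (h : Sec c.H c.s g) : ¬ Odd (orderOf g) ∧ c.t ∉ zpowers g := by
  obtain ⟨h, hh, y, hy, ho, e⟩ := h
  have h1 := left_mem c.c1_s ho (mem_C1.1 hy.2).symm
  rw [← e] at h1
  exact ⟨fun o => not_odd_of_inv h1 c.ord_s (odd_conj o h),
    fun o => c.four.ne (inv_unique h1 (c.D_conj o hh) c.ord_s c.pg_t)⟩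

theorem D_cases (hg : c.t ∈ zpowers g) : ∃ h ∈ c.H,
    (∃ y ∈ c.H, Odd (orderOf y) ∧ h * g * h⁻¹ = c.t * y) ∨ ∃ j < 2 ^ c.a, ¬ 2 ^ (c.a - 1) ∣ j ∧
      ∃ y ∈ C{c.ω ^ j}, Odd (orderOf y) ∧ h * g * h⁻¹ = c.ω ^ j * y := by
  rcases c.c1_cases (c.mem_H_of hg) with h | ⟨h, hh, y, hy, e⟩ | h | ⟨j, hj, h, hh, y, hy, e⟩
  · exact absurd h (not_odd_of_inv hg c.pg_t)
  · exact ⟨h, hh, Or.inl ⟨y, hy.1, e⟩⟩
  · exact absurd hg (c.c1_not_s h).2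
  · exact ⟨h, hh, Or.inr ⟨j, ((mem_JJ c.ha).1 hj).1, ((mem_JJ c.ha).1 hj).2, y, hy.2, e⟩⟩

theorem c1_D (hg : c.t ∈ zpowers (x * g * x⁻¹)) (hx : x ∈ c.H) : c.t ∈ zpowers g := by
  simpa [mul_assoc] using c.D_conj hg (inv_mem hx)

theorem c1_Dt (h : Sec c.H c.t g) : c.t ∈ zpowers g := by
  obtain ⟨h, hh, y, hy, ho, e⟩ := h
  exact c.c1_D (e ▸ c.D_cen hy.1 ho) hh

theorem c1_Dω (hj : j ∈ JJ c.a) (h : Sec c.H (c.ω ^ j) g) : c.t ∈ zpowers g := by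
  obtain ⟨h, hh, y, hy, ho, e⟩ := h
  exact c.c1_D (e ▸ (c.D_om ((mem_JJ c.ha).1 hj).2 hy.2 ho).1) hh

theorem H_cases (hg : g ∈ c.H) : Odd (orderOf g) ∨ c.t ∈ zpowers g ∨
    ∃ h ∈ c.H, ∃ y ∈ c.R, h * g * h⁻¹ = c.s * y := by
  rcases c.c1_cases hg with h | h | ⟨h, hh, y, hy, e⟩ | ⟨j, hj, h⟩
  · exact Or.inl h
  · exact Or.inr (Or.inl (c.c1_Dt h))
  · exact Or.inr (Or.inr ⟨h, hh, y, c.mem_R.2 ⟨hy, e.1⟩, e.2⟩)
  · exact Or.inr (Or.inl (c.c1_Dω hj h))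

theorem c1_odd_U (hy : y ∈ c.H) (ho : Odd (orderOf y)) (hx : x ∈ c.U) : Odd (orderOf (y * x)) := by
  simpa [mul_assoc] using odd_mul_core c.odd_U (conj_mem (c.U_nml.norm hy) hx) (c.U_nml.norm hy) ho

theorem c1_om_U (hj : ¬ 2 ^ (c.a - 1) ∣ j) (hy : y ∈ C{c.ω ^ j}) (ho : Odd (orderOf y)) (hx : x ∈ c.U) :
    ∃ o ∈ c.U, ∃ y' ∈ C{c.ω ^ j}, Odd (orderOf y') ∧ c.ω ^ j * y * x = o * (c.ω ^ j * y') * o⁻¹ := by
  have h1 := c.c1_C hj hy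
  have n := c.U_nml.norm
  rw [mul_assoc]
  refine normal_form c.odd_U (n (c.c1_ωH j)) (n (mul_mem h1 (c.U_le_H hx))) (c.c1_ω j) (c.c1_odd_U h1 ho hx) ?_
  have : y * x * c.ω ^ j * (y * x)⁻¹ * (c.ω ^ j)⁻¹ =
      y * x * y⁻¹ * (y * c.ω ^ j * x⁻¹ * (c.ω ^ j * y)⁻¹) := by group
  rw [this, ← mem_C1.1 hy]
  exact mul_mem (conj_mem (n h1) hx) (conj_mem (n (mul_mem h1 (c.c1_ωH j))) (inv_mem hx))

theorem D_mul_U (hg : c.t ∈ zpowers g) (hx : x ∈ c.U) : c.t ∈ zpowers (g * x) := by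
  obtain ⟨h, hh, ⟨y, hy, ho, e⟩ | ⟨j, -, hj, y, hy, ho, e⟩⟩ := c.D_cases hg <;>
    refine c.c1_D ?_ hh <;> rw [← conj_mul, e]
  · rw [mul_assoc c.t]
    have := conj_mem (c.U_nml.norm hh) hx
    exact c.D_cen (mul_mem hy (c.U_le_H this)) (c.c1_odd_U hy ho this)
  · obtain ⟨o, ho, y', h1, h2, e'⟩ := c.c1_om_U hj hy ho (conj_mem (c.U_nml.norm hh) hx)
    exact e' ▸ c.D_conj (c.D_om hj h1 h2).1 (c.U_le_H ho)

theorem c1_conjS (hx : x ∈ c.S) (j : ℕ) : x * c.ω ^ j * x⁻¹ = c.ω ^ j ∨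
    x * c.ω ^ j * x⁻¹ = c.ω ^ (j * (2 ^ (c.a - 1) - 1) % 2 ^ c.a) := by
  obtain ⟨k, -, rfl | rfl⟩ := c.c1_S hx
  · exact Or.inl (by group)
  · right
    calc _ = c.ω ^ k * (c.s * c.ω ^ j * c.s⁻¹) * (c.ω ^ k)⁻¹ := by group
      _ = _ := by rw [c.c1_rel]; group

theorem c1_SN (j : ℕ) : c.S ≤ N[zpowers (c.ω ^ j)] := fun x hx => mem_N_of_cj_le (by
  rw [cj_zpowers, zpowers_le]
  rcases c.c1_conjS hx j with e | e <;> rw [e]
  · exact mem_zpowers _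
  · rw [← c.ord_ω, pow_mod_orderOf, pow_mul]; exact pow_mem (mem_zpowers _) _)

theorem c1_fus {k : ℕ} (hj : j < 2 ^ c.a) (hk : k < 2 ^ c.a) (e : x * c.ω ^ j * x⁻¹ = c.ω ^ k) :
    k = j ∨ k = j * (2 ^ (c.a - 1) - 1) % 2 ^ c.a := by
  have h1 : x ∈ N[zpowers (c.ω ^ j)] := mem_N_iff_cj.2 (H25.cyc_eq_of_card_eq (cyc_zpowers c.ω)
    (by rw [cj_zpowers, e]; exact zpowers_le.2 (pow_mem (mem_zpowers _) _))
    (zpowers_le.2 (pow_mem (mem_zpowers _) _)) (card_cj _ _))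
  obtain ⟨l, hl⟩ := (c.c1_ω j).exists_pow Nat.prime_two
  obtain ⟨a, ha, b, hb, rfl⟩ := ((c.syl.of_le (c.c1_SN j) le_top).isProd_of_idx (C_le_N _) (PiNat.dvd
    (piNat_self_pow Nat.prime_two l) ((H26.relIndex_C_dvd_totient le_rfl (cyc_zpowers _)).trans (by
      rw [card_zpowers', hl]
      rcases l with _ | l
      · simp
      · rw [Nat.totient_prime_pow_succ Nat.prime_two]; simp [pow_succ])))).3 x h1
  rw [C_zpowers] at hb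
  have h2 : a * c.ω ^ j * a⁻¹ = c.ω ^ k := by rw [← e, mul_assoc a b, mem_C1.1 hb]; group
  have h3 := pow_injOn_Iio_orderOf (x := c.ω)
  rw [c.ord_ω] at h3
  exact (c.c1_conjS ha j).imp (fun e' => h3 hk hj (h2.symm.trans e'))
    fun e' => h3 hk (Nat.mod_lt _ (by positivity)) (h2.symm.trans e')

theorem c1_sd (hj : ¬ 2 ^ (c.a - 1) ∣ j) :
    SD 𝒪[c.H ⊓ C{c.ω ^ j}] (zpowers c.ω) (c.H ⊓ C{c.ω ^ j}) := by
  rw [inf_eq_right.2 (c.c1_C hj)]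
  have h1 := (c.syl.of_le (c.c1_SN j) le_top).inf_nml (C_nml_N _)
  rw [C_zpowers, show (zpowers c.ω ⊔ zpowers c.s) ⊓ C{c.ω ^ j} = zpowers c.ω from le_antisymm (fun x hx => by
    obtain ⟨k, -, rfl | rfl⟩ := c.c1_S hx.1
    · exact pow_mem (mem_zpowers _) _
    · have := mem_C1_iff_conj.1 ((mul_mem_cancel_left (mem_C1.2 (pow_mul_comm _ _ _))).1 hx.2)
      rw [c.c1_rel, ← c.ord_ω, pow_mod_orderOf, pow_eq_pow_iff_modEq, c.ord_ω] at this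
      exact absurd (c1_fix c.ha this) hj)
    (le_inf le_sup_left (zpowers_le.2 (mem_C1.2 (Commute.self_pow _ _).eq)))] at h1
  have h2 : (♯C{c.ω ^ j}).minFac = 2 := (Nat.minFac_eq_two_iff _).2 (c.pg_t ▸ orderOf_dvd_card'
    (h1.le (pow_mem (mem_zpowers _) _)))
  have := H26.cyclic_pdiv_normal_complement (M := C{c.ω ^ j}) (h2 ▸ h1) (cyc_zpowers _)
  rwa [h2] at this

theorem c1_count [Fintype G] (F : G → ℂ) : 2 * ∑ g ∈ FF fun g => c.t ∈ zpowers g, F g =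
    2 * ∑ y ∈ FF fun y => y ∈ c.H ∧ Odd (orderOf y), F (c.t * y) +
      ∑ j ∈ JJ c.a, ∑ g ∈ FF (Sec c.H (c.ω ^ j)), F g := by
  classical
  have h1 : ∑ y ∈ FF fun y => y ∈ c.H ∧ Odd (orderOf y), F (c.t * y) = ∑ g ∈ FF (Sec c.H c.t), F g := by
    refine sum_bij' (fun y _ => c.t * y) (fun y _ => c.t⁻¹ * y) (fun y hy => ?_) (fun g hg => ?_) (by simp) (by simp)
      fun _ _ => rfl
    · exact mem_FF.2 ⟨1, one_mem _, y, ⟨(mem_FF.1 hy).1, (mem_FF.1 hy).1⟩, (mem_FF.1 hy).2, by simp⟩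
    · obtain ⟨h, hh, y, hy, ho, e⟩ := mem_FF.1 hg
      have : c.t⁻¹ * g = h⁻¹ * y * h⁻¹⁻¹ := by
        rw [← mem_C1_iff_conj.1 (inv_mem hh), ← inv_mul_cancel_left c.t y, ← e]; group
      exact mem_FF.2 (this ▸ ⟨conj_mem (norm_self _ (inv_mem hh)) hy.1, odd_conj ho _⟩)
  simp only [h1, sum_FF, mul_sum]
  rw [sum_comm, ← sum_add_distrib]
  refine sum_congr rfl fun g _ => ?_
  have k : ∀ j ∈ JJ c.a, Sec c.H c.t g → ¬ Sec c.H (c.ω ^ j) g := fun j hj h h' => by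
    obtain ⟨k, hk, e⟩ := h.conj h' c.c1_t (c.c1_ω j)
    rw [mem_C1_iff_conj.1 hk] at e
    rcases c.c1_fus (x := 1) (mem_range.1 (mem_erase.1 (half_mem c.ha)).2) ((mem_JJ c.ha).1 hj).1
      (by simpa [t] using e) with e | e
    · exact ((mem_JJ c.ha).1 hj).2 (e ▸ dvd_rfl)
    · exact ((mem_JJ c.ha).1 hj).2 (e ▸ (c1_τ c.ha).2 dvd_rfl)
  by_cases h : Sec c.H c.t g
  · rw [if_pos h, if_pos (c.c1_Dt h), sum_eq_zero fun j hj => if_neg (k j hj h), add_zero]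
  by_cases h' : ∃ j ∈ JJ c.a, Sec c.H (c.ω ^ j) g
  · obtain ⟨j, hj, h'⟩ := h'
    obtain ⟨j1, j2⟩ := (mem_JJ c.ha).1 hj
    rw [if_neg h, if_pos (c.c1_Dω hj h'), ← sum_filter, sum_const,
      show filter (fun j => Sec c.H (c.ω ^ j) g) (JJ c.a) = {j, j * (2 ^ (c.a - 1) - 1) % 2 ^ c.a} from ?_,
      card_pair fun e => j2 (c1_fix c.ha (by rw [Nat.ModEq, ← e, Nat.mod_eq_of_lt j1]))]
    · simp
    ext k
    rw [mem_filter, mem_insert, mem_singleton]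
    refine ⟨fun e => ?_, ?_⟩
    · obtain ⟨x, -, e'⟩ := h'.conj e.2 (c.c1_ω _) (c.c1_ω _)
      exact c.c1_fus j1 ((mem_JJ c.ha).1 e.1).1 e'
    · rintro (rfl | rfl)
      · exact ⟨hj, h'⟩
      · exact ⟨(mem_JJ c.ha).2 ⟨Nat.mod_lt _ (by positivity), (c1_τ c.ha).not.2 j2⟩, c.c1_rel j ▸ h'.of_conj c.pg_s⟩
  · rw [if_neg h, if_neg, sum_eq_zero fun j hj => if_neg fun e => h' ⟨j, hj, e⟩, add_zero]
    exact fun e => (c.c1_cases (c.mem_H_of e)).elim (not_odd_of_inv e c.pg_t) fun o =>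
      o.elim h fun o => o.elim (fun o => (c.c1_not_s o).2 e) h'

theorem c1_count_H [Fintype G] (F : G → ℂ) : ∑ g ∈ FS c.H, F g =
    ∑ y ∈ FF fun y => y ∈ c.H ∧ Odd (orderOf y), F y + ∑ g ∈ FF fun g => c.t ∈ zpowers g, F g +
      ∑ g ∈ FF (Sec c.H c.s), F g := by
  classical
  rw [show FS c.H = FF (· ∈ c.H) by ext; simp]
  simp only [sum_FF, ← sum_add_distrib]
  refine sum_congr rfl fun g _ => ?_
  by_cases h : Sec c.H c.s g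
  · simp [h, h.mem c.pg_s, c.c1_not_s h]
  by_cases h' : c.t ∈ zpowers g
  · simp [h, h', c.mem_H_of h', not_odd_of_inv h' c.pg_t]
  by_cases hg : g ∈ c.H
  · simp [h, h', hg, (c.c1_cases hg).resolve_right fun o => o.elim (fun o => h' (c.c1_Dt o)) fun o =>
      o.elim h fun ⟨j, hj, o⟩ => h' (c.c1_Dω hj o)]
  · simp [h, h', hg]

theorem c1_sum_ω [Fintype G] (hj : j ∈ JJ c.a) {F : G → ℂ} {a : ℂ} (h : ∀ g, Sec c.H (c.ω ^ j) g → F g = a) :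
    ∑ g ∈ FF (Sec c.H (c.ω ^ j)), F g = a * ♯c.H / (2 * 2 ^ (c.a - 1)) := by
  have := card_sec (c.c1_ω j) (c.c1_sd ((mem_JJ c.ha).1 hj).2) (H13.Dih.odd_pcore _) (by simpa using (c.c1_ω 1).isPi)
  rw [card_zpowers', c.ord_ω, c1_two c.ha] at this
  rw [sum_congr rfl fun g hg => h g (mem_FF.1 hg), sum_const, ← this, nsmul_eq_mul]
  push_cast
  field_simp

theorem c1_sum_s [Fintype G] {F : G → ℂ} {a : ℂ} (h : ∀ g, Sec c.H c.s g → F g = a) :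
    ∑ g ∈ FF (Sec c.H c.s), F g = a * ♯c.H / 4 := by
  have := card_sec (K := c.H) c.c1_s c.CT_dp.sd (H13.Dih.odd_pcore _) c.four.V_pi
  rw [show ♯c.T = 4 from c.four.V_card] at this
  rw [sum_congr rfl fun g hg => h g (mem_FF.1 hg), sum_const, ← this, nsmul_eq_mul]
  push_cast
  field_simp

theorem c1_dip [Fintype G] (f f' : G → ℂ) :
    c.dip f f' = (♯c.H : ℂ)⁻¹ * ∑ g ∈ FF fun g => c.t ∈ zpowers g, f g * conj (f' g) := rfl

end QC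

theorem QC.inner_eq_dip [Fintype G] (c : QC G) {f f' : G → ℂ} (hf : IsClassFunction G f)
    (hf' : IsClassFunction G f') (ho : ∀ g, Odd (orderOf g) → f' g = 0) :
    classInner f f' = c.dip f f' := by
  classical
  have h := sum_ti (K := ⊤) (N := c.H) le_top (A := fun g => c.t ∈ zpowers g)
    (fun a ha k _ => ⟨c.ti ha, c.D_conj ha⟩) (F := fun g => f g * conj (f' g)) fun a _ k _ => by rw [hf, hf']
  have h1 : (♯c.H : ℂ) ≠ 0 := by exact_mod_cast (card_pos _).ne'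
  have h2 : (Nat.card G : ℂ) ≠ 0 := by exact_mod_cast Nat.card_pos.ne'
  rw [sum_FF, card_top, sum_congr rfl (g := fun g => f g * conj (f' g)) fun g _ => ?_] at h
  · rw [classInner, c.c1_dip]
    field_simp
    linear_combination h
  · split_ifs with e
    · rfl
    · rw [ho g (by_contra fun o => e ((c.exists_D o).imp fun _ h => ⟨trivial, h⟩)), map_zero, mul_zero]

theorem QC.inner_H_eq_dip [Fintype G] (c : QC G) [Fintype c.H] {f f' : G → ℂ}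
    (ho : ∀ g ∈ c.H, c.t ∉ zpowers g → f' g = 0) :
    classInner (fun h : c.H => f h) (fun h : c.H => f' h) = c.dip f f' := by
  rw [classInner, c.c1_dip, ← sum_subtype (FS c.H) (fun _ => mem_FS) fun g => f g * conj (f' g)]
  congr 1
  exact (sum_subset (fun g hg => mem_FS.2 (c.mem_H_of (by simpa using hg))) fun g hg e => by
    rw [ho g (mem_FS.1 hg) fun o => e (mem_FF.2 o), map_zero, mul_zero]).symm

namespace Mod
variable [Finite G] {c : QC G} (M : Mod c) {g x y : G} {j : ℕ} {μ : M.Γ →* ℂˣ} {f f' : G → ℂ}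
  {d d' : Dat}

theorem Qe_mod : M.Qe % 4 = 3 := by
  have := M.four_dvd_n
  have := M.N.hn
  rcases M.N.hε with e | e <;> rw [Qe, e] <;> omega

theorem c1_ε : M.N.ε * M.N.ε = 1 := by rcases M.N.hε with e | e <;> simp [e]

theorem Qe_sq : M.Qe ^ 2 = (M.N.q : ℤ) ^ 2 := by rw [Qe]; linear_combination (M.N.q : ℤ) ^ 2 * M.c1_ε

theorem Qe_add : ∃ r : ℤ, Odd r ∧ M.Qe + 1 = 2 ^ (c.a - 1) * r := by
  obtain ⟨n', h1, h2⟩ := M.hn
  have h3 := M.N.hn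
  rw [h2] at h3
  push_cast at h3
  refine ⟨M.N.ε * n', Odd.mul (by rcases M.N.hε with e | e <;> simp [e]) (by exact_mod_cast h1), ?_⟩
  rw [Qe]
  linear_combination (-M.N.ε) * h3 - M.c1_ε

theorem St_one : M.St 1 = M.Qe := by
  let := M.E.act
  rw [St, ap_one, MulAction.fixedBy_one_eq_univ, Nat.card_univ, Qe, M.hq,
    show Nat.card (OnePoint M.F) = Nat.card M.F + 1 from Finite.card_option]
  simp

theorem St_congr (h : ap M.κ x = ap M.κ y) : M.St x = M.St y := by rw [St, St, h]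

theorem St_conj (hg : g ∈ c.H) (hx : x ∈ c.H) : M.St (x * g * x⁻¹) = M.St g := by
  let := M.E.act
  rw [St, St, ap_conj _ hx hg, ← MulAction.smul_fixedBy, Set.natCard_smul_set]

theorem St_inv (g : G) : M.St g⁻¹ = M.St g := by
  let := M.E.act
  by_cases h : g ∈ c.H
  · rw [St, St, ap_inv _ h, MulAction.fixedBy_inv]
  · exact M.St_congr (by rw [ap, ap, dif_neg h, dif_neg (mt inv_mem_iff.1 h)])

theorem c1_tor {ω z : PGL(2, M.F)} (h1 : ω * ω = 1 ∧ ω ≠ 1) (hz : z ∈ H16.tor (H16.PLine M.F) ω) (h : z ≠ 1) :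
    Nat.card (@MulAction.fixedBy _ _ _ M.E.act (M.E.ι z)) + ♯(H16.tor (H16.PLine M.F) ω) = M.N.q + 1 := by
  rw [M.E.fixedBy_ι, M.hq, ← (H0.WM.card_fix M.h2 h1.1 h1.2).1, add_comm]
  congr 3
  ext x
  rw [MulAction.mem_fixedBy, MulAction.mem_fixedBy, ← H0.WM.rat_fix, ← H0.WM.rat_fix,
    H0.WM.LA.fix_iff (H16.inv_pow_ne M.h2 h1.1 h1.2) hz h]

theorem c1_St {w : G} (hw : w ∈ c.H) (h2 : PiElt {2} w) (hy : y ∈ c.H) (hc : y ∈ C{w}) (ho : Odd (orderOf y))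
    (h : Nat.card (@MulAction.fixedBy _ _ _ M.E.act (ap M.κ w)) ≤ 2) : M.St (w * y) = M.St w := by
  let := M.E.act
  rw [St, St, ap_mul _ hw hy, fixedBy_mul (h2.ap _ hw) (odd_ap _ hy ho)
    (by rw [← ap_mul _ hw hy, ← mem_C1.1 hc, ap_mul _ hy hw]) h]

theorem St_Th (h : ap M.κ y ∈ M.Th) (h1 : ap M.κ y ≠ 1) : M.St y = 1 := by
  obtain ⟨z, hz, e⟩ := M.pg_Th.le h
  have := M.c1_tor M.pe_inv hz fun o => h1 (by rw [← e, o, map_one])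
  rw [M.pg_num.1, e] at this
  have h2 := M.N.hm
  rw [St, show (Nat.card (@MulAction.fixedBy _ _ _ M.E.act (ap M.κ y)) : ℤ) = 1 + M.N.ε by omega]
  linear_combination M.c1_ε

theorem St_s (hy : y ∈ c.R) : M.St (c.s * y) = 1 := by
  obtain ⟨h1, h2⟩ := c.mem_R.1 hy
  rw [M.c1_St c.pg_s c.c1_s h1.1 h1.2 h2 (M.card_fix_e.trans_le (by rcases M.N.hε with e | e <;> simp [e])),
    M.St_Th M.pg_e_Th (ne_one_of M.four_eσ.ht)]

theorem St_om (hj : ¬ 2 ^ (c.a - 1) ∣ j) (hy : y ∈ C{c.ω ^ j}) (ho : Odd (orderOf y)) :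
    M.St (c.ω ^ j * y) = -1 := by
  have k : ∀ j, ¬ 2 ^ (c.a - 1) ∣ j → ap M.κ (c.ω ^ j) ≠ 1 := fun j hj e => by
    rcases M.b2_two (c.c1_ωH j) e (c.c1_ω j) with e | e
    · exact hj ((c1_dvd _).trans (c.ord_ω ▸ orderOf_dvd_of_pow_eq_one e))
    · rw [QC.t, pow_eq_pow_iff_modEq, c.ord_ω] at e
      exact hj ((e.dvd_iff (c1_dvd _)).2 dvd_rfl)
  obtain ⟨z, e⟩ := M.pg_w
  have hz : z ∈ H16.tor (H16.PLine M.F) M.pσ := by_contra fun n => k 2 (fun o => by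
      have := Nat.le_of_dvd two_pos o
      have := Nat.pow_le_pow_right two_pos (show 2 ≤ c.a - 1 by have := c.ha; omega)
      omega) (by
    rw [ap_pow _ c.pg_ω, ← e, sq, ← map_mul, H0.WM.LA.tor_sq (H16.inv_pow_ne M.h2 M.pσ_inv.1 M.pσ_inv.2)
      (M.E.ι_inj (by rw [map_mul, map_mul, e, M.ι_pσ, M.pg_σ]; group)) n, map_one])
  have e' : M.E.ι (z ^ j) = ap M.κ (c.ω ^ j) := by rw [map_pow, e, ap_pow _ c.pg_ω]
  have := M.c1_tor M.pσ_inv (pow_mem hz j) fun o => k j hj (by rw [← e', o, map_one])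
  rw [M.pg_num.2.1, e'] at this
  have h2 := M.N.hn
  rw [M.c1_St (c.c1_ωH j) (c.c1_ω j) (c.c1_C hj hy) hy ho (by have := M.N.hε; omega), St,
    show (Nat.card (@MulAction.fixedBy _ _ _ M.E.act (ap M.κ (c.ω ^ j))) : ℤ) = 1 - M.N.ε by omega]
  linear_combination -M.c1_ε

theorem St_root {X : Subgroup M.Γ} (hX : M.Root X) (h : ap M.κ y ∈ X) (h1 : ap M.κ y ≠ 1) :
    M.St y = 0 := by
  obtain ⟨a, rfl⟩ := hX.eq_pU
  obtain ⟨z, hz, e⟩ := h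
  rw [St, ← e, M.E.fixedBy_ι, show MulAction.fixedBy (OnePoint M.F) z = {a} from Set.ext fun b =>
    ⟨H0.WM.Ux_fix hz fun o => h1 (by rw [← e, o, map_one]), fun o => o ▸ (H0.WM.mem_Ux.1 hz).1⟩]
  simp

theorem cj_St (g x : G) : (M.cj g).St (g * x * g⁻¹) = M.St x := by
  rw [St, M.cj_κ, show g⁻¹ * (g * x * g⁻¹) * g = x by group]; rfl

theorem c1_pow (z : M.Γ) : z ^ M.L0.index ∈ M.L0 := haveI := M.L0_nml; M.L0.pow_index_mem z

theorem sgn_mul (hx : x ∈ c.H) (hy : y ∈ c.H) : M.sgn (x * y) = M.sgn x * M.sgn y := by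
  have := M.L_nml
  rw [sgn, sgn, sgn, ap_mul _ hx hy]
  generalize ap M.κ x = a, ap M.κ y = b
  have h1 : (a * b) ^ M.L0.index ∈ M.L ↔ a ^ M.L0.index * b ^ M.L0.index ∈ M.L := by
    rw [← QuotientGroup.eq_one_iff, ← QuotientGroup.eq_one_iff, QuotientGroup.mk_pow, QuotientGroup.mk_mul,
      QuotientGroup.mk_mul, QuotientGroup.mk_pow, QuotientGroup.mk_pow, Commute.mul_pow]
    exact QuotientGroup.eq.2 (by simpa [commutatorElement_def, mul_assoc] using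
      (M.comm_le_L ⊤ ⊤ (commutator_mem_commutator (mem_top b⁻¹) (mem_top a⁻¹))))
  by_cases ha : a ^ M.L0.index ∈ M.L <;> by_cases hb : b ^ M.L0.index ∈ M.L
  · simp [h1, ha, hb, mul_mem]
  · simp [h1, ha, hb, mul_mem_cancel_left]
  · simp [h1, ha, hb, mul_mem_cancel_right]
  · simp [h1, ha, hb, M.pg_mul (M.c1_pow a) (M.c1_pow b)]

theorem sgn_odd (ho : Odd (orderOf y)) : M.sgn y = 1 := by
  refine if_pos (M.odd_mem_L (M.c1_pow _) (odd_of_mem_zpowers ?_ (pow_mem (mem_zpowers _) _)))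
  by_cases h : y ∈ c.H
  · exact odd_ap _ h ho
  · simp [ap, h]

theorem sgn_Lt (hy : y ∈ M.Lt) : M.sgn y = 1 := if_pos (pow_mem (M.mem_Lt.1 hy).2 _)

theorem c1_sgn (hx : ap M.κ x ∈ M.L0) (h : ap M.κ x ∉ M.L) : M.sgn x = -1 := if_neg fun e => h (by
  obtain ⟨k, hk⟩ := M.odd_index
  rwa [hk, pow_succ, pow_mul, sq, mul_mem_cancel_left (pow_mem (M.pg_sq hx) k)] at e)

theorem sgn_s : M.sgn c.s = -1 := M.c1_sgn M.e_mem M.e_not

theorem sgn_ω : M.sgn c.ω = -1 := M.c1_sgn M.pg_w fun h => c.co_one ((c.co_Q.r_mem 1).1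
  (c.co_ω ▸ M.S_inf_Lt.le ⟨c.ω_mem_S, M.mem_Lt.2 ⟨c.pg_ω, h⟩⟩))

variable {M}

theorem Sp.ext (h : M.Sp μ f d) (h' : M.Sp μ f' d) (hg : c.t ∈ zpowers g) : f g = f' g := by
  obtain ⟨k, hk, ⟨y, hy, ho, e⟩ | ⟨j, h1, h2, y, hy, ho, e⟩⟩ := c.D_cases hg <;>
    rw [← h.cls g hg k hk, ← h'.cls g hg k hk, e]
  · rw [h.cen y hy ho, h'.cen y hy ho]
  · rw [h.om j h1 h2 y hy ho, h'.om j h1 h2 y hy ho]

theorem Sp.of_eq (h : M.Sp μ f d) (e : ∀ g, c.t ∈ zpowers g → f' g = f g) : M.Sp μ f' d :=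
  ⟨fun g hg k hk => by rw [e g hg, e _ (c.D_conj hg hk), h.cls g hg k hk],
    fun y hy ho => by rw [e _ (c.D_cen hy ho), h.cen y hy ho],
    fun j h1 h2 y hy ho => by rw [e _ (c.D_om h2 hy ho).1, h.om j h1 h2 y hy ho]⟩

theorem Sp.congr (h : M.Sp μ f d) (h1 : d.1 = d'.1)
    (h2 : ∀ j ∈ (range (2 ^ c.a)).erase 0, d.2 j = d'.2 j) : M.Sp μ f d' :=
  ⟨h.cls, fun y hy ho => by rw [h.cen y hy ho, h1, h2 _ (half_mem c.ha)], fun j j1 j2 y hy ho => by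
    rw [h.om j j1 j2 y hy ho, h2 j (mem_of_mem_erase ((mem_JJ c.ha).2 ⟨j1, j2⟩))]⟩

theorem Sp.zero : M.Sp μ 0 0 := ⟨fun _ _ _ _ => rfl, fun _ _ _ => by simp, fun _ _ _ _ _ _ => by simp⟩

theorem Sp.add (h : M.Sp μ f d) (h' : M.Sp μ f' d') : M.Sp μ (f + f') (d + d') :=
  ⟨fun g hg k hk => by simp [h.cls g hg k hk, h'.cls g hg k hk],
    fun y hy ho => by simp [h.cen y hy ho, h'.cen y hy ho]; ring,
    fun j h1 h2 y hy ho => by simp [h.om j h1 h2 y hy ho, h'.om j h1 h2 y hy ho]; ring⟩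

theorem Sp.smul (h : M.Sp μ f d) (a : ℂ) : M.Sp μ (a • f) (a • d) :=
  ⟨fun g hg k hk => by simp [h.cls g hg k hk], fun y hy ho => by simp [h.cen y hy ho]; ring,
    fun j h1 h2 y hy ho => by simp [h.om j h1 h2 y hy ho]; ring⟩

theorem Sp.neg (h : M.Sp μ f d) : M.Sp μ (-f) (-d) := by simpa using h.smul (-1)

theorem Sp.sub (h : M.Sp μ f d) (h' : M.Sp μ f' d') : M.Sp μ (f - f') (d - d') := by
  simpa [sub_eq_add_neg] using h.add h'.neg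

theorem c1_μ (hμ : M.L0 ≤ μ.ker) (hx : x ∈ c.S) (hy : y ∈ c.H) : μ (ap M.κ (x * y)) = μ (ap M.κ y) := by
  rw [ap_mul _ (c.S_le_H hx) hy, map_mul, hμ (M.S_in x hx), one_mul]

theorem Sp.tw (h : M.Sp 1 f d) (hμ : M.L0 ≤ μ.ker) :
    M.Sp μ (fun g => μ (ap M.κ g) * f g) d :=
  ⟨fun g hg k hk => by
    simp only [h.cls g hg k hk, ap_conj _ hk (c.mem_H_of hg), map_mul, map_inv, mul_inv_cancel_comm],
    fun y hy ho => by simp [h.cen y hy ho, c1_μ hμ (c.Q_le_S c.t_mem_Q) hy],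
    fun j h1 h2 y hy ho => by simp [h.om j h1 h2 y hy ho, c1_μ hμ (pow_mem c.ω_mem_S j) (c.c1_C h2 hy)]⟩

theorem Sp.c1_ω (h : M.Sp μ f d) (hj : j ∈ JJ c.a) : f (c.ω ^ j) = d.2 j := by
  simpa using h.om j ((mem_JJ c.ha).1 hj).1 ((mem_JJ c.ha).1 hj).2 1 (one_mem _) (by simp)

theorem Sp.symm (h : M.Sp μ f d) (hj : j < 2 ^ c.a) :
    d.2 (j * (2 ^ (c.a - 1) - 1) % 2 ^ c.a) = d.2 j := by
  by_cases e : 2 ^ (c.a - 1) ∣ j
  · have h3 := pow_injOn_Iio_orderOf (x := c.ω)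
    rw [c.ord_ω] at h3
    rw [h3 (Nat.mod_lt _ (by positivity)) hj ((c.c1_rel j).symm.trans ?_)]
    rcases c1_half c.ha hj e with rfl | rfl
    · simp
    · exact mem_C1_iff_conj.1 c.pg_s
  · rw [← h.c1_ω ((mem_JJ c.ha).2 ⟨hj, e⟩), ← h.c1_ω ((mem_JJ c.ha).2
      ⟨Nat.mod_lt _ (by positivity), (c1_τ c.ha).not.2 e⟩), ← c.c1_rel,
      h.cls _ (c.c1_t_mem fun o => e ((c1_dvd _).trans o)) _ c.pg_s]

theorem Sp.t_val (h : M.Sp μ f d) :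
    f c.t = d.1 * (1 + M.Qe) + d.2 (2 ^ (c.a - 1)) * (1 - M.Qe) / 2 := by
  simpa [M.St_one] using h.cen 1 (one_mem _) (by simp)

theorem Sp.mul_U (h : M.Sp μ f d) (hg : c.t ∈ zpowers g) (hx : x ∈ c.U) : f (g * x) = f g := by
  obtain ⟨k, hk, ⟨y, hy, ho, e⟩ | ⟨j, h1, h2, y, hy, ho, e⟩⟩ := c.D_cases hg <;>
    rw [← h.cls g hg k hk, ← h.cls _ (c.D_mul_U hg hx) k hk, ← conj_mul, e] <;>
    have h3 := conj_mem (c.U_nml.norm hk) hx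
  · have h4 : ap M.κ (y * (k * x * k⁻¹)) = ap M.κ y := by rw [ap_mul _ hy (c.U_le_H h3), M.κ_U h3, mul_one]
    rw [mul_assoc c.t, h.cen _ (mul_mem hy (c.U_le_H h3)) (c.c1_odd_U hy ho h3), h.cen y hy ho, h4,
      M.St_congr h4]
  · obtain ⟨o, ho1, y', hy', ho', e'⟩ := c.c1_om_U h2 hy ho h3
    have h4 := congrArg (ap M.κ) e'
    have h5 := c.c1_C h2 hy
    have h6 := c.c1_C h2 hy'
    rw [ap_mul _ (mul_mem (c.c1_ωH j) h5) (c.U_le_H h3), ap_conj _ (c.U_le_H ho1) (mul_mem (c.c1_ωH j) h6),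
      M.κ_U h3, M.κ_U ho1, ap_mul _ (c.c1_ωH j) h5, ap_mul _ (c.c1_ωH j) h6] at h4
    rw [e', h.cls _ (c.D_om h2 hy' ho').1 o (c.U_le_H ho1), h.om j h1 h2 y hy ho, h.om j h1 h2 y' hy' ho',
      show ap M.κ y = ap M.κ y' by simpa using h4]

theorem Sp.star (h : M.Sp 1 f d) : M.Sp 1 (fun g => conj (f g)) (conj d.1, fun j => conj (d.2 j)) :=
  ⟨fun g hg k hk => by simp [h.cls g hg k hk], fun y hy ho => by simp [h.cen y hy ho, map_ofNat],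
    fun j h1 h2 y hy ho => by simp [h.om j h1 h2 y hy ho]⟩

end Mod

theorem c1_unit {Γ : Type} [Group Γ] [Finite Γ] (μ : Γ →* ℂˣ) (z : Γ) : (μ z : ℂ) * conj (μ z : ℂ) = 1 := by
  rw [Complex.mul_conj, Complex.normSq_eq_norm_sq, Complex.norm_eq_one_of_pow_eq_one (n := orderOf z)
    (by rw [← Units.val_pow_eq_pow_val, ← map_pow, pow_orderOf_eq_one, map_one, Units.val_one]) (orderOf_pos z).ne']
  simp

theorem Mod.c1_sum [Fintype G] {c : QC G} (M : Mod c) (P : ℤ → ℂ) : ∑ g ∈ FS c.H, P (M.St g) =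
    2 * ∑ y ∈ FF fun y => y ∈ c.H ∧ Odd (orderOf y), P (M.St y) +
      (1 - (2 ^ (c.a - 1))⁻¹) / 2 * P (-1) * ♯c.H + P 1 * ♯c.H / 4 := by
  have h1 := c.c1_count fun g => P (M.St g)
  rw [sum_congr (rfl : FF (fun y => y ∈ c.H ∧ Odd (orderOf y)) = _) (g := fun y => P (M.St y)) fun y hy => by
      rw [M.St_congr (y := y) (by rw [ap_mul _ c.pg_tH (mem_FF.1 hy).1, M.κ_t, one_mul])],
    sum_congr rfl fun j hj => c.c1_sum_ω hj (a := P (-1)) fun g ⟨h, hh, y, hy, ho, e⟩ => by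
      rw [← M.St_conj (Sec.mem ⟨h, hh, y, hy, ho, e⟩ (c.c1_ωH j)) hh, e,
        M.St_om ((mem_JJ c.ha).1 hj).2 hy.2 ho], sum_const, nsmul_eq_mul, card_JJ c.ha] at h1
  rw [c.c1_count_H, c.c1_sum_s (a := P 1) fun g ⟨h, hh, y, hy, ho, e⟩ => by
    rw [← M.St_conj (Sec.mem ⟨h, hh, y, hy, ho, e⟩ c.pg_s) hh, e, M.St_s (c.mem_R.2 ⟨hy, ho⟩)]]
  have : (2 : ℂ) ^ (c.a - 1) ≠ 0 := pow_ne_zero _ two_ne_zero
  field_simp at h1 ⊢
  linear_combination 4 * h1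

attribute [local instance] H0.WM.gaMul in
theorem Mod.c1_fix [Fintype G] {c : QC G} (M : Mod c) :
    ∑ g ∈ FS c.H, (M.St g : ℂ) = 0 ∧ ∑ g ∈ FS c.H, (M.St g : ℂ) ^ 2 = ♯c.H := by
  classical
  have : Nontrivial (OnePoint M.F) := ⟨_, _, OnePoint.infty_ne_coe 0⟩
  let : MulAction c.H (OnePoint M.F) := MulAction.compHom _ (M.E.j.comp M.κ)
  obtain ⟨h1, h2⟩ := sum_fix (X := c.H) (Ω := OnePoint M.F) fun x y x' y' h h' => by
    obtain ⟨g, e⟩ := H0.WM.two_trans h h'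
    obtain ⟨k, hk⟩ := M.surj (M.E.ι g)
    refine ⟨k, ?_⟩
    change M.E.j (M.κ k) • x = x' ∧ M.E.j (M.κ k) • y = y'
    rwa [hk, M.pg_smul, M.pg_smul]
  have h3 : ∀ g : c.H, (M.St g : ℂ) = M.N.ε * (Nat.card (MulAction.fixedBy (OnePoint M.F) g) - 1) := fun g => by
    rw [St, ap_coe]; push_cast; rfl
  have h4 : (M.N.ε : ℂ) ^ 2 = 1 := by rw [sq]; exact_mod_cast M.c1_ε
  rw [sum_subtype (F := inferInstance) (FS c.H) (p := (· ∈ c.H)) (fun _ => mem_FS),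
    sum_subtype (F := inferInstance) (FS c.H) (p := (· ∈ c.H)) (fun _ => mem_FS)]
  simp only [h3, mul_pow, h4, one_mul, ← mul_sum, h1, h2, mul_zero, and_self]

theorem Mod.Sp.dip [Fintype G] {c : QC G} {M : Mod c} {μ : M.Γ →* ℂˣ} {f f' : G → ℂ} {d d' : Dat}
    (h : M.Sp μ f d) (h' : M.Sp μ f' d') (hμ : M.L0 ≤ μ.ker) : c.dip f f' = bf c.a d d' := by
  have h1 := c.c1_count fun g => f g * conj (f' g)
  have a0 := M.c1_sum fun _ => 1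
  have a1 := M.c1_sum fun n => n
  have a2 := M.c1_sum fun n => (n : ℂ) ^ 2
  rw [M.c1_fix.1] at a1
  rw [M.c1_fix.2] at a2
  rw [sum_const, card_FS] at a0
  set φ := d.2 (2 ^ (c.a - 1)) with hφ
  set φ' := d'.2 (2 ^ (c.a - 1)) with hφ'
  rw [sum_congr (rfl : FF (fun y => y ∈ c.H ∧ Odd (orderOf y)) = _) (g := fun y => (d.1 + φ / 2) * (conj d'.1 + conj φ' / 2) * 1 +
      (2 * d.1 * conj d'.1 - φ * conj φ' / 2) * M.St y + (d.1 - φ / 2) * (conj d'.1 - conj φ' / 2) * M.St y ^ 2)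
    fun y hy => by
      rw [h.cen y (mem_FF.1 hy).1 (mem_FF.1 hy).2, h'.cen y (mem_FF.1 hy).1 (mem_FF.1 hy).2]
      simp only [map_mul, map_add, map_sub, map_div₀, map_one, map_intCast, map_ofNat]
      linear_combination ((d.1 + φ / 2) * (conj d'.1 + conj φ' / 2) * 1 +
        (2 * d.1 * conj d'.1 - φ * conj φ' / 2) * M.St y +
          (d.1 - φ / 2) * (conj d'.1 - conj φ' / 2) * M.St y ^ 2) * c1_unit μ (ap M.κ y),
    sum_congr rfl fun j hj => c.c1_sum_ω hj (a := d.2 j * conj (d'.2 j)) fun g ⟨k, hk, y, hy, ho, e⟩ => by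
      obtain ⟨j1, j2⟩ := (mem_JJ c.ha).1 hj
      have := c.c1_Dω hj ⟨k, hk, y, hy, ho, e⟩
      rw [← h.cls g this k hk, ← h'.cls g this k hk, e, h.om j j1 j2 y hy.2 ho, h'.om j j1 j2 y hy.2 ho, map_mul]
      linear_combination d.2 j * conj (d'.2 j) * c1_unit μ (ap M.κ y),
    sum_add_distrib, sum_add_distrib, ← mul_sum, ← mul_sum, ← mul_sum, ← sum_div, ← sum_mul] at h1
  rw [c.c1_dip, bf, ← add_sum_erase _ _ (half_mem c.ha), ← hφ, ← hφ', ← JJ]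
  have h2 : (♯c.H : ℂ) ≠ 0 := by exact_mod_cast (card_pos _).ne'
  have : (2 : ℂ) ^ (c.a - 1) ≠ 0 := pow_ne_zero _ two_ne_zero
  rw [inv_mul_eq_iff_eq_mul₀ h2, mul_inv, div_eq_mul_inv _ (2 * _), mul_inv] at *
  simp only [nsmul_eq_mul] at *
  push_cast at *
  linear_combination h1 / 2 - (d.1 + φ / 2) * (conj d'.1 + conj φ' / 2) / 2 * a0 -
    (2 * d.1 * conj d'.1 - φ * conj φ' / 2) / 2 * a1 - (d.1 - φ / 2) * (conj d'.1 - conj φ' / 2) / 2 * a2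

/-- sum over the Sylow 2-subgroup -/
theorem Mod.Sp.sum_S [Finite G] {c : QC G} {M : Mod c} {μ : M.Γ →* ℂˣ} {f : G → ℂ} {d : Dat}
    (h : M.Sp μ f d) (hf : IsGeneralizedCharacter G f) : ∃ k : ℤ,
    f 1 + (1 + 2 ^ (c.a - 1)) * f c.t + ∑ j ∈ ((range (2 ^ c.a)).erase 0).erase (2 ^ (c.a - 1)), d.2 j +
      2 ^ (c.a - 1) * d.2 (2 ^ (c.a - 2)) = 2 ^ (c.a + 1) * k := by
  classical
  have := Fintype.ofFinite G
  obtain ⟨k, hk⟩ := (hf.restrict c.S).inner_int H4.isGen_one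
  refine ⟨k, ?_⟩
  have i := pow_injOn_Iio_orderOf (x := c.ω)
  rw [c.ord_ω] at i
  have h1 : FS c.S = (range (2 ^ c.a)).image (c.ω ^ ·) ∪ (range (2 ^ c.a)).image (c.ω ^ · * c.s) := by
    ext x
    simp only [mem_FS, mem_union, mem_image, mem_range]
    refine ⟨fun hx => ?_, ?_⟩
    · obtain ⟨j, hj, e | e⟩ := c.c1_S hx
      exacts [Or.inl ⟨j, hj, e.symm⟩, Or.inr ⟨j, hj, e.symm⟩]
    · rintro (⟨j, -, rfl⟩ | ⟨j, -, rfl⟩)
      exacts [pow_mem c.ω_mem_S j, mul_mem (pow_mem c.ω_mem_S j) c.s_mem_S]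
  have h2 : ∀ n, ∑ j ∈ range (2 * n), f (c.ω ^ j * c.s) = n * (f c.t + d.2 (2 ^ (c.a - 2))) := fun n => by
    induction n with
    | zero => simp
    | succ n ih =>
      obtain ⟨⟨x, -, e⟩, y, -, e'⟩ := c.conj_ωs n
      rw [mul_add, mul_one, sum_range_succ, sum_range_succ, ih, ← hf.classFun (_ * c.s) y, e',
        ← hf.classFun (_ * c.s) x, e,
        ← c.rot_ρ.1, hf.classFun, QC.i, h.c1_ω ((mem_JJ c.ha).2 ⟨Nat.pow_lt_pow_right one_lt_two (by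
          have := c.ha; omega), fun o => by
          have := (Nat.pow_dvd_pow_iff_le_right one_lt_two).1 o
          have := c.ha; omega⟩)]
      push_cast; ring
  simp only [classInner, map_one, mul_one] at hk
  rw [← sum_subtype (FS c.S) (fun _ => mem_FS) f, inv_mul_eq_iff_eq_mul₀ (by exact_mod_cast (card_pos _).ne'), h1,
    sum_union (disjoint_left.2 fun x h1 h2 => by
      obtain ⟨j, -, rfl⟩ := mem_image.1 h1
      obtain ⟨l, -, e⟩ := mem_image.1 h2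
      exact c.s_not ((mul_mem_cancel_left (pow_mem (mem_zpowers c.ω) l)).1 (e ▸ pow_mem (mem_zpowers c.ω) j))),
    sum_image fun a ha b hb e => i (mem_range.1 ha) (mem_range.1 hb) e,
    sum_image fun a ha b hb e => i (mem_range.1 ha) (mem_range.1 hb) (mul_right_cancel e),
    ← add_sum_erase _ _ (mem_range.2 (show 0 < 2 ^ c.a by positivity)), ← add_sum_erase _ _ (half_mem c.ha),
    ← JJ, sum_congr rfl fun j hj => h.c1_ω hj, c1_two c.ha, h2, c.card_S, pow_zero, ← QC.t] at hk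
  push_cast at hk
  rw [← JJ]
  linear_combination hk

end H2.QD
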