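import Mathlib
import Cfsg.Prelude.Def_SolvableStructure
import Cfsg.Agent.H2.Frobenius
import Cfsg.Agent.H1.Coprime

/-!
# Carter subgroups
-/

set_option autoImplicit false

namespace H2

open Cfsg Subgroup
open scoped Pointwise

universe u

variable {G : Type*} [Group G]

theorem isNilpotent_of_mulEquiv_subgroup {G' : Type*} [Group G'] {H : Subgroup G}
    (h : Group.IsNilpotent H) {K : Subgroup G'} (e : H ≃* K) : Group.IsNilpotent K :=
  Group.nilpotent_of_mulEquiv e

/-- `C / (N ∩ C) ≃ C N / N`. -/
noncomputable def quotientSubgroupOfEquivMap (N C : Subgroup G) [N.Normal] :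
    (C ⧸ N.subgroupOf C) ≃* C.map (QuotientGroup.mk' N) :=
  (QuotientGroup.quotientMulEquivOfEq (by
    ext x
    simp [MonoidHom.mem_ker, mem_subgroupOf, Subtype.ext_iff])).trans
    (QuotientGroup.quotientKerEquivOfSurjective ((QuotientGroup.mk' N).subgroupMap C)
      (MonoidHom.subgroupMap_surjective _ _))

theorem isNilpotent_conj {H : Subgroup G} (h : Group.IsNilpotent H) (g : G) :
    Group.IsNilpotent (MulAut.conj g • H : Subgroup G) := isNilpotent_map h _

/-- in a finite nilpotent group, `O_p` and `O_{p'}` generate. -/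
theorem pCore_sup_pPrimeCore_of_isNilpotent [Finite G] [h : Group.IsNilpotent G] (p : ℕ)
    [Fact p.Prime] : pCore p G ⊔ pPrimeCore p G = ⊤ :=
  top_le_iff.mp (fitting_eq_top_iff.mpr h ▸ fitting_le_pCore_sup_pPrimeCore p)

/-- in a finite nilpotent group every `p'`-subgroup lies in `O_{p'}`. -/
theorem le_pPrimeCore_of_isNilpotent [Finite G] [Group.IsNilpotent G] {p : ℕ} {H : Subgroup G}
    (hH : (Nat.card H).Coprime p) : H ≤ pPrimeCore p G :=
  le_pPrimeCore_of_isSubnormal (isSubnormal_of_isNilpotent H) hH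

theorem le_pCore_of_isNilpotent [Finite G] [Group.IsNilpotent G] {p : ℕ} {H : Subgroup G}
    (hH : IsPGroup p H) : H ≤ pCore p G :=
  le_pCore_of_isSubnormal (isSubnormal_of_isNilpotent H) hH

theorem isPGroup_quotient_pPrimeCore_of_isNilpotent [Finite G] [Group.IsNilpotent G] (p : ℕ)
    [Fact p.Prime] : IsPGroup p (G ⧸ pPrimeCore p G) := by
  have h := (pCore_isPGroup p G).map (QuotientGroup.mk' (pPrimeCore p G))
  have h2 : (pCore p G).map (QuotientGroup.mk' (pPrimeCore p G)) = ⊤ := by
    apply comap_injective (QuotientGroup.mk'_surjective _)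
    rw [comap_map_mk', pCore_sup_pPrimeCore_of_isNilpotent, comap_top]
  rw [h2] at h
  exact h.of_equiv topEquiv

/-- if `G / A` and `G / B` are nilpotent and `A ⊓ B = ⊥` then `G` is nilpotent. -/
theorem isNilpotent_of_quotients {A B : Subgroup G} [A.Normal] [B.Normal] (h : A ⊓ B = ⊥)
    (hA : Group.IsNilpotent (G ⧸ A)) (hB : Group.IsNilpotent (G ⧸ B)) : Group.IsNilpotent G := by
  let f : G →* (G ⧸ A) × (G ⧸ B) := (QuotientGroup.mk' A).prod (QuotientGroup.mk' B)
  have hf : Function.Injective f := by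
    rw [← MonoidHom.ker_eq_bot_iff, MonoidHom.ker_prod, QuotientGroup.ker_mk',
      QuotientGroup.ker_mk', h]
  exact Group.nilpotent_of_mulEquiv (MonoidHom.ofInjective hf).symm

theorem eq_top_of_isNilpotent_of_normalizer_eq [Group.IsNilpotent G] {C : Subgroup G}
    (h : normalizer (C : Set G) = C) : C = ⊤ :=
  normalizerCondition_iff_only_full_group_self_normalizing.mp
    Group.normalizerCondition_of_isNilpotent C h

/-- Key step: `N` a normal `p`-subgroup with `G / N` nilpotent. Then there is a `p'`-subgroup `Q`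
with `N_G(Q)` nilpotent, and self-normalizing, and `N N_G(Q) = G`. -/
theorem exists_carter_of_quotient_nilpotent [Finite G] {p : ℕ} [Fact p.Prime] {N : Subgroup G}
    [N.Normal] (hN : IsPGroup p N) (h : Group.IsNilpotent (G ⧸ N)) :
    ∃ C : Subgroup G, Group.IsNilpotent C ∧ normalizer (C : Set G) = C ∧ N ⊔ C = ⊤ := by
  set L := (pPrimeCore p (G ⧸ N)).comap (QuotientGroup.mk' N) with hL
  have hNL : N ≤ L := le_comap_mk' N _
  have hidx : (N.relIndex L).Coprime p := by
    rw [relIndex_eq_card_map_mk', map_comap_mk']; exact pPrimeCore_coprime p _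
  obtain ⟨Q', hQ'⟩ := exists_right_complement'_of_coprime (N := N.subgroupOf L)
    (H1.card_coprime_of_isPGroup hN.comap_subtype hidx).symm
  set Q := Q'.map L.subtype
  have hQc : (Nat.card Q).Coprime p := by
    rw [card_map_subtype, ← hQ'.symm.index_eq_card]; exact hidx
  have hNQ : N ⊔ Q = L := by
    have := congrArg (map L.subtype) hQ'.sup_eq_top
    rwa [Subgroup.map_sup, subgroupOf_map_subtype, inf_eq_left.mpr hNL, ← MonoidHom.range_eq_map,
      range_subtype] at this
  have hQL : Q ≤ L := map_subtype_le _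
  set C := normalizer (Q : Set G)
  have hsup : N ⊔ C = ⊤ := by
    rw [eq_top_iff]
    intro g _
    obtain ⟨n, hn, e⟩ := H1.exists_conj_eq_of_le_sup N Q (MulAut.conj g • Q) le_normalizer_of_normal
      le_normalizer_of_normal (H1.card_coprime_of_isPGroup hN (by rwa [card_conj_smul]))
      (Or.inr (H1.solvable_of_isPGroup hN))
      (hNQ ▸ H1.conj_smul_le_of_mem_normalizer hQL (by simp [normalizer_eq_top]))
      (card_conj_smul g Q).ge
    have : n⁻¹ * g ∈ C := by
      rw [← H1.conj_smul_eq_iff_mem_normalizer, H1.conj_mul_smul, ← e, ← H1.conj_mul_smul]; simp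
    simpa using mul_mem (mem_sup_left hn : n ∈ N ⊔ C) (mem_sup_right this)
  have hQC : Q ≤ C := le_normalizer
  have hQn : (Q.subgroupOf C).Normal := inferInstance
  have hpq : IsPGroup p (C ⧸ Q.subgroupOf C) := by
    obtain ⟨a, ha⟩ := IsPGroup.iff_card.mp hN
    obtain ⟨b, hb⟩ := IsPGroup.iff_card.mp (isPGroup_quotient_pPrimeCore_of_isNilpotent (G := G ⧸ N) p)
    refine IsPGroup.of_card_dvd_pow (n := a + b) ?_
    refine (relIndex_dvd_index_of_le hQC).trans (dvd_of_eq ?_)
    rw [← relIndex_mul_index hQL, pow_add, ← ha, ← hb, hL,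
      index_comap_of_surjective _ (QuotientGroup.mk'_surjective N), ← hL, relIndex,
      ← card_subgroupOf_of_le hNL, ← hQ'.index_eq_card, subgroupOf, comap_map_eq_self_of_injective
        L.subtype_injective]
    rfl
  have hCn : Group.IsNilpotent C := by
    refine isNilpotent_of_quotients (A := N.subgroupOf C) (B := Q.subgroupOf C) ?_ ?_
      hpq.isNilpotent
    · rw [subgroupOf, subgroupOf, ← comap_inf, IsPGroup.eq_bot_of_coprime (H := N ⊓ Q) hN.to_inf_left
        (hQc.coprime_dvd_left (card_dvd_of_le inf_le_right)), ← subgroupOf, bot_subgroupOf]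
    · exact Group.nilpotent_of_mulEquiv (quotientSubgroupOfEquivMap N C).symm
  refine ⟨C, hCn, le_antisymm ?_ le_normalizer, hsup⟩
  have h1 : Q.subgroupOf C = pPrimeCore p C := by
    refine le_antisymm (le_pPrimeCore hQn (by rwa [card_subgroupOf_of_le hQC])) ?_
    obtain ⟨b, hb⟩ := IsPGroup.iff_card.mp hpq
    exact le_of_card_coprime_index (by
      rw [index_eq_card, hb]; exact (pPrimeCore_coprime p C).pow_right b)
  have h2 := H1.le_normalizer_map_subtype (A := normalizer (C : Set G)) le_rfl (pPrimeCore p C)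
  rwa [← h1, subgroupOf_map_subtype, inf_eq_left.mpr hQC] at h2

theorem IsCarterSubgroup.conj {C : Subgroup G} (h : IsCarterSubgroup C) (g : G) :
    IsCarterSubgroup (MulAut.conj g • C) :=
  ⟨isNilpotent_conj h.1 g, by rw [H1.normalizer_conj_smul, h.2]⟩

theorem IsCarterSubgroup.subgroupOf {C H : Subgroup G} (h : IsCarterSubgroup C) (hle : C ≤ H) :
    IsCarterSubgroup (C.subgroupOf H) :=
  ⟨isNilpotent_subgroupOf h.1 H, by rw [← subgroupOf_normalizer_eq hle, h.2]⟩

theorem exists_carter_aux (n : ℕ) : ∀ (G : Type u) [Group G] [Finite G] [Group.IsSolvable G],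
    Nat.card G = n → ∃ C : Subgroup G, IsCarterSubgroup C := by
  induction n using Nat.strong_induction_on with
  | _ n ih =>
    intro G _ _ _ hn
    subst hn
    rcases subsingleton_or_nontrivial G with _ | _
    · exact ⟨⊤, inferInstance, Subsingleton.elim _ _⟩
    obtain ⟨N, hN⟩ := exists_isMinNormal G
    obtain ⟨p, hp, hP⟩ := hN.exists_isPGroup inferInstance
    have := hN.1
    have : Fact p.Prime := ⟨hp⟩
    obtain ⟨D, hD⟩ := ih _ (card_quotient_lt hN.2.1) (G ⧸ N) rfl
    set H := D.comap (QuotientGroup.mk' N)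
    have hNH : N ≤ H := le_comap_mk' N D
    have hHH : normalizer (H : Set G) = H := by
      rw [← comap_normalizer_eq_of_surjective D (QuotientGroup.mk'_surjective N), hD.2]
    obtain ⟨C, h1, h2, h3⟩ := exists_carter_of_quotient_nilpotent (N := N.subgroupOf H)
      hP.comap_subtype (by
        have : Group.IsNilpotent (H.map (QuotientGroup.mk' N)) := by
          rw [map_comap_mk']; exact hD.1
        exact Group.nilpotent_of_mulEquiv (quotientSubgroupOfEquivMap N H).symm)
    refine ⟨C.map H.subtype, isNilpotent_map h1 _, le_antisymm ?_ le_normalizer⟩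
    have h4 : C.map H.subtype ⊔ N = H := by
      have := congrArg (map H.subtype) h3
      rwa [Subgroup.map_sup, subgroupOf_map_subtype, inf_eq_left.mpr hNH, ← MonoidHom.range_eq_map,
        range_subtype, sup_comm] at this
    intro g hg
    have h5 : g ∈ H := by
      rw [← hHH, ← h4]; exact normalizer_le_normalizer_sup_normal hg
    refine ⟨⟨g, h5⟩, ?_, rfl⟩
    rw [← h2, ← comap_map_eq_self_of_injective H.subtype_injective C, ← subgroupOf,
      ← subgroupOf_normalizer_eq (map_subtype_le C)]
    exact hg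

theorem exists_carter (G : Type*) [Group G] [Finite G] [Group.IsSolvable G] :
    ∃ C : Subgroup G, IsCarterSubgroup C := exists_carter_aux _ G rfl

theorem carter_conj_of_le {H : Subgroup G}
    (hH : ∀ C D : Subgroup H, IsCarterSubgroup C → IsCarterSubgroup D →
      ∃ g : H, MulAut.conj g • C = D)
    {C D : Subgroup G} (hC : IsCarterSubgroup C) (hD : IsCarterSubgroup D) (hCH : C ≤ H)
    (hDH : D ≤ H) : ∃ g ∈ H, MulAut.conj g • C = D := by
  obtain ⟨g, hg⟩ := hH _ _ (IsCarterSubgroup.subgroupOf hC hCH) (IsCarterSubgroup.subgroupOf hD hDH)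
  rw [conj_smul_subgroupOf hCH] at hg
  refine ⟨g, g.2, ?_⟩
  rw [← map_subgroupOf_eq_of_le hDH, ← hg, map_subgroupOf_eq_of_le (conj_smul_le_of_le hCH g)]

theorem carter_normalizer_eq_of_conj {C H : Subgroup G} (hC : IsCarterSubgroup C) (hCH : C ≤ H)
    (hH : H = ⊤ ∨ ∀ C D : Subgroup H, IsCarterSubgroup C → IsCarterSubgroup D →
      ∃ g : H, MulAut.conj g • C = D) : normalizer (H : Set G) = H := by
  rcases hH with rfl | hH
  · exact normalizer_eq_top _
  refine le_antisymm (fun g hg => ?_) le_normalizer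
  obtain ⟨h, hh, e⟩ := carter_conj_of_le hH hC (IsCarterSubgroup.conj hC g) hCH
    (H1.conj_smul_le_of_mem_normalizer hCH hg)
  have : h⁻¹ * g ∈ C := by
    rw [← hC.2, ← H1.conj_smul_eq_iff_mem_normalizer, H1.conj_mul_smul, ← e, ← H1.conj_mul_smul]
    simp
  simpa using mul_mem hh (hCH this)

theorem carter_map_of_normalizer_eq {C N : Subgroup G} [N.Normal] (hC : Group.IsNilpotent C)
    (h : normalizer ((C ⊔ N : Subgroup G) : Set G) = C ⊔ N) :
    IsCarterSubgroup (C.map (QuotientGroup.mk' N)) := by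
  refine ⟨isNilpotent_map hC _, comap_injective (QuotientGroup.mk'_surjective N) ?_⟩
  rw [comap_normalizer_eq_of_surjective _ (QuotientGroup.mk'_surjective N), comap_map_mk', h]

/-- a subgroup `M` with `M N = G`, `N` abelian minimal normal, contains `N` or meets it trivially -/
theorem IsMinNormal.inf_eq_bot_or_le {N M : Subgroup G} (hN : IsMinNormal N) [IsMulCommutative N]
    (h : M ⊔ N = ⊤) : M ⊓ N = ⊥ ∨ N ≤ M := by
  have := hN.1
  refine (hN.2.2 (M ⊓ N) ?_ inf_le_right).imp_right inf_eq_right.mp
  rw [← normalizer_eq_top_iff, eq_top_iff, ← h]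
  exact sup_le (H1.le_normalizer_inf le_normalizer le_normalizer_of_normal)
    (((le_centralizer N).trans (centralizer_anti inf_le_right)).trans (centralizer_le_normalizer _))

/-- a proper supplement to an abelian minimal normal subgroup is maximal -/
theorem IsMinNormal.isCoatom_of_sup_eq_top {N M : Subgroup G} (hN : IsMinNormal N)
    [IsMulCommutative N] (h : M ⊔ N = ⊤) (hM : M ≠ ⊤) : IsCoatom M := by
  have := hN.1
  refine ⟨hM, fun K hK => ?_⟩
  have hK' : K ⊔ N = ⊤ := top_le_iff.mp (h ▸ sup_le_sup_right hK.le N)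
  rcases hN.inf_eq_bot_or_le hK' with h1 | h1
  · exfalso
    have := sup_inf_assoc_of_le_normalizer (B := N) hK.le (Or.inr le_normalizer_of_normal)
    rw [h, top_inf_eq, inf_comm, h1, sup_bot_eq] at this
    exact hK.ne this.symm
  · rwa [sup_eq_left.mpr h1] at hK'

theorem carter_conj_aux (n : ℕ) : ∀ (G : Type u) [Group G] [Finite G] [Group.IsSolvable G],
    Nat.card G = n → ∀ C D : Subgroup G, IsCarterSubgroup C → IsCarterSubgroup D →
      ∃ g : G, MulAut.conj g • C = D := by
  induction n using Nat.strong_induction_on with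
  | _ n ih =>
    intro G _ _ _ hn C D hC hD
    subst hn
    by_cases hnil : Group.IsNilpotent G
    · exact ⟨1, by rw [eq_top_of_isNilpotent_of_normalizer_eq hC.2,
        eq_top_of_isNilpotent_of_normalizer_eq hD.2, map_one, one_smul]⟩
    have : Nontrivial G := by
      by_contra h
      have := not_nontrivial_iff_subsingleton.mp h
      exact hnil inferInstance
    obtain ⟨N, hN⟩ := exists_isMinNormal G
    obtain ⟨p, hp, hP⟩ := hN.exists_isPGroup inferInstance
    have := hN.1
    have := hN.isMulCommutative inferInstance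
    have : Fact p.Prime := ⟨hp⟩
    have ihH : ∀ H : Subgroup G, H = ⊤ ∨ ∀ C D : Subgroup H, IsCarterSubgroup C →
        IsCarterSubgroup D → ∃ g : H, MulAut.conj g • C = D := fun H =>
      or_iff_not_imp_left.mpr fun h => ih _ (card_lt_of_ne_top h) H rfl
    have hmap : ∀ C : Subgroup G, IsCarterSubgroup C →
        IsCarterSubgroup (C.map (QuotientGroup.mk' N)) := fun C hC =>
      carter_map_of_normalizer_eq hC.1 (carter_normalizer_eq_of_conj hC le_sup_left (ihH _))
    obtain ⟨g, hg⟩ := ih _ (card_quotient_lt hN.2.1) (G ⧸ N) rfl _ _ (hmap C hC) (hmap D hD)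
    obtain ⟨g, rfl⟩ := QuotientGroup.mk'_surjective N g
    suffices h : ∀ C : Subgroup G, IsCarterSubgroup C → C ⊔ N = D ⊔ N →
        ∃ g : G, MulAut.conj g • C = D by
      obtain ⟨x, hx⟩ := h _ (IsCarterSubgroup.conj hC g) (by
        rw [← comap_map_mk', ← comap_map_mk', ← hg]
        congr 1
        exact (map_map _ _ _).trans ((congrArg (fun f => C.map f) (by ext; simp)).trans
          (map_map C (MulAut.conj (QuotientGroup.mk' N g) : G ⧸ N →* G ⧸ N)
            (QuotientGroup.mk' N)).symm))
      exact ⟨x * g, by rw [H1.conj_mul_smul, hx]⟩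
    clear hg g hC C
    intro C hC hCD
    rcases ihH (D ⊔ N) with htop | hH
    swap
    · exact (carter_conj_of_le hH hC hD (hCD ▸ le_sup_left) le_sup_left).imp fun _ h => h.2
    rw [htop] at hCD
    have hq : Group.IsNilpotent (G ⧸ N) := by
      have := (hmap D hD).1
      rw [← map_comap_mk' N (D.map _), comap_map_mk', htop,
        map_top_of_surjective _ (QuotientGroup.mk'_surjective N)] at this
      exact Group.isNilpotent_top.mp this
    set L := (pPrimeCore p (G ⧸ N)).comap (QuotientGroup.mk' N) with hL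
    have hNL : N ≤ L := le_comap_mk' N _
    have key : ∀ C : Subgroup G, IsCarterSubgroup C → C ⊔ N = ⊤ →
        N ⊔ C ⊓ L = L ∧ (Nat.card ↥(C ⊓ L)).Coprime p ∧
          Nat.card N * Nat.card ↥(C ⊓ L) = Nat.card L ∧
          normalizer ((C ⊓ L : Subgroup G) : Set G) = C := by
      intro C hC htop
      have hCt : C ≠ ⊤ := fun e => hnil (Group.isNilpotent_top.mp (e ▸ hC.1))
      have hCN : C ⊓ N = ⊥ := (hN.inf_eq_bot_or_le htop).resolve_right
        fun h => hCt (by rwa [sup_eq_left.mpr h] at htop)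
      have h1 : N ⊔ C ⊓ L = L := by
        rw [← sup_inf_assoc_of_le_normalizer hNL (Or.inl le_normalizer_of_normal), sup_comm, htop,
          top_inf_eq]
      have hd : N ⊓ (C ⊓ L) = ⊥ := by rw [← inf_assoc, inf_comm N, hCN, bot_inf_eq]
      have h2 : Nat.card N * Nat.card ↥(C ⊓ L) = Nat.card L := by
        rw [mul_comm, ← card_sup_of_disjoint le_normalizer_of_normal (inf_comm N _ ▸ hd), sup_comm, h1]
      have h3 : (Nat.card ↥(C ⊓ L)).Coprime p := by
        rw [hL, card_comap_mk'] at h2
        rw [Nat.eq_of_mul_eq_mul_left Nat.card_pos h2]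
        exact pPrimeCore_coprime p _
      refine ⟨h1, h3, h2, ?_⟩
      refine ((hN.isCoatom_of_sup_eq_top htop hCt).le_iff.mp
        (H1.le_normalizer_inf le_normalizer le_normalizer_of_normal)).resolve_left fun h => hnil ?_
      have := normalizer_eq_top_iff.mp h
      refine isNilpotent_of_quotients hd hq (IsPGroup.isNilpotent (p := p) ?_)
      obtain ⟨a, ha⟩ := IsPGroup.iff_card.mp hP
      obtain ⟨b, hb⟩ := IsPGroup.iff_card.mp
        (isPGroup_quotient_pPrimeCore_of_isNilpotent (G := G ⧸ N) p)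
      refine IsPGroup.of_card (n := a + b) ?_
      have h4 : L.index = p ^ b := by
        rw [hL, index_comap_of_surjective _ (QuotientGroup.mk'_surjective N), ← hb]; rfl
      have h5 := (C ⊓ L).card_mul_index.trans L.card_mul_index.symm
      rw [← h2, h4, ha, mul_comm (p ^ a), mul_assoc] at h5
      rw [pow_add]
      exact Nat.eq_of_mul_eq_mul_left Nat.card_pos h5
    obtain ⟨h1, h2, h3, h4⟩ := key C hC hCD
    obtain ⟨k1, k2, k3, k4⟩ := key D hD htop
    obtain ⟨x, -, hx⟩ := H1.exists_conj_eq_of_le_sup N (C ⊓ L) (D ⊓ L) le_normalizer_of_normal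
      le_normalizer_of_normal (H1.card_coprime_of_isPGroup hP k2)
      (Or.inr (H1.solvable_of_isPGroup hP)) (h1.symm ▸ inf_le_right)
      (Nat.eq_of_mul_eq_mul_left Nat.card_pos (h3.trans k3.symm)).le
    exact ⟨x, by rw [← h4, ← H1.normalizer_conj_smul, hx, k4]⟩

theorem carter_conj [Finite G] [Group.IsSolvable G] {C D : Subgroup G} (hC : IsCarterSubgroup C)
    (hD : IsCarterSubgroup D) : ∃ g : G, MulAut.conj g • C = D :=
  carter_conj_aux _ G rfl C D hC hD

/-- every subgroup containing a Carter subgroup is self-normalizing -/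
theorem IsCarterSubgroup.normalizer_eq_of_le [Finite G] [Group.IsSolvable G] {C H : Subgroup G}
    (hC : IsCarterSubgroup C) (hCH : C ≤ H) : normalizer (H : Set G) = H :=
  carter_normalizer_eq_of_conj hC hCH (Or.inr fun _ _ => carter_conj)

theorem IsCarterSubgroup.map_mk' [Finite G] [Group.IsSolvable G] {C : Subgroup G}
    (hC : IsCarterSubgroup C) (N : Subgroup G) [N.Normal] :
    IsCarterSubgroup (C.map (QuotientGroup.mk' N)) :=
  carter_map_of_normalizer_eq hC.1 (IsCarterSubgroup.normalizer_eq_of_le hC le_sup_left)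

end H2
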