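import Mathlib
import Cfsg.Agent.H2.Frobenius

/-!
# Schmidt's theorem: a finite group whose maximal subgroups are nilpotent is solvable
-/

set_option autoImplicit false

namespace H2

open Cfsg Subgroup
open scoped Pointwise

universe u

variable {G : Type*} [Group G]

theorem exists_coatom_ge [Finite G] {H : Subgroup G} (h : H ≠ ⊤) :
    ∃ M : Subgroup G, IsCoatom M ∧ H ≤ M :=
  (eq_top_or_exists_le_coatom H).resolve_left h

theorem IsCoatom.conj {M : Subgroup G} (hM : IsCoatom M) (g : G) :
    IsCoatom (MulAut.conj g • M) :=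
  isCoatom_map_of_ker_le (f := (MulAut.conj g : G →* G)) (MulAut.conj g).surjective hM
    (by rw [(MonoidHom.ker_eq_bot_iff _).mpr (MulAut.conj g).injective]; exact bot_le)

/-- induction principle for solvability: it is enough to treat simple groups. -/
theorem isSolvable_induction (P : ∀ (G : Type u) [Group G], Prop)
    (hsub : ∀ (G : Type u) [Group G] [Finite G] (N : Subgroup G) [N.Normal], P G → N ≠ ⊤ →
      P N ∨ Group.IsSolvable N)
    (hquo : ∀ (G : Type u) [Group G] [Finite G] (N : Subgroup G) [N.Normal], P G → N ≠ ⊥ →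
      P (G ⧸ N) ∨ Group.IsSolvable (G ⧸ N))
    (hsimple : ∀ (G : Type u) [Group G] [Finite G] [IsSimpleGroup G], P G → Group.IsSolvable G)
    (G : Type u) [Group G] [Finite G] (hG : P G) : Group.IsSolvable G := by
  induction hn : Nat.card G using Nat.strong_induction_on generalizing G with
  | _ n ih =>
    subst hn
    rcases subsingleton_or_nontrivial G with _ | _
    · infer_instance
    by_cases hs : ∀ N : Subgroup G, N.Normal → N = ⊥ ∨ N = ⊤
    · have : IsSimpleGroup G := ⟨hs⟩
      exact hsimple G hG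
    push Not at hs
    obtain ⟨N, hN, h1, h2⟩ := hs
    exact isSolvable_of_normal_quotient N
      ((hsub G N hG h2).elim (fun h => ih _ (card_lt_of_ne_top h2) N h rfl) id)
      ((hquo G N hG h1).elim (fun h => ih _ (card_quotient_lt h1) (G ⧸ N) h rfl) id)

theorem normalizer_ne_top_of_isSimpleGroup [IsSimpleGroup G] {H : Subgroup G} (h1 : H ≠ ⊥)
    (h2 : H ≠ ⊤) : normalizer (H : Set G) ≠ ⊤ := fun h =>
  ((normalizer_eq_top_iff.mp h).eq_bot_or_eq_top).elim h1 h2

theorem coatom_inf_eq_bot_of_nilpotent [Finite G] [IsSimpleGroup G]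
    (h : ∀ M : Subgroup G, IsCoatom M → Group.IsNilpotent M) (D : Subgroup G) :
    ∀ M N : Subgroup G, IsCoatom M → IsCoatom N → D ≤ M → D ≤ N → D ≠ ⊥ → M = N := by
  induction D using WellFoundedGT.induction with
  | ind D ih =>
    intro M N hM hN hDM hDN hD
    obtain ⟨L, hL, hle⟩ := exists_coatom_ge (normalizer_ne_top_of_isSimpleGroup hD
      (fun e => hM.1 (top_le_iff.mp (e ▸ hDM))))
    have key : ∀ M : Subgroup G, IsCoatom M → D ≤ M → M = L := fun M hM hDM => by
      rcases hDM.eq_or_lt with rfl | hlt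
      · exact (hM.le_iff.mp (le_normalizer.trans hle)).resolve_left hL.1 |>.symm
      · have h1 := lt_normalizer_inf_of_isNilpotent (h M hM) hlt
        exact ih _ h1 M L hM hL inf_le_right (inf_le_left.trans hle)
          fun e => hD (le_bot_iff.mp (e ▸ h1.le))
    rw [key M hM hDM, key N hN hDN]

theorem isSolvable_of_forall_coatom_isNilpotent (G : Type u) [Group G] [Finite G]
    (h : ∀ M : Subgroup G, IsCoatom M → Group.IsNilpotent M) : Group.IsSolvable G := by
  refine isSolvable_induction (fun G _ => ∀ M : Subgroup G, IsCoatom M → Group.IsNilpotent M)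
    ?_ ?_ ?_ G h
  · intro G _ _ N _ h hN
    obtain ⟨M, hM, hle⟩ := exists_coatom_ge hN
    have := isNilpotent_of_le (h M hM) hle
    exact Or.inr inferInstance
  · intro G _ _ N _ h _
    refine Or.inl fun M hM => ?_
    rw [← map_comap_mk' N M]
    exact isNilpotent_map (h _ (isCoatom_comap_of_surjective (QuotientGroup.mk'_surjective N) hM)) _
  intro G _ _ _ h
  by_contra hs
  have hz : ∀ y : G, zpowers y ≠ ⊤ := fun y hy => hs (by
    have : IsCyclic G := isCyclic_iff_exists_zpowers_eq_top.mpr ⟨y, hy⟩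
    exact isSolvable_of_isMulCommutative G)
  have hmal : ∀ M : Subgroup G, IsCoatom M → M ≠ ⊥ → Malnormal M := fun M hM hb g x hx hx1 hgx => by
    have h1 := coatom_inf_eq_bot_of_nilpotent h (zpowers x) M (MulAut.conj g⁻¹ • M) hM
      (IsCoatom.conj hM _) (zpowers_le.mpr hx) (zpowers_le.mpr (mem_conj_smul_iff.mpr (by simpa)))
      (by simpa using hx1)
    have h2 : g⁻¹ ∈ normalizer (M : Set G) := mem_normalizer_iff_map_conj_eq.mpr h1.symm
    rwa [(hM.le_iff.mp le_normalizer).resolve_left (normalizer_ne_top_of_isSimpleGroup hb hM.1),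
      inv_mem_iff] at h2
  obtain ⟨x, hx⟩ := exists_ne (1 : G)
  obtain ⟨M, hM, hxM⟩ := exists_coatom_ge (hz x)
  have hMb : M ≠ ⊥ := fun e => hx (by simpa [e] using hxM)
  have h1 : 1 < (frobeniusKernel M).ncard := by
    rw [(hmal M hM hMb).ncard_kernel]; exact one_lt_index_of_ne_top hM.1
  obtain ⟨y, hy, hy1⟩ := Set.exists_ne_of_one_lt_ncard h1 1
  obtain ⟨N, hN, hyN⟩ := exists_coatom_ge (hz y)
  have hNb : N ≠ ⊥ := fun e => hy1 (by simpa [e] using hyN)
  obtain ⟨z, hz1, hz2⟩ := (hmal M hM hMb).exists_not_mem_kernel (hmal N hN hNb) hMb hNb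
  obtain ⟨hz1, u, hu⟩ := not_mem_frobeniusKernel.mp hz1
  obtain ⟨-, v, hv⟩ := not_mem_frobeniusKernel.mp hz2
  have h2 := coatom_inf_eq_bot_of_nilpotent h (zpowers z) _ _ (IsCoatom.conj hM u)
    (IsCoatom.conj hN v) (zpowers_le.mpr (mem_conj_smul_iff.mpr hu))
    (zpowers_le.mpr (mem_conj_smul_iff.mpr hv)) (by simpa using hz1)
  have h3 : v * y * v⁻¹ ∈ MulAut.conj u • M := by
    rw [h2, mem_conj_smul_iff]; simpa [mul_assoc] using hyN
  refine (mem_frobeniusKernel.mp hy).resolve_left hy1 (v⁻¹ * u) ?_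
  convert mem_conj_smul_iff.mp h3 using 1; group

end H2
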