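import Mathlib
import Cfsg.Prelude.Def_Classical
import Cfsg.Prelude.Def_CaseTheorems
import Cfsg.Agent.H8.PC11
import Cfsg.Agent.H8.PCB
import Cfsg.Agent.H26.GMain
import Cfsg.Agent.H20.TB0

/-!
# Strongly closed `2`-subgroups of class two: vocabulary
-/

set_option autoImplicit false

namespace H2.C2

open Cfsg H24 H26 H26.Gold Subgroup
open scoped commutatorElement

universe u

variable {G : Type u} [Group G]

/-- `A` is a `2`-subgroup of `H`, strongly closed with respect to `H` in every `2`-subgroup of `H`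
containing it -/
structure SCl (H A : Subgroup G) : Prop where
  le : A ≤ H
  two : TwoG A
  max : ∀ P, TwoG P → A ≤ P → P ≤ H → ∀ a ∈ A, ∀ g ∈ H, g * a * g⁻¹ ∈ P → g * a * g⁻¹ ∈ A

/-- the `H`-conjugates of the elements of `A` -/
def hc (H A : Subgroup G) : Set G := {x | ∃ a ∈ A, ∃ g ∈ H, x = g * a * g⁻¹}

/-- `T` is a maximal `2`-subgroup of `L` consisting of `H`-conjugates of elements of `A` -/
structure Mx (H A L T : Subgroup G) : Prop where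
  le : T ≤ L
  two : TwoG T
  mem : ∀ x ∈ T, x ∈ hc H A
  max : ∀ P, TwoG P → T ≤ P → P ≤ L → ∀ x ∈ P, x ∈ hc H A → x ∈ T

/-- normal closure of `A` in `H` -/
def ncl (H A : Subgroup G) : Subgroup G := ⨆ g : H, cj (g : G) A

/-- `O²(H)` -/
def O2 (H : Subgroup G) : Subgroup G := closure {x | x ∈ H ∧ OddE x}

/-- class at most two -/
def Cl2 (A : Subgroup G) : Prop := ⁅A, A⁆ ≤ C[A]

/-- `Ω₁(Z(A))` -/
def Zo (A : Subgroup G) : Subgroup G := closure {x | x ∈ A ∧ x ∈ C[A] ∧ x * x = 1}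

/-- conjugation by `g` on `D` is a composition of moves from `𝓛` -/
inductive Mv (𝓛 : Set (Subgroup G × Subgroup G)) : Subgroup G → G → Prop
  | cent {D : Subgroup G} {c : G} : c ∈ C[D] → Mv 𝓛 D c
  | step {D Q K : Subgroup G} {k g : G} : (Q, K) ∈ 𝓛 → D ≤ Q → k ∈ K → Mv 𝓛 (cj k D) g →
      Mv 𝓛 D (g * k)

/-- the part of `N(Q)` coming from larger subgroups of `A` -/
def Gam (A Q : Subgroup G) : Subgroup G :=
  C[Q] ⊔ ⨆ R : {R : Subgroup G // Q < R ∧ R ≤ A}, N[Q] ⊓ N[R.1]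

/-- essential subgroups of `A` -/
structure Ess (A Q : Subgroup G) : Prop where
  lt : Q < A
  cent : A ⊓ C[Q] ≤ Q
  ne : ¬ N[Q] ≤ Gam A Q

/-- `V_Q` -/
def VV (A Q : Subgroup G) : Subgroup G := ncl N[Q] (Zo A)
/-- `K_Q` -/
def KK (A Q : Subgroup G) : Subgroup G := ncl N[Q] A
/-- `W_Q` -/
def WW (A Q : Subgroup G) : Subgroup G := ⁅VV A Q, O2 (KK A Q)⁆

/-- a matched pair of essential subgroups -/
structure Mt (A Q P : Subgroup G) : Prop where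
  l : Ess A Q
  r : Ess A P
  nc : ¬ VV A Q ≤ C[VV A P]

/-- `W / R` is a natural module for the group `SL₂(q)` generated by the `K`-conjugates of `X` -/
structure Half (K W X R : Subgroup G) (q : ℕ) : Prop where
  ea : EA W
  eaX : EA X
  leK : W ⊔ X ≤ K
  norm : K ≤ N[W]
  normR : K ≤ N[R]
  leR : R ≤ W ⊓ X
  two_le : 2 ≤ q
  idxW : (W ⊓ X).relIndex W = q
  idxX : (W ⊓ X).relIndex X = q
  idxR : R.relIndex (W ⊓ X) = q
  comm : ⁅W, X⁆ = W ⊓ X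
  nd : ∀ w ∈ W, ∀ x ∈ X, ⁅w, x⁆ ∈ R → w ∈ X ∨ x ∈ W
  fix : ∀ g ∈ K, cj g (W ⊓ X) = W ⊓ X → cj g X ≤ X ⊔ C[W]
  mov : ∀ g ∈ K, cj g (W ⊓ X) ≠ W ⊓ X →
    cj g (W ⊓ X) ⊓ (W ⊓ X) = R ∧ cj g (W ⊓ X) ⊔ (W ⊓ X) = W
  ex : ∃ g ∈ K, cj g (W ⊓ X) ≠ W ⊓ X

/-- coordinates of the natural module `W / R` -/
structure Crd (W X X' R : Subgroup G) (F : Type) [Field F] (θ : G → F × F) (α β : G → F) :
    Prop where
  add : ∀ v ∈ W, ∀ w ∈ W, θ (v * w) = θ v + θ w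
  ker : ∀ w ∈ W, θ w = 0 ↔ w ∈ R
  surj : ∀ u, ∃ w ∈ W, θ w = u
  act : ∀ x ∈ X, ∀ w ∈ W, θ (x * w * x⁻¹) = ((θ w).1 + α x * (θ w).2, (θ w).2)
  act' : ∀ x ∈ X', ∀ w ∈ W, θ (x * w * x⁻¹) = ((θ w).1, (θ w).2 + β x * (θ w).1)
  sα : ∀ t, ∃ x ∈ X, α x = t
  sβ : ∀ t, ∃ x ∈ X', β x = t

/-- the fusion pattern on a minimal strongly closed subgroup of class two -/
structure Fam (E : Subgroup G) where
  ι : Type u
  fin : Finite ι
  ne : Nonempty ι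
  W : ι → Bool → Subgroup G
  R : ι → Bool → Subgroup G
  J : ι → Bool → Subgroup G
  q : ι → ℕ
  scl : SCl ⊤ E
  sup : E = ⨆ i, (W i true ⊔ W i false)
  comm : ∀ i j, i ≠ j → W i true ⊔ W i false ≤ C[W j true ⊔ W j false]
  indep : ∀ i, (W i true ⊔ W i false) ⊓ (⨆ j ∈ ({i}ᶜ : Set ι), (W j true ⊔ W j false)) = ⊥
  half : ∀ i b, Half N[E ⊓ C[W i b]] (W i b) (W i (!b)) (R i b) (q i)
  halfJ : ∀ i b, Half (J i b) (W i b) (W i (!b)) (R i b) (q i)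
  JC : ∀ i b j, j ≠ i → J i b ≤ C[W j true ⊔ W j false]
  RR : ∀ i, R i true ⊓ R i false = ⊥
  perm : ∀ n ∈ N[E], ∀ i, ∃ j c, ∀ b, cj n (W i b) = W j (xor b c)
  mv : ∀ D g, D ≤ E → cj g D ≤ E →
    Mv ({(E, N[E])} ∪ {p | ∃ i b, p = (E ⊓ C[W i b], J i b)}) D g

attribute [instance] Fam.fin

namespace Fam

variable {E : Subgroup G} (F : Fam E)

/-- the factor `E_i` -/
def Ei (i : F.ι) : Subgroup G := F.W i true ⊔ F.W i false
/-- the centre of `E_i` -/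
def Y (i : F.ι) : Subgroup G := F.W i true ⊓ F.W i false
/-- `E_I` -/
def EI (I : Set F.ι) : Subgroup G := ⨆ j ∈ I, F.Ei j
/-- the support of an element of `E` -/
def supp (x : G) : Set F.ι := {i | x ∉ F.EI {i}ᶜ}
/-- the normal closure of `E_i` in the centraliser of the other factors -/
def Lam (i : F.ι) : Subgroup G := ncl C[F.EI {i}ᶜ] (F.Ei i)

/-- the components of `C(z) / O(C(z))` over the factors `E_i`, `i ≠ k` -/
structure Loc (k : F.ι) (z : G) {X : Type u} [Group X] (f : C{z} →* X) (L : F.ι → Subgroup X) :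
    Prop where
  mem : z ∈ F.Y k
  ne : z ≠ 1
  quo : H8.PC.Quo f Od[C{z}]
  comp : ∀ i, i ≠ k → IsComponent (L i)
  le : ∀ i, i ≠ k → img f (F.Ei i) ≤ L i
  cent : ∀ i, i ≠ k → ∀ j, j ≠ i → img f (F.Ei j) ≤ C[L i]

/-- every involution of some `Y k` has a `Loc` -/
def AllLoc : Prop := ∀ k, ∀ z ∈ F.Y k, z ≠ 1 →
  ∃ (X : Type u) (_ : Group X) (_ : Finite X) (f : C{z} →* X) (L : F.ι → Subgroup X), F.Loc k z f L

/-- a proper subgroup containing `N(E)` and the centralisers of the involutions of the `Y k` -/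
def Big (M : Subgroup G) : Prop := M ≠ ⊤ ∧ N[E] ≤ M ∧ ∀ k, ∀ z ∈ F.Y k, z ≠ 1 → C{z} ≤ M

end Fam

/-- noncentral involutions of a strongly closed subgroup of class two have abelian centralisers -/
def CI (X : Type u) [Group X] : Prop :=
  ∀ A : Subgroup X, SCl ⊤ A → Cl2 A → ∀ a ∈ A, a * a = 1 → A ≤ C{a} ∨ Abl (A ⊓ C{a})

/-- a strongly closed subgroup with one factor -/
structure Hl (W X R R' : Subgroup G) (q : ℕ) : Prop where
  scl : SCl ⊤ (W ⊔ X)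
  h : Half N[W] W X R q
  h' : Half N[X] X W R' q
  RR : R ⊓ R' = ⊥
  gen : ncl ⊤ (W ⊔ X) = ⊤

/-- the amalgam of type `L₃(q)` or `Sp₄(q)` -/
structure Amal (W X R R' : Subgroup G) (q : ℕ) : Prop where
  syl : Syl 2 ⊤ (W ⊔ X)
  h : Half N[W] W X R q
  h' : Half N[X] X W R' q
  RR : R ⊓ R' = ⊥
  typ : (R = ⊥ ∧ R' = ⊥) ∨ R ⊔ R' = W ⊓ X

/-- the elements of `a` central in every Sylow `2`-subgroup over `a` -/
def Rt (a : Subgroup G) : Subgroup G := a ⊓ ⨅ S ∈ {S : Subgroup G | Syl 2 ⊤ S ∧ a ≤ S}, C[S]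

/-- adjacent vertices of the geometry -/
structure Geo (q : ℕ) (a b : Subgroup G) : Prop where
  am : Amal a b (Rt a) (Rt b) q
  four : 4 ≤ q
  ca : C[a] ≤ a
  cb : C[b] ≤ b
  cza : ∀ z ∈ a ⊓ b, z ∉ Rt b → C{z} ≤ N[a]
  czb : ∀ z ∈ a ⊓ b, z ∉ Rt a → C{z} ≤ N[b]
  gen : N[a] ⊔ N[b] = ⊤

/-- a closed non-backtracking walk of length `n` in the geometry -/
structure Pg (n : ℤ) (q : ℕ) (v : ℤ → Subgroup G) : Prop where
  per : ∀ i, v (i + n) = v i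
  adj : ∀ i, Geo q (v i) (v (i + 1))
  nb : ∀ i, v (i + 2) ≠ v i

end H2.C2
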