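import Mathlib
import Cfsg.Prelude.Def_LieTypeChar
import Cfsg.Agent.H24.Base5
import Cfsg.Agent.H2.CDefs

/-!
# Standard subgroup `Sz(q)` with cyclic Sylow `2`-subgroups in its centraliser: vocabulary
-/

set_option autoImplicit false

namespace H2.SZ

open Cfsg H24 Subgroup

/-- The field `F` of order `2^(2m+1)` with its Tits automorphism `σ`. -/
structure FD (F : Type*) [Field F] [Fintype F] where
  m : ℕ
  hm : 1 ≤ m
  card : Fintype.card F = 2 ^ (2 * m + 1)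
  σ : F ≃+* F
  σ_eq : ∀ x, σ x = x ^ 2 ^ (m + 1)
  σσ : ∀ x, σ (σ x) = x ^ 2

namespace FD
variable {F : Type*} [Field F] [Fintype F] (K : FD F)

/-- the squaring map of the Sylow `2`-subgroup -/
def nm (x : F) : F := x * K.σ x
/-- its polarisation -/
def B (x y : F) : F := K.σ x * y + x * K.σ y
/-- the inverse of `σ` -/
def τ : F ≃+* F := K.σ.symm
/-- the square root -/
def rt : F ≃+* F := K.τ.trans K.τ

include K in
theorem two : (2 : F) = 0 := by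
  have := K.σσ 2
  rw [map_ofNat, map_ofNat] at this
  linear_combination -this
include K in
theorem add_self (x : F) : x + x = 0 := by linear_combination x * K.two
include K in
theorem eq_of_add {x y : F} (h : x + y = 0) : x = y := by linear_combination h - y * K.two
include K in
theorem charP : CharP F 2 := CharTwo.of_one_ne_zero_of_two_eq_zero one_ne_zero K.two
theorem σ_τ (x : F) : K.σ (K.τ x) = x := K.σ.apply_symm_apply x
theorem τ_σ (x : F) : K.τ (K.σ x) = x := K.σ.symm_apply_apply x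
theorem τ_sq (x : F) : K.τ (x ^ 2) = K.σ x := by rw [← K.σσ, K.τ_σ]
theorem rt_sq (x : F) : K.rt (x ^ 2) = x := by
  change K.τ (K.τ _) = _
  rw [K.τ_sq, K.τ_σ]
theorem sq_rt (x : F) : K.rt x ^ 2 = x := by rw [← map_pow, K.rt_sq]
theorem rt_mul_self (x : F) : K.rt (x * x) = x := by rw [← sq, K.rt_sq]
theorem nm_zero : K.nm 0 = 0 := by simp [nm]
theorem nm_one : K.nm 1 = 1 := by simp [nm]
theorem nm_mul (x y : F) : K.nm (x * y) = K.nm x * K.nm y := by simp only [nm, map_mul]; ring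
theorem nm_eq_zero {x : F} : K.nm x = 0 ↔ x = 0 := by simp [nm]
theorem nm_add (x y : F) : K.nm (x + y) = K.nm x + K.nm y + K.B x y := by
  simp only [nm, B, map_add]; ring
theorem nm_inj {x y : F} (h : K.nm x = K.nm y) : x = y := by
  by_cases hy : y = 0
  · rw [hy, K.nm_zero, K.nm_eq_zero] at h; rw [h, hy]
  have e := congrArg K.σ h
  simp only [nm, map_mul, K.σσ] at e h
  have hs : K.σ y ≠ 0 := by simpa using hy
  refine mul_right_cancel₀ (mul_ne_zero hy hs) ?_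
  linear_combination e - x * h
theorem nm_surj (y : F) : ∃ x, K.nm x = y :=
  Finite.injective_iff_surjective.1 (fun _ _ => K.nm_inj) y
theorem nm_ne {k : Fˣ} : K.nm k ≠ 0 := fun h => k.ne_zero (K.nm_eq_zero.1 h)
/-- the torus is transitive on the non-zero elements of the centre -/
theorem exists_nm {a b : F} (ha : a ≠ 0) (hb : b ≠ 0) : ∃ k : Fˣ, K.nm k * a = b := by
  obtain ⟨x, hx⟩ := K.nm_surj (b / a)
  exact ⟨Units.mk0 x fun e => div_ne_zero hb ha (by rw [← hx, e, K.nm_zero]), by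
    rw [Units.val_mk0, hx, div_mul_cancel₀ _ ha]⟩
theorem τ_nm (k : F) : K.τ (k * K.nm k) = K.nm k := by
  rw [nm, ← mul_assoc, ← sq, map_mul, K.τ_sq, K.τ_σ, mul_comm]
theorem B_comm (x y : F) : K.B x y = K.B y x := by simp only [B]; ring
theorem B_self (x : F) : K.B x x = 0 := by
  simp only [B]; linear_combination x * K.σ x * K.two
theorem B_zero_left (x : F) : K.B 0 x = 0 := by simp [B]
theorem B_zero_right (x : F) : K.B x 0 = 0 := by simp [B]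
theorem B_add_left (x y w : F) : K.B (x + y) w = K.B x w + K.B y w := by
  simp only [B, map_add]; ring
theorem B_add_right (x y w : F) : K.B w (x + y) = K.B w x + K.B w y := by
  simp only [B, map_add]; ring
theorem B_mul (k x y : F) : K.B (k * x) (k * y) = K.nm k * K.B x y := by
  simp only [B, nm, map_mul]; ring
theorem σ_fix {x : F} (h : K.σ x = x) : x = 0 ∨ x = 1 := by
  have := K.σσ x
  rw [h, h] at this
  rcases eq_or_ne x 0 with e | e
  · exact .inl e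
  · exact .inr (mul_left_cancel₀ e (by linear_combination -this))
theorem B_eq_zero {x y : F} (h : K.B x y = 0) : x = 0 ∨ y = 0 ∨ x = y := by
  by_cases hy : y = 0
  · exact .inr (.inl hy)
  have hs : K.σ y ≠ 0 := by simpa using hy
  rcases K.σ_fix (x := x / y) (by
    rw [map_div₀, div_eq_div_iff hs hy]; exact K.eq_of_add h) with e | e
  · exact .inl ((div_eq_zero_iff.1 e).resolve_right hy)
  · exact .inr (.inr ((div_eq_one_iff_eq hy).1 e))
include K in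
theorem eight_le : 8 ≤ Fintype.card F := by
  rw [K.card]
  exact Nat.pow_le_pow_right (n := 2) (i := 3) two_pos (by have := K.hm; omega)
include K in
theorem exists_ne (a b c : F) : ∃ x, x ≠ a ∧ x ≠ b ∧ x ≠ c := by
  classical
  by_contra h
  have : (Finset.univ : Finset F) ⊆ {a, b, c} := fun x _ => by
    by_contra hx
    exact h ⟨x, by simpa [not_or] using hx⟩
  have h1 := (Finset.card_le_card this).trans Finset.card_le_three
  have := K.eight_le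
  rw [Finset.card_univ] at h1
  omega
include K in
theorem exists_unit : ∃ k : Fˣ, k ≠ 1 := by
  obtain ⟨x, h0, h1, -⟩ := K.exists_ne 0 1 1
  exact ⟨Units.mk0 x h0, fun e => h1 (congrArg Units.val e)⟩
theorem nm_ne_one {k : Fˣ} (h : k ≠ 1) : K.nm k ≠ 1 := fun e =>
  h (Units.ext (K.nm_inj (e.trans K.nm_one.symm)))
theorem B_left {x : F} (h : ∀ y, K.B x y = 0) : x = 0 := by
  obtain ⟨y, h0, h1, -⟩ := K.exists_ne 0 x x
  rcases K.B_eq_zero (h y) with e | e | e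
  exacts [e, absurd e h0, absurd e.symm h1]

/-- The squaring map of `Q / Z`. -/
def qf (c1 c2 : F) (r : F × F × F) : F :=
  K.nm r.2.1 + (c1 + r.1) * r.2.2 + c2 * K.τ (r.2.1 * r.2.2)
/-- The commutator map of `Q / Z`. -/
def bf (c2 : F) (r s : F × F × F) : F :=
  K.B r.2.1 s.2.1 + r.1 * s.2.2 + s.1 * r.2.2 + c2 * K.τ (r.2.1 * s.2.2 + s.2.1 * r.2.2)

theorem qf_add (c1 c2 : F) (r s : F × F × F) :
    K.qf c1 c2 (r + s) = K.qf c1 c2 r + K.qf c1 c2 s + K.bf c2 r s := by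
  simp only [qf, bf, Prod.fst_add, Prod.snd_add, nm_add, add_mul, mul_add, map_add]
  ring
theorem bf_comm (c2 : F) (r s : F × F × F) : K.bf c2 r s = K.bf c2 s r := by
  simp only [bf, K.B_comm r.2.1, add_comm (r.2.1 * _)]; ring
include K in
theorem add_self3 (r : F × F × F) : r + r = 0 := by ext <;> simp [K.add_self]

end FD

/-- the first coordinate is `0` or `1` -/
def WD {F : Type*} [Field F] (r : F × F × F) : Prop := r.1 = 0 ∨ r.1 = 1

/-- an automorphism of the quadratic map `qf` -/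
structure Au {F : Type*} [Field F] [Fintype F] (K : FD F) (c1 c2 : F) (φ : F × F × F → F × F × F)
    (γ : F → F) : Prop where
  wd : ∀ r, WD r → WD (φ r)
  add : ∀ r s, WD r → WD s → φ (r + s) = φ r + φ s
  inj : ∀ r, WD r → φ r = 0 → r = 0
  γadd : ∀ a b, γ (a + b) = γ a + γ b
  γinj : ∀ a, γ a = 0 → a = 0
  q : ∀ r, WD r → K.qf c1 c2 (φ r) = γ (K.qf c1 c2 r)

variable {G : Type*} [Group G] {F : Type*} [Field F] [Fintype F] {K : FD F}

/-- Coordinates in a subgroup `L ≅ Sz(q)`, and all facts on `L` and `Aut(L)` that are used. -/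
structure SzD (K : FD F) (L : Subgroup G) where
  u : F → F → G
  h : Fˣ →* G
  u_mem : ∀ a b, u a b ∈ L
  h_mem : ∀ k, h k ∈ L
  u_mul : ∀ a b c d, u a b * u c d = u (a + c) (b + d + K.σ a * c)
  u_inj : ∀ {a b c d}, u a b = u c d → a = c ∧ b = d
  h_u : ∀ (k : Fˣ) a b, h k * u a b * (h k)⁻¹ = u (k * a) (K.nm k * b)
  card : ♯L = Fintype.card F ^ 2 * (Fintype.card F ^ 2 + 1) * (Fintype.card F - 1)
  simple : IsSimpleGroup L
  /-- `S` is a TI-subgroup of `L` with normaliser `SH`. -/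
  ti : ∀ g ∈ L, ∀ a b c d, u a b ≠ 1 → g * u a b * g⁻¹ = u c d → ∃ a' b' k, g = u a' b' * h k
  /-- an automorphism of `L` centralising `Z` is induced by `S`. -/
  autZ : ∀ g ∈ N[L], (∀ b, g * u 0 b = u 0 b * g) → ∃ a b, ∃ k ∈ C[L], g = u a b * k
  /-- `Out(L)` has odd order. -/
  aut2 : ∀ g ∈ N[L], PiElt {2} g → ∃ l ∈ L, ∃ k ∈ C[L], g = l * k
  /-- the abelian subgroups of odd order of `Sz(8)` -/
  tor : K.m = 1 → ∀ J ≤ L, Abl J → Odd ♯J → ♯J = 1 ∨ ♯J = 5 ∨ ♯J = 7 ∨ ♯J = 13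

namespace SzD
variable {L : Subgroup G} (X : SzD K L)

/-- the central elements of `S`. -/
def z (b : F) : G := X.u 0 b

theorem u_zero : X.u 0 0 = 1 := by
  have := X.u_mul 0 0 0 0
  simp only [add_zero, mul_zero] at this
  exact mul_left_cancel (this.trans (mul_one _).symm)

theorem u_inv (a b : F) : (X.u a b)⁻¹ = X.u a (b + K.nm a) := by
  rw [inv_eq_iff_mul_eq_one, X.u_mul, ← X.u_zero]
  congr 1
  · exact K.add_self a
  · rw [FD.nm]; linear_combination (b + a * K.σ a) * K.two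

theorem z_zero : X.z 0 = 1 := X.u_zero
theorem z_mul (a b : F) : X.z a * X.z b = X.z (a + b) := by simp [z, X.u_mul]
theorem z_sq (a : F) : X.z a * X.z a = 1 := by rw [X.z_mul, K.add_self, X.z_zero]
theorem z_inv (a : F) : (X.z a)⁻¹ = X.z a := inv_eq_of_mul_eq_one_right (X.z_sq a)
theorem z_inj {a b : F} (h : X.z a = X.z b) : a = b := (X.u_inj h).2
theorem z_eq_one {a : F} : X.z a = 1 ↔ a = 0 :=
  ⟨fun h => X.z_inj (h.trans X.z_zero.symm), fun h => h ▸ X.z_zero⟩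
theorem z1 : X.z 1 ≠ 1 := fun e => one_ne_zero (X.z_eq_one.1 e)
theorem u_sq (a b : F) : X.u a b * X.u a b = X.z (K.nm a) := by
  rw [X.u_mul, z]
  congr 1
  · exact K.add_self a
  · rw [FD.nm]; linear_combination b * K.two
theorem z_u (a b c : F) : X.z c * X.u a b = X.u a b * X.z c := by
  simp [z, X.u_mul, add_comm]
theorem u_z (a b c : F) : X.u a b * X.z c = X.u a (b + c) := by simp [z, X.u_mul]
theorem u_eq (a b : F) : X.u a b = X.u a 0 * X.z b := by rw [X.u_z, zero_add]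
theorem u_z_conj (a b c : F) : X.u a b * X.z c * (X.u a b)⁻¹ = X.z c := by
  rw [← X.z_u, mul_inv_cancel_right]
theorem u_conj (a b c d : F) : X.u a b * X.u c d * (X.u a b)⁻¹ = X.u c d * X.z (K.B a c) := by
  rw [mul_inv_eq_iff_eq_mul, X.u_z, X.u_mul, X.u_mul, add_comm a c]
  congr 1
  rw [FD.B]; linear_combination (- K.σ c * a) * K.two
theorem h_z (k : Fˣ) (b : F) : X.h k * X.z b * (X.h k)⁻¹ = X.z (K.nm k * b) := by simp [z, X.h_u]
theorem h_comm (k l : Fˣ) : X.h k * X.h l = X.h l * X.h k := by rw [← map_mul, mul_comm, map_mul]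

/-- the Sylow `2`-subgroup of `L`. -/
def S : Subgroup G where
  carrier := {g | ∃ a b, g = X.u a b}
  mul_mem' := by rintro _ _ ⟨a, b, rfl⟩ ⟨c, d, rfl⟩; exact ⟨_, _, X.u_mul ..⟩
  one_mem' := ⟨0, 0, X.u_zero.symm⟩
  inv_mem' := by rintro _ ⟨a, b, rfl⟩; exact ⟨_, _, X.u_inv ..⟩

/-- the centre of `S`. -/
def Z : Subgroup G where
  carrier := {g | ∃ b, g = X.z b}
  mul_mem' := by rintro _ _ ⟨a, rfl⟩ ⟨c, rfl⟩; exact ⟨_, X.z_mul ..⟩
  one_mem' := ⟨0, X.z_zero.symm⟩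
  inv_mem' := by rintro _ ⟨a, rfl⟩; exact ⟨_, X.z_inv _⟩

theorem mem_S {g : G} : g ∈ X.S ↔ ∃ a b, g = X.u a b := Iff.rfl
theorem mem_Z {g : G} : g ∈ X.Z ↔ ∃ b, g = X.z b := Iff.rfl
theorem u_mem_S (a b : F) : X.u a b ∈ X.S := ⟨a, b, rfl⟩
theorem z_mem_Z (b : F) : X.z b ∈ X.Z := ⟨b, rfl⟩
theorem z_mem (b : F) : X.z b ∈ L := X.u_mem 0 b
theorem Z_le_S : X.Z ≤ X.S := by rintro _ ⟨b, rfl⟩; exact ⟨0, b, rfl⟩
theorem S_le : X.S ≤ L := by rintro _ ⟨a, b, rfl⟩; exact X.u_mem a b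

/-- `T₀ = ⟨t⟩ × S` -/
def T (t : G) : Subgroup G := zpowers t ⊔ X.S

end SzD

/-- The situation after the reduction by S1347: `L` lies in the simple normal subgroup `G0` with
trivial centraliser, and `t` is an involution of `C(L)` whose centraliser normalises `L`. -/
structure St (L G0 : Subgroup G) (t : G) : Prop where
  nrm : G0.Normal
  simple : IsSimpleGroup G0
  le : L ≤ G0
  cent : C[G0] = ⊥
  t1 : t ≠ 1
  tt : t * t = 1
  tC : t ∈ C[L]
  Ct : ∀ g, g * t = t * g → g ∈ N[L]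

/-- `s` is conjugate to `t`. -/
def DD (t s : G) : Prop := ∃ g, s = g * t * g⁻¹

theorem DD.refl (t : G) : DD t t := ⟨1, by simp⟩
theorem DD.conj {t s : G} (h : DD t s) (g : G) : DD t (g * s * g⁻¹) := by
  obtain ⟨k, rfl⟩ := h
  exact ⟨g * k, by group⟩
theorem DD.of_conj {t s g : G} (h : DD t (g * s * g⁻¹)) : DD t s := by
  have := h.conj g⁻¹
  rwa [show g⁻¹ * (g * s * g⁻¹) * g⁻¹⁻¹ = s by group] at this

/-- the conclusion -/
def Goal (G0 : Subgroup G) (t : G) : Prop := IsLieTypeChar 2 G0 ∧ t ∉ G0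

/-- The local data: `C(L) ∩ C(t) = ⟨t⟩ × D` with `D` of odd order, and the conjugates of `t` in
`⟨t⟩ × Z` are the elements of `tZ`. -/
structure Lc {L : Subgroup G} (X : SzD K L) (G0 : Subgroup G) (t : G) (D : Subgroup G) : Prop
    extends St L G0 t where
  odd : IsPi {2}ᶜ D
  D_L : D ≤ C[L]
  D_t : D ≤ C{t}
  dec : ∀ k ∈ C[L], k * t = t * k → k ∈ D ∨ k * t ∈ D
  zn : ∀ b, ¬ DD t (X.z b)
  dd : ∀ b, DD t (t * X.z b)

/-- The group `Q` with `C(Z) ∩ N(⟨t⟩Z) = Q × D`, before coordinates are chosen. -/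
structure QZ {L : Subgroup G} (X : SzD K L) (t : G) (D Q : Subgroup G) (y : G → F) : Prop where
  T_le : X.T t ≤ Q
  zc : Q ≤ C[X.Z]
  Q_D : Q ≤ C[D]
  h_N : ∀ k, X.h k ∈ N[Q]
  spec : ∀ q ∈ Q, q * t * q⁻¹ = t * X.z (y q)
  onto : ∀ b, ∃ q ∈ Q, y q = b
  ker : ∀ q ∈ Q, y q = 0 → q ∈ X.T t
  sq : ∀ q ∈ Q, q * q ∈ X.Z
  CQ : ∀ g ∈ C[X.Z], ∀ b, g * t * g⁻¹ = t * X.z b → ∃ q ∈ Q, ∃ d ∈ D, g = q * d

/-- The group `Q` with `C(Z) ∩ N(⟨t⟩Z) = Q × D`, with coordinates `π : Q → Q / Z`. -/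
structure QD {L : Subgroup G} (X : SzD K L) (t : G) (D : Subgroup G) where
  Q : Subgroup G
  c1 : F
  c2 : F
  π : G → F × F × F
  t_mem : t ∈ Q
  S_le : X.S ≤ Q
  π_t : π t = (1, 0, 0)
  π_u : ∀ a b, π (X.u a b) = (0, a, 0)
  π_mul : ∀ g ∈ Q, ∀ h ∈ Q, π (g * h) = π g + π h
  π_ker : ∀ g ∈ Q, π g = 0 → g ∈ X.Z
  π_wd : ∀ g ∈ Q, WD (π g)
  π_surj : ∀ y, ∃ g ∈ Q, π g = (0, 0, y)
  sq : ∀ g ∈ Q, g * g = X.z (K.qf c1 c2 (π g))
  zc : Q ≤ C[X.Z]
  h_N : ∀ k, X.h k ∈ N[Q]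
  π_h : ∀ (k : Fˣ), ∀ g ∈ Q,
    π (X.h k * g * (X.h k)⁻¹) = ((π g).1, k * (π g).2.1, K.nm k * (π g).2.2)
  Q_D : Q ≤ C[D]
  CQ : ∀ g ∈ C[X.Z], ∀ b, g * t * g⁻¹ = t * X.z b → ∃ q ∈ Q, ∃ d ∈ D, g = q * d

namespace QD
variable {L D : Subgroup G} {t : G} {X : SzD K L} (Y : QD X t D)

theorem π_z (b : F) : Y.π (X.z b) = 0 := Y.π_u 0 b
theorem π_one : Y.π 1 = 0 := X.z_zero ▸ Y.π_z 0
theorem π_inv {g : G} (hg : g ∈ Y.Q) : Y.π g⁻¹ = Y.π g := by
  have := Y.π_mul _ (inv_mem hg) _ hg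
  rw [inv_mul_cancel, Y.π_one] at this
  rw [← add_zero (Y.π g⁻¹), ← K.add_self3 (Y.π g), ← add_assoc, ← this, zero_add]

/-- `Q₀ = {v = 0}` -/
def Q0 : Subgroup G where
  carrier := {g | g ∈ Y.Q ∧ (Y.π g).1 = 0}
  mul_mem' := fun ha hb => ⟨mul_mem ha.1 hb.1, by
    rw [Y.π_mul _ ha.1 _ hb.1, Prod.fst_add, ha.2, hb.2, add_zero]⟩
  one_mem' := ⟨one_mem _, by rw [Y.π_one]; rfl⟩
  inv_mem' := fun ha => ⟨inv_mem ha.1, by rw [Y.π_inv ha.1, ha.2]⟩

/-- `U₀ = {v = 0, x = 0}` -/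
def U0 : Subgroup G where
  carrier := {g | g ∈ Y.Q ∧ (Y.π g).1 = 0 ∧ (Y.π g).2.1 = 0}
  mul_mem' := fun ha hb => ⟨mul_mem ha.1 hb.1, by
    rw [Y.π_mul _ ha.1 _ hb.1, Prod.fst_add, Prod.snd_add, Prod.fst_add, ha.2.1, hb.2.1, ha.2.2,
      hb.2.2, add_zero]
    exact ⟨rfl, rfl⟩⟩
  one_mem' := ⟨one_mem _, by rw [Y.π_one]; exact ⟨rfl, rfl⟩⟩
  inv_mem' := fun ha => ⟨inv_mem ha.1, by rw [Y.π_inv ha.1]; exact ha.2⟩

theorem mem_Q0 {g : G} : g ∈ Y.Q0 ↔ g ∈ Y.Q ∧ (Y.π g).1 = 0 := Iff.rfl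
theorem mem_U0 {g : G} : g ∈ Y.U0 ↔ g ∈ Y.Q ∧ (Y.π g).1 = 0 ∧ (Y.π g).2.1 = 0 := Iff.rfl

end QD

/-- The two remaining cases (`c = 0`, `c = 1`). -/
structure Cs {L D : Subgroup G} {t : G} {X : SzD K L} (Y : QD X t D) (G0 : Subgroup G) (c : F) :
    Prop extends Lc X G0 t D where
  c1 : Y.c1 = c
  c2 : Y.c2 = 0

/-- The maximal `2`-subgroup `P` of the homocyclic case `c = 1`. -/
structure Mp {L D : Subgroup G} {t : G} {X : SzD K L} (Y : QD X t D) (G0 P : Subgroup G) : Prop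
    extends Cs Y G0 1 where
  pi : IsPi {2} P
  Q_le : Y.Q ≤ P
  P_N : P ≤ N[Y.Q0]
  P_Z : P ≤ C[X.Z]
  h_P : ∀ k, X.h k ∈ N[P]
  P_D : P ≤ C[D]
  two : ∀ g ∈ N[P], g ∈ C[X.Z] → PiElt {2} g → g ∈ P
  oddD : ∀ g ∈ N[P], g ∈ C[X.Z] → PiElt {2}ᶜ g → g ∈ D

/-- The exceptional configuration for `q = 8`: a field automorphism `φ` normalising `P`. -/
structure Ph {L D : Subgroup G} {t : G} {X : SzD K L} (Y : QD X t D) (G0 P : Subgroup G) (φ : G) :
    Prop extends Mp Y G0 P where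
  m1 : K.m = 1
  φP : φ ∈ N[P]
  φt : φ * t = t * φ
  φ3 : φ ^ 3 ∈ D
  φZ : φ ∉ C[X.Z]
  BT : ∀ p ∈ P, ∃ b ∈ P ⊓ C[Y.Q0], ∃ s ∈ X.T t, p = b * s
  sqB : ∀ c ∈ P ⊓ C[Y.Q0], t * c * (t * c) = 1 → ∃ b ∈ P ⊓ C[Y.Q0], c = b * b
  big : ∃ b ∈ P ⊓ C[Y.Q0], b ∉ Y.U0

end H2.SZ
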