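import Mathlib
import Cfsg.Agent.H24.Base5
import Cfsg.Agent.H21.Zass1

/-!
# Recognition of `PSU₃(q)`, `q` odd, from its doubly transitive action: local structure
-/

set_option autoImplicit false
set_option linter.unusedSectionVars false

namespace H2.U3

open Cfsg Subgroup H24 MulAction

universe u

/-- the two-point stabiliser -/
abbrev CC (G : Type u) {Ω : Type*} [Group G] [MulAction G Ω] (a b : Ω) : Subgroup G :=
  stabilizer G a ⊓ stabilizer G b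

/-- the hypotheses of the recognition theorem (`t` is the involution of the two-point stabiliser) -/
structure Hyp (G : Type u) {Ω : Type*} [Group G] [MulAction G Ω] (a b : Ω) (U : Subgroup G)
    (q : ℕ) (t : G) : Prop where
  faith : ∀ g : G, (∀ ω : Ω, g • ω = ω) → g = 1
  ba : b ≠ a
  mv : ∃ g : G, g • a = b
  Ua : ∀ u ∈ U, u • a = a
  Un : ∀ h : G, h • a = a → ∀ u ∈ U, h * u * h⁻¹ ∈ U
  Utr : ∀ ω, ω ≠ a → ∃ u ∈ U, u • b = ω
  Ufree : ∀ u ∈ U, u • b = b → u = 1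
  cardU : Nat.card U = q ^ 3
  pp : ∃ p n : ℕ, p.Prime ∧ p ≠ 2 ∧ n ≠ 0 ∧ q = p ^ n
  cyc : IsCyclic (CC G a b)
  cardC : ∃ d, Odd d ∧ d * Nat.card (CC G a b) = q ^ 2 - 1
  tC : t ∈ CC G a b
  t1 : t ≠ 1
  t2 : t * t = 1

variable {G : Type u} {Ω : Type*} [Group G] [MulAction G Ω]

/-- elements interchanging `a` and `b` -/
def Sw (a b : Ω) (g : G) : Prop := g • a = b ∧ g • b = a

/-- conjugates of `t` -/
def Good (t s : G) : Prop := ∃ k : G, s = k * t * k⁻¹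

theorem Good.conj {t s : G} (h : Good t s) (g : G) : Good t (g * s * g⁻¹) := by
  obtain ⟨k, rfl⟩ := h
  exact ⟨g * k, by group⟩

theorem good_self (t : G) : Good t t := ⟨1, by group⟩

theorem conj_smul_iff {g s : G} {ω : Ω} : (g * s * g⁻¹) • g • ω = g • ω ↔ s • ω = ω := by
  rw [mul_smul, mul_smul, inv_smul_smul, smul_left_cancel_iff]

theorem conj_smul_iff' {g s : G} {ω : Ω} : (g * s * g⁻¹) • ω = ω ↔ s • g⁻¹ • ω = g⁻¹ • ω := by
  rw [← conj_smul_iff (g := g) (s := s), smul_inv_smul]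

theorem fix_of_comm {g s : G} {ω : Ω} (h : g * s = s * g) (hs : s • ω = ω) :
    s • g • ω = g • ω := by rw [← mul_smul, ← h, mul_smul, hs]

theorem exists_invol_zpowers {c : G} (hc : c ≠ 1) {k : ℕ} (h : c ^ 2 ^ k = 1) :
    ∃ y ∈ zpowers c, y ≠ 1 ∧ y * y = 1 := by
  induction k generalizing c with
  | zero => exact absurd (by simpa using h) hc
  | succ k ih =>
    by_cases h2 : c * c = 1
    · exact ⟨c, mem_zpowers c, hc, h2⟩
    · obtain ⟨y, hy, h3⟩ := ih h2 (by rw [← sq, ← pow_mul, ← pow_succ', h])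
      exact ⟨y, zpowers_le.2 (mul_mem (mem_zpowers c) (mem_zpowers c)) hy, h3⟩

theorem exists_order [Finite G] {A : Subgroup G} (hA : Cyc A) {e : ℕ} (he : e ∣ ♯A) :
    ∃ c ∈ A, orderOf c = e := by
  obtain ⟨g, hg, rfl⟩ := hA.exists_gen
  rw [card_zpowers'] at he
  exact ⟨g ^ (orderOf g / e), pow_mem hg _, orderOf_pow_orderOf_div (orderOf_pos g).ne' he⟩

theorem relIndex_C1 [Finite G] (A : Subgroup G) (x : G) :
    C{x}.relIndex A = {y | ∃ c ∈ A, y = c * x * c⁻¹}.ncard := by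
  let f : A ⧸ C{x}.subgroupOf A → {y | ∃ c ∈ A, y = c * x * c⁻¹} :=
    Quotient.lift (fun c : A => ⟨c * x * (c : G)⁻¹, c, c.2, rfl⟩) fun c c' h => by
      have h1 : ((c⁻¹ * c' : A) : G) ∈ C{x} :=
        (QuotientGroup.leftRel_apply (s := C{x}.subgroupOf A)).1 h
      have h2 := mem_C1_iff_conj.1 h1
      simp only [coe_mul, coe_inv] at h2
      refine Subtype.ext ?_
      show (c : G) * x * (c : G)⁻¹ = c' * x * (c' : G)⁻¹
      conv_lhs => rw [← h2]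
      group
  rw [← Nat.card_coe_set_eq]
  refine Nat.card_congr (Equiv.ofBijective f ⟨?_, ?_⟩)
  · rintro ⟨c⟩ ⟨c'⟩ h
    have h1 : (c : G) * x * (c : G)⁻¹ = c' * x * (c' : G)⁻¹ := congrArg Subtype.val h
    refine Quotient.sound (QuotientGroup.leftRel_apply.2 (mem_C1_iff_conj.2 ?_))
    show ((c : G)⁻¹ * c') * x * ((c : G)⁻¹ * c')⁻¹ = x
    calc _ = (c : G)⁻¹ * (c' * x * (c' : G)⁻¹) * c := by group
      _ = x := by rw [← h1]; group
  · rintro ⟨y, c, hc, rfl⟩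
    exact ⟨Quotient.mk _ ⟨c, hc⟩, rfl⟩

theorem arith_x {p a b n x y : ℕ} (hp : p.Prime) (hx : x = p ^ a) (hy : y = p ^ b) (hx1 : 1 < x)
    (hn : 1 ≤ n) (e : y = 1 + n * (x + 1)) (hle : n ≤ 2 * (x - 1)) : y = x * x ∧ n = x - 1 := by
  have hab : a ≤ b := by
    by_contra h
    have : p ^ b ≤ p ^ a := Nat.pow_le_pow_right hp.pos (by omega)
    nlinarith
  obtain ⟨z, hz⟩ : x ∣ y := hx ▸ hy ▸ pow_dvd_pow p hab
  obtain ⟨x', rfl⟩ : ∃ x', x = x' + 1 := ⟨x - 1, by omega⟩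
  simp only [Nat.add_sub_cancel] at hle ⊢
  have hzn : n < z := by nlinarith
  obtain ⟨k, rfl⟩ : ∃ k, z = n + k := ⟨z - n, by omega⟩
  have h1 : (x' + 1) * k = 1 + n := by nlinarith
  have hk : k = 1 := by
    rcases k with _ | _ | k
    · omega
    · rfl
    · nlinarith
  subst hk
  constructor
  · nlinarith
  · omega

namespace Hyp

variable {a b : Ω} {U : Subgroup G} {q : ℕ} {t : G} (h : Hyp G a b U q t)

include h

theorem q_odd : Odd q := by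
  obtain ⟨p, n, hp, h2, -, rfl⟩ := h.pp
  exact (hp.odd_of_ne_two h2).pow

theorem three_le : 3 ≤ q := by
  obtain ⟨p, n, hp, h2, hn, rfl⟩ := h.pp
  have := hp.two_le
  exact (by omega : 3 ≤ p).trans (Nat.le_self_pow hn p)

theorem Ccomm {c c' : G} (hc : c ∈ CC G a b) (hc' : c' ∈ CC G a b) : c * c' = c' * c :=
  (Cyc.abl h.cyc).comm hc hc'

theorem tinv : t⁻¹ = t := inv_eq_of_mul_eq_one_right h.t2

theorem ta : t • a = a := h.tC.1

theorem tb : t • b = b := h.tC.2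

theorem tt (ω : Ω) : t • t • ω = ω := by rw [← mul_smul, h.t2, one_smul]

theorem t_uniq [Finite G] {c : G} (hc : c ∈ CC G a b) (h2 : c * c = 1) : c = 1 ∨ c = t := by
  by_cases h1 : c = 1
  · exact Or.inl h1
  right
  have o1 : orderOf c = 2 := orderOf_eq_prime (by rw [sq, h2]) h1
  have o2 : orderOf t = 2 := orderOf_eq_prime (by rw [sq, h.t2]) h.t1
  have := H25.cyc_eq_of_card_eq h.cyc (zpowers_le.2 hc) (zpowers_le.2 h.tC)
    (by rw [card_zpowers', card_zpowers', o1, o2])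
  have hm : c ∈ zpowers t := this ▸ mem_zpowers c
  obtain ⟨k, rfl⟩ := mem_zpowers_iff.1 hm
  rcases Int.even_or_odd' k with ⟨j, rfl | rfl⟩
  · exact absurd (by rw [zpow_mul, zpow_two, h.t2, one_zpow]) h1
  · rw [zpow_add, zpow_mul, zpow_two, h.t2, one_zpow, one_mul, zpow_one]

theorem t_mem_zpowers [Finite G] {c : G} (hc : c ∈ CC G a b) (h1 : c ≠ 1) {k : ℕ}
    (hk : c ^ 2 ^ k = 1) : t ∈ zpowers c := by
  obtain ⟨y, hy, y1, y2⟩ := exists_invol_zpowers h1 hk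
  rcases h.t_uniq (zpowers_le.2 hc hy) y2 with e | e
  · exact absurd e y1
  · exact e ▸ hy

omit h in
theorem ne_of_fix {g : G} {α ω : Ω} (hg : g • α = α) (hω : ω ≠ α) : g • ω ≠ α := fun e =>
  hω (smul_left_cancel g (e.trans hg.symm))

theorem ub_ne {u : G} (hu : u ∈ U) : u • b ≠ a := ne_of_fix (h.Ua u hu) h.ba

theorem Ueq {u u' : G} (hu : u ∈ U) (hu' : u' ∈ U) (e : u • b = u' • b) : u = u' :=
  (inv_mul_eq_one.1 (h.Ufree _ (mul_mem (inv_mem hu') hu)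
    (by rw [mul_smul, e, inv_smul_smul]))).symm

theorem Ufree' {u : G} (hu : u ∈ U) {ω : Ω} (hω : ω ≠ a) (e : u • ω = ω) : u = 1 := by
  obtain ⟨u', hu', rfl⟩ := h.Utr ω hω
  have := h.Ueq (mul_mem hu hu') hu' (by rw [mul_smul, e])
  simpa using this

theorem Utr' {ω ω' : Ω} (hω : ω ≠ a) (hω' : ω' ≠ a) : ∃ u ∈ U, u • ω = ω' := by
  obtain ⟨u, hu, rfl⟩ := h.Utr ω hω
  obtain ⟨u', hu', rfl⟩ := h.Utr ω' hω'
  exact ⟨u' * u⁻¹, mul_mem hu' (inv_mem hu), by rw [mul_smul, inv_smul_smul]⟩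

theorem decomp {g : G} (hg : g • a = a) : ∃ u ∈ U, ∃ c ∈ CC G a b, g = u * c := by
  obtain ⟨u, hu, e⟩ := h.Utr _ (ne_of_fix hg h.ba)
  refine ⟨u, hu, u⁻¹ * g, ⟨?_, ?_⟩, by group⟩
  · show (u⁻¹ * g) • a = a
    rw [mul_smul, hg, h.Ua _ (inv_mem hu)]
  · show (u⁻¹ * g) • b = b
    rw [mul_smul, ← e, inv_smul_smul]

theorem trans (α : Ω) : ∃ g : G, g • a = α := by
  by_cases e : α = a
  · exact ⟨1, by rw [one_smul, e]⟩
  obtain ⟨g, hg⟩ := h.mv
  obtain ⟨u, -, hu⟩ := h.Utr α e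
  exact ⟨u * g, by rw [mul_smul, hg, hu]⟩

theorem two_trans {α β : Ω} (hne : β ≠ α) : ∃ g : G, g • a = α ∧ g • b = β := by
  obtain ⟨g, rfl⟩ := h.trans α
  obtain ⟨u, hu, e⟩ := h.Utr (g⁻¹ • β) (fun e => hne (by rw [← e, smul_inv_smul]))
  exact ⟨g * u, by rw [mul_smul, h.Ua u hu], by rw [mul_smul, e, smul_inv_smul]⟩

theorem CU {c u : G} (hc : c ∈ CC G a b) (hu : u ∈ U) : c * u * c⁻¹ ∈ U := h.Un c hc.1 u hu

theorem C_le_NU [Finite G] : CC G a b ≤ N[U] := le_N_iff.2 fun _ hc _ hu => h.CU hc hu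

theorem cub {c : G} (hc : c ∈ CC G a b) (u : G) : c • u • b = (c * u * c⁻¹) • b := by
  have : c⁻¹ • b = b := (inv_mem hc).2
  rw [mul_smul, mul_smul, this]

theorem L1 {c : G} (hc : c • a = a) {ω ω' : Ω} (hω : ω ≠ a) (hω' : ω' ≠ a) (e : c • ω = ω)
    (e' : c • ω' = ω') : ∃ u ∈ U, u * c = c * u ∧ u • ω = ω' := by
  obtain ⟨u, hu, rfl⟩ := h.Utr' hω hω'
  refine ⟨u, hu, ?_, rfl⟩
  have := h.Ufree' (mul_mem (inv_mem hu) (h.Un c hc u hu)) hω (by
    have e2 : c⁻¹ • ω = ω := by rw [inv_smul_eq_iff, e]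
    rw [mul_smul, mul_smul, mul_smul, e2, e', inv_smul_smul])
  calc u * c = u * (u⁻¹ * (c * u * c⁻¹)) * c := by rw [this, mul_one]
    _ = c * u := by group

theorem L1' {c : G} {α ω ω' : Ω} (hc : c • α = α) (hω : ω ≠ α) (hω' : ω' ≠ α) (e : c • ω = ω)
    (e' : c • ω' = ω') : ∃ g : G, g * c = c * g ∧ g • α = α ∧ g • ω = ω' := by
  obtain ⟨k, rfl⟩ := h.trans α
  have f : ∀ β : Ω, c • β = β → (k⁻¹ * c * k) • k⁻¹ • β = k⁻¹ • β := fun β hβ => by
    rw [mul_smul, mul_smul, smul_inv_smul, hβ]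
  have n : ∀ β : Ω, β ≠ k • a → k⁻¹ • β ≠ a := fun β hβ e => hβ (by rw [← e, smul_inv_smul])
  obtain ⟨u, hu, e1, e2⟩ := h.L1 (c := k⁻¹ * c * k) (by simpa using f _ hc) (n _ hω) (n _ hω')
    (f _ e) (f _ e')
  refine ⟨k * u * k⁻¹, ?_, by rw [mul_smul, mul_smul, inv_smul_smul, h.Ua u hu],
    by rw [mul_smul, mul_smul, e2, smul_inv_smul]⟩
  calc k * u * k⁻¹ * c = k * (u * (k⁻¹ * c * k)) * k⁻¹ := by group
    _ = c * (k * u * k⁻¹) := by rw [e1]; group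

omit h in
theorem sw_mul {g g' : G} (hg : Sw a b g) (hg' : Sw a b g') : g * g' ∈ CC G a b :=
  ⟨by show _ • _ = _; rw [mul_smul, hg'.1, hg.2], by show _ • _ = _; rw [mul_smul, hg'.2, hg.1]⟩

omit h in
theorem sw_inv {g : G} (hg : Sw a b g) : Sw a b g⁻¹ :=
  ⟨by rw [inv_smul_eq_iff, hg.2], by rw [inv_smul_eq_iff, hg.1]⟩

omit h in
theorem sw_C {g c : G} (hc : c ∈ CC G a b) (hg : Sw a b g) : Sw a b (c * g) :=
  ⟨by rw [mul_smul, hg.1]; exact hc.2, by rw [mul_smul, hg.2]; exact hc.1⟩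

omit h in
theorem sw_C' {g c : G} (hg : Sw a b g) (hc : c ∈ CC G a b) : Sw a b (g * c) :=
  ⟨by rw [mul_smul, show c • a = a from hc.1, hg.1], by rw [mul_smul, show c • b = b from hc.2, hg.2]⟩

omit h in
theorem sw_conj {g c : G} (hg : Sw a b g) (hc : c ∈ CC G a b) : g * c * g⁻¹ ∈ CC G a b :=
  sw_mul (sw_C' hg hc) (sw_inv hg)

/-- all swapping elements act in the same way on `C` -/
theorem sw_conj_eq {g g' c : G} (hg : Sw a b g) (hg' : Sw a b g') (hc : c ∈ CC G a b) :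
    g * c * g⁻¹ = g' * c * g'⁻¹ := by
  have := h.Ccomm (sw_mul (sw_inv hg') hg) hc
  calc g * c * g⁻¹ = g' * (g'⁻¹ * g * c) * g⁻¹ := by group
    _ = g' * c * g'⁻¹ := by rw [this]; group

theorem sw_comm {c u g : G} (hc : c ∈ CC G a b) (hu : u ∈ U) (h1 : u ≠ 1) (e : u * c = c * u)
    (hg : Sw a b g) : g * c = c * g := by
  have n1 := h.ub_ne hu
  have n2 : u • b ≠ b := fun e => h1 (h.Ufree u hu e)
  have f := fix_of_comm e (show c • b = b from hc.2)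
  obtain ⟨g1, c1, a1, b1⟩ := h.L1' (α := b) hc.2 h.ba.symm n2 hc.1 f
  obtain ⟨g2, c2, a2, b2⟩ := h.L1' f n2.symm n1.symm hc.2 hc.1
  obtain ⟨g3, c3, a3, b3⟩ := h.L1' (α := a) hc.1 n1 h.ba f hc.2
  have hs : Sw a b (g3 * g2 * g1) :=
    ⟨by rw [mul_smul, mul_smul, b1, a2, b3], by rw [mul_smul, mul_smul, a1, b2, a3]⟩
  have := h.sw_conj_eq hg hs hc
  have e2 : g3 * g2 * g1 * c = c * (g3 * g2 * g1) := by
    rw [mul_assoc, c1, ← mul_assoc, mul_assoc g3, c2, ← mul_assoc, c3]; group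
  rw [e2, mul_inv_cancel_right] at this
  calc g * c = g * c * g⁻¹ * g := by group
    _ = c * g := by rw [this]

theorem sw_t [Finite G] {g : G} (hg : Sw a b g) : g * t = t * g := by
  rcases h.t_uniq (sw_conj hg h.tC) (by
    calc _ = g * (t * t) * g⁻¹ := by group
      _ = 1 := by rw [h.t2]; group) with e | e
  · exact absurd (conj_eq_one_iff'.1 e) h.t1
  · calc g * t = g * t * g⁻¹ * g := by group
      _ = t * g := by rw [e]

theorem exists_sw : ∃ g : G, Sw a b g := h.two_trans h.ba.symm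

theorem good_sq {s : G} (hs : Good t s) : s * s = 1 := by
  obtain ⟨k, rfl⟩ := hs
  calc _ = k * (t * t) * k⁻¹ := by group
    _ = 1 := by rw [h.t2]; group

theorem good_ne {s : G} (hs : Good t s) : s ≠ 1 := by
  obtain ⟨k, rfl⟩ := hs
  exact fun e => h.t1 (conj_eq_one_iff'.1 e)

theorem good_inv {s : G} (hs : Good t s) : s⁻¹ = s := inv_eq_of_mul_eq_one_right (h.good_sq hs)

theorem exists_good {α β : Ω} (hne : β ≠ α) : ∃ s, Good t s ∧ s • α = α ∧ s • β = β := by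
  obtain ⟨g, rfl, rfl⟩ := h.two_trans hne
  exact ⟨_, ⟨g, rfl⟩, conj_smul_iff.2 h.ta, conj_smul_iff.2 h.tb⟩

theorem good_uniq [Finite G] {s s' : G} (hs : Good t s) (hs' : Good t s') {α β : Ω} (hne : β ≠ α)
    (h1 : s • α = α) (h2 : s • β = β) (h1' : s' • α = α) (h2' : s' • β = β) : s = s' := by
  obtain ⟨g, rfl, rfl⟩ := h.two_trans hne
  have k : ∀ s, Good t s → s • g • a = g • a → s • g • b = g • b → s = g * t * g⁻¹ := by
    intro s hs e1 e2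
    have hg : Good t (g⁻¹ * s * g⁻¹⁻¹) := hs.conj _
    rcases h.t_uniq (c := g⁻¹ * s * g⁻¹⁻¹)
      ⟨conj_smul_iff'.2 (by rwa [inv_inv]), conj_smul_iff'.2 (by rwa [inv_inv])⟩ (h.good_sq hg)
      with e | e
    · exact absurd e (h.good_ne hg)
    · rw [← e]; group
  rw [k s hs h1 h2, k s' hs' h1' h2']

theorem U_odd : Odd ♯U := h.cardU ▸ h.q_odd.pow

theorem U_sq {u : G} (hu : u ∈ U) (e : u * u = 1) : u = 1 := by
  by_contra h1
  have := orderOf_dvd_card' hu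
  rw [orderOf_eq_prime (p := 2) (by rw [sq, e]) h1] at this
  exact (Nat.not_even_iff_odd.2 h.U_odd) (even_iff_two_dvd.2 this)

theorem cop : (♯U).Coprime ♯(CC G a b) := by
  obtain ⟨d, -, hd⟩ := h.cardC
  rw [h.cardU]
  refine Nat.Coprime.pow_left 3 (Nat.Coprime.coprime_dvd_right (Dvd.intro_left d hd) ?_)
  have := h.three_le
  refine Nat.Coprime.coprime_dvd_left (dvd_pow_self q two_ne_zero) ?_
  exact (Nat.coprime_self_sub_right (Nat.one_le_pow _ _ (by omega))).2 (Nat.coprime_one_right _)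

theorem UC_eq_one {u : G} (hu : u ∈ U) (hc : u ∈ CC G a b) : u = 1 := h.Ufree u hu hc.2

theorem exists_cent_t [Finite G] {ω : Ω} (e : t • ω = ω) : ∃ g : G, g * t = t * g ∧ g • ω = a := by
  by_cases hb : ω = b
  · obtain ⟨g, hg⟩ := h.exists_sw
    exact ⟨g, h.sw_t hg, hb ▸ hg.2⟩
  · obtain ⟨g, h1, -, h2⟩ := h.L1' h.tb hb h.ba.symm e h.ta
    exact ⟨g, h1, h2⟩

/-- an involution commuting with `t` and fixing a fixed point of `t` is `t` -/
theorem U1 [Finite G] {s : G} (hs : s * s = 1) (hc : s * t = t * s) {ω : Ω} (h1 : s • ω = ω)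
    (h2 : t • ω = ω) : s = 1 ∨ s = t := by
  obtain ⟨g, hg, rfl⟩ : ∃ g : G, g * t = t * g ∧ ω = g⁻¹ • a := by
    obtain ⟨g, h3, h4⟩ := h.exists_cent_t h2
    exact ⟨g, h3, by rw [← h4, inv_smul_smul]⟩
  have hgt : g * t * g⁻¹ = t := by rw [hg]; group
  suffices g * s * g⁻¹ = 1 ∨ g * s * g⁻¹ = t by
    rcases this with e | e
    · exact Or.inl (conj_eq_one_iff'.1 e)
    · right; rw [← hgt] at e; simpa using e
  have s1 : (g * s * g⁻¹) • a = a := conj_smul_iff'.2 h1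
  have s2 : g * s * g⁻¹ * (g * s * g⁻¹) = 1 := by
    calc _ = g * (s * s) * g⁻¹ := by group
      _ = 1 := by rw [hs]; group
  have s3 : g * s * g⁻¹ * t = t * (g * s * g⁻¹) := by
    conv_lhs => rw [← hgt]
    conv_rhs => rw [← hgt]
    calc _ = g * (s * t) * g⁻¹ := by group
      _ = _ := by rw [hc]; group
  generalize g * s * g⁻¹ = s' at s1 s2 s3
  obtain ⟨u, hu, c, hc', rfl⟩ := h.decomp s1
  have hut : u * t = t * u := by
    have := h.Ccomm hc' h.tC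
    calc u * t = u * c * t * c⁻¹ := by rw [mul_assoc u c, this]; group
      _ = t * u := by rw [s3]; group
  have hcc : c * c = 1 := by
    refine h.UC_eq_one ?_ (mul_mem hc' hc')
    have : c * c = (u * (c * u * c⁻¹))⁻¹ * (u * c * (u * c)) := by group
    rw [this, s2, mul_one]
    exact inv_mem (mul_mem hu (h.CU hc' hu))
  rcases h.t_uniq hc' hcc with rfl | rfl
  · left; rw [mul_one] at s2 ⊢; exact h.U_sq hu s2
  · right
    have : u = 1 := h.U_sq hu (by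
      calc u * u = u * u * (c * c) := by rw [hcc, mul_one]
        _ = u * (u * c) * c := by group
        _ = 1 := by rw [hut, ← s2]; group)
    rw [this, one_mul]

theorem t_fix_iff {u : G} (hu : u ∈ U) : t • u • b = u • b ↔ u ∈ U ⊓ C{t} := by
  rw [h.cub h.tC]
  constructor
  · intro e
    exact ⟨hu, mem_C1_comm.1 (mem_C1_iff_conj.2 (h.Ueq (h.CU h.tC hu) hu e))⟩
  · intro e
    rw [mem_C1_iff_conj.1 (mem_C1_comm.1 e.2)]

theorem card_aux [Finite G] (A : Subgroup G) (hA : A ≤ U) (P : Ω → Prop) (ha : P a)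
    (hP : ∀ u ∈ U, P (u • b) ↔ u ∈ A) : Nat.card {ω // P ω} = ♯A + 1 := by
  let f : Option A → {ω // P ω} := fun o => match o with
    | none => ⟨a, ha⟩
    | some u => ⟨(u : G) • b, (hP u (hA u.2)).2 u.2⟩
  rw [← Finite.card_option]
  refine (Nat.card_congr (Equiv.ofBijective f ⟨?_, ?_⟩)).symm
  · rintro (_ | u) (_ | u') e
    · rfl
    · exact absurd (congrArg Subtype.val e).symm (h.ub_ne (hA u'.2))
    · exact absurd (congrArg Subtype.val e) (h.ub_ne (hA u.2))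
    · rw [Subtype.ext (h.Ueq (hA u.2) (hA u'.2) (congrArg Subtype.val e))]
  · rintro ⟨ω, hω⟩
    by_cases e : ω = a
    · exact ⟨none, Subtype.ext e.symm⟩
    · obtain ⟨u, hu, rfl⟩ := h.Utr ω e
      exact ⟨some ⟨u, (hP u hu).1 hω⟩, rfl⟩

theorem card_fix [Finite G] {s : G} (hs : Good t s) :
    Nat.card {ω : Ω // s • ω = ω} = ♯(U ⊓ C{t}) + 1 := by
  obtain ⟨k, rfl⟩ := hs
  rw [← h.card_aux (U ⊓ C{t}) inf_le_left (fun ω => t • ω = ω) h.ta fun u hu => h.t_fix_iff hu]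
  exact Nat.card_congr ((MulAction.toPerm k⁻¹).subtypeEquiv fun ω => conj_smul_iff')

theorem card_all [Finite G] : Nat.card {_ω : Ω // True} = q ^ 3 + 1 := by
  rw [← h.cardU]; exact h.card_aux U le_rfl _ trivial fun u hu => by simp [hu]

theorem finite [Finite G] : Finite Ω := by
  have : Finite {_ω : Ω // True} := Nat.finite_of_card_ne_zero (by rw [h.card_all]; omega)
  exact Finite.of_surjective (Subtype.val : {_ω : Ω // True} → Ω) fun ω => ⟨⟨ω, trivial⟩, rfl⟩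

theorem exists_c2 [Finite G] : ∃ c ∈ CC G a b, ∃ m, orderOf c = 2 ^ m ∧ ¬ 2 ^ m ∣ q - 1 := by
  obtain ⟨d, hd, e⟩ := h.cardC
  obtain ⟨m, o, ho, e2⟩ := Nat.exists_eq_two_pow_mul_odd (card_ne_zero (CC G a b))
  obtain ⟨c, hc, hco⟩ := exists_order h.cyc (e := 2 ^ m) (Dvd.intro o e2.symm)
  refine ⟨c, hc, m, hco, fun ⟨k, hk⟩ => ?_⟩
  have h3 := h.three_le
  have e3 : q ^ 2 - 1 = (q - 1) * (q + 1) := by
    obtain ⟨r, rfl⟩ : ∃ r, q = r + 1 := ⟨q - 1, by omega⟩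
    simp only [Nat.add_sub_cancel]
    apply Nat.sub_eq_of_eq_add; ring
  rw [e2, e3, hk] at e
  have e4 : d * o = k * (q + 1) :=
    Nat.eq_of_mul_eq_mul_left (pow_pos two_pos m) (by linarith)
  have := hd.mul ho
  rw [e4] at this
  exact (Nat.not_even_iff_odd.2 this) (h.q_odd.add_one.mul_left k)

theorem X_ne_bot [Finite G] : U ⊓ C{t} ≠ ⊥ := by
  intro hX
  obtain ⟨c, hc, m, ho, hm⟩ := h.exists_c2
  have hr : Semireg U (zpowers c) := fun y hy hy1 => by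
    have : t ∈ zpowers y := h.t_mem_zpowers (zpowers_le.2 hc hy) hy1 (k := m) (by
      obtain ⟨k, rfl⟩ := mem_zpowers_iff.1 hy
      rw [← ho, ← zpow_natCast, ← zpow_mul, mul_comm, zpow_mul, zpow_natCast, pow_orderOf_eq_one,
        one_zpow])
    exact eq_bot_iff.2 (hX ▸ inf_le_inf_left U (C1_le_C1_of_mem_zpowers this))
  have h1 := hr.dvd_pred ((zpowers_le.2 hc).trans h.C_le_NU)
  rw [card_zpowers', ho, h.cardU] at h1
  obtain ⟨d, -, e⟩ := h.cardC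
  have h2 : 2 ^ m ∣ q ^ 2 - 1 := by
    rw [← e, ← ho]; exact Dvd.dvd.mul_left (orderOf_dvd_card' hc) d
  have := Nat.dvd_gcd h1 h2
  rw [Nat.pow_sub_one_gcd_pow_sub_one] at this
  exact hm (by simpa using this)

theorem X_cases [Finite G] {ω : Ω} (e : t • ω = ω) : ω = a ∨ ∃ x ∈ U ⊓ C{t}, ω = x • b := by
  by_cases h1 : ω = a
  · exact Or.inl h1
  obtain ⟨u, hu, rfl⟩ := h.Utr ω h1
  exact Or.inr ⟨u, (h.t_fix_iff hu).1 e, rfl⟩

theorem tau_not_fix [Finite G] {τ : G} (h1 : Sw a b τ) (h2 : Good t τ) {ω : Ω} (e : τ • ω = ω) :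
    t • ω ≠ ω := fun e' => by
  rcases h.U1 (h.good_sq h2) (h.sw_t h1) e e' with rfl | rfl
  · exact h.good_ne h2 rfl
  · exact h.ba (h1.1.symm.trans h.ta)

theorem exists_tau [Finite G] {ω : Ω} (e : t • ω ≠ ω) :
    ∃ x ∈ U ⊓ C{t}, ∃ τ, Sw a b τ ∧ Good t τ ∧ τ • x⁻¹ • ω = x⁻¹ • ω := by
  obtain ⟨s, hs, s1, s2⟩ := h.exists_good e
  have hst : s * t = t * s := by
    have := h.good_uniq (hs.conj t) hs e (conj_smul_iff'.2 (by rwa [h.tinv]))
      (conj_smul_iff.2 s1) s1 s2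
    calc s * t = t * s * t⁻¹ * t := by rw [this]
      _ = t * s := by group
  rcases h.X_cases (fix_of_comm hst h.ta) with e1 | ⟨x, hx, e1⟩
  · rcases h.U1 (h.good_sq hs) hst e1 h.ta with rfl | rfl
    · exact absurd rfl (h.good_ne hs)
    · exact absurd s1 e
  have k : (x⁻¹ * s * x⁻¹⁻¹) • a = b := by
    rw [inv_inv, mul_smul, mul_smul, h.Ua x hx.1, e1, inv_smul_smul]
  refine ⟨x, hx, x⁻¹ * s * x⁻¹⁻¹, ⟨k, ?_⟩, hs.conj _, conj_smul_iff.2 s1⟩
  rw [← k, ← mul_smul, h.good_sq (hs.conj _), one_smul]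

theorem tau_uniq [Finite G] {τ τ' x : G} (h1 : Sw a b τ) (h2 : Good t τ) (h1' : Sw a b τ')
    (h2' : Good t τ') (hx : x ∈ U ⊓ C{t}) {ω : Ω} (e : τ • ω = ω) (e' : τ' • x • ω = x • ω) :
    x = 1 ∧ τ = τ' := by
  have hxt : x * t = t * x := mem_C1.1 hx.2
  have n := h.tau_not_fix h1' h2' e'
  have f1 : (x * τ * x⁻¹) • x • ω = x • ω := conj_smul_iff.2 e
  have f2 : (x * τ * x⁻¹) • t • x • ω = t • x • ω := by
    rw [← mul_smul t, ← hxt, mul_smul x t]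
    exact conj_smul_iff.2 (fix_of_comm (h.sw_t h1).symm e)
  have := h.good_uniq (h2.conj x) h2' n f1 f2 e' (fix_of_comm (h.sw_t h1').symm e')
  have hx1 : x = 1 := h.Ufree x hx.1 (by
    have k := congrArg (· • a) this
    simp only [mul_smul, h.Ua _ (inv_mem hx.1), h1.1, h1'.1] at k
    exact k)
  subst hx1
  exact ⟨rfl, by simpa using this⟩

theorem card_tau [Finite G] : q ^ 3 = ♯(U ⊓ C{t}) *
    (1 + Nat.card {τ : G // Sw a b τ ∧ Good t τ} * (♯(U ⊓ C{t}) + 1)) := by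
  classical
  have := h.finite
  have := Fintype.ofFinite {τ : G // Sw a b τ ∧ Good t τ}
  let f : ↥(U ⊓ C{t}) × (Σ τ : {τ : G // Sw a b τ ∧ Good t τ}, {ω : Ω // (τ : G) • ω = ω}) →
      {ω : Ω // ¬ t • ω = ω} := fun p => ⟨(p.1 : G) • (p.2.2 : Ω), fun e =>
        h.tau_not_fix p.2.1.2.1 p.2.1.2.2 p.2.2.2 (by
          have := fix_of_comm (mem_C1.1 (inv_mem p.1.2).2) e
          rwa [inv_smul_smul] at this)⟩
  have hf : Function.Bijective f := by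
    constructor
    · rintro ⟨x, τ, ω⟩ ⟨x', τ', ω'⟩ e
      have e1 : (x : G) • (ω : Ω) = (x' : G) • (ω' : Ω) := congrArg Subtype.val e
      have e2 : ((x' : G)⁻¹ * x) • (ω : Ω) = ω' := by rw [mul_smul, e1, inv_smul_smul]
      obtain ⟨k1, k2⟩ := h.tau_uniq τ.2.1 τ.2.2 τ'.2.1 τ'.2.2 (mul_mem (inv_mem x'.2) x.2) ω.2
        (by rw [e2]; exact ω'.2)
      obtain rfl : x = x' := Subtype.ext (inv_mul_eq_one.1 k1).symm
      obtain rfl : τ = τ' := Subtype.ext k2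
      obtain rfl : ω = ω' := Subtype.ext (smul_left_cancel _ e1)
      rfl
    · rintro ⟨ω, hω⟩
      obtain ⟨x, hx, τ, h1, h2, h3⟩ := h.exists_tau hω
      exact ⟨⟨⟨x, hx⟩, ⟨τ, h1, h2⟩, ⟨_, h3⟩⟩, Subtype.ext (smul_inv_smul x ω)⟩
  have k1 := Nat.card_congr (Equiv.ofBijective f hf)
  rw [Nat.card_prod, Nat.card_sigma] at k1
  simp only [fun τ : {τ : G // Sw a b τ ∧ Good t τ} => h.card_fix τ.2.2, Finset.sum_const,
    Finset.card_univ, smul_eq_mul, Fintype.card_eq_nat_card] at k1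
  have k2 := Nat.card_congr (Equiv.sumCompl fun ω : Ω => t • ω = ω)
  rw [Nat.card_sum, h.card_fix (good_self t), ← k1,
    ← Nat.card_congr (Equiv.subtypeUnivEquiv (p := fun _ : Ω => True) fun _ => trivial),
    h.card_all] at k2
  linarith

theorem exists_w [Finite G] : ∃ w, Sw a b w ∧ Good t w := by
  obtain ⟨ω, e⟩ : ∃ ω : Ω, t • ω ≠ ω := by
    by_contra hn
    push Not at hn
    exact h.t1 (h.faith t hn)
  obtain ⟨_, -, τ, h1, h2, -⟩ := h.exists_tau e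
  exact ⟨τ, h1, h2⟩

/-- the commutator map `c ↦ c (w c w⁻¹)⁻¹` -/
def dl {w : G} (hw : Sw a b w) : CC G a b →* G :=
  MonoidHom.mk' (fun c => c * (w * c * w⁻¹)⁻¹) fun c c' => by
    have h1 := h.Ccomm c'.2 (inv_mem (sw_conj hw c.2))
    have h2 := h.Ccomm (inv_mem (sw_conj hw c'.2)) (inv_mem (sw_conj hw c.2))
    simp only [coe_mul]
    calc (c : G) * c' * (w * (c * c') * w⁻¹)⁻¹ =
        c * c' * ((w * c' * w⁻¹)⁻¹ * (w * c * w⁻¹)⁻¹) := by group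
      _ = c * (c' * (w * c * w⁻¹)⁻¹) * (w * c' * w⁻¹)⁻¹ := by rw [h2]; group
      _ = _ := by rw [h1]; group

theorem mem_D {w : G} (hw : Sw a b w) {d : G} :
    d ∈ (h.dl hw).range ↔ ∃ c ∈ CC G a b, d = c * (w * c * w⁻¹)⁻¹ :=
  ⟨fun ⟨c, e⟩ => ⟨c, c.2, e.symm⟩, fun ⟨c, hc, e⟩ => ⟨⟨c, hc⟩, e.symm⟩⟩

theorem D_le {w : G} (hw : Sw a b w) : (h.dl hw).range ≤ CC G a b := fun d hd => by
  obtain ⟨c, hc, rfl⟩ := (h.mem_D hw).1 hd
  exact mul_mem hc (inv_mem (sw_conj hw hc))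

theorem card_D {w : G} (hw : Sw a b w) : ♯(h.dl hw).range = C{w}.relIndex (CC G a b) := by
  rw [← index_ker]
  congr 1
  ext c
  rw [MonoidHom.mem_ker, mem_subgroupOf, mem_C1_comm, mem_C1_iff_conj]
  show (c : G) * _ = 1 ↔ _
  rw [mul_inv_eq_one, eq_comm]

theorem D_inv {w : G} (hw : Sw a b w) {d : G} (hd : d ∈ (h.dl hw).range) : w * d * w⁻¹ = d⁻¹ := by
  obtain ⟨c, hc, rfl⟩ := (h.mem_D hw).1 hd
  have := h.Ccomm (sw_mul hw hw) hc
  calc w * (c * (w * c * w⁻¹)⁻¹) * w⁻¹ = w * c * w⁻¹ * (w * w * c * (w * w)⁻¹)⁻¹ := by group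
    _ = _ := by rw [this]; group

theorem stab_le {w x : G} (hw : Sw a b w) (hx : x ∈ U) (h1 : x ≠ 1) :
    C{x} ⊓ CC G a b ≤ C{w} := fun _ hc =>
  mem_C1.2 (h.sw_comm hc.2 hx h1 (mem_C1.1 hc.1).symm hw).symm

theorem conj_X {c x : G} (hc : c ∈ CC G a b) (hx : x ∈ U ⊓ C{t}) : c * x * c⁻¹ ∈ U ⊓ C{t} :=
  Subgroup.mem_inf.2 ⟨h.CU hc hx.1, mul_mem (mul_mem (mem_C1.2 (h.Ccomm hc h.tC)) hx.2)
    (inv_mem (mem_C1.2 (h.Ccomm hc h.tC)))⟩

theorem orbit_sub {x : G} (hx : x ∈ U ⊓ C{t}) (h1 : x ≠ 1) :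
    {y | ∃ c ∈ CC G a b, y = c * x * c⁻¹} ⊆ ((U ⊓ C{t} : Subgroup G) : Set G) \ {1} := by
  rintro _ ⟨c, hc, rfl⟩
  exact ⟨h.conj_X hc hx, fun e => h1 (conj_eq_one_iff'.1 e)⟩

omit h in
theorem ncard_diff [Finite G] (A : Subgroup G) : ((A : Set G) \ {1}).ncard = ♯A - 1 := by
  rw [Set.ncard_sdiff_singleton_of_mem A.one_mem]; rfl

theorem D_le_orbit [Finite G] {w x : G} (hw : Sw a b w) (hx : x ∈ U) (h1 : x ≠ 1) :
    ♯(h.dl hw).range ≤ C{x}.relIndex (CC G a b) := by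
  rw [h.card_D hw, ← inf_relIndex_right C{x}]
  exact Nat.le_of_dvd (relIndex_pos _ _) (relIndex_dvd_of_le_left _ (h.stab_le hw hx h1))

theorem tau_le [Finite G] {w : G} (hw : Sw a b w) (hg : Good t w) :
    Nat.card {τ : G // Sw a b τ ∧ Good t τ} ≤ 2 * ♯(h.dl hw).range := by
  let I : Subgroup G :=
    { carrier := {c | c ∈ CC G a b ∧ w * c * w⁻¹ = c⁻¹}
      one_mem' := ⟨one_mem _, by group⟩
      mul_mem' := fun {c c'} hc hc' => ⟨mul_mem hc.1 hc'.1, by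
        calc w * (c * c') * w⁻¹ = w * c * w⁻¹ * (w * c' * w⁻¹) := by group
          _ = _ := by rw [hc.2, hc'.2, h.Ccomm hc.1 hc'.1]; group⟩
      inv_mem' := fun {c} hc => ⟨inv_mem hc.1, by
        calc w * c⁻¹ * w⁻¹ = (w * c * w⁻¹)⁻¹ := by group
          _ = _ := by rw [hc.2]⟩ }
  have hI : I ≤ CC G a b := fun _ hc => hc.1
  have k1 : Nat.card {τ : G // Sw a b τ ∧ Good t τ} ≤ ♯I :=
    Nat.card_le_card_of_injective (fun τ => (⟨τ * w, sw_mul τ.2.1 hw, by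
      rw [mul_inv_rev, h.good_inv hg, h.good_inv τ.2.2, mul_assoc, mul_assoc, h.good_sq hg,
        mul_one]⟩ : I)) fun τ τ' e => Subtype.ext (mul_right_cancel (congrArg Subtype.val e))
  have k2 := card_sup (A := I) (B := C{w} ⊓ CC G a b) ((Cyc.abl h.cyc).norm inf_le_right hI)
  have k3 : ♯(I ⊔ C{w} ⊓ CC G a b) ≤ ♯(CC G a b) := card_le (sup_le hI inf_le_right)
  have k4 : ♯(I ⊓ (C{w} ⊓ CC G a b)) ≤ 2 := by
    have : I ⊓ (C{w} ⊓ CC G a b) ≤ zpowers t := fun c hc => by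
      have e := hc.1.2
      rw [mem_C1_iff_conj.1 (mem_C1_comm.1 hc.2.1)] at e
      rcases h.t_uniq hc.2.2 (by nth_rewrite 1 [e]; group) with rfl | rfl
      · exact one_mem _
      · exact mem_zpowers _
    have := card_le this
    rwa [card_zpowers', orderOf_eq_prime (p := 2) (by rw [sq, h.t2]) h.t1] at this
  have k5 := card_inf_mul_relIndex C{w} (CC G a b)
  rw [← h.card_D hw] at k5
  have k6 := card_pos (C{w} ⊓ CC G a b)
  refine k1.trans (Nat.le_of_mul_le_mul_right ?_ k6)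
  calc _ = _ := k2.symm
    _ ≤ ♯(CC G a b) * 2 := Nat.mul_le_mul k3 k4
    _ = _ := by rw [← k5]; ring

theorem card_X_tau [Finite G] :
    ♯(U ⊓ C{t}) = q ∧ Nat.card {τ : G // Sw a b τ ∧ Good t τ} = q - 1 := by
  obtain ⟨w, hw, hg⟩ := h.exists_w
  obtain ⟨x, hx, h1⟩ := exists_ne_one h.X_ne_bot
  have k1 := h.D_le_orbit hw hx.1 h1
  rw [relIndex_C1] at k1
  have k2 := Set.ncard_le_ncard (h.orbit_sub hx h1)
  rw [ncard_diff] at k2
  have k3 := h.tau_le hw hg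
  have k4 := h.card_tau
  have k5 : 0 < Nat.card {τ : G // Sw a b τ ∧ Good t τ} := Nat.card_pos_iff.2 ⟨⟨⟨w, hw, hg⟩⟩,
    inferInstance⟩
  obtain ⟨p, n, hp, -, -, hq⟩ := h.pp
  have hq3 : q ^ 3 = p ^ (n * 3) := by rw [hq, pow_mul]
  obtain ⟨i, -, hi⟩ := (Nat.dvd_prime_pow hp).1 (hq3 ▸ Dvd.intro _ k4.symm)
  obtain ⟨j, -, hj⟩ := (Nat.dvd_prime_pow hp).1 (hq3 ▸ Dvd.intro_left _ k4.symm)
  obtain ⟨e1, e2⟩ := arith_x hp hi hj (one_lt_card h.X_ne_bot) k5 rfl (by omega)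
  have e3 : ♯(U ⊓ C{t}) = q := by
    rw [e1] at k4
    exact (Nat.pow_left_injective (by norm_num : 3 ≠ 0) (by simp only []; rw [k4]; ring)).symm
  exact ⟨e3, by rw [e2, e3]⟩

theorem card_X [Finite G] : ♯(U ⊓ C{t}) = q := h.card_X_tau.1

theorem card_D_eq [Finite G] {w : G} (hw : Sw a b w) (hg : Good t w) :
    ♯(h.dl hw).range = q - 1 := by
  have k1 : ♯(h.dl hw).range ∣ q - 1 := by
    rw [← h.card_X_tau.2]
    refine H21.card_dvd_of_free (Ω := G) _ {τ | Sw a b τ ∧ Good t τ} (fun d hd τ hτ => ?_)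
      fun d _ τ _ e => by simpa using e
    refine ⟨sw_C (h.D_le hw hd) hτ.1, ?_⟩
    obtain ⟨c, hc, rfl⟩ := (h.mem_D hw).1 hd
    rw [h.sw_conj_eq hw hτ.1 hc]
    have : (c * (τ * c * τ⁻¹)⁻¹) • τ = c * τ * c⁻¹ := by simp only [smul_eq_mul]; group
    rw [this]
    exact hτ.2.conj c
  have k2 := h.tau_le hw hg
  rw [h.card_X_tau.2] at k2
  obtain ⟨k, hk⟩ := k1
  have h3 := h.three_le
  have k0 := card_pos (h.dl hw).range
  have : k = 1 ∨ k = 2 := by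
    rcases k with _ | _ | _ | k
    · omega
    · simp
    · simp
    · nlinarith
  rcases this with rfl | rfl
  · omega
  exfalso
  obtain ⟨d, hd, e⟩ := h.cardC
  have k5 := card_inf_mul_relIndex C{w} (CC G a b)
  rw [← h.card_D hw] at k5
  have e3 : q ^ 2 - 1 = (q - 1) * (q + 1) := by
    obtain ⟨r, rfl⟩ : ∃ r, q = r + 1 := ⟨q - 1, by omega⟩
    simp only [Nat.add_sub_cancel]
    apply Nat.sub_eq_of_eq_add; ring
  have e4 : d * ♯(C{w} ⊓ CC G a b) = 2 * (q + 1) :=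
    Nat.eq_of_mul_eq_mul_right k0 (by rw [mul_assoc, k5, e, e3, hk]; ring)
  obtain ⟨m, o, ho, e2⟩ := Nat.exists_eq_two_pow_mul_odd (n := q + 1) (by omega)
  have e5 : 2 ^ (m + 1) ∣ ♯(C{w} ⊓ CC G a b) :=
    (Nat.Coprime.pow_left _ (Nat.coprime_two_left.2 hd)).dvd_of_dvd_mul_left
      (Dvd.intro o (by rw [e4, e2]; ring))
  obtain ⟨c, hc, hco⟩ := exists_order (Cyc.of_le h.cyc inf_le_right) e5
  have := H21.card_dvd_of_free (zpowers c) {ω : Ω | w • ω = ω}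
    (fun y hy ω hω => fix_of_comm (mem_C1.1 (zpowers_le.2 hc hy).1) hω) fun y hy ω hω e => by
      by_contra hy1
      have ht : t ∈ zpowers y := h.t_mem_zpowers (zpowers_le.2 hc hy).2 hy1 (k := m + 1) (by
        obtain ⟨k, rfl⟩ := mem_zpowers_iff.1 hy
        rw [← hco, ← zpow_natCast, ← zpow_mul, mul_comm, zpow_mul, zpow_natCast,
          pow_orderOf_eq_one, one_zpow])
      exact h.tau_not_fix hw hg hω ((zpowers_le (H := stabilizer G ω)).2 e ht)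
  rw [card_zpowers', hco] at this
  have e6 : Nat.card {ω : Ω | w • ω = ω} = q + 1 := by rw [← h.card_X]; exact h.card_fix hg
  rw [e6, e2, pow_succ] at this
  exact (Nat.not_even_iff_odd.2 ho)
    (even_iff_two_dvd.2 (Nat.dvd_of_mul_dvd_mul_left (pow_pos two_pos m) this))

theorem orbit_eq [Finite G] {x : G} (hx : x ∈ U ⊓ C{t}) (h1 : x ≠ 1) :
    {y | ∃ c ∈ CC G a b, y = c * x * c⁻¹} = ((U ⊓ C{t} : Subgroup G) : Set G) \ {1} := by
  obtain ⟨w, hw, hg⟩ := h.exists_w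
  refine Set.eq_of_subset_of_ncard_le (h.orbit_sub hx h1) ?_
  rw [ncard_diff, h.card_X, ← relIndex_C1, ← h.card_D_eq hw hg]
  exact h.D_le_orbit hw hx.1 h1

theorem X_trans [Finite G] {x y : G} (hx : x ∈ U ⊓ C{t}) (h1 : x ≠ 1) (hy : y ∈ U ⊓ C{t})
    (h2 : y ≠ 1) : ∃ c ∈ CC G a b, y = c * x * c⁻¹ := by
  have : y ∈ ((U ⊓ C{t} : Subgroup G) : Set G) \ {1} := ⟨hy, h2⟩
  rwa [← h.orbit_eq hx h1] at this

theorem Z_cent [Finite G] {w c x : G} (hw : Sw a b w) (hc : c ∈ CC G a b) (e : w * c = c * w)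
    (hx : x ∈ U ⊓ C{t}) : c * x = x * c := by
  by_cases h1 : x = 1
  · simp [h1]
  obtain ⟨w', hw', hg⟩ := h.exists_w
  have k1 := relIndex_C1 (CC G a b) x
  rw [h.orbit_eq hx h1, ncard_diff, h.card_X, ← h.card_D_eq hw' hg, h.card_D hw'] at k1
  have k2 := card_inf_mul_relIndex C{x} (CC G a b)
  have k3 := card_inf_mul_relIndex C{w'} (CC G a b)
  have k4 : C{x} ⊓ CC G a b = C{w'} ⊓ CC G a b :=
    eq_of_card_eq (le_inf (h.stab_le hw' hx.1 h1) inf_le_right)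
      (Nat.eq_of_mul_eq_mul_right (relIndex_pos C{w'} (CC G a b)) (by rw [k3, ← k1, k2]))
  have : c ∈ C{w'} ⊓ CC G a b := ⟨mem_C1_comm.1 (mem_C1_iff_conj.2 (by
    rw [h.sw_conj_eq hw' hw hc, e]; group)), hc⟩
  rw [← k4] at this
  exact mem_C1.1 this.1

end Hyp

end H2.U3
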