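import Mathlib
import Cfsg.Agent.H2.U3A
import Cfsg.Agent.H21.FieldCoord
import Cfsg.Agent.H19.SL2

/-!
# Recognition of `PSU₃(q)`, `q` odd: field coordinates and the subgroup `SL₂(q)`
-/

set_option autoImplicit false
set_option linter.unusedSectionVars false

namespace H2.U3

open Cfsg Subgroup H24 MulAction H19 Matrix
open scoped MatrixGroups

universe u

variable {G : Type u} {Ω : Type*} [Group G] [MulAction G Ω]

/-- Steinberg relations of rank one give a homomorphism from `SL₂(F)` -/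
theorem exists_sl2Hom {F : Type*} [Field F] (x hh : F → G) (n : G)
    (xadd : ∀ s s', x (s + s') = x s * x s') (h1 : hh 1 = 1)
    (hmul : ∀ a a', a ≠ 0 → a' ≠ 0 → hh (a * a') = hh a * hh a')
    (hx : ∀ a s, a ≠ 0 → hh a * x s = x (a ^ 2 * s) * hh a)
    (nh : ∀ a, a ≠ 0 → n * hh a = hh a⁻¹ * n) (nn : n * n = hh (-1))
    (nxn : ∀ s, s ≠ 0 → n * x s * n = x (-s⁻¹) * hh (-s⁻¹) * n * x (-s⁻¹)) :
    ∃ φ : SL(2, F) →* G, (∀ s, φ (slU s) = x s) ∧ φ slW = n ∧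
      (∀ g : SL(2, F), g 1 0 = 0 → φ g = x (g 0 0 * g 0 1) * hh (g 0 0)) ∧
      ∀ g : SL(2, F), g 1 0 ≠ 0 →
        φ g = x (g 0 0 / g 1 0) * hh (-(g 1 0)⁻¹) * n * x (g 1 1 / g 1 0) := by
  classical
  have x0 : x 0 = 1 := by have := xadd 0 0; rw [add_zero] at this; simpa using this
  let f : SL(2, F) → G := fun g => if g 1 0 = 0 then x (g 0 0 * g 0 1) * hh (g 0 0)
    else x (g 0 0 / g 1 0) * hh (-(g 1 0)⁻¹) * n * x (g 1 1 / g 1 0)
  have fU : ∀ s g, f (slU s * g) = x s * f g := by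
    intro s g
    have hd := sl_det g
    have e1 : (slU s * g) 1 0 = g 1 0 := by simp [coe_slU, mul_apply, Fin.sum_univ_two]
    have e2 : (slU s * g) 1 1 = g 1 1 := by simp [coe_slU, mul_apply, Fin.sum_univ_two]
    have e3 : (slU s * g) 0 0 = g 0 0 + s * g 1 0 := by simp [coe_slU, mul_apply, Fin.sum_univ_two]
    have e4 : (slU s * g) 0 1 = g 0 1 + s * g 1 1 := by simp [coe_slU, mul_apply, Fin.sum_univ_two]
    simp only [f]
    rw [e1, e2, e3, e4]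
    split_ifs with hc
    · rw [hc] at hd ⊢
      rw [← mul_assoc, ← xadd, mul_zero, add_zero]
      congr 2
      linear_combination s * hd
    · rw [← mul_assoc, ← mul_assoc, ← mul_assoc, ← xadd]
      congr 4
      field_simp
      ring
  have fW : ∀ g, f (slW * g) = n * f g := by
    intro g
    have hd := sl_det g
    have e1 : (slW * g : SL(2, F)) 1 0 = -g 0 0 := by simp [coe_slW, mul_apply, Fin.sum_univ_two]
    have e2 : (slW * g : SL(2, F)) 1 1 = -g 0 1 := by simp [coe_slW, mul_apply, Fin.sum_univ_two]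
    have e3 : (slW * g : SL(2, F)) 0 0 = g 1 0 := by simp [coe_slW, mul_apply, Fin.sum_univ_two]
    have e4 : (slW * g : SL(2, F)) 0 1 = g 1 1 := by simp [coe_slW, mul_apply, Fin.sum_univ_two]
    simp only [f]
    rw [e1, e2, e3, e4]
    generalize g 0 0 = a at *
    generalize g 0 1 = b at *
    generalize g 1 0 = c at *
    generalize g 1 1 = d at *
    by_cases hc : c = 0
    · subst hc
      have ha : a ≠ 0 := fun h => by simp [h] at hd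
      rw [if_neg (neg_ne_zero.2 ha), if_pos rfl, show a * b = a ^ 2 * (b / a) by field_simp,
        ← hx _ _ ha, ← mul_assoc, nh a ha]
      simp [x0]
    · rw [if_neg hc]
      have hc' : -c⁻¹ ≠ 0 := by simpa using hc
      by_cases ha : a = 0
      · subst ha
        rw [if_pos neg_zero, zero_div, x0, one_mul, ← mul_assoc, ← mul_assoc, nh _ hc',
          mul_assoc (hh _) n n, nn, ← hmul _ _ (inv_ne_zero hc') (by simp), show (-c⁻¹)⁻¹ * -1 = c by simp, hx _ _ hc]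
        congr 2
        field_simp
      · rw [if_neg (neg_ne_zero.2 ha)]
        have k1 := nxn (a / c) (div_ne_zero ha hc)
        have k2 : hh (-c⁻¹) * n = n * hh (-c) := by rw [nh _ (neg_ne_zero.2 hc), neg_inv]
        have k3 : x (-(a / c)⁻¹) * hh (-c) = hh (-c) * x (-(a * c)⁻¹) := by
          rw [hx _ _ (neg_ne_zero.2 hc)]; congr 2; field_simp
        have k4 : hh (-(a / c)⁻¹) * hh (-c⁻¹) = hh (-(-a)⁻¹) := by
          rw [← hmul _ _ (by simp [ha, hc]) hc']; congr 1; field_simp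
        calc x (c / -a) * hh (-(-a)⁻¹) * n * x (-b / -a)
            = x (-(a / c)⁻¹) * (hh (-(a / c)⁻¹) * hh (-c⁻¹)) * n * x (-(a * c)⁻¹ + d / c) := by
              rw [k4, show c / -a = -(a / c)⁻¹ by field_simp,
                show -b / -a = -(a * c)⁻¹ + d / c by field_simp; linear_combination -hd]
          _ = x (-(a / c)⁻¹) * hh (-(a / c)⁻¹) * (hh (-c⁻¹) * n) * x (-(a * c)⁻¹) * x (d / c) := by
              rw [xadd]; group
          _ = x (-(a / c)⁻¹) * hh (-(a / c)⁻¹) * n * (hh (-c) * x (-(a * c)⁻¹)) * x (d / c) := by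
              rw [k2]; group
          _ = (x (-(a / c)⁻¹) * hh (-(a / c)⁻¹) * n * x (-(a / c)⁻¹)) * hh (-c) * x (d / c) := by
              rw [← k3]; group
          _ = n * x (a / c) * (n * hh (-c)) * x (d / c) := by rw [← k1]; group
          _ = _ := by rw [← k2]; group
  have f1 : f 1 = 1 := by simp [f, h1, x0]
  let φ : SL(2, F) →* G := MonoidHom.mk' f fun a => by
    refine sl2_induction (P := fun a => ∀ b, f (a * b) = f a * f b) ?_ ?_ ?_ a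
    · intro t b; rw [fU, ← mul_one (slU t), fU, f1, mul_one]
    · intro b; rw [fW, ← mul_one slW, fW, f1, mul_one]
    · intro a b ha hb c; rw [mul_assoc, ha, hb, ha, mul_assoc]
  refine ⟨φ, fun s => ?_, ?_, fun g hg => if_pos hg, fun g hg => if_neg hg⟩
  · change f _ = _
    rw [← mul_one (slU s), fU, f1, mul_one]
  · change f _ = _
    rw [← mul_one slW, fW, f1, mul_one]

theorem arith_w {p n k q w m : ℕ} (hp : p.Prime) (hq : q = p ^ n) (hw : w = p ^ k) (h3 : 3 ≤ q)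
    (h1 : 1 < w) (hle : w ≤ q ^ 2) (d1 : q - 1 ∣ w - 1) (d2 : 2 ^ m ∣ w - 1)
    (hm : ¬ 2 ^ m ∣ q - 1) : w = q ^ 2 := by
  have hqw : q ≤ w := by have := Nat.le_of_dvd (by omega) d1; omega
  have hnk : n ≤ k := by
    by_contra h
    have : p ^ k < p ^ n := Nat.pow_lt_pow_right hp.one_lt (by omega)
    omega
  obtain ⟨z, hz⟩ : q ∣ w := hq ▸ hw ▸ pow_dvd_pow p hnk
  have hz1 : z ≠ 1 := by rintro rfl; rw [mul_one] at hz; exact hm (hz ▸ d2)
  have hz0 : z ≠ 0 := by rintro rfl; omega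
  have hzq : z ≤ q := by
    by_contra h
    nlinarith
  have d3 : q - 1 ∣ z - 1 := by
    have : w - 1 = (q - 1) * z + (z - 1) := by
      obtain ⟨r, rfl⟩ : ∃ r, q = r + 1 := ⟨q - 1, by omega⟩
      obtain ⟨y, rfl⟩ : ∃ y, z = y + 1 := ⟨z - 1, by omega⟩
      simp only [Nat.add_sub_cancel]
      apply Nat.sub_eq_of_eq_add; rw [hz]; ring
    rw [this] at d1
    exact (Nat.dvd_add_right (Dvd.intro _ rfl)).1 d1
  have := Nat.le_of_dvd (by omega) d3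
  have : z = q := by omega
  rw [hz, this, sq]

namespace Hyp

variable [Finite G] {a b : Ω} {U : Subgroup G} {q : ℕ} {t : G} (h : Hyp G a b U q t)

include h

theorem U_nil : Nil U := by
  obtain ⟨p, n, hp, -, -, hq⟩ := h.pp
  exact (isPi_of_card hp (n := n * 3) (by rw [h.cardU, hq, pow_mul])).nil hp

theorem C_le_NX : CC G a b ≤ N[U ⊓ C{t}] := le_N_iff.2 fun _ hc _ hx => h.conj_X hc hx

theorem X_le_of {W : Subgroup G} (hW : CC G a b ≤ N[W]) (h1 : W ⊓ (U ⊓ C{t}) ≠ ⊥) :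
    U ⊓ C{t} ≤ W := fun y hy => by
  obtain ⟨x, hx, hx1⟩ := exists_ne_one h1
  by_cases e : y = 1
  · rw [e]; exact one_mem _
  obtain ⟨c, hc, rfl⟩ := h.X_trans hx.2 hx1 hy e
  exact conj_mem (hW hc) hx.1

theorem X_abl : Abl (U ⊓ C{t}) := abl_iff.2 (h.X_le_of (norm_C h.C_le_NX) (by
  rw [inf_comm]; exact (h.U_nil.of_le inf_le_left).center_ne_bot h.X_ne_bot))

theorem cent_le_X {c : G} (hc : c ∈ CC G a b)
    (hz : ∀ g, Sw a b g → g * c = c * g → t ∈ zpowers c) : U ⊓ C{c} ≤ U ⊓ C{t} := fun u hu => by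
  by_cases e : u = 1
  · rw [e]; exact one_mem _
  obtain ⟨g, hg⟩ := h.exists_sw
  exact ⟨hu.1, C1_le_C1_of_mem_zpowers (hz g hg (h.sw_comm hc hu.1 e (mem_C1.1 hu.2) hg)) hu.2⟩

theorem cent_D_le {w : G} (hw : Sw a b w) {d : G} (hd : d ∈ (h.dl hw).range) (h1 : d ≠ 1) :
    U ⊓ C{d} ≤ U ⊓ C{t} := h.cent_le_X (h.D_le hw hd) fun g hg e => by
  have k := h.D_inv hw hd
  rw [h.sw_conj_eq hw hg (h.D_le hw hd), e, mul_inv_cancel_right] at k
  rcases h.t_uniq (h.D_le hw hd) (by nth_rewrite 1 [k]; group) with e | e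
  · exact absurd e h1
  · exact e ▸ mem_zpowers d

theorem exists_AB : ∃ A ≤ CC G a b, ∃ B ≤ CC G a b, ∃ m, ♯A = q - 1 ∧ ♯B = 2 ^ m ∧
    ¬ 2 ^ m ∣ q - 1 ∧ (∀ c ∈ A, c ≠ 1 → U ⊓ C{c} ≤ U ⊓ C{t}) ∧
    ∀ c ∈ B, c ≠ 1 → U ⊓ C{c} ≤ U ⊓ C{t} := by
  obtain ⟨w, hw, hg⟩ := h.exists_w
  obtain ⟨c, hc, m, ho, hm⟩ := h.exists_c2
  refine ⟨_, h.D_le hw, zpowers c, zpowers_le.2 hc, m, h.card_D_eq hw hg, by rw [card_zpowers', ho],
    hm, fun d hd => h.cent_D_le hw hd, fun y hy hy1 => h.cent_le_X (zpowers_le.2 hc hy) fun _ _ _ =>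
      h.t_mem_zpowers (zpowers_le.2 hc hy) hy1 (k := m) ?_⟩
  obtain ⟨k, rfl⟩ := mem_zpowers_iff.1 hy
  rw [← ho, ← zpow_natCast, ← _root_.zpow_mul, mul_comm, _root_.zpow_mul, zpow_natCast,
    pow_orderOf_eq_one, _root_.one_zpow]

theorem X_central : U ⊓ C{t} ≤ C[U] := by
  by_cases e : Z[U] ⊓ (U ⊓ C{t}) = ⊥
  swap
  · exact (h.X_le_of (norm_Z h.C_le_NU) e).trans inf_le_right
  exfalso
  obtain ⟨A, hA, B, hB, m, cA, cB, hm, fA, fB⟩ := h.exists_AB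
  have hU1 : U ≠ ⊥ := ne_bot_of_le h.X_ne_bot inf_le_left
  have hZ := h.U_nil.center_ne_bot hU1
  have reg : ∀ A ≤ CC G a b, (∀ c ∈ A, c ≠ 1 → U ⊓ C{c} ≤ U ⊓ C{t}) → ♯A ∣ ♯Z[U] - 1 :=
    fun A hA f => Semireg.dvd_pred (fun c hc h1 => eq_bot_iff.2 (e ▸ le_inf inf_le_left
      ((inf_le_inf_right _ inf_le_left).trans (f c hc h1)))) (hA.trans (norm_Z h.C_le_NU))
  obtain ⟨p, n, hp, -, -, hq⟩ := h.pp
  obtain ⟨k, -, hk⟩ := (Nat.dvd_prime_pow hp).1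
    (show ♯Z[U] ∣ p ^ (n * 3) by rw [pow_mul, ← hq, ← h.cardU]; exact card_dvd inf_le_left)
  have k1 := card_sup_of_inf (A := Z[U]) (B := U ⊓ C{t}) (inf_le_left.trans (norm_Z (norm_self U))) e
  have k2 : ♯(Z[U] ⊔ U ⊓ C{t}) ≤ ♯U := card_le (sup_le inf_le_left inf_le_left)
  have h3 := h.three_le
  rw [k1, h.card_X, h.cardU] at k2
  have k3 := arith_w hp hq hk h3 (one_lt_card hZ) (Nat.le_of_mul_le_mul_right (by
    rwa [← pow_succ]) (by omega : 0 < q)) (cA ▸ reg A hA fA) (cB ▸ reg B hB fB) hm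
  have k4 : Z[U] ⊔ U ⊓ C{t} = U := eq_of_card_eq (sup_le inf_le_left inf_le_left) (by
    rw [k1, k3, h.card_X, h.cardU]; ring)
  have k5 : U ≤ C[U ⊓ C{t}] := by
    rw [← k4]
    refine sup_le (inf_le_right.trans (C_anti ?_)) ?_
    · rw [k4]; exact inf_le_left
    · rw [k4]; exact h.X_abl.le_C
  exact h.X_ne_bot (le_bot_iff.1 (e ▸ le_inf (le_inf inf_le_left (cents_symm k5)) le_rfl))

theorem U_le_NX : U ≤ N[U ⊓ C{t}] := norm_of_cent (cents_symm h.X_central)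

theorem X_nml : U ⊓ C{t} ⊴ U := ⟨inf_le_left, h.U_le_NX⟩

theorem card_E : ♯(quo U (U ⊓ C{t})) = q ^ 2 := by
  have := h.X_nml.card_quo
  rw [h.card_X, h.cardU] at this
  have h3 := h.three_le
  exact Nat.eq_of_mul_eq_mul_left (by omega : 0 < q) (by rw [this]; ring)

theorem cop_X {c : G} (hc : c ∈ CC G a b) : (♯(U ⊓ C{t})).Coprime (orderOf c) :=
  (h.cop.coprime_dvd_left (card_dvd inf_le_left)).coprime_dvd_right (orderOf_dvd_card' hc)

theorem E_irr (W : Subgroup (QN (U ⊓ C{t}))) (hW : W ≤ quo U (U ⊓ C{t})) (h1 : W ≠ ⊥)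
    (hn : quo (CC G a b) (U ⊓ C{t}) ≤ N[W]) : W = quo U (U ⊓ C{t}) := by
  obtain ⟨A, hA, B, hB, m, cA, cB, hm, fA, fB⟩ := h.exists_AB
  have reg : ∀ A ≤ CC G a b, (∀ c ∈ A, c ≠ 1 → U ⊓ C{c} ≤ U ⊓ C{t}) → ♯A ∣ ♯W - 1 := by
    intro A hA f
    rw [← card_quo_of_inf (K := U ⊓ C{t}) (hA.trans h.C_le_NX) (eq_bot_iff.2 fun y hy =>
      h.UC_eq_one hy.1.1 (hA hy.2))]
    refine Semireg.dvd_pred (fun z hz h1 => ?_) ((quo_mono _ hA).trans hn)
    obtain ⟨c, hc, hcN, rfl⟩ := mem_quo.1 hz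
    have hc1 : c ≠ 1 := fun e => h1 (by rw [e]; exact cs_of_mem (one_mem _))
    have := coprime_quo_cent1 (h.C_le_NU (hA hc)) hcN h.U_le_NX (h.cop_X (hA hc))
    rw [quo_eq_bot_of_le (f c hc hc1)] at this
    exact eq_bot_iff.2 (this ▸ inf_le_inf_right _ hW)
  obtain ⟨p, n, hp, -, -, hq⟩ := h.pp
  obtain ⟨k, -, hk⟩ := (Nat.dvd_prime_pow hp).1
    (show ♯W ∣ p ^ (n * 2) by rw [pow_mul, ← hq, ← h.card_E]; exact card_dvd hW)
  exact eq_of_card_eq hW (h.card_E ▸ arith_w hp hq hk h.three_le (one_lt_card h1)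
    (h.card_E ▸ card_le hW) (cA ▸ reg A hA fA) (cB ▸ reg B hB fB) hm)

theorem E_ne_bot : quo U (U ⊓ C{t}) ≠ ⊥ := fun e => by
  have := h.card_E
  have h3 := h.three_le
  rw [e, card_bot] at this
  nlinarith

theorem E_abl : Abl (quo U (U ⊓ C{t})) := abl_iff.2 (by
  have := h.E_irr _ inf_le_left ((h.U_nil.img _).center_ne_bot h.E_ne_bot)
    (norm_Z (quo_norm _ h.C_le_NU))
  exact this.ge.trans inf_le_right)

end Hyp

/-- field coordinates on `X` and on `U / X` -/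
structure Crd (a b : Ω) (U : Subgroup G) (t : G) {F K : Type*} [Field F] [Field K]
    (x : F → G) (ψ : G → F) (ε χ : G → K) : Prop where
  xadd : ∀ s s', x (s + s') = x s * x s'
  xinj : Function.Injective x
  xmem : ∀ s, x s ∈ U ⊓ C{t}
  xsurj : ∀ y ∈ U ⊓ C{t}, ∃ s, x s = y
  xconj : ∀ c ∈ CC G a b, ∀ s, c * x s * c⁻¹ = x (ψ c * s)
  εadd : ∀ u ∈ U, ∀ u' ∈ U, ε (u * u') = ε u + ε u'
  εker : ∀ u ∈ U, ε u = 0 ↔ u ∈ U ⊓ C{t}
  εsurj : ∀ k, ∃ u ∈ U, ε u = k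
  εconj : ∀ c ∈ CC G a b, ∀ u ∈ U, ε (c * u * c⁻¹) = χ c * ε u

theorem Hyp.exists_crd [Finite G] {a b : Ω} {U : Subgroup G} {q : ℕ} {t : G} (h : Hyp G a b U q t)
    (F K : Type*) [Field F] [Field K] [Finite F] [Finite K] (hF : Nat.card F = q)
    (hK : Nat.card K = q ^ 2) : ∃ (x : F → G) (ψ : G → F) (ε χ : G → K), Crd a b U t x ψ ε χ := by
  classical
  obtain ⟨x0, hx0, hx1⟩ := exists_ne_one h.X_ne_bot
  have := h.X_abl
  obtain ⟨x, ψ, x1, x2, x3, x4, -, x5, -⟩ := H21.exists_field_coord (U ⊓ C{t}) (CC G a b)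
    (fun _ hc _ hc' => h.Ccomm hc hc') h.C_le_NX
    (fun W hW h1 hn => le_antisymm hW (h.X_le_of hn (by rwa [inf_eq_left.2 hW]))) hx0 hx1 F
    (hF.trans h.card_X.symm)
  obtain ⟨e0, he0, he1⟩ := exists_ne_one h.E_ne_bot
  have := h.E_abl
  obtain ⟨τ, μ, t1, t2, t3, t4, -, t5, -⟩ := H21.exists_field_coord (quo U (U ⊓ C{t}))
    (quo (CC G a b) (U ⊓ C{t})) (fun _ hc _ hc' => (Abl.img (Cyc.abl h.cyc) _).comm hc hc')
    (quo_norm _ h.C_le_NU) h.E_irr he0 he1 K (hK.trans h.card_E.symm)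
  have hm : ∀ u ∈ U, ∃ k, τ k = cs (U ⊓ C{t}) u := fun u hu => t4 _ (cs_mem_quo hu (h.U_le_NX hu))
  choose! ε hε using hm
  have τ0 : τ 0 = 1 := by have := t1 0 0; rw [add_zero] at this; simpa using this
  refine ⟨x, ψ, ε, fun c => μ (cs (U ⊓ C{t}) c), x1, x2, x3, x4, x5, fun u hu u' hu' => t2 ?_,
    fun u hu => ?_, fun k => ?_, fun c hc u hu => t2 ?_⟩
  · rw [t1, hε _ (mul_mem hu hu'), hε _ hu, hε _ hu']
    exact ap_mul _ (h.U_le_NX hu) (h.U_le_NX hu')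
  · rw [← cs_eq_one (h.U_le_NX hu), ← hε u hu, ← τ0, t2.eq_iff]
  · obtain ⟨u, hu, -, e⟩ := mem_quo.1 (t3 k)
    exact ⟨u, hu, t2 (by rw [hε u hu, e])⟩
  · rw [hε _ (h.CU hc hu), ← t5 _ (cs_mem_quo hc (h.C_le_NX hc)), hε _ hu]
    exact ap_conj _ (h.C_le_NX hc) (h.U_le_NX hu)

namespace Crd

variable [Finite G] {a b : Ω} {U : Subgroup G} {q : ℕ} {t : G} {F K : Type*} [Field F] [Field K]
  {x : F → G} {ψ : G → F} {ε χ : G → K} (h : Hyp G a b U q t) (k : Crd a b U t x ψ ε χ)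

include k

theorem x0 : x 0 = 1 := by have := k.xadd 0 0; rw [add_zero] at this; simpa using this

theorem xneg (s : F) : x (-s) = (x s)⁻¹ :=
  eq_inv_of_mul_eq_one_left (by rw [← k.xadd, neg_add_cancel, k.x0])

theorem xU (s : F) : x s ∈ U := (k.xmem s).1

theorem xt (s : F) : x s * t = t * x s := mem_C1.1 (k.xmem s).2

theorem x_eq_one {s : F} : x s = 1 ↔ s = 0 := by rw [← k.x0, k.xinj.eq_iff]

theorem ψ_eq {c : G} (hc : c ∈ CC G a b) {s : F} (e : c * x 1 * c⁻¹ = x s) : ψ c = s :=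
  k.xinj (by rw [← e, k.xconj c hc, mul_one])

theorem ψmul {c c' : G} (hc : c ∈ CC G a b) (hc' : c' ∈ CC G a b) : ψ (c * c') = ψ c * ψ c' :=
  k.ψ_eq (mul_mem hc hc') (by
    rw [← mul_one (ψ c'), ← k.xconj c hc, ← k.xconj c' hc']; group)

theorem ψone : ψ 1 = 1 := k.ψ_eq (one_mem _) (by group)

theorem ψinv {c : G} (hc : c ∈ CC G a b) : ψ c⁻¹ = (ψ c)⁻¹ :=
  eq_inv_of_mul_eq_one_left (by rw [← k.ψmul (inv_mem hc) hc, inv_mul_cancel, k.ψone])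

theorem ψne {c : G} (hc : c ∈ CC G a b) : ψ c ≠ 0 :=
  left_ne_zero_of_mul_eq_one (by rw [← k.ψmul hc (inv_mem hc), mul_inv_cancel, k.ψone])

theorem ε1 : ε 1 = 0 := (k.εker 1 (one_mem _)).2 (one_mem _)

theorem εinv {u : G} (hu : u ∈ U) : ε u⁻¹ = - ε u :=
  eq_neg_of_add_eq_zero_left (by rw [← k.εadd _ (inv_mem hu) _ hu, inv_mul_cancel, k.ε1])

theorem εx (s : F) : ε (x s) = 0 := (k.εker _ (k.xU s)).2 (k.xmem s)

theorem ε_eq {u u' : G} (hu : u ∈ U) (hu' : u' ∈ U) (e : ε u = ε u') : ∃ s, u' = x s * u := by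
  obtain ⟨s, hs⟩ := k.xsurj (u' * u⁻¹) ((k.εker _ (mul_mem hu' (inv_mem hu))).1 (by
    rw [k.εadd _ hu' _ (inv_mem hu), k.εinv hu, e, add_neg_cancel]))
  exact ⟨s, by rw [hs]; group⟩

include h

theorem ψsurj {s : F} (hs : s ≠ 0) : ∃ c ∈ CC G a b, ψ c = s := by
  obtain ⟨c, hc, e⟩ := h.X_trans (k.xmem 1) (by rw [Ne, k.x_eq_one]; exact one_ne_zero) (k.xmem s)
    (by rwa [Ne, k.x_eq_one])
  exact ⟨c, hc, k.ψ_eq hc e.symm⟩

theorem ψ_eq_one {c g : G} (hc : c ∈ CC G a b) (hg : Sw a b g) : ψ c = 1 ↔ g * c = c * g := by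
  constructor
  · intro e
    have := k.xconj c hc 1
    rw [e, mul_one, mul_inv_eq_iff_eq_mul] at this
    exact h.sw_comm hc (k.xU 1) (by rw [Ne, k.x_eq_one]; exact one_ne_zero) this.symm hg
  · intro e
    exact k.ψ_eq hc (by rw [h.Z_cent hg hc e (k.xmem 1)]; group)

theorem ψsw {c g : G} (hc : c ∈ CC G a b) (hg : Sw a b g) : ψ (g * c * g⁻¹) = (ψ c)⁻¹ := by
  refine eq_inv_of_mul_eq_one_right ?_
  rw [← k.ψmul hc (Hyp.sw_conj hg hc), k.ψ_eq_one h (mul_mem hc (Hyp.sw_conj hg hc)) hg]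
  have e1 := h.Ccomm (Hyp.sw_mul hg hg) hc
  have e2 := h.Ccomm hc (Hyp.sw_conj hg hc)
  calc g * (c * (g * c * g⁻¹)) = g * c * g⁻¹ * (g * g * c) * g⁻¹ := by group
    _ = (g * c * g⁻¹ * c) * g := by rw [e1]; group
    _ = _ := by rw [e2]

theorem xcomm (s : F) {u : G} (hu : u ∈ U) : x s * u = u * x s :=
  mem_C'.1 (h.X_central (k.xmem s)) u hu

theorem χ_eq {c : G} (hc : c ∈ CC G a b) {z : K}
    (e : ∀ u ∈ U, ε (c * u * c⁻¹) = z * ε u) : χ c = z := by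
  obtain ⟨u, hu, e1⟩ := k.εsurj 1
  have := e u hu
  rwa [k.εconj c hc u hu, e1, mul_one, mul_one] at this

theorem χmul {c c' : G} (hc : c ∈ CC G a b) (hc' : c' ∈ CC G a b) : χ (c * c') = χ c * χ c' :=
  k.χ_eq h (mul_mem hc hc') fun u hu => by
    rw [mul_assoc (χ c), ← k.εconj c' hc' u hu, ← k.εconj c hc _ (h.CU hc' hu)]
    congr 1; group

theorem χone : χ 1 = 1 := k.χ_eq h (one_mem _) fun u _ => by simp

theorem χ_inj {c : G} (hc : c ∈ CC G a b) (e : χ c = 1) : c = 1 := by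
  have k1 := coprime_quo_cent1 (h.C_le_NU hc) (h.C_le_NX hc) h.U_le_NX (h.cop_X hc)
  have k2 : quo U (U ⊓ C{t}) ≤ C{cs (U ⊓ C{t}) c} := fun z hz => by
    obtain ⟨u, hu, hN, rfl⟩ := mem_quo.1 hz
    have e0 : cs (U ⊓ C{t}) (c * u * c⁻¹) = cs (U ⊓ C{t}) c * cs (U ⊓ C{t}) u * (cs (U ⊓ C{t}) c)⁻¹ :=
      ap_conj _ (h.C_le_NX hc) hN
    rw [mem_C1_comm, mem_C1_iff_conj, ← e0, eq_comm,
      cs_eq_cs hN (h.U_le_NX (h.CU hc hu)), ← k.εker _ (mul_mem (inv_mem hu) (h.CU hc hu)),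
      k.εadd _ (inv_mem hu) _ (h.CU hc hu), k.εinv hu, k.εconj c hc u hu, e]
    ring
  rw [inf_eq_left.2 k2] at k1
  obtain ⟨u, hu, h1⟩ := exists_ne_one (H := U ⊓ C{c}) fun e => h.E_ne_bot (by
    rw [← k1, e]; exact img_bot _)
  obtain ⟨g, hg⟩ := h.exists_sw
  have k3 : U ⊓ C{t} ≤ U ⊓ C{c} := fun y hy => ⟨hy.1, mem_C1.2
    (h.Z_cent hg hc (h.sw_comm hc hu.1 h1 (mem_C1.1 hu.2) hg) hy).symm⟩
  have k4 : U ≤ U ⊓ C{c} :=
    le_of_quo_le h.U_le_NX ⟨k3, inf_le_left.trans h.U_le_NX⟩ k1.ge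
  refine h.faith c fun ω => ?_
  by_cases e : ω = a
  · rw [e]; exact hc.1
  obtain ⟨u', hu', rfl⟩ := h.Utr ω e
  exact fix_of_comm (mem_C1.1 (k4 hu').2) hc.2

theorem χt : χ t = -1 := by
  have : χ t * χ t = 1 := by rw [← k.χmul h h.tC h.tC, h.t2, k.χone h]
  exact (mul_self_eq_one_iff.1 this).resolve_left fun e => h.t1 (k.χ_inj h h.tC e)

theorem mem_X_of_comm {c u : G} (hc : c ∈ CC G a b) (h1 : c ≠ 1) (hu : u ∈ U)
    (e : u * c = c * u) : u ∈ U ⊓ C{t} := by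
  have := k.εconj c hc u hu
  rw [← e, mul_inv_cancel_right] at this
  refine (k.εker u hu).1 (by_contra fun hne => h1 (k.χ_inj h hc ?_))
  exact (mul_right_cancel₀ hne (by rw [one_mul, ← this])).symm

theorem fix_t_of_fix {c : G} (hc : c ∈ CC G a b) (h1 : c ≠ 1) {ω : Ω} (e : c • ω = ω) :
    t • ω = ω := by
  by_cases ha : ω = a
  · rw [ha, h.ta]
  obtain ⟨u, hu, rfl⟩ := h.Utr ω ha
  rw [h.cub hc] at e
  refine (h.t_fix_iff hu).2 (k.mem_X_of_comm h hc h1 hu ?_)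
  have := h.Ueq (h.CU hc hu) hu e
  calc u * c = c * u * c⁻¹ * c := by rw [this]
    _ = c * u := by group

theorem two_ne (hF : Nat.card F = q) : (2 : F) ≠ 0 := by
  have : Finite F := Nat.finite_of_card_ne_zero (by have := h.three_le; omega)
  have := Fintype.ofFinite F
  intro e
  have h2 : ringChar F = 2 := by
    have := (ringChar.spec F 2).1 (by exact_mod_cast e)
    rcases (Nat.dvd_prime Nat.prime_two).1 this with e | e
    · exact absurd e (CharP.ringChar_ne_one)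
    · exact e
  have := FiniteField.even_card_of_char_two h2
  rw [Fintype.card_eq_nat_card, hF] at this
  have := Nat.odd_iff.1 h.q_odd
  omega

theorem exists_hh : ∃ hh : F → G, ∀ c ∈ CC G a b, ∀ g, Sw a b g →
    hh (ψ c) = c * (g * c * g⁻¹)⁻¹ := by
  obtain ⟨w, hw⟩ := h.exists_sw
  choose! cc hcc using fun s (hs : s ≠ 0) => k.ψsurj h hs
  refine ⟨fun s => cc s * (w * cc s * w⁻¹)⁻¹, fun c hc g hg => ?_⟩
  obtain ⟨h1, h2⟩ := hcc (ψ c) (k.ψne hc)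
  rw [h.sw_conj_eq hg hw hc]
  have e : w * (c⁻¹ * cc (ψ c)) = c⁻¹ * cc (ψ c) * w :=
    (k.ψ_eq_one h (mul_mem (inv_mem hc) h1) hw).1 (by
      rw [k.ψmul (inv_mem hc) h1, h2, k.ψinv hc, inv_mul_cancel₀ (k.ψne hc)])
  have := (h.dl hw).map_mul ⟨c, hc⟩ ⟨c⁻¹ * cc (ψ c), mul_mem (inv_mem hc) h1⟩
  simp only [Hyp.dl, MonoidHom.mk'_apply, coe_mul, mul_inv_cancel_left] at this
  simp only []
  rw [this, e]; group

end Crd

/-- the torus and the Weyl element of the subgroup `SL₂(q)` -/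
structure Crd2 (a b : Ω) (t : G) {F : Type*} [Field F] (x : F → G) (ψ : G → F) (hh : F → G)
    (n : G) (φ : SL(2, F) →* G) : Prop where
  spec : ∀ c ∈ CC G a b, ∀ g, Sw a b g → hh (ψ c) = c * (g * c * g⁻¹)⁻¹
  mem : ∀ s, s ≠ 0 → hh s ∈ CC G a b
  h1 : hh 1 = 1
  hm1 : hh (-1) = t
  hmul : ∀ s s', s ≠ 0 → s' ≠ 0 → hh (s * s') = hh s * hh s'
  hψ : ∀ s, s ≠ 0 → ψ (hh s) = s ^ 2
  hinj : ∀ s, s ≠ 0 → hh s = 1 → s = 1
  sw : Sw a b n
  nn : n * n = t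
  nh : ∀ s, s ≠ 0 → n * hh s = hh s⁻¹ * n
  nx : ∀ s, s ≠ 0 → n • x s • b = x (-s⁻¹) • b
  φU : ∀ s, φ (slU s) = x s
  φW : φ slW = n
  φ0 : ∀ g : SL(2, F), g 1 0 = 0 → φ g = x (g 0 0 * g 0 1) * hh (g 0 0)
  φ1 : ∀ g : SL(2, F), g 1 0 ≠ 0 →
    φ g = x (g 0 0 / g 1 0) * hh (-(g 1 0)⁻¹) * n * x (g 1 1 / g 1 0)

theorem Crd.exists_crd2 [Finite G] {a b : Ω} {U : Subgroup G} {q : ℕ} {t : G} {F K : Type*}
    [Field F] [Field K] {x : F → G} {ψ : G → F} {ε χ : G → K} (h : Hyp G a b U q t)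
    (k : Crd a b U t x ψ ε χ) (h2 : (2 : F) ≠ 0) :
    ∃ (hh : F → G) (n : G) (φ : SL(2, F) →* G), Crd2 a b t x ψ hh n φ := by
  obtain ⟨hh, spec⟩ := k.exists_hh h
  obtain ⟨w, hw⟩ := h.exists_sw
  have mem : ∀ s, s ≠ 0 → hh s ∈ CC G a b := fun s hs => by
    obtain ⟨c, hc, rfl⟩ := k.ψsurj h hs
    rw [spec c hc w hw]
    exact mul_mem hc (inv_mem (Hyp.sw_conj hw hc))
  have h1 : hh 1 = 1 := by rw [← k.ψone, spec 1 (one_mem _) w hw]; group
  have hmul : ∀ s s', s ≠ 0 → s' ≠ 0 → hh (s * s') = hh s * hh s' := fun s s' hs hs' => by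
    obtain ⟨c, hc, rfl⟩ := k.ψsurj h hs
    obtain ⟨c', hc', rfl⟩ := k.ψsurj h hs'
    rw [← k.ψmul hc hc', spec _ (mul_mem hc hc') w hw, spec c hc w hw, spec c' hc' w hw]
    exact (h.dl hw).map_mul ⟨c, hc⟩ ⟨c', hc'⟩
  have hψ : ∀ s, s ≠ 0 → ψ (hh s) = s ^ 2 := fun s hs => by
    obtain ⟨c, hc, rfl⟩ := k.ψsurj h hs
    rw [spec c hc w hw, k.ψmul hc (inv_mem (Hyp.sw_conj hw hc)), k.ψinv (Hyp.sw_conj hw hc),
      k.ψsw h hc hw, inv_inv, sq]
  have hinj : ∀ s, s ≠ 0 → hh s = 1 → s = 1 := fun s hs e => by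
    obtain ⟨c, hc, rfl⟩ := k.ψsurj h hs
    rw [spec c hc w hw, mul_inv_eq_one] at e
    rw [k.ψ_eq_one h hc hw]
    calc w * c = w * c * w⁻¹ * w := by group
      _ = c * w := by rw [← e]
  have m1 : (-1 : F) ≠ 0 := by simp
  have hm1 : hh (-1) = t := by
    refine (h.t_uniq (mem _ m1) (by rw [← hmul _ _ m1 m1, neg_mul_neg, one_mul, h1])).resolve_left
      fun e => h2 ?_
    linear_combination -hinj _ m1 e
  have hinv : ∀ s, s ≠ 0 → hh s⁻¹ = (hh s)⁻¹ := fun s hs =>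
    eq_inv_of_mul_eq_one_left (by rw [← hmul _ _ (inv_ne_zero hs) hs, inv_mul_cancel₀ hs, h1])
  have swh : ∀ g, Sw a b g → ∀ s, s ≠ 0 → g * hh s = hh s⁻¹ * g := fun g hg s hs => by
    obtain ⟨c, hc, rfl⟩ := k.ψsurj h hs
    have := h.D_inv hg ((h.mem_D hg).2 ⟨c, hc, rfl⟩)
    rw [hinv _ hs, spec c hc g hg, ← this]; group
  have hx : ∀ s r, s ≠ 0 → hh s * x r = x (s ^ 2 * r) * hh s := fun s r hs => by
    rw [← hψ s hs, ← k.xconj _ (mem s hs)]; group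
  obtain ⟨c0, hc0, e0⟩ := k.ψsurj h m1
  have c0x : ∀ s, c0 * x s * c0⁻¹ = x (-s) := fun s => by rw [k.xconj c0 hc0, e0, neg_one_mul]
  have xb : ∀ s, s ≠ 0 → x s • b ≠ b := fun s hs e => hs (k.x_eq_one.1 (h.Ufree _ (k.xU s) e))
  have xa : ∀ s, x s • a = a := fun s => h.Ua _ (k.xU s)
  have txb : ∀ s, t • x s • b = x s • b := fun s => fix_of_comm (k.xt s) h.tb
  obtain ⟨s0, hs0⟩ : ∃ s0, w⁻¹ • x (-1) • b = x s0 • b := by
    rcases h.X_cases (fix_of_comm (h.sw_t (Hyp.sw_inv hw)) (txb (-1))) with e | ⟨y, hy, e⟩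
    · exact absurd (by rw [inv_smul_eq_iff, hw.1] at e; exact e) (xb _ m1)
    · obtain ⟨s, rfl⟩ := k.xsurj y hy
      exact ⟨s, e⟩
  obtain ⟨y, hy⟩ : ∃ y, y = w * x s0 * w⁻¹ := ⟨_, rfl⟩
  have ya : y • a = x (-1) • b := by
    rw [hy, mul_smul, mul_smul, (Hyp.sw_inv hw).1, ← hs0, smul_inv_smul]
  have c0y : c0 * y * c0⁻¹ = y⁻¹ := by
    have e1 := k.xconj _ (Hyp.sw_conj (Hyp.sw_inv hw) hc0) s0
    rw [k.ψsw h hc0 (Hyp.sw_inv hw), e0, inv_neg, inv_one, neg_one_mul, k.xneg] at e1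
    calc c0 * y * c0⁻¹ = w * (w⁻¹ * c0 * w⁻¹⁻¹ * x s0 * (w⁻¹ * c0 * w⁻¹⁻¹)⁻¹) * w⁻¹ := by
          rw [hy]; group
      _ = y⁻¹ := by rw [e1, hy]; group
  have yia : y⁻¹ • a = x 1 • b := by
    have : c0⁻¹ • a = a := (inv_mem hc0).1
    rw [← c0y, mul_smul, mul_smul, this, ya, h.cub hc0, c0x, neg_neg]
  obtain ⟨n, hn⟩ : ∃ n, n = x 1 * y * x 1 := ⟨_, rfl⟩
  have sw : Sw a b n := by
    constructor
    · rw [hn, mul_smul, mul_smul, xa, ya, ← mul_smul, ← k.xadd, add_neg_cancel, k.x0, one_smul]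
    · rw [hn, mul_smul, mul_smul, ← yia, smul_inv_smul, xa]
  have cn : ∀ c ∈ CC G a b, c * n * c⁻¹ = hh (ψ c) * n := fun c hc => by
    rw [spec c hc n sw]; group
  have nt := h.sw_t sw
  have ninv : n⁻¹ = t * n := by
    rw [← hm1, ← e0, ← cn c0 hc0, hn]
    calc _ = x (-1) * y⁻¹ * x (-1) := by rw [k.xneg]; group
      _ = _ := by rw [← c0y, ← c0x]; group
  have nn : n * n = t := by
    calc n * n = t * (t * n) * n := by rw [← mul_assoc t t, h.t2, one_mul]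
      _ = t := by rw [← ninv]; group
  obtain ⟨γ, hγ⟩ : ∃ γ, n⁻¹ * y * n = x γ :=
    ⟨_, by rw [← k.xconj _ (Hyp.sw_mul (Hyp.sw_inv sw) hw) s0, hy]; group⟩
  have E : n * x (-1) * n = x 1 * n * x γ := by
    rw [← hγ, k.xneg]
    calc n * (x 1)⁻¹ * n = x 1 * y * x 1 * (x 1)⁻¹ * n := by rw [← hn]
      _ = _ := by group
  have hγ1 : γ = 1 := by
    have e1 := congrArg (· • a) E
    have e2 := congrArg (· • b) E
    simp only [mul_smul, sw.1, sw.2, xa] at e1 e2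
    have e3 : n • x γ • b = x (-1) • b := by rw [k.xneg, eq_inv_smul_iff, ← e2]
    have e4 := congrArg (n • ·) e3
    simp only [← mul_smul n n, nn, txb, e1] at e4
    exact k.xinj (h.Ueq (k.xU _) (k.xU _) e4)
  subst hγ1
  have R1 : n * x 1 * n = x (-1) * t * n * x (-1) := by
    have e := congrArg (fun g => c0 * g * c0⁻¹) E
    have e1 : c0 * n * c0⁻¹ = t * n := by rw [cn c0 hc0, e0, hm1]
    calc n * x 1 * n = (t * t) * n * x 1 * n := by rw [h.t2, one_mul]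
      _ = t * (t * n) * x 1 * n := by simp only [mul_assoc]
      _ = t * n * (t * x 1) * n := by nth_rewrite 1 [← nt]; simp only [mul_assoc]
      _ = t * n * x 1 * (t * n) := by rw [← k.xt]; simp only [mul_assoc]
      _ = c0 * (n * x (-1) * n) * c0⁻¹ := by rw [← e1, ← neg_neg (1 : F), ← c0x]; group
      _ = _ := by rw [e, mul_assoc (x (-1)) t, ← e1, ← c0x]; group
  have nxn : ∀ s, s ≠ 0 → n * x s * n = x (-s⁻¹) * hh (-s⁻¹) * n * x (-s⁻¹) := fun s hs => by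
    obtain ⟨c, hc, rfl⟩ := k.ψsurj h hs
    set s := ψ c with hsdef
    have e1 : hh s * n * x s * (hh s * n) = x (-s) * t * (hh s * n) * x (-s) := by
      have a1 := k.xconj c hc 1
      have a2 := k.xconj c hc (-1)
      rw [mul_one] at a1
      rw [mul_neg_one] at a2
      have a3 : c * t * c⁻¹ = t := by rw [h.Ccomm hc h.tC]; group
      rw [← cn c hc, ← a1, ← a2]
      conv_rhs => rw [← a3]
      calc _ = c * (n * x 1 * n) * c⁻¹ := by group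
        _ = _ := by rw [R1]; group
    have b1 : hh s * n = n * (hh s)⁻¹ := by rw [← hinv s hs, swh n sw _ (inv_ne_zero hs), inv_inv]
    have b2 : x (-s) * hh s = hh s * x (-s⁻¹) := by rw [hx _ _ hs]; congr 2; field_simp
    have b3 : hh (-s⁻¹) = t * (hh s)⁻¹ := by
      rw [← hm1, ← hinv s hs, ← hmul _ _ m1 (inv_ne_zero hs), neg_one_mul]
    have b4 : hh s * t = t * hh s := h.Ccomm (mem s hs) h.tC
    have b5 : n * hh s = (hh s)⁻¹ * n := by rw [swh n sw s hs, hinv s hs]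
    calc n * x s * n = (hh s)⁻¹ * (hh s * n * x s * (n * (hh s)⁻¹)) * hh s := by group
      _ = (hh s)⁻¹ * x (-s) * (t * hh s) * n * (x (-s) * hh s) := by rw [← b1, e1]; group
      _ = (hh s)⁻¹ * (x (-s) * hh s) * t * (n * hh s) * x (-s⁻¹) := by
          rw [← b4]; nth_rewrite 1 [b2]; group
      _ = _ := by rw [b2, b5, b3]; group
  obtain ⟨φ, p1, p2, p3, p4⟩ := exists_sl2Hom x hh n k.xadd h1 hmul hx (swh n sw) (nn.trans hm1.symm)
    nxn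
  refine ⟨hh, n, φ, spec, mem, h1, hm1, hmul, hψ, hinj, sw, nn, swh n sw, fun s hs => ?_, p1, p2,
    p3, p4⟩
  have e := congrArg (· • a) (nxn s hs)
  have : hh (-s⁻¹) • b = b := (mem _ (by simpa using hs)).2
  simpa only [mul_smul, sw.1, xa, this] using e

end H2.U3
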