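import Mathlib
import Cfsg.Agent.H15.Finite

/-!
# Plane geometry for the recognition of `PSU₃(q)`, `q` odd: Segre's lemma of tangents for centrally
symmetric ovals and the resulting coordinates.
-/

set_option autoImplicit false

namespace H2.U3

/-- determinant of two plane vectors -/
def dt {F : Type*} [Field F] (u v : F × F) : F := u.1 * v.2 - u.2 * v.1

/-- symmetric bilinear form with Gram entries `g = (p, r, s)` -/
def bf {F : Type*} [Field F] (g : F × F × F) (u v : F × F) : F :=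
  g.1 * u.1 * v.1 + g.2.1 * (u.1 * v.2 + u.2 * v.1) + g.2.2 * u.2 * v.2

section plane

variable {F : Type*} [Field F]

theorem exists_smul_of_dt {u v : F × F} (hu : u ≠ 0) (h : dt u v = 0) : ∃ s : F, v = s • u := by
  unfold dt at h
  by_cases h1 : u.1 = 0
  · have h2 : u.2 ≠ 0 := fun h2 => hu (Prod.ext h1 h2)
    refine ⟨v.2 / u.2, Prod.ext ?_ ?_⟩
    · simp only [Prod.smul_fst, smul_eq_mul, h1, mul_zero]
      rw [h1] at h; grind
    · simp only [Prod.smul_snd, smul_eq_mul]; field_simp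
  · refine ⟨v.1 / u.1, Prod.ext ?_ ?_⟩
    · simp only [Prod.smul_fst, smul_eq_mul]; field_simp
    · simp only [Prod.smul_snd, smul_eq_mul]; field_simp; grind

theorem eq_zero_of_dt {u v w : F × F} (h : dt u v ≠ 0) (h1 : dt u w = 0) (h2 : dt v w = 0) :
    w = 0 := by
  unfold dt at *
  refine Prod.ext ?_ ?_
  · have : (u.1 * v.2 - u.2 * v.1) * w.1 = 0 := by linear_combination v.1 * h1 - u.1 * h2
    simpa [h] using this
  · have : (u.1 * v.2 - u.2 * v.1) * w.2 = 0 := by linear_combination v.2 * h1 - u.2 * h2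
    simpa [h] using this

theorem dt_trans {u v w : F × F} (hv : v ≠ 0) (h1 : dt v u = 0) (h2 : dt v w = 0) : dt u w = 0 := by
  obtain ⟨s, rfl⟩ := exists_smul_of_dt hv h1
  obtain ⟨s', rfl⟩ := exists_smul_of_dt hv h2
  simp only [dt, Prod.smul_fst, Prod.smul_snd, smul_eq_mul]; ring

theorem dt_swap (u v : F × F) : dt u v = - dt v u := by unfold dt; ring

theorem dt_ne_swap {u v : F × F} (h : dt u v ≠ 0) : dt v u ≠ 0 := by
  rw [dt_swap]; exact neg_ne_zero.2 h

theorem exists_comb {u v : F × F} (h : dt u v ≠ 0) (w : F × F) : ∃ α β : F, w = α • u + β • v := by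
  refine ⟨dt w v / dt u v, dt u w / dt u v, Prod.ext ?_ ?_⟩ <;>
  · simp only [Prod.fst_add, Prod.snd_add, Prod.smul_fst, Prod.smul_snd, smul_eq_mul]
    field_simp
    unfold dt; ring

theorem exists_dt_eq {u v : F × F} (h : dt u v ≠ 0) (s s' : F) :
    ∃ w, dt u w = s ∧ dt v w = s' := by
  have k : ∀ x y : F, dt u (x • v - y • u) = x * dt u v ∧ dt v (x • v - y • u) = y * dt u v :=
    fun x y => by constructor <;> simp [dt] <;> ring
  refine ⟨(s / dt u v) • v - (s' / dt u v) • u, ?_, ?_⟩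
  · rw [(k _ _).1]; field_simp
  · rw [(k _ _).2]; field_simp

theorem exists_dt_one {u : F × F} (hu : u ≠ 0) : ∃ w, dt u w = 1 := by
  by_cases h1 : u.1 = 0
  · have h2 : u.2 ≠ 0 := fun h2 => hu (Prod.ext h1 h2)
    exact ⟨(-u.2⁻¹, 0), by simp [dt, h2]⟩
  · exact ⟨(0, u.1⁻¹), by simp [dt, h1]⟩

theorem ne_zero_of_dt {u w : F × F} (h : dt u w ≠ 0) : w ≠ 0 := by
  rintro rfl; simp [dt] at h

theorem ne_zero_of_dt' {u w : F × F} (h : dt u w ≠ 0) : u ≠ 0 := by
  rintro rfl; simp [dt] at h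

theorem bf_comm (g : F × F × F) (u v : F × F) : bf g u v = bf g v u := by unfold bf; ring

theorem bf_eq_zero {g : F × F × F} (hg : g.1 * g.2.2 - g.2.1 ^ 2 ≠ 0) {u v w : F × F}
    (h : dt u v ≠ 0) (h1 : bf g w u = 0) (h2 : bf g w v = 0) : w = 0 := by
  have := eq_zero_of_dt (w := (-(g.2.1 * w.1 + g.2.2 * w.2), g.1 * w.1 + g.2.1 * w.2)) h
    (by unfold dt; unfold bf at h1; linear_combination h1)
    (by unfold dt; unfold bf at h2; linear_combination h2)
  have e1 := congrArg Prod.fst this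
  have e2 := congrArg Prod.snd this
  simp only [Prod.fst_zero, Prod.snd_zero] at e1 e2
  refine Prod.ext ?_ ?_
  · have : (g.1 * g.2.2 - g.2.1 ^ 2) * w.1 = 0 := by linear_combination g.2.2 * e2 + g.2.1 * e1
    simpa [hg] using this
  · have : (g.1 * g.2.2 - g.2.1 ^ 2) * w.2 = 0 := by linear_combination - g.2.1 * e2 - g.1 * e1
    simpa [hg] using this

/-- the lines through `A` other than the tangent `τ` meet `O` in exactly one further point -/
structure Pencil (O : Set (F × F)) (A τ : F × F) : Prop where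
  mem : A ∈ O
  tan : ∀ P ∈ O, P ≠ A → dt τ (P - A) ≠ 0
  inj : ∀ P ∈ O, ∀ P' ∈ O, P ≠ A → P' ≠ A → dt (P - A) (P' - A) = 0 → P = P'
  surj : ∀ d, dt τ d ≠ 0 → ∃ P ∈ O, P ≠ A ∧ dt d (P - A) = 0

theorem Pencil.neg {O : Set (F × F)} {A τ : F × F} (h : Pencil O A τ) (hO : ∀ P ∈ O, -P ∈ O) :
    Pencil O (-A) τ where
  mem := hO A h.mem
  tan P hP hne := by
    have := h.tan (-P) (hO P hP) (fun e => hne (by rw [← e, neg_neg]))
    intro e; apply this
    simp only [dt, Prod.fst_sub, Prod.snd_sub, Prod.fst_neg, Prod.snd_neg] at e ⊢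
    linear_combination -e
  inj P hP P' hP' h1 h2 e := by
    refine neg_injective (h.inj (-P) (hO P hP) (-P') (hO P' hP')
      (fun e => h1 (by rw [← e, neg_neg])) (fun e => h2 (by rw [← e, neg_neg])) ?_)
    simp only [dt, Prod.fst_sub, Prod.snd_sub, Prod.fst_neg, Prod.snd_neg] at e ⊢
    linear_combination e
  surj d hd := by
    obtain ⟨P, hP, h1, h2⟩ := h.surj d hd
    refine ⟨-P, hO P hP, fun e => h1 (neg_injective e), ?_⟩
    simp only [dt, Prod.fst_sub, Prod.snd_sub, Prod.fst_neg, Prod.snd_neg] at h2 ⊢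
    linear_combination -h2

theorem prod_ne_zero_eq [Fintype F] [DecidableEq F] :
    ∏ m ∈ (Finset.univ : Finset F).erase 0, m = -1 := by
  have h := congrArg (Units.val) (FiniteField.prod_univ_units_id_eq_neg_one (K := F))
  rw [Units.coe_prod] at h
  simp only [Units.val_neg, Units.val_one] at h
  rw [← h]
  symm
  refine Finset.prod_bij (fun u _ => (u : F)) (fun u _ => by simp) (fun u _ v _ e => Units.ext e)
    (fun m hm => ⟨Units.mk0 m (by simpa using hm), by simp, rfl⟩) fun _ _ => rfl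

theorem Pencil.prod [Fintype F] [DecidableEq F] {O : Set (F × F)} {A τ B C β γ : F × F}
    (h : Pencil O A τ) (S : Finset (F × F)) (hS : ∀ P, P ∈ S ↔ P ∈ O ∧ P ≠ A ∧ P ≠ B ∧ P ≠ C)
    (hB : B ∈ O) (hC : C ∈ O) (hBA : B ≠ A) (hCA : C ≠ A)
    (hβ : dt β (B - A) = 0) (hγ : dt γ (C - A) = 0) (hβγ : dt β γ ≠ 0) :
    (∏ P ∈ S, dt β (P - A) / dt γ (P - A)) * (dt β τ / dt γ τ) = -1 := by
  have hβ0 : β ≠ 0 := ne_zero_of_dt' hβγ
  have hγ0 : γ ≠ 0 := ne_zero_of_dt hβγ
  have hBA' : B - A ≠ 0 := sub_ne_zero.2 hBA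
  have hCA' : C - A ≠ 0 := sub_ne_zero.2 hCA
  have n1 : ∀ P ∈ S, dt β (P - A) ≠ 0 := fun P hP e => by
    obtain ⟨h1, h2, h3, -⟩ := (hS P).1 hP
    exact h3 (h.inj P h1 B hB h2 hBA (dt_trans hβ0 e hβ))
  have n2 : ∀ P ∈ S, dt γ (P - A) ≠ 0 := fun P hP e => by
    obtain ⟨h1, h2, -, h3⟩ := (hS P).1 hP
    exact h3 (h.inj P h1 C hC h2 hCA (dt_trans hγ0 e hγ))
  have t1 : dt β τ ≠ 0 := fun e => h.tan B hB hBA (dt_trans hβ0 e hβ)
  have t2 : dt γ τ ≠ 0 := fun e => h.tan C hC hCA (dt_trans hγ0 e hγ)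
  -- equal ratios force parallel vectors
  have par : ∀ d d' : F × F, dt γ d ≠ 0 → dt γ d' ≠ 0 → dt β d / dt γ d = dt β d' / dt γ d' →
      dt d d' = 0 := by
    intro d d' h1 h2 e
    rw [div_eq_div_iff h1 h2] at e
    have : dt β γ * dt d d' = 0 := by unfold dt at *; linear_combination e
    simpa [hβγ] using this
  have hk : dt β τ / dt γ τ ∈ (Finset.univ : Finset F).erase 0 := by simp [t1, t2]
  rw [← prod_ne_zero_eq, ← Finset.prod_erase_mul _ _ hk]
  congr 1
  refine Finset.prod_bij (fun P _ => dt β (P - A) / dt γ (P - A)) (fun P hP => ?_)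
    (fun P hP P' hP' e => ?_) (fun m hm => ?_) fun _ _ => rfl
  · simp only [Finset.mem_erase, Finset.mem_univ, and_true]
    refine ⟨fun e => ?_, div_ne_zero (n1 P hP) (n2 P hP)⟩
    obtain ⟨h1, h2, -⟩ := (hS P).1 hP
    exact h.tan P h1 h2 (par _ _ t2 (n2 P hP) e.symm)
  · obtain ⟨h1, h2, -⟩ := (hS P).1 hP
    obtain ⟨h1', h2', -⟩ := (hS P').1 hP'
    exact h.inj P h1 P' h1' h2 h2' (par _ _ (n2 P hP) (n2 P' hP') e)
  · simp only [Finset.mem_erase, Finset.mem_univ, and_true] at hm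
    obtain ⟨hm1, hm0⟩ := hm
    have d1 : dt β (β - m • γ) = - m * dt β γ := by simp [dt]; ring
    have d2 : dt γ (β - m • γ) = - dt β γ := by simp [dt]; ring
    have d3 : dt γ (β - m • γ) ≠ 0 := by rw [d2]; exact neg_ne_zero.2 hβγ
    have d0 : β - m • γ ≠ 0 := ne_zero_of_dt d3
    have hd : dt τ (β - m • γ) ≠ 0 := fun e => hm1 (by
      have e2 : dt β τ = m * dt γ τ := by
        simp only [dt, Prod.fst_sub, Prod.snd_sub, Prod.smul_fst, Prod.smul_snd, smul_eq_mul] at e ⊢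
        linear_combination -e
      rw [e2]; field_simp)
    obtain ⟨P, hP, h1, h2⟩ := h.surj _ hd
    obtain ⟨s, hs⟩ := exists_smul_of_dt d0 h2
    have hs0 : s ≠ 0 := by
      rintro rfl
      exact h1 (sub_eq_zero.1 (by rw [hs, zero_smul]))
    have e1 : dt β (P - A) = s * (- m * dt β γ) := by rw [hs, ← d1]; simp [dt]; ring
    have e2 : dt γ (P - A) = s * (- dt β γ) := by rw [hs, ← d2]; simp [dt]; ring
    refine ⟨P, (hS P).2 ⟨hP, h1, ?_, ?_⟩, ?_⟩
    · rintro rfl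
      rw [hβ] at e1
      simp [hs0, hm0, hβγ] at e1
    · rintro rfl
      rw [hγ] at e2
      simp [hs0, hβγ] at e2
    · rw [e1, e2]; field_simp

/-- Segre's lemma of tangents for a centrally symmetric oval -/
theorem segre [Finite F] (h2 : (2 : F) ≠ 0) {O : Set (F × F)} (hO : ∀ P ∈ O, -P ∈ O)
    {a τ a' τ' : F × F} (h : Pencil O a τ) (h' : Pencil O a' τ') (ha : dt a a' ≠ 0) :
    dt a' τ * dt a' τ' = dt a τ' * dt a τ := by
  classical
  have := Fintype.ofFinite F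
  have ha0 : a ≠ 0 := ne_zero_of_dt' ha
  have n1 : -a ≠ a := fun e => ha0 (by
    have : (2 : F) • a = 0 := by rw [two_smul]; nth_rewrite 1 [← e]; simp
    simpa [h2] using this)
  have n2 : a' ≠ a := by rintro rfl; simp [dt, mul_comm] at ha
  have n3 : a' ≠ -a := by rintro rfl; simp [dt, mul_comm] at ha
  set S := Finset.univ.filter fun P : F × F => P ∈ O ∧ P ≠ a ∧ P ≠ -a ∧ P ≠ a' with hSdef
  have hS : ∀ P, P ∈ S ↔ P ∈ O ∧ P ≠ a ∧ P ≠ -a ∧ P ≠ a' := fun P => by simp [hSdef]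
  have hna := hO a h.mem
  have k1 := h.prod (β := -a - a) (γ := a - a') S hS hna h'.mem n1 n2 (by simp [dt]; ring)
    (by simp [dt]; ring) (by
      intro e; apply mul_ne_zero h2 ha
      simp only [dt, Prod.fst_sub, Prod.snd_sub, Prod.fst_neg, Prod.snd_neg] at e ⊢
      linear_combination e)
  have k2 := (h.neg hO).prod (β := a' - -a) (γ := -a - a) (B := a') (C := a) S
    (fun P => by rw [hS]; tauto) h'.mem h.mem n3 n1.symm (by simp [dt]; ring)
    (by simp [dt]; ring) (by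
      intro e; apply mul_ne_zero h2 ha
      simp only [dt, Prod.fst_sub, Prod.snd_sub, Prod.fst_neg, Prod.snd_neg] at e ⊢
      linear_combination e)
  have k3 := h'.prod (β := a - a') (γ := a' - -a) (B := a) (C := -a) S
    (fun P => by rw [hS]; tauto) h.mem hna n2.symm n3.symm (by simp [dt]; ring)
    (by simp [dt]; ring) (by
      intro e; apply mul_ne_zero h2 ha
      simp only [dt, Prod.fst_sub, Prod.snd_sub, Prod.fst_neg, Prod.snd_neg] at e ⊢
      linear_combination e)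
  have one : (∏ P ∈ S, dt (-a - a) (P - a) / dt (a - a') (P - a)) *
      (∏ P ∈ S, dt (a' - -a) (P - -a) / dt (-a - a) (P - -a)) *
      (∏ P ∈ S, dt (a - a') (P - a') / dt (a' - -a) (P - a')) = 1 := by
    rw [← Finset.prod_mul_distrib, ← Finset.prod_mul_distrib]
    refine Finset.prod_eq_one fun P hP => ?_
    obtain ⟨h1, h3, h4, h5⟩ := (hS P).1 hP
    have e1 : dt (-a - a) (P - -a) = dt (-a - a) (P - a) := by simp [dt]; ring
    have e2 : dt (a - a') (P - a') = dt (a - a') (P - a) := by simp [dt]; ring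
    have e3 : dt (a' - -a) (P - a') = dt (a' - -a) (P - -a) := by simp [dt]; ring
    have z1 : dt (-a - a) (P - a) ≠ 0 := fun e => h4 (h.inj _ hna P h1 n1 h3 e).symm
    have z2 : dt (a - a') (P - a') ≠ 0 := fun e => h3 (h'.inj _ h.mem P h1 n2.symm h5 e).symm
    have z3 : dt (a' - -a) (P - -a) ≠ 0 := fun e =>
      h5 ((h.neg hO).inj _ h'.mem P h1 n3 h4 e).symm
    rw [e1, e3, ← e2]
    field_simp
  have t1 : dt (-a - a) τ ≠ 0 := dt_ne_swap (h.tan _ hna n1)
  have t2 : dt (a - a') τ ≠ 0 := by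
    have := h.tan _ h'.mem n2
    intro e; apply this
    simp only [dt, Prod.fst_sub, Prod.snd_sub] at e ⊢
    linear_combination e
  have t3 : dt (a' - -a) τ' ≠ 0 := by
    have := h'.tan _ hna n3.symm
    intro e; apply this
    simp only [dt, Prod.fst_sub, Prod.snd_sub, Prod.fst_neg, Prod.snd_neg] at e ⊢
    linear_combination e
  have key : dt (-a - a) τ / dt (a - a') τ * (dt (a' - -a) τ / dt (-a - a) τ) *
      (dt (a - a') τ' / dt (a' - -a) τ') = -1 := by
    set p1 := ∏ P ∈ S, dt (-a - a) (P - a) / dt (a - a') (P - a)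
    set p2 := ∏ P ∈ S, dt (a' - -a) (P - -a) / dt (-a - a) (P - -a)
    set p3 := ∏ P ∈ S, dt (a - a') (P - a') / dt (a' - -a) (P - a')
    set q1 := dt (-a - a) τ / dt (a - a') τ
    set q2 := dt (a' - -a) τ / dt (-a - a) τ
    set q3 := dt (a - a') τ' / dt (a' - -a) τ'
    linear_combination (-(q1 * q2 * q3)) * one + (p2 * q2 * p3 * q3) * k1 - (p3 * q3) * k2 + k3
  field_simp at key
  have : 2 * (dt a' τ * dt a' τ' - dt a τ' * dt a τ) = 0 := by
    simp only [dt, Prod.fst_sub, Prod.snd_sub, Prod.fst_neg, Prod.snd_neg] at key ⊢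
    linear_combination -key
  rcases mul_eq_zero.1 this with h | h
  · exact absurd h h2
  · exact sub_eq_zero.1 h

theorem Pencil.eq_or {O : Set (F × F)} (h2 : (2 : F) ≠ 0) (hO : ∀ P ∈ O, -P ∈ O) {a τ P : F × F}
    (h : Pencil O a τ) (ha : a ≠ 0) (hP : P ∈ O) (e : dt a P = 0) : P = a ∨ P = -a := by
  by_cases h1 : P = a
  · exact Or.inl h1
  have n1 : -a ≠ a := fun e => ha (by
    have : (2 : F) • a = 0 := by rw [two_smul]; nth_rewrite 1 [← e]; simp
    simpa [h2] using this)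
  refine Or.inr (h.inj P hP _ (hO a h.mem) h1 n1 ?_)
  simp only [dt, Prod.fst_sub, Prod.snd_sub, Prod.fst_neg, Prod.snd_neg] at e ⊢
  linear_combination 2 * e

theorem Pencil.dt_ne {O : Set (F × F)} (h2 : (2 : F) ≠ 0) (hO : ∀ P ∈ O, -P ∈ O) {a τ : F × F}
    (h : Pencil O a τ) (ha : a ≠ 0) : dt a τ ≠ 0 := by
  have n1 : -a ≠ a := fun e => ha (by
    have : (2 : F) • a = 0 := by rw [two_smul]; nth_rewrite 1 [← e]; simp
    simpa [h2] using this)
  have := h.tan _ (hO a h.mem) n1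
  intro e; apply this
  simp only [dt, Prod.fst_sub, Prod.snd_sub, Prod.fst_neg, Prod.snd_neg] at e ⊢
  linear_combination 2 * e

/-- a centrally symmetric oval lies on a conic -/
theorem exists_form [Finite F] (h2 : (2 : F) ≠ 0) {O : Set (F × F)} (hO : ∀ P ∈ O, -P ∈ O)
    (h0 : ∀ P ∈ O, P ≠ 0) (hp : ∀ a ∈ O, ∃ τ, Pencil O a τ) {a1 a2 : F × F} (h1 : a1 ∈ O)
    (h2' : a2 ∈ O) (h12 : dt a1 a2 ≠ 0) : ∃ g : F × F × F, g.1 * g.2.2 - g.2.1 ^ 2 ≠ 0 ∧
      ∀ a τ, Pencil O a τ → bf g a a = 1 ∧ bf g a τ = 0 := by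
  obtain ⟨τ1, p1⟩ := hp a1 h1
  obtain ⟨τ2, p2⟩ := hp a2 h2'
  have d1 := p1.dt_ne h2 hO (h0 _ h1)
  have d2 := p2.dt_ne h2 hO (h0 _ h2')
  have hs := segre h2 hO p1 p2 h12
  set s := dt a2 τ1 / dt a1 τ1 with hsdef
  have hs' : s = dt a1 τ2 / dt a2 τ2 := by
    rw [hsdef, div_eq_div_iff d1 d2]; linear_combination hs
  have n2 : a2 ≠ a1 := by rintro rfl; simp [dt, mul_comm] at h12
  have n3 : -a2 ≠ a1 := by rintro rfl; simp [dt, mul_comm] at h12
  have s1 : s ≠ 1 := fun e => p1.tan _ h2' n2 (by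
    rw [hsdef, div_eq_one_iff_eq d1] at e
    simp only [dt, Prod.fst_sub, Prod.snd_sub] at e ⊢
    linear_combination -e)
  have s2 : s ≠ -1 := fun e => p1.tan _ (hO _ h2') n3 (by
    rw [hsdef, div_eq_iff d1] at e
    simp only [dt, Prod.fst_sub, Prod.snd_sub, Prod.fst_neg, Prod.snd_neg] at e ⊢
    linear_combination e)
  set g : F × F × F := ((a2.2 ^ 2 - 2 * s * a2.2 * a1.2 + a1.2 ^ 2) / dt a1 a2 ^ 2,
    (-a2.2 * a2.1 + s * (a2.2 * a1.1 + a1.2 * a2.1) - a1.2 * a1.1) / dt a1 a2 ^ 2,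
    (a2.1 ^ 2 - 2 * s * a2.1 * a1.1 + a1.1 ^ 2) / dt a1 a2 ^ 2) with hg
  have b1 : ∀ v, bf g a1 v * dt a1 τ1 = dt v τ1 := fun v => by
    have : bf g a1 v = (dt v a2 + s * dt a1 v) / dt a1 a2 := by
      simp only [bf, hg]; field_simp; unfold dt; ring
    rw [this, hsdef]; field_simp; unfold dt; ring
  have b2 : ∀ v, bf g a2 v * dt a2 τ2 = dt v τ2 := fun v => by
    have : bf g a2 v = (s * dt v a2 + dt a1 v) / dt a1 a2 := by
      simp only [bf, hg]; field_simp; unfold dt; ring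
    rw [this, hs']; field_simp; unfold dt; ring
  refine ⟨g, ?_, fun a τ p => ?_⟩
  · have : g.1 * g.2.2 - g.2.1 ^ 2 = (1 - s) * (1 + s) / dt a1 a2 ^ 2 := by
      simp only [hg]; field_simp; unfold dt; ring
    rw [this]
    exact div_ne_zero (mul_ne_zero (sub_ne_zero.2 s1.symm) fun e => s2 (by linear_combination e))
      (pow_ne_zero 2 h12)
  have d := p.dt_ne h2 hO (h0 _ p.mem)
  -- the functional `bf g a` agrees with the tangent functional on the basis
  have agree : ∀ a0 τ0, Pencil O a0 τ0 → (∀ v, bf g a0 v * dt a0 τ0 = dt v τ0) →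
      bf g a a0 * dt a τ = dt a0 τ := by
    intro a0 τ0 p0 hb
    have d0 := p0.dt_ne h2 hO (h0 _ p0.mem)
    have hb1 := hb a
    by_cases e : dt a0 a = 0
    · rcases p0.eq_or h2 hO (h0 _ p0.mem) p.mem e with rfl | rfl
      · have : bf g a a = 1 := mul_right_cancel₀ d0 (by rw [hb1, one_mul])
        rw [this, one_mul]
      · have : bf g (-a0) a0 = -1 := mul_right_cancel₀ d0 (by
          rw [bf_comm, hb1]; simp [dt]; ring)
        rw [this]; simp [dt]; ring
    · have := segre h2 hO p0 p e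
      refine mul_right_cancel₀ d0 ?_
      rw [bf_comm]
      linear_combination dt a τ * hb1 + this
  have e1 := agree a1 τ1 p1 b1
  have e2 := agree a2 τ2 p2 b2
  have all : ∀ v, bf g a v * dt a τ = dt v τ := fun v => by
    obtain ⟨α, β, rfl⟩ := exists_comb h12 v
    have : bf g a (α • a1 + β • a2) = α * bf g a a1 + β * bf g a a2 := by simp [bf]; ring
    rw [this]
    have : dt (α • a1 + β • a2) τ = α * dt a1 τ + β * dt a2 τ := by simp [dt]; ring
    rw [this]
    linear_combination α * e1 + β * e2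
  refine ⟨mul_right_cancel₀ d (by rw [all, one_mul]), mul_right_cancel₀ d ?_⟩
  rw [all]; simp [dt]; ring

end plane

/-- the combinatorial data extracted from the group -/
structure Geo {F F' ι : Type*} [Field F] [Field F'] (θ : F → F') (κ cen : F × F → F' × F')
    (T : F' × F' → ι) : Prop where
  θ0 : θ 0 = 0
  θmul : ∀ a b, θ (a * b) = θ a * θ b
  θinj : Function.Injective θ
  θsurj : Function.Surjective θ
  κne : ∀ v, v ≠ 0 → κ v ≠ 0
  κinj : ∀ v v', v ≠ 0 → v' ≠ 0 → κ v = κ v' → v = v'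
  κsurj : ∀ e, e ≠ 0 → ∃ v, v ≠ 0 ∧ κ v = e
  κsmul : ∀ (a : F) v, a ≠ 0 → v ≠ 0 → κ (a • v) = (θ a)⁻¹ • κ v
  cne : ∀ v, v ≠ 0 → cen v ≠ 0
  circ : ∀ v', v' ≠ 0 → ∀ e, (e = 0 ∨ ∃ v, dt v' v = 1 ∧ κ v = e) ↔
    (e - cen v' ≠ 0 ∧ T (e - cen v') = T (cen v'))
  csurj : ∀ a, a ≠ 0 → ∃ v', v' ≠ 0 ∧ cen v' = a
  Tneg : ∀ a, T (-a) = T a

namespace Geo

variable {F F' ι : Type*} [Field F] [Field F'] {θ : F → F'} {κ cen : F × F → F' × F'}
  {T : F' × F' → ι} (h : Geo θ κ cen T)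

include h

theorem θne {a : F} (ha : a ≠ 0) : θ a ≠ 0 := fun e => ha (h.θinj (e.trans h.θ0.symm))

theorem θ1 : θ 1 = 1 := mul_left_cancel₀ (h.θne one_ne_zero) (by rw [← h.θmul, mul_one, mul_one])

theorem θinv {a : F} (ha : a ≠ 0) : θ a⁻¹ = (θ a)⁻¹ :=
  eq_inv_of_mul_eq_one_left (by rw [← h.θmul, inv_mul_cancel₀ ha, h.θ1])

theorem par {v v' : F × F} (hv : v ≠ 0) (hv' : v' ≠ 0) : dt (κ v) (κ v') = 0 ↔ dt v v' = 0 := by
  constructor
  · intro e
    obtain ⟨s, hs⟩ := exists_smul_of_dt (h.κne v hv) e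
    have hs0 : s ≠ 0 := by rintro rfl; exact h.κne v' hv' (by rw [hs, zero_smul])
    obtain ⟨a, ha⟩ := h.θsurj s⁻¹
    have ha0 : a ≠ 0 := by rintro rfl; exact hs0 (inv_eq_zero.1 (ha.symm.trans h.θ0))
    have : v' = a • v := h.κinj _ _ hv' (smul_ne_zero ha0 hv) (by
      rw [h.κsmul a v ha0 hv, ha, inv_inv, hs])
    rw [this]; simp [dt]; ring
  · intro e
    obtain ⟨s, rfl⟩ := exists_smul_of_dt hv e
    have hs0 : s ≠ 0 := by rintro rfl; exact hv' (zero_smul _ _)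
    rw [h.κsmul s v hs0 hv]; simp [dt]; ring

/-- the class of a vector -/
def cls (T : F' × F' → ι) (a : F' × F') : Set (F' × F') := {e | e ≠ 0 ∧ T e = T a}

theorem cls_neg (a : F' × F') : ∀ P ∈ cls T a, -P ∈ cls T a := fun P hP =>
  ⟨neg_ne_zero.2 hP.1, (h.Tneg P).trans hP.2⟩

theorem mem_iff {a : F' × F'} {v' : F × F} (hv' : v' ≠ 0) (hc : cen v' ∈ cls T a)
    {P : F' × F'} (hP : P ≠ - cen v') :
    P ∈ cls T a ↔ ∃ v, dt v' v = 1 ∧ κ v = P - - cen v' := by
  have := h.circ v' hv' (P - - cen v')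
  rw [sub_neg_eq_add, add_sub_cancel_right, hc.2] at this
  rw [sub_neg_eq_add]
  constructor
  · intro hP'
    exact (this.2 hP').resolve_left fun e => hP (eq_neg_of_add_eq_zero_left e)
  · intro hP'
    exact this.1 (Or.inr hP')

theorem pencil {a : F' × F'} {v' : F × F} (hv' : v' ≠ 0) (hc : cen v' ∈ cls T a) :
    Pencil (cls T a) (- cen v') (κ v') where
  mem := h.cls_neg a _ hc
  tan P hP hne e := by
    obtain ⟨v, h1, h2⟩ := (h.mem_iff hv' hc hne).1 hP
    rw [← h2, h.par hv' (ne_zero_of_dt (h1 ▸ one_ne_zero)), h1] at e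
    exact one_ne_zero e
  inj P hP P' hP' hne hne' e := by
    obtain ⟨v, h1, h2⟩ := (h.mem_iff hv' hc hne).1 hP
    obtain ⟨w, h3, h4⟩ := (h.mem_iff hv' hc hne').1 hP'
    have hv : v ≠ 0 := ne_zero_of_dt (h1 ▸ one_ne_zero)
    rw [← h2, ← h4, h.par hv (ne_zero_of_dt (h3 ▸ one_ne_zero))] at e
    obtain ⟨s, rfl⟩ := exists_smul_of_dt hv e
    have : dt v' (s • v) = s * dt v' v := by simp [dt]; ring
    rw [this, h1, mul_one] at h3
    rw [h3, one_smul, h2] at h4
    exact sub_left_injective h4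
  surj d hd := by
    obtain ⟨v, hv, rfl⟩ := h.κsurj d (ne_zero_of_dt hd)
    have hδ : dt v' v ≠ 0 := fun e => hd ((h.par hv' hv).2 e)
    have hv0 : (dt v' v)⁻¹ • v ≠ 0 := smul_ne_zero (inv_ne_zero hδ) hv
    have hne : κ ((dt v' v)⁻¹ • v) + - cen v' ≠ - cen v' := fun e =>
      h.κne _ hv0 (by simpa using e)
    refine ⟨_, (h.mem_iff hv' hc hne).2 ⟨(dt v' v)⁻¹ • v, ?_, by simp⟩, hne, ?_⟩
    · have : ∀ s : F, dt v' (s • v) = s * dt v' v := fun s => by simp [dt]; ring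
      rw [this, inv_mul_cancel₀ hδ]
    · rw [add_sub_cancel_right, h.par hv hv0]; simp [dt]; ring

theorem exists_pencil {a P : F' × F'} (hP : P ∈ cls T a) :
    ∃ v', v' ≠ 0 ∧ cen v' = -P ∧ Pencil (cls T a) P (κ v') := by
  obtain ⟨v', hv', e⟩ := h.csurj (-P) (neg_ne_zero.2 hP.1)
  have := h.pencil (a := a) hv' (e ▸ h.cls_neg a P hP)
  rw [e, neg_neg] at this
  exact ⟨v', hv', e, this⟩

/-- points of a class, parametrised injectively by `F` -/
theorem exists_param {a : F' × F'} (ha : a ≠ 0) : ∃ f : F → F' × F', Function.Injective f ∧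
    ∀ m, f m ∈ cls T a ∧ f m ≠ a := by
  obtain ⟨v', hv', e⟩ := h.csurj (-a) (neg_ne_zero.2 ha)
  have hc : cen v' ∈ cls T a := e ▸ h.cls_neg a a ⟨ha, rfl⟩
  obtain ⟨v0, hv0⟩ := exists_dt_one hv'
  have hd : ∀ m : F, dt v' (v0 + m • v') = 1 := fun m => by rw [← hv0]; simp [dt]; ring
  have hn : ∀ m : F, v0 + m • v' ≠ 0 := fun m => ne_zero_of_dt (hd m ▸ one_ne_zero)
  refine ⟨fun m => κ (v0 + m • v') + a, fun m m' e' => ?_, fun m => ?_⟩
  · have := h.κinj _ _ (hn m) (hn m') (add_right_cancel e')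
    exact smul_left_injective F hv' (add_left_cancel this)
  · have hne : κ (v0 + m • v') + a ≠ a := fun e => h.κne _ (hn m) (by simpa using e)
    refine ⟨(h.mem_iff hv' hc (by rw [e, neg_neg]; exact hne)).2 ⟨_, hd m, ?_⟩, hne⟩
    rw [e, neg_neg, add_sub_cancel_right]

theorem exists_indep (h2 : (2 : F') ≠ 0) {a : F' × F'} (ha : a ≠ 0) :
    ∃ a2 ∈ cls T a, dt a a2 ≠ 0 := by
  obtain ⟨f, hf, hm⟩ := h.exists_param ha
  obtain ⟨v', -, -, p⟩ := h.exists_pencil (a := a) (P := a) ⟨ha, rfl⟩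
  have : ∃ m, f m ≠ -a := by
    by_contra hn
    push Not at hn
    exact zero_ne_one (hf ((hn 0).trans (hn 1).symm))
  obtain ⟨m, hm'⟩ := this
  exact ⟨f m, (hm m).1, fun e => (p.eq_or h2 (h.cls_neg a) ha (hm m).1 e).elim (hm m).2 hm'⟩

/-- the quadratic form attached to a class -/
structure CF (θ : F → F') (κ cen : F × F → F' × F') (T : F' × F' → ι) (a : F' × F')
    (g : F' × F' × F') : Prop where
  nd : g.1 * g.2.2 - g.2.1 ^ 2 ≠ 0
  one : ∀ P ∈ cls T a, bf g P P = 1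
  id : ∀ v', v' ≠ 0 → cen v' ∈ cls T a → ∀ v, v ≠ 0 →
    θ (dt v' v) * bf g (κ v) (κ v) = 2 * bf g (κ v) (cen v')
  aniso : ∀ e, bf g e e = 0 → e = 0

theorem exists_CF [Finite F'] (h2 : (2 : F') ≠ 0) {a : F' × F'} (ha : a ≠ 0) :
    ∃ g, CF θ κ cen T a g := by
  obtain ⟨a2, ha2, hd⟩ := h.exists_indep h2 ha
  obtain ⟨g, hg, hf⟩ := exists_form h2 (h.cls_neg a) (fun P hP => hP.1)
    (fun P hP => (h.exists_pencil hP).elim fun v' hv => ⟨_, hv.2.2⟩) ⟨ha, rfl⟩ ha2 hd
  have one : ∀ P ∈ cls T a, bf g P P = 1 := fun P hP => by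
    obtain ⟨v', -, -, p⟩ := h.exists_pencil hP
    exact (hf _ _ p).1
  have id : ∀ v', v' ≠ 0 → cen v' ∈ cls T a → ∀ v, v ≠ 0 →
      θ (dt v' v) * bf g (κ v) (κ v) = 2 * bf g (κ v) (cen v') := by
    intro v' hv' hc v hv
    have p := h.pencil hv' hc
    by_cases hδ : dt v' v = 0
    · obtain ⟨s, hs⟩ := exists_smul_of_dt (h.κne v' hv') ((h.par hv' hv).2 hδ)
      have := (hf _ _ p).2
      rw [hδ, h.θ0, hs]
      simp only [bf, Prod.smul_fst, Prod.smul_snd, smul_eq_mul, Prod.fst_neg, Prod.snd_neg] at this ⊢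
      linear_combination 2 * s * this
    · set v0 := (dt v' v)⁻¹ • v with hv0def
      have hv0 : v0 ≠ 0 := smul_ne_zero (inv_ne_zero hδ) hv
      have e0 : v = dt v' v • v0 := by rw [hv0def, smul_inv_smul₀ hδ]
      have hne : κ v0 + - cen v' ≠ - cen v' := fun e => h.κne _ hv0 (by simpa using e)
      have hm := (h.mem_iff hv' hc hne).2 ⟨v0, by
        have : ∀ s : F, dt v' (s • v) = s * dt v' v := fun s => by simp [dt]; ring
        rw [hv0def, this, inv_mul_cancel₀ hδ], by simp⟩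
      have k1 := one _ hm
      have k2 := one _ hc
      have hθ := h.θne hδ
      have e1 : κ v = (θ (dt v' v))⁻¹ • κ v0 := by
        conv_lhs => rw [e0]
        exact h.κsmul _ _ hδ hv0
      rw [e1]
      simp only [bf, Prod.smul_fst, Prod.smul_snd, smul_eq_mul, Prod.fst_neg, Prod.snd_neg,
        Prod.fst_add, Prod.snd_add] at k1 k2 ⊢
      field_simp
      linear_combination k1 - k2
  refine ⟨g, hg, one, id, fun e he => by_contra fun hne => ?_⟩
  obtain ⟨v, hv, rfl⟩ := h.κsurj e hne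
  obtain ⟨v1, hv1, e1⟩ := h.csurj a ha
  obtain ⟨v2, hv2, e2⟩ := h.csurj a2 ha2.1
  have k1 := id v1 hv1 (by rw [e1]; exact ⟨ha, rfl⟩) v hv
  have k2 := id v2 hv2 (e2 ▸ ha2) v hv
  rw [he, mul_zero, e1] at k1
  rw [he, mul_zero, e2] at k2
  exact hne (bf_eq_zero hg hd (by simpa [h2] using k1) (by simpa [h2] using k2))

theorem dt_ne_of_cen (h2 : (2 : F') ≠ 0) {a : F' × F'} {g : F' × F' × F'} (hg : CF θ κ cen T a g)
    {v1 v2 : F × F} (hv1 : v1 ≠ 0) (hv2 : v2 ≠ 0) (c1 : cen v1 ∈ cls T a) (c2 : cen v2 ∈ cls T a)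
    (hd : dt (cen v1) (cen v2) ≠ 0) : dt v1 v2 ≠ 0 := fun e => by
  have k1 := hg.id v1 hv1 c1 v2 hv2
  have k2 := hg.id v2 hv2 c2 v2 hv2
  have : dt v2 v2 = 0 := by simp [dt, mul_comm]
  rw [e, h.θ0, zero_mul] at k1
  rw [this, h.θ0, zero_mul] at k2
  exact h.κne v2 hv2 (bf_eq_zero hg.nd hd (by simpa [h2] using k1) (by simpa [h2] using k2))

theorem θadd [Finite F] [Finite F'] (h2 : (2 : F') ≠ 0) (x y : F) : θ (x + y) = θ x + θ y := by
  classical
  have := Fintype.ofFinite F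
  have hm1 : θ (-1) = -1 := by
    have e : θ (-1) * θ (-1) = 1 := by rw [← h.θmul, neg_mul_neg, one_mul, h.θ1]
    rcases mul_self_eq_one_iff.1 e with e | e
    · exfalso
      have e2 : (-1 : F) = 1 := h.θinj (e.trans h.θ1.symm)
      obtain ⟨b, hb⟩ := h.θsurj (-1)
      have hb0 : b ≠ 0 := by rintro rfl; rw [h.θ0] at hb; simp at hb
      have : θ (b * b) = θ 1 := by rw [h.θmul, hb, h.θ1]; simp
      rcases mul_self_eq_one_iff.1 (h.θinj this) with e3 | e3
      · rw [e3, h.θ1] at hb; exact h2 (by linear_combination hb)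
      · rw [e3, e] at hb; exact h2 (by linear_combination hb)
    · exact e
  obtain ⟨g, hg⟩ := h.exists_CF h2 (a := (1, 0)) (by simp)
  obtain ⟨a2, ha2, hd⟩ := h.exists_indep h2 (a := (1, 0)) (by simp)
  set a1 : F' × F' := (1, 0) with ha1def
  have ha1 : a1 ≠ 0 := by simp [ha1def]
  obtain ⟨f, hf, hm⟩ := h.exists_param ha1
  by_cases hex : ∃ m, f m ≠ -a1 ∧ f m ≠ a2 ∧ f m ≠ -a2
  · obtain ⟨m, n1, n2, n3⟩ := hex
    obtain ⟨_, -, -, p1⟩ := h.exists_pencil (a := a1) (P := a1) ⟨ha1, rfl⟩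
    obtain ⟨_, -, -, p2⟩ := h.exists_pencil ha2
    have d13 : dt a1 (f m) ≠ 0 := fun e =>
      (p1.eq_or h2 (h.cls_neg _) ha1 (hm m).1 e).elim (hm m).2 n1
    have d23 : dt a2 (f m) ≠ 0 := fun e => (p2.eq_or h2 (h.cls_neg _) ha2.1 (hm m).1 e).elim n2 n3
    obtain ⟨v1, hv1, e1⟩ := h.csurj a1 ha1
    obtain ⟨v2, hv2, e2⟩ := h.csurj a2 ha2.1
    obtain ⟨v3, hv3, e3⟩ := h.csurj (f m) (hm m).1.1
    have c1 : cen v1 ∈ cls T a1 := by rw [e1]; exact ⟨ha1, rfl⟩
    have c2 : cen v2 ∈ cls T a1 := e2 ▸ ha2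
    have c3 : cen v3 ∈ cls T a1 := e3 ▸ (hm m).1
    have d12 := h.dt_ne_of_cen h2 hg hv1 hv2 c1 c2 (by rwa [e1, e2])
    have d13' := h.dt_ne_of_cen h2 hg hv1 hv3 c1 c3 (by rwa [e1, e3])
    have d23' := h.dt_ne_of_cen h2 hg hv2 hv3 c2 c3 (by rwa [e2, e3])
    obtain ⟨α, β, hv⟩ := exists_comb d12 v3
    obtain ⟨γ, δ, hc⟩ := exists_comb hd (f m)
    have hα : α ≠ 0 := by rintro rfl; apply d23'; rw [hv]; simp [dt]; ring
    have hβ : β ≠ 0 := by rintro rfl; apply d13'; rw [hv]; simp [dt]; ring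
    have key : ∀ s s', θ (α * s + β * s') = γ * θ s + δ * θ s' := by
      intro s s'
      obtain ⟨w, w1, w2⟩ := exists_dt_eq d12 s s'
      by_cases hw : w = 0
      · subst hw
        simp only [dt, Prod.snd_zero, mul_zero, Prod.fst_zero, sub_self] at w1 w2
        rw [← w1, ← w2]; simp [h.θ0]
      have k1 := hg.id v1 hv1 c1 w hw
      have k2 := hg.id v2 hv2 c2 w hw
      have k3 := hg.id v3 hv3 c3 w hw
      have : dt v3 w = α * s + β * s' := by rw [hv, ← w1, ← w2]; simp [dt]; ring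
      rw [this, e3, hc] at k3
      rw [w1, e1] at k1
      rw [w2, e2] at k2
      have hQ : bf g (κ w) (κ w) ≠ 0 := fun e => h.κne w hw (hg.aniso _ e)
      have : bf g (κ w) (γ • a1 + δ • a2) = γ * bf g (κ w) a1 + δ * bf g (κ w) a2 := by
        simp [bf]; ring
      rw [this] at k3
      refine mul_right_cancel₀ hQ ?_
      linear_combination k3 - γ * k1 - δ * k2
    have k := key (x / α) (y / β)
    have k1 := key (x / α) 0
    have k2 := key 0 (y / β)
    rw [mul_div_cancel₀ _ hα, mul_div_cancel₀ _ hβ] at k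
    rw [mul_div_cancel₀ _ hα, mul_zero, add_zero, h.θ0] at k1
    rw [mul_div_cancel₀ _ hβ, mul_zero, zero_add, h.θ0] at k2
    rw [k, k1, k2]; ring
  · push Not at hex
    have hcard : Fintype.card F ≤ 3 := by
      have : (Finset.univ.image f) ⊆ {-a1, a2, -a2} := by
        intro P hP
        obtain ⟨m, -, rfl⟩ := Finset.mem_image.1 hP
        simp only [Finset.mem_insert, Finset.mem_singleton]
        by_contra hn
        push Not at hn
        exact hn.2.2 (hex m hn.1 hn.2.1)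
      have := Finset.card_le_card this
      rw [Finset.card_image_of_injective _ hf, Finset.card_univ] at this
      exact this.trans Finset.card_le_three
    have n1 : (-1 : F) ≠ 1 := fun e => h2 (by
      have := congrArg θ e
      rw [hm1, h.θ1] at this
      linear_combination -this)
    have all : ∀ z : F, z = 0 ∨ z = 1 ∨ z = -1 := fun z => by
      by_contra hn
      push Not at hn
      have : ({0, 1, -1, z} : Finset F).card = 4 := by
        rw [Finset.card_insert_of_notMem, Finset.card_insert_of_notMem,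
          Finset.card_insert_of_notMem, Finset.card_singleton]
        · simpa using hn.2.2.symm
        · simp only [Finset.mem_insert, Finset.mem_singleton, not_or]
          exact ⟨n1.symm, hn.2.1.symm⟩
        · simp only [Finset.mem_insert, Finset.mem_singleton, not_or]
          exact ⟨zero_ne_one, by simp, hn.1.symm⟩
      have h3 := Finset.card_le_univ ({0, 1, -1, z} : Finset F)
      omega
    have t1 : (1 : F) + 1 = -1 := by
      rcases all (1 + 1) with e | e | e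
      · exact absurd (by linear_combination -e) n1
      · exact absurd (by linear_combination e) (one_ne_zero (α := F))
      · exact e
    have t2 : (1 : F') + 1 = -1 := by
      obtain ⟨b, hb⟩ := h.θsurj (1 + 1)
      rcases all b with rfl | rfl | rfl
      · rw [h.θ0] at hb; exact absurd (by linear_combination -hb) h2
      · rw [h.θ1] at hb; exact absurd (by linear_combination -hb) (one_ne_zero (α := F'))
      · rw [← hb, hm1]
    have t3 : (-1 : F) + -1 = 1 := by linear_combination -t1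
    rcases all x with rfl | rfl | rfl <;> rcases all y with rfl | rfl | rfl <;>
      simp only [zero_add, add_zero, h.θ0, h.θ1, hm1, t1, t3, add_neg_cancel, neg_add_cancel]
    · exact t2.symm
    · linear_combination t2

theorem exists_global [Finite F] [Finite F'] (h2 : (2 : F') ≠ 0) : ∃ g : F' × F' × F',
    g.1 * g.2.2 - g.2.1 ^ 2 ≠ 0 ∧ (∀ e, bf g e e = 0 → e = 0) ∧
    (∀ v' v, v' ≠ 0 → v ≠ 0 → θ (dt v' v) * bf g (κ v) (κ v) = 2 * bf g (κ v) (cen v')) ∧
    ∀ a b, a ≠ 0 → b ≠ 0 → (T a = T b ↔ bf g a a = bf g b b) := by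
  obtain ⟨g, hg⟩ := h.exists_CF h2 (a := (1, 0)) (by simp)
  obtain ⟨a2, ha2, hd⟩ := h.exists_indep h2 (a := (1, 0)) (by simp)
  set a1 : F' × F' := (1, 0) with ha1def
  have ha1 : a1 ≠ 0 := by simp [ha1def]
  obtain ⟨v1, hv1, e1⟩ := h.csurj a1 ha1
  obtain ⟨v2, hv2, e2⟩ := h.csurj a2 ha2.1
  have c1 : cen v1 ∈ cls T a1 := by rw [e1]; exact ⟨ha1, rfl⟩
  have c2 : cen v2 ∈ cls T a1 := e2 ▸ ha2
  have d12 := h.dt_ne_of_cen h2 hg hv1 hv2 c1 c2 (by rwa [e1, e2])
  -- every class form is proportional to `g`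
  have prop : ∀ v3 a g3, v3 ≠ 0 → cen v3 ∈ cls T a → CF θ κ cen T a g3 →
      ∃ ρ : F', ρ ≠ 0 ∧ ∀ u v, bf g3 u v = ρ * bf g u v := by
    intro v3 a g3 hv3 c3 hg3
    obtain ⟨α, β, hv⟩ := exists_comb d12 v3
    set M := θ α • a1 + θ β • a2 with hM
    have i1 : ∀ v, v ≠ 0 → θ (dt v3 v) * bf g (κ v) (κ v) = 2 * bf g (κ v) M := fun v hv0 => by
      have k1 := hg.id v1 hv1 c1 v hv0
      have k2 := hg.id v2 hv2 c2 v hv0
      have : dt v3 v = α * dt v1 v + β * dt v2 v := by rw [hv]; simp [dt]; ring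
      rw [this, h.θadd h2, h.θmul, h.θmul]
      have : bf g (κ v) M = θ α * bf g (κ v) a1 + θ β * bf g (κ v) a2 := by simp [hM, bf]; ring
      rw [this]
      rw [e1] at k1; rw [e2] at k2
      linear_combination θ α * k1 + θ β * k2
    have i3 := hg3.id v3 hv3 c3
    obtain ⟨w, hw⟩ := exists_dt_one hv3
    have hw0 : w ≠ 0 := ne_zero_of_dt (hw ▸ one_ne_zero)
    have hQ : ∀ v, v ≠ 0 → bf g (κ v) (κ v) ≠ 0 := fun v hv0 e => h.κne v hv0 (hg.aniso _ e)
    have hQ3 : ∀ v, v ≠ 0 → bf g3 (κ v) (κ v) ≠ 0 := fun v hv0 e => h.κne v hv0 (hg3.aniso _ e)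
    have z : dt v3 v3 = 0 := by simp [dt, mul_comm]
    have b0 : bf g (κ v3) M = 0 := by
      have := i1 v3 hv3; rw [z, h.θ0, zero_mul] at this; simpa [h2] using this
    have b03 : bf g3 (κ v3) (cen v3) = 0 := by
      have := i3 v3 hv3; rw [z, h.θ0, zero_mul] at this; simpa [h2] using this
    have b1 := i1 w hw0
    have b13 := i3 w hw0
    rw [hw, h.θ1, one_mul] at b1 b13
    have dk : dt (κ v3) (κ w) ≠ 0 := fun e => by
      rw [h.par hv3 hw0, hw] at e; exact one_ne_zero e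
    set ρ := bf g3 (κ w) (κ w) / bf g (κ w) (κ w) with hρ
    have lin : ∀ e, bf g3 e (cen v3) = ρ * bf g e M := fun e => by
      obtain ⟨x, y, rfl⟩ := exists_comb dk e
      have k1 : bf g3 (x • κ v3 + y • κ w) (cen v3) =
          x * bf g3 (κ v3) (cen v3) + y * bf g3 (κ w) (cen v3) := by simp [bf]; ring
      have k2 : bf g (x • κ v3 + y • κ w) M = x * bf g (κ v3) M + y * bf g (κ w) M := by
        simp [bf]; ring
      have k3 : ρ * bf g (κ w) (κ w) = bf g3 (κ w) (κ w) := div_mul_cancel₀ _ (hQ w hw0)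
      rw [k1, k2, b0, b03]
      refine mul_left_cancel₀ h2 ?_
      linear_combination -y * b13 + y * ρ * b1 - y * k3
    have off : ∀ e, dt (κ v3) e ≠ 0 → bf g3 e e = ρ * bf g e e := fun e he => by
      obtain ⟨v, hv0, rfl⟩ := h.κsurj e (ne_zero_of_dt he)
      have hθ := h.θne (fun e' => he ((h.par hv3 hv0).2 e'))
      refine mul_left_cancel₀ hθ ?_
      linear_combination i3 v hv0 + 2 * lin (κ v) - ρ * i1 v hv0
    have q1 := off (κ w) dk
    have q2 := off (κ w + κ v3) (by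
      intro e; apply dk; simp only [dt, Prod.fst_add, Prod.snd_add] at e ⊢; linear_combination e)
    have q3 := off (κ w - κ v3) (by
      intro e; apply dk; simp only [dt, Prod.fst_sub, Prod.snd_sub] at e ⊢; linear_combination e)
    have x1 : ∀ g : F' × F' × F', bf g (κ w + κ v3) (κ w + κ v3) =
        bf g (κ w) (κ w) + 2 * bf g (κ v3) (κ w) + bf g (κ v3) (κ v3) := fun g => by
      simp [bf]; ring
    have x2 : ∀ g : F' × F' × F', bf g (κ w - κ v3) (κ w - κ v3) =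
        bf g (κ w) (κ w) - 2 * bf g (κ v3) (κ w) + bf g (κ v3) (κ v3) := fun g => by
      simp [bf]; ring
    rw [x1, x1] at q2
    rw [x2, x2] at q3
    have q4 : bf g3 (κ v3) (κ v3) = ρ * bf g (κ v3) (κ v3) :=
      mul_left_cancel₀ h2 (by linear_combination q2 + q3 - 2 * q1)
    have q5 : bf g3 (κ v3) (κ w) = ρ * bf g (κ v3) (κ w) :=
      mul_left_cancel₀ (mul_ne_zero h2 h2) (by linear_combination q2 - q3)
    refine ⟨ρ, div_ne_zero (hQ3 w hw0) (hQ w hw0), fun u v => ?_⟩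
    obtain ⟨x, y, rfl⟩ := exists_comb dk u
    obtain ⟨x', y', rfl⟩ := exists_comb dk v
    have x3 : ∀ g : F' × F' × F', bf g (x • κ v3 + y • κ w) (x' • κ v3 + y' • κ w) =
        x * x' * bf g (κ v3) (κ v3) + (x * y' + y * x') * bf g (κ v3) (κ w) +
          y * y' * bf g (κ w) (κ w) := fun g => by simp [bf]; ring
    rw [x3, x3, q1, q4, q5]; ring
  have id : ∀ v' v, v' ≠ 0 → v ≠ 0 →
      θ (dt v' v) * bf g (κ v) (κ v) = 2 * bf g (κ v) (cen v') := by
    intro v' v hv' hv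
    obtain ⟨g3, hg3⟩ := h.exists_CF h2 (h.cne v' hv')
    obtain ⟨ρ, hρ, e⟩ := prop v' _ g3 hv' ⟨h.cne v' hv', rfl⟩ hg3
    have := hg3.id v' hv' ⟨h.cne v' hv', rfl⟩ v hv
    rw [e, e] at this
    exact mul_left_cancel₀ hρ (by linear_combination this)
  refine ⟨g, hg.nd, hg.aniso, id, fun a b ha hb => ⟨fun e => ?_, fun e => ?_⟩⟩
  · obtain ⟨g3, hg3⟩ := h.exists_CF h2 ha
    obtain ⟨v', hv', e'⟩ := h.csurj a ha
    obtain ⟨ρ, hρ, k⟩ := prop v' _ g3 hv' (by rw [e']; exact ⟨ha, rfl⟩) hg3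
    have k1 := hg3.one a ⟨ha, rfl⟩
    have k2 := hg3.one b ⟨hb, e.symm⟩
    rw [k] at k1 k2
    exact mul_left_cancel₀ hρ (k1.trans k2.symm)
  · obtain ⟨v', hv', rfl⟩ := h.csurj a ha
    by_cases hab : cen v' + b = 0
    · rw [eq_neg_of_add_eq_zero_left hab, h.Tneg]
    obtain ⟨v, hv, e'⟩ := h.κsurj _ hab
    have k := id v' v hv' hv
    have hQ : bf g (κ v) (κ v) ≠ 0 := fun e => h.κne v hv (hg.aniso _ e)
    have k2 : bf g (κ v) (κ v) = 2 * bf g (κ v) (cen v') := by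
      rw [e']
      simp only [bf, Prod.fst_add, Prod.snd_add] at e ⊢
      linear_combination -e
    have k3 : dt v' v = 1 := h.θinj (by
      rw [h.θ1]; exact mul_right_cancel₀ hQ (by rw [k, one_mul, ← k2]))
    have := ((h.circ v' hv' (κ v)).1 (Or.inr ⟨v, k3, rfl⟩)).2
    rw [e', add_sub_cancel_left] at this
    exact this.symm

theorem θneg [Finite F] [Finite F'] (h2 : (2 : F') ≠ 0) (x : F) : θ (-x) = - θ x :=
  eq_neg_of_add_eq_zero_left (by rw [← h.θadd h2, neg_add_cancel, h.θ0])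

theorem exists_coords [Finite F] [Finite F'] (h2 : (2 : F') ≠ 0) {K : Type*} [Field K]
    (σ : K →+* K) (hσ : σ ≠ RingHom.id K) (hσ2 : ∀ a, σ (σ a) = a) (i : F' →+* K)
    (hi : ∀ x, σ x = x ↔ ∃ a, i a = x) :
    ∃ (Φ : F' × F' ≃+ K) (l : F × F → K) (j : K), j ≠ 0 ∧ σ j = -j ∧
      (∀ v, l v = i (θ v.1) * l (1, 0) + i (θ v.2) * l (0, 1)) ∧
      (∀ v, v ≠ 0 → Φ (κ v) * σ (l v) = 1) ∧
      (∀ v', v' ≠ 0 → Φ (cen v') = j * l v') ∧
      ∀ a b, a ≠ 0 → b ≠ 0 → (T a = T b ↔ Φ a * σ (Φ a) = Φ b * σ (Φ b)) := by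
  obtain ⟨g, nd, an, id, hT⟩ := h.exists_global h2
  have hQ : ∀ v, v ≠ 0 → bf g (κ v) (κ v) ≠ 0 := fun v hv0 e => h.κne v hv0 (an _ e)
  set N : F × F → F' × F' := fun v => (bf g (κ v) (κ v))⁻¹ • κ v with hN
  have bN : ∀ v' v, v' ≠ 0 → v ≠ 0 → 2 * bf g (N v) (cen v') = θ (dt v' v) := by
    intro v' v hv' hv
    have : ∀ s : F', bf g (s • κ v) (cen v') = s * bf g (κ v) (cen v') := fun s => by
      simp [bf]; ring
    simp only [hN]
    rw [this, mul_left_comm, ← id v' v hv' hv]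
    have := hQ v hv
    field_simp
  have e1 : ((1, 0) : F × F) ≠ 0 := by simp
  have e2 : ((0, 1) : F × F) ≠ 0 := by simp
  set c1 := cen (1, 0)
  set c2 := cen (0, 1)
  set n1 := N (1, 0)
  set n2 := N (0, 1)
  have b1 : ∀ v, v ≠ 0 → 2 * bf g (N v) c1 = θ v.2 := fun v hv => by
    rw [bN _ v e1 hv]; simp [dt]
  have b2 : ∀ v, v ≠ 0 → 2 * bf g (N v) c2 = - θ v.1 := fun v hv => by
    rw [bN _ v e2 hv, ← h.θneg h2]; simp [dt]
  have b3 : ∀ v, v ≠ 0 → 2 * bf g n1 (cen v) = - θ v.2 := fun v hv => by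
    rw [bN v _ hv e1, ← h.θneg h2]; simp [dt]
  have b4 : ∀ v, v ≠ 0 → 2 * bf g n2 (cen v) = θ v.1 := fun v hv => by
    rw [bN v _ hv e2]; simp [dt]
  have b11 : 2 * bf g n1 c1 = 0 := by rw [b1 _ e1, h.θ0]
  have b21 : 2 * bf g n2 c1 = 1 := by rw [b1 _ e2, h.θ1]
  have b12 : 2 * bf g n1 c2 = -1 := by rw [b2 _ e1, h.θ1]
  have b22 : 2 * bf g n2 c2 = 0 := by rw [b2 _ e2, h.θ0, neg_zero]
  have hc1 : c1 ≠ 0 := h.cne _ e1
  have hn1 : n1 ≠ 0 := by
    intro e; rw [e] at b12; simp [bf] at b12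
  have dc : dt c1 c2 ≠ 0 := fun e => by
    obtain ⟨s, hs⟩ := exists_smul_of_dt hc1 e
    have : bf g n1 c2 = s * bf g n1 c1 := by rw [hs]; simp [bf]; ring
    have : (1 : F') = 0 := by linear_combination b12 - 2 * this - s * b11
    exact one_ne_zero this
  have dn : dt n1 n2 ≠ 0 := fun e => by
    obtain ⟨s, hs⟩ := exists_smul_of_dt hn1 e
    have : bf g n2 c1 = s * bf g n1 c1 := by rw [hs]; simp [bf]; ring
    have : (1 : F') = 0 := by linear_combination -b21 + 2 * this + s * b11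
    exact one_ne_zero this
  have Nlin : ∀ v, v ≠ 0 → N v = θ v.1 • n1 + θ v.2 • n2 := fun v hv => by
    refine sub_eq_zero.1 (bf_eq_zero nd dc ?_ ?_)
    · have : bf g (N v - (θ v.1 • n1 + θ v.2 • n2)) c1 =
          bf g (N v) c1 - θ v.1 * bf g n1 c1 - θ v.2 * bf g n2 c1 := by simp [bf]; ring
      refine mul_left_cancel₀ h2 ?_
      rw [this]
      linear_combination b1 v hv - θ v.1 * b11 - θ v.2 * b21
    · have : bf g (N v - (θ v.1 • n1 + θ v.2 • n2)) c2 =
          bf g (N v) c2 - θ v.1 * bf g n1 c2 - θ v.2 * bf g n2 c2 := by simp [bf]; ring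
      refine mul_left_cancel₀ h2 ?_
      rw [this]
      linear_combination b2 v hv - θ v.1 * b12 - θ v.2 * b22
  have clin : ∀ v, v ≠ 0 → cen v = θ v.1 • c1 + θ v.2 • c2 := fun v hv => by
    refine sub_eq_zero.1 (bf_eq_zero nd dn ?_ ?_)
    · have : bf g (cen v - (θ v.1 • c1 + θ v.2 • c2)) n1 =
          bf g n1 (cen v) - θ v.1 * bf g n1 c1 - θ v.2 * bf g n1 c2 := by simp [bf]; ring
      refine mul_left_cancel₀ h2 ?_
      rw [this]
      linear_combination b3 v hv - θ v.1 * b11 - θ v.2 * b12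
    · have : bf g (cen v - (θ v.1 • c1 + θ v.2 • c2)) n2 =
          bf g n2 (cen v) - θ v.1 * bf g n2 c1 - θ v.2 * bf g n2 c2 := by simp [bf]; ring
      refine mul_left_cancel₀ h2 ?_
      rw [this]
      linear_combination b4 v hv - θ v.1 * b21 - θ v.2 * b22
  have b11' : bf g n1 c1 = 0 := by simpa [h2] using b11
  set A := bf g n1 n1 with hA
  set A' := bf g c1 c1 with hA'
  have hA0 : A ≠ 0 := fun e => hn1 (an _ e)
  have dnc : dt n1 c1 ≠ 0 := fun e => by
    obtain ⟨s, hs⟩ := exists_smul_of_dt hn1 e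
    have : bf g n1 c1 = s * A := by rw [hs, hA]; simp [bf]; ring
    rw [b11'] at this
    have : s = 0 := by simpa [hA0] using this
    exact hc1 (by rw [hs, this, zero_smul])
  have bb : ∀ α β α' β' : F', bf g (α • n1 + β • c1) (α' • n1 + β' • c1) =
      α * α' * A + β * β' * A' := fun α β α' β' => by
    have : bf g (α • n1 + β • c1) (α' • n1 + β' • c1) =
        α * α' * A + β * β' * A' + (α * β' + β * α') * bf g n1 c1 := by
      rw [hA, hA']; simp [bf]; ring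
    rw [this, b11']; ring
  have ns : ¬ IsSquare (-A' / A) := by
    rintro ⟨r, hr⟩
    have := an (r • n1 + (1 : F') • c1) (by
      rw [bb]; rw [div_eq_iff hA0] at hr; linear_combination -hr)
    apply dnc
    have e : c1 = (-r) • n1 := by
      rw [one_smul] at this; rw [neg_smul]; exact eq_neg_of_add_eq_zero_right this
    rw [e]; simp [dt]; ring
  have fix : ∀ a, σ (i a) = i a := fun a => (hi _).2 ⟨a, rfl⟩
  have h2K : (2 : K) ≠ 0 := fun e => h2 (i.injective (by rw [map_ofNat, map_zero, e]))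
  obtain ⟨j0, j0ne, j0σ, j0sq⟩ : ∃ j0 : K, j0 ≠ 0 ∧ σ j0 = - j0 ∧ j0 * j0 = i (-A' / A) := by
    obtain ⟨t, t0, ht⟩ := H15.exists_trace_zero σ hσ hσ2
    have ht' : σ t = -t := eq_neg_of_add_eq_zero_right ht
    obtain ⟨μ, hμ⟩ := (hi (t * t)).1 (by rw [map_mul, ht']; ring)
    have hμ0 : μ ≠ 0 := by rintro rfl; simp [t0] at hμ
    have nμ : ¬ IsSquare μ := by
      rintro ⟨r, hr⟩
      rw [hr, map_mul] at hμ
      have : σ t = t := by
        rcases mul_self_eq_mul_self_iff.1 hμ with e | e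
        · rw [← e, fix]
        · rw [← neg_eq_iff_eq_neg] at e; rw [← e, map_neg, fix]
      exact mul_ne_zero h2K t0 (by linear_combination ht - this)
    obtain ⟨r, hr⟩ := H15.isSquare_mul_of_not ns nμ
    have hr0 : r ≠ 0 := by
      rintro rfl
      rcases mul_eq_zero.1 (hr.trans (mul_zero 0)) with e | e
      · exact ns (e ▸ ⟨0, by simp⟩)
      · exact hμ0 e
    refine ⟨i (r / μ) * t, mul_ne_zero ((map_ne_zero i).2 (div_ne_zero hr0 hμ0)) t0, ?_, ?_⟩
    · rw [map_mul, fix, ht']; ring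
    · have : -A' / A = r / μ * (r / μ) * μ := by field_simp; field_simp at hr; linear_combination hr
      rw [this, map_mul, map_mul, hμ]; ring
  let Φ0 : F' × F' →+ K := AddMonoidHom.mk'
    (fun e => i (dt e c1 / dt n1 c1) + i (dt n1 e / dt n1 c1) * j0) fun u v => by
      have k1 : dt (u + v) c1 / dt n1 c1 = dt u c1 / dt n1 c1 + dt v c1 / dt n1 c1 := by
        rw [← add_div]; congr 1; simp [dt]; ring
      have k2 : dt n1 (u + v) / dt n1 c1 = dt n1 u / dt n1 c1 + dt n1 v / dt n1 c1 := by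
        rw [← add_div]; congr 1; simp [dt]; ring
      rw [k1, k2, map_add, map_add]; ring
  have Φc : ∀ α β : F', Φ0 (α • n1 + β • c1) = i α + i β * j0 := fun α β => by
    have k1 : dt (α • n1 + β • c1) c1 / dt n1 c1 = α := by
      rw [div_eq_iff dnc]; simp [dt]; ring
    have k2 : dt n1 (α • n1 + β • c1) / dt n1 c1 = β := by
      rw [div_eq_iff dnc]; simp [dt]; ring
    show i _ + i _ * j0 = _
    rw [k1, k2]
  have Φsmul : ∀ (s : F') e, Φ0 (s • e) = i s * Φ0 e := fun s e => by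
    obtain ⟨α, β, rfl⟩ := exists_comb dnc e
    rw [smul_add, smul_smul s α n1, smul_smul s β c1, Φc, Φc, map_mul, map_mul]; ring
  have hiA : i A ≠ 0 := (map_ne_zero i).2 hA0
  have j0sq' : i A * (j0 * j0) = - i A' := by
    rw [j0sq, ← map_mul, ← map_neg]; congr 1; field_simp
  have ΦB : ∀ e e', i (2 * bf g e e') = i A * (Φ0 e * σ (Φ0 e') + σ (Φ0 e) * Φ0 e') := by
    intro e e'
    obtain ⟨α, β, rfl⟩ := exists_comb dnc e
    obtain ⟨α', β', rfl⟩ := exists_comb dnc e'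
    rw [bb, Φc, Φc]
    simp only [map_add, map_mul, fix, j0σ, map_ofNat]
    linear_combination (2 * i β * i β') * j0sq'
  have ΦQ : ∀ e, i (bf g e e) = i A * (Φ0 e * σ (Φ0 e)) := fun e => by
    have := ΦB e e
    rw [map_mul, map_ofNat] at this
    exact mul_left_cancel₀ h2K (by linear_combination this)
  have Φbij : Function.Bijective Φ0 := by
    refine ⟨(injective_iff_map_eq_zero Φ0).2 fun e he => an e (i.injective ?_), fun x => ?_⟩
    · rw [ΦQ, he]; simp
    · obtain ⟨α, hα⟩ := (hi ((x + σ x) / 2)).1 (by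
        rw [map_div₀, map_add, hσ2, map_ofNat, add_comm])
      obtain ⟨β, hβ⟩ := (hi ((x - σ x) / (2 * j0))).1 (by
        rw [map_div₀, map_sub, hσ2, map_mul, map_ofNat, j0σ]; field_simp; ring)
      exact ⟨α • n1 + β • c1, by rw [Φc, hα, hβ]; field_simp; ring⟩
  have Φn1 : Φ0 n1 = 1 := by simpa using Φc 1 0
  have Φc1 : Φ0 c1 = j0 := by simpa using Φc 0 1
  have Φc2 : Φ0 c2 = j0 * Φ0 n2 := by
    have k1 := ΦB n2 c1
    have k2 := ΦB n1 c2
    have k3 := ΦB n2 c2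
    rw [b21, Φc1, j0σ, map_one] at k1
    rw [b12, Φn1, map_neg, map_one, map_one] at k2
    rw [b22, map_zero] at k3
    set z := Φ0 n2
    set w := Φ0 c2
    have : (i A * i A * (σ z - z)) * (w - j0 * z) = 0 := by
      linear_combination (-(i A)) * k3 + (i A * z) * k2 + (i A * z) * k1
    rcases mul_eq_zero.1 this with e | e
    · have e' : σ z - z = 0 := by simpa [hiA] using e
      have : (1 : K) = 0 := by linear_combination k1 + i A * j0 * e'
      exact absurd this one_ne_zero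
    · exact sub_eq_zero.1 e
  refine ⟨AddEquiv.ofBijective Φ0 Φbij, fun v => i A * (i (θ v.1) + i (θ v.2) * Φ0 n2), j0 / i A,
    div_ne_zero j0ne hiA, ?_, fun v => ?_, fun v hv => ?_, fun v hv => ?_, fun a b ha hb => ?_⟩
  · rw [map_div₀, fix, j0σ, neg_div]
  · simp only [h.θ0, h.θ1, map_zero, map_one]; ring
  · have k : Φ0 (N v) = i (θ v.1) + i (θ v.2) * Φ0 n2 := by
      rw [Nlin v hv, map_add, Φsmul _ n1, Φsmul _ n2, Φn1, mul_one]
    show Φ0 (κ v) * σ (i A * (i (θ v.1) + i (θ v.2) * Φ0 n2)) = 1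
    rw [← k]
    simp only [hN]
    rw [Φsmul, map_mul, map_mul, fix, fix, map_inv₀]
    have := ΦQ (κ v)
    have h0 : i (bf g (κ v) (κ v)) ≠ 0 := (map_ne_zero i).2 (hQ v hv)
    field_simp
    linear_combination -this
  · show Φ0 (cen v) = j0 / i A * (i A * (i (θ v.1) + i (θ v.2) * Φ0 n2))
    rw [clin v hv, map_add, Φsmul, Φsmul, Φc1, Φc2]; field_simp
  · rw [hT a b ha hb]
    show _ ↔ Φ0 a * σ (Φ0 a) = Φ0 b * σ (Φ0 b)
    constructor
    · intro e
      exact mul_left_cancel₀ hiA (by rw [← ΦQ, ← ΦQ, e])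
    · intro e
      exact i.injective (by rw [ΦQ a, ΦQ b, e])

end Geo

end H2.U3
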