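import Mathlib
import Cfsg.Agent.H2.U3B
import Cfsg.Agent.H2.U3Geo
import Cfsg.Agent.H7.SL

/-!
# Recognition of `PSU₃(q)`, `q` odd: the circle geometry
-/

set_option autoImplicit false
set_option linter.unusedSectionVars false

namespace H2.U3

open Cfsg Subgroup H24 MulAction H19 Matrix
open scoped MatrixGroups

universe u

section Rows

variable {F : Type*} [Field F]

/-- first row -/
def r1 (g : SL(2, F)) : F × F := (g 0 0, g 0 1)

/-- second row -/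
def r2 (g : SL(2, F)) : F × F := (g 1 0, g 1 1)

theorem dt_rows (g : SL(2, F)) : dt (r1 g) (r2 g) = 1 := sl_det g

theorem r1_ne (g : SL(2, F)) : r1 g ≠ 0 := ne_zero_of_dt' (by rw [dt_rows]; exact one_ne_zero)

theorem r2_ne (g : SL(2, F)) : r2 g ≠ 0 := ne_zero_of_dt (by rw [dt_rows]; exact one_ne_zero)

theorem exists_rows {v' v : F × F} (h : dt v' v = 1) : ∃ g : SL(2, F), r1 g = v' ∧ r2 g = v :=
  ⟨⟨!![v'.1, v'.2; v.1, v.2], by rw [det_fin_two]; exact h⟩, rfl, rfl⟩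

theorem rows_ext {g g' : SL(2, F)} (h1 : r1 g = r1 g') (h2 : r2 g = r2 g') : g = g' := by
  ext i j
  fin_cases i <;> fin_cases j
  exacts [congrArg Prod.fst h1, congrArg Prod.snd h1, congrArg Prod.fst h2, congrArg Prod.snd h2]

theorem exists_r1 {v : F × F} (h : v ≠ 0) : ∃ g : SL(2, F), r1 g = v := by
  obtain ⟨w, hw⟩ := exists_dt_one h
  obtain ⟨g, h1, -⟩ := exists_rows hw
  exact ⟨g, h1⟩

theorem exists_r2 {v : F × F} (h : v ≠ 0) : ∃ g : SL(2, F), r2 g = v := by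
  obtain ⟨w, hw⟩ := exists_dt_one h
  obtain ⟨g, -, h1⟩ := exists_rows (v' := -w) (v := v) (by
    simp only [dt, Prod.fst_neg, Prod.snd_neg] at hw ⊢; linear_combination hw)
  exact ⟨g, h1⟩

theorem r1_U (s : F) (g : SL(2, F)) : r1 (slU s * g) = r1 g + s • r2 g := by
  ext <;> simp [r1, r2, coe_slU, mul_apply, Fin.sum_univ_two]

theorem r2_U (s : F) (g : SL(2, F)) : r2 (slU s * g) = r2 g := by
  ext <;> simp [r2, coe_slU, mul_apply, Fin.sum_univ_two]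

theorem r1_W (g : SL(2, F)) : r1 (slW * g) = r2 g := by
  ext <;> simp [r1, r2, coe_slW, mul_apply, Fin.sum_univ_two]

theorem r2_W (g : SL(2, F)) : r2 (slW * g) = -r1 g := by
  ext <;> simp [r1, r2, coe_slW, mul_apply, Fin.sum_univ_two]

theorem r2_eq {g g' : SL(2, F)} (h : r2 g = r2 g') : ∃ s, g' = slU s * g := by
  have h1 := dt_rows g
  have h2 := dt_rows g'
  obtain ⟨s, hs⟩ := exists_smul_of_dt (r2_ne g) (v := r1 g' - r1 g) (by
    rw [← h] at h2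
    simp only [dt, Prod.fst_sub, Prod.snd_sub] at h1 h2 ⊢; linear_combination h1 - h2)
  exact ⟨s, rows_ext (by rw [r1_U, ← hs]; abel) (by rw [r2_U, h])⟩

/-- the diagonal matrix `diag(s⁻¹, s)` -/
def dg (s : F) (hs : s ≠ 0) : SL(2, F) := ⟨!![s⁻¹, 0; 0, s], by simp [det_fin_two, hs]⟩

theorem coe_dg (s : F) (hs : s ≠ 0) : (dg s hs).1 = !![s⁻¹, 0; 0, s] := rfl

theorem r2_dg (s : F) (hs : s ≠ 0) (g : SL(2, F)) : r2 (dg s hs * g) = s • r2 g := by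
  ext <;> simp [r2, coe_dg, mul_apply, Fin.sum_univ_two]

end Rows

variable {G : Type u} {Ω : Type*} [Group G] [MulAction G Ω]

/-- an element of `C` commuting with a swap is not properly inverted -/
theorem Hyp.sq_of_inv {a b : Ω} {U : Subgroup G} {q : ℕ} {t : G} (h : Hyp G a b U q t) {z g m : G}
    (hz : z ∈ CC G a b) (hg : Sw a b g) (e : g * z = z * g) (hm : m * z * m⁻¹ = z⁻¹) :
    z * z = 1 := by
  have f : ∀ ω : Ω, z • ω = ω → z • m • ω = m • ω := fun ω hω => by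
    rw [← inv_smul_eq_iff.1 (show z⁻¹ • m • ω = m • ω by rw [← hm]; exact conj_smul_iff.2 hω)]
  obtain ⟨g1, c1, a1⟩ : ∃ g1 : G, g1 * z = z * g1 ∧ g1 • a = m • a := by
    by_cases hb : m • a = b
    · exact ⟨g, e, hb ▸ hg.1⟩
    · obtain ⟨g1, h1, -, h2⟩ := h.L1' (α := b) hz.2 h.ba.symm hb hz.1 (f a hz.1)
      exact ⟨g1, h1, h2⟩
  obtain ⟨g2, c2, a2, b2⟩ := h.L1' (f a hz.1) (ω := g1 • b) (ω' := m • b)
    (fun e => h.ba (smul_left_cancel g1 (e.trans a1.symm))) (fun e => h.ba (smul_left_cancel m e))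
    (fix_of_comm c1 hz.2) (f b hz.2)
  have hc : m⁻¹ * (g2 * g1) ∈ CC G a b :=
    ⟨by show _ • _ = _; rw [mul_smul, mul_smul, a1, a2, inv_smul_smul],
      by show _ • _ = _; rw [mul_smul, mul_smul, b2, inv_smul_smul]⟩
  have e1 := h.Ccomm hc hz
  have e2 : g2 * g1 * z = z * (g2 * g1) := by rw [mul_assoc, c1, ← mul_assoc, c2, mul_assoc]
  have e3 : m⁻¹ * z = z * m⁻¹ := mul_right_cancel (b := g2 * g1) (by
    rw [mul_assoc, ← e2, ← mul_assoc, e1, mul_assoc])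
  calc z * z = z * (m * (m⁻¹ * z)) := by group
    _ = z * (m * z * m⁻¹) := by rw [e3, mul_assoc m]
    _ = 1 := by rw [hm, mul_inv_cancel]

/-- the `U / X`-coordinate of a point -/
noncomputable def eh {K : Type*} [Field K] (b : Ω) (U : Subgroup G) (ε : G → K) (ω : Ω) : K := by
  classical exact if h : ∃ u ∈ U, u • b = ω then ε h.choose else 0

/-- `τ` is a swapping involution with a fixed point over `e` -/
def Rt {K : Type*} [Field K] (a b : Ω) (U : Subgroup G) (t : G) (ε : G → K) (e : K) (τ : G) : Prop :=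
  Sw a b τ ∧ Good t τ ∧ ∃ ω, τ • ω = ω ∧ eh b U ε ω = e

/-- the swapping involution with a fixed point over `e` -/
noncomputable def Tt {K : Type*} [Field K] (a b : Ω) (U : Subgroup G) (t : G) (ε : G → K) (e : K) :
    G := Classical.epsilon (Rt a b U t ε e)

namespace Crd

variable [Finite G] {a b : Ω} {U : Subgroup G} {q : ℕ} {t : G} {F K : Type*} [Field F] [Field K]
  {x : F → G} {ψ : G → F} {ε χ : G → K} (h : Hyp G a b U q t) (k : Crd a b U t x ψ ε χ)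

include h

theorem eh_ub {u : G} (hu : u ∈ U) : eh b U ε (u • b) = ε u := by
  have : ∃ u' ∈ U, u' • b = u • b := ⟨u, hu, rfl⟩
  rw [eh, dif_pos this, h.Ueq this.choose_spec.1 hu this.choose_spec.2]

theorem eh_a : eh b U ε a = 0 := dif_neg fun ⟨_, hu, e⟩ => h.ub_ne hu e

theorem ne_a {ω : Ω} (e : t • ω ≠ ω) : ω ≠ a := fun e' => e (by rw [e', h.ta])

theorem ne_b {ω : Ω} (e : t • ω ≠ ω) : ω ≠ b := fun e' => e (by rw [e', h.tb])

include k

theorem eh_b : eh b U ε b = 0 := by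
  have := eh_ub (ε := ε) h (one_mem U)
  rwa [one_smul, k.ε1] at this

theorem eh_u {u : G} (hu : u ∈ U) {ω : Ω} (hω : ω ≠ a) :
    eh b U ε (u • ω) = ε u + eh b U ε ω := by
  obtain ⟨u', hu', rfl⟩ := h.Utr ω hω
  rw [← mul_smul, eh_ub h (mul_mem hu hu'), eh_ub h hu', k.εadd _ hu _ hu']

theorem eh_x (s : F) {ω : Ω} (hω : ω ≠ a) : eh b U ε (x s • ω) = eh b U ε ω := by
  rw [k.eh_u h (k.xU s) hω, k.εx, zero_add]

theorem eh_c {c : G} (hc : c ∈ CC G a b) {ω : Ω} (hω : ω ≠ a) :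
    eh b U ε (c • ω) = χ c * eh b U ε ω := by
  obtain ⟨u, hu, rfl⟩ := h.Utr ω hω
  rw [h.cub hc, eh_ub h (h.CU hc hu), eh_ub h hu, k.εconj c hc u hu]

theorem eh_zero {ω : Ω} : eh b U ε ω = 0 ↔ t • ω = ω := by
  by_cases hω : ω = a
  · rw [hω]; exact iff_of_true (eh_a h) h.ta
  obtain ⟨u, hu, rfl⟩ := h.Utr ω hω
  rw [eh_ub h hu, k.εker u hu, h.t_fix_iff hu]

theorem eh_eq {ω ω' : Ω} (hω : ω ≠ a) (hω' : ω' ≠ a) (e : eh b U ε ω = eh b U ε ω') :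
    ∃ s, ω' = x s • ω := by
  obtain ⟨u, hu, rfl⟩ := h.Utr ω hω
  obtain ⟨u', hu', rfl⟩ := h.Utr ω' hω'
  rw [eh_ub h hu, eh_ub h hu'] at e
  obtain ⟨s, rfl⟩ := k.ε_eq hu hu' e
  exact ⟨s, mul_smul _ _ _⟩

theorem eh_surj {e : K} (he : e ≠ 0) : ∃ ω, t • ω ≠ ω ∧ eh b U ε ω = e := by
  obtain ⟨u, hu, rfl⟩ := k.εsurj e
  exact ⟨u • b, by rwa [Ne, ← k.eh_zero h, eh_ub h hu], eh_ub h hu⟩

theorem x_cases {ω : Ω} (e : t • ω = ω) : ω = a ∨ ∃ s, ω = x s • b := by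
  rcases h.X_cases e with e | ⟨y, hy, e⟩
  · exact Or.inl e
  · obtain ⟨s, rfl⟩ := k.xsurj y hy
    exact Or.inr ⟨s, e⟩

theorem txb (s : F) : t • x s • b = x s • b := fix_of_comm (k.xt s) h.tb

theorem Rt_ne {e : K} {τ : G} (r : Rt a b U t ε e τ) : e ≠ 0 := by
  obtain ⟨h1, h2, ω, h3, rfl⟩ := r
  rw [Ne, k.eh_zero h]
  exact h.tau_not_fix h1 h2 h3

theorem Rt_exists {e : K} (he : e ≠ 0) : ∃ τ, Rt a b U t ε e τ := by
  obtain ⟨ω, hω, rfl⟩ := k.eh_surj h he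
  obtain ⟨y, hy, τ, h1, h2, h3⟩ := h.exists_tau hω
  obtain ⟨s, rfl⟩ := k.xsurj y hy
  exact ⟨τ, h1, h2, _, h3, by rw [← k.xneg, k.eh_x h _ (ne_a h hω)]⟩

theorem Rt_uniq {e : K} {τ τ' : G} (r : Rt a b U t ε e τ) (r' : Rt a b U t ε e τ') : τ = τ' := by
  obtain ⟨h1, h2, ω, h3, rfl⟩ := r
  obtain ⟨h1', h2', ω', h3', e⟩ := r'
  obtain ⟨s, rfl⟩ := k.eh_eq h (ne_a h (h.tau_not_fix h1 h2 h3)) (ne_a h (h.tau_not_fix h1' h2' h3'))
    e.symm
  exact (h.tau_uniq h1 h2 h1' h2' (k.xmem s) h3 h3').2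

theorem Rt_neg {e : K} {τ : G} (r : Rt a b U t ε e τ) : Rt a b U t ε (-e) τ := by
  obtain ⟨h1, h2, ω, h3, rfl⟩ := r
  exact ⟨h1, h2, t • ω, fix_of_comm (h.sw_t h1).symm h3, by
    rw [k.eh_c h h.tC (ne_a h (h.tau_not_fix h1 h2 h3)), k.χt h, neg_one_mul]⟩

theorem Tt_spec {e : K} (he : e ≠ 0) : Rt a b U t ε e (Tt a b U t ε e) :=
  Classical.epsilon_spec (k.Rt_exists h he)

theorem Tt_eq {e : K} {τ : G} (r : Rt a b U t ε e τ) : Tt a b U t ε e = τ :=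
  k.Rt_uniq h (k.Tt_spec h (k.Rt_ne h r)) r

theorem Tt_neg (e : K) : Tt a b U t ε (-e) = Tt a b U t ε e := by
  by_cases he : e = 0
  · rw [he, neg_zero]
  exact k.Tt_eq h (k.Rt_neg h (k.Tt_spec h he))

theorem circ {S : G} (hS : Good t S) (hb : S • b = b) (ha : S • a ≠ a) :
    eh b U ε (S • a) ≠ 0 ∧ ∀ e, (∃ ω, S • ω = ω ∧ eh b U ε ω = e) ↔ (e - eh b U ε (S • a) ≠ 0 ∧
      Tt a b U t ε (e - eh b U ε (S • a)) = Tt a b U t ε (eh b U ε (S • a))) := by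
  obtain ⟨u, hu, e1⟩ := h.Utr _ ha
  have g1 : Good t (u⁻¹ * S * u⁻¹⁻¹) := hS.conj _
  have k1 : (u⁻¹ * S * u⁻¹⁻¹) • a = b := by
    rw [inv_inv, mul_smul, mul_smul, h.Ua u hu, ← e1, inv_smul_smul]
  have s1 : Sw a b (u⁻¹ * S * u⁻¹⁻¹) := ⟨k1, by rw [← k1, ← mul_smul, h.good_sq g1, one_smul]⟩
  have k2 : ∀ ω, S • ω = ω → Rt a b U t ε (eh b U ε ω - ε u) (u⁻¹ * S * u⁻¹⁻¹) := fun ω hω =>
    ⟨s1, g1, u⁻¹ • ω, conj_smul_iff.2 hω, by
      rw [k.eh_u h (inv_mem hu) (fun e => ha (e ▸ hω)), k.εinv hu]; ring⟩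
  have k3 := k.Rt_neg h (k2 b hb)
  rw [k.eh_b h, zero_sub, neg_neg] at k3
  rw [← e1, eh_ub h hu, k.Tt_eq h k3]
  refine ⟨k.Rt_ne h k3, fun e => ⟨?_, fun ⟨h1, h2⟩ => ?_⟩⟩
  · rintro ⟨ω, hω, rfl⟩
    exact ⟨k.Rt_ne h (k2 ω hω), k.Tt_eq h (k2 ω hω)⟩
  · obtain ⟨-, -, ω, h3, h4⟩ := k.Tt_spec h h1
    rw [h2, conj_smul_iff', inv_inv] at h3
    refine ⟨u • ω, h3, ?_⟩
    rw [k.eh_u h hu (fun e => ha (by rwa [e, h.Ua u hu] at h3)), h4]; ring

theorem exists_S {e : K} (he : e ≠ 0) : ∃ S, Good t S ∧ S • b = b ∧ eh b U ε (S • a) = e ∧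
    ∃ ω : Ω, t • ω ≠ ω ∧ S • ω = ω := by
  obtain ⟨τ, h1, h2, ω, h3, h4⟩ := k.Rt_exists h (neg_ne_zero.2 he)
  have n := h.tau_not_fix h1 h2 h3
  obtain ⟨u, hu, rfl⟩ := h.Utr ω (ne_a h n)
  have f1 : (u⁻¹ * τ * u⁻¹⁻¹) • b = b := by rw [conj_smul_iff', inv_inv, h3]
  have f2 : (u⁻¹ * τ * u⁻¹⁻¹) • a = u⁻¹ • b := by
    rw [inv_inv, mul_smul, mul_smul, h.Ua u hu, h1.1]
  have f3 : (u⁻¹ * τ * u⁻¹⁻¹) • u⁻¹ • t • u • b = u⁻¹ • t • u • b :=
    conj_smul_iff.2 (fix_of_comm (h.sw_t h1).symm h3)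
  refine ⟨_, h2.conj u⁻¹, f1, ?_, _, fun e => ?_, f3⟩
  · rw [f2, eh_ub h (inv_mem hu), k.εinv hu, ← eh_ub (ε := ε) h hu, h4, neg_neg]
  · have := h.good_uniq (h2.conj u⁻¹) (good_self t) (α := b) (β := u⁻¹ • t • u • b)
      (fun e => n (inv_smul_eq_iff.1 e)) f1 f3 h.tb e
    rw [this, h.ta] at f2
    exact h.ub_ne (inv_mem hu) f2.symm

omit k in
theorem S_ne {S : G} (hS : Good t S) (hb : S • b = b) {ω : Ω} (hω : t • ω ≠ ω) (e : S • ω = ω) :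
    S • a ≠ a := fun ha => hω (h.good_uniq hS (good_self t) h.ba ha hb h.ta h.tb ▸ e)

variable {hh : F → G} {n : G} {φ : SL(2, F) →* G} (k2 : Crd2 a b t x ψ hh n φ)

include k2

theorem φt (g : SL(2, F)) : φ g * t = t * φ g := by
  refine sl2_induction (P := fun g => φ g * t = t * φ g) (fun s => ?_) ?_ (fun g g' h1 h2 => ?_) g
  · rw [k2.φU, k.xt]
  · rw [k2.φW, h.sw_t k2.sw]
  · rw [map_mul, mul_assoc, h2, ← mul_assoc, h1, mul_assoc]

theorem φne (g : SL(2, F)) {ω : Ω} (hω : t • ω ≠ ω) : t • φ g • ω ≠ φ g • ω := fun e =>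
  hω (smul_left_cancel (φ g) (by rw [← e, ← mul_smul, k.φt h k2, mul_smul]))

theorem semireg {g : SL(2, F)} {ω : Ω} (hω : t • ω ≠ ω) (e : φ g • ω = ω) : g = 1 := by
  have hd := sl_det g
  by_cases hc : g 1 0 = 0
  · have ha : g 0 0 ≠ 0 := fun e => by simp [e, hc] at hd
    rw [k2.φ0 g hc, mul_smul] at e
    have e1 := congrArg (eh b U ε) e
    rw [k.eh_x h _ (Hyp.ne_of_fix (k2.mem _ ha).1 (ne_a h hω)), k.eh_c h (k2.mem _ ha) (ne_a h hω)]
      at e1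
    have e2 := k.χ_inj h (k2.mem _ ha) (mul_right_cancel₀ (mt (k.eh_zero h).1 hω)
      (e1.trans (one_mul _).symm))
    rw [e2, one_smul] at e
    have e3 := k.x_eq_one.1 (h.Ufree' (k.xU _) (ne_a h hω) e)
    have e4 := k2.hinj _ ha e2
    rw [e4, one_mul] at e3
    rw [e4, e3, one_mul, zero_mul, sub_zero] at hd
    exact rows_ext (Prod.ext e4 e3) (Prod.ext hc hd)
  exfalso
  have hr : -(g 1 0)⁻¹ ≠ 0 := by simpa using hc
  rw [k2.φ1 g hc] at e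
  generalize -(g 1 0)⁻¹ = r at hr e
  generalize g 0 0 / g 1 0 = s1 at e
  generalize g 1 1 / g 1 0 = s2 at e
  have sw := Hyp.sw_C (k2.mem r hr) k2.sw
  have nn : hh r * n * (hh r * n) = t := by
    rw [mul_assoc, ← mul_assoc n, k2.nh r hr, ← mul_assoc, ← mul_assoc,
      ← k2.hmul _ _ hr (inv_ne_zero hr), mul_inv_cancel₀ hr, k2.h1, one_mul, k2.nn]
  rw [mul_assoc (x s1)] at e
  generalize hh r * n = m at sw nn e
  have hω' : t • x s2 • ω ≠ x s2 • ω := by simpa only [k2.φU] using k.φne h k2 (slU s2) hω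
  have e' : (x (s2 + s1) * m) • x s2 • ω = x s2 • ω := by
    conv_rhs => rw [← e]
    simp only [k.xadd, mul_smul]
  generalize x s2 • ω = ω' at hω' e'
  generalize s2 + s1 = s at e'
  obtain ⟨c0, hc0, e0⟩ := k.ψsurj h (s := -1) (by simp)
  have i1 : c0 * m * c0⁻¹ = m⁻¹ := by
    have := k2.spec c0 hc0 m sw
    rw [e0, k2.hm1] at this
    calc c0 * m * c0⁻¹ = c0 * (m * c0 * m⁻¹)⁻¹ * m := by group
      _ = t⁻¹ * m := by rw [← this, h.tinv]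
      _ = m⁻¹ := by rw [← nn]; group
  have i2 : x s * c0 * (x s * m) * (x s * c0)⁻¹ = (x s * m)⁻¹ := by
    have := k.xconj c0 hc0 s
    rw [e0, neg_one_mul, k.xneg] at this
    calc _ = x s * (c0 * x s * c0⁻¹) * (c0 * m * c0⁻¹) * (x s)⁻¹ := by group
      _ = _ := by rw [this, i1]; group
  have zt : x s * m * t = t * (x s * m) := by
    rw [mul_assoc, h.sw_t sw, ← mul_assoc, k.xt, mul_assoc]
  obtain ⟨y, ya, yb⟩ := h.two_trans hω'
  have z2 := h.sq_of_inv (z := y⁻¹ * (x s * m) * y⁻¹⁻¹) (g := y⁻¹ * t * y⁻¹⁻¹)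
    (m := y⁻¹ * (x s * c0) * y⁻¹⁻¹)
    ⟨conj_smul_iff'.2 (by rwa [inv_inv, ya]),
      conj_smul_iff'.2 (by rw [inv_inv, yb]; exact fix_of_comm zt.symm e')⟩
    ⟨by rw [inv_inv, mul_smul, mul_smul, ya, ← yb, inv_smul_smul],
      by rw [inv_inv, mul_smul, mul_smul, yb, h.tt, ← ya, inv_smul_smul]⟩
    (by
      calc _ = y⁻¹ * (t * (x s * m)) * y := by group
        _ = _ := by rw [← zt]; group)
    (by
      calc _ = y⁻¹ * (x s * c0 * (x s * m) * (x s * c0)⁻¹) * y := by group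
        _ = _ := by rw [i2]; group)
  have z3 : x s * m * (x s * m) = 1 := by
    calc _ = y * (y⁻¹ * (x s * m) * y⁻¹⁻¹ * (y⁻¹ * (x s * m) * y⁻¹⁻¹)) * y⁻¹ := by group
      _ = 1 := by rw [z2]; group
  have z4 := congrArg (· • b) z3
  simp only [mul_smul, sw.2, h.Ua _ (k.xU s), sw.1, one_smul] at z4
  rw [h.Ufree _ (k.xU s) z4, one_mul, nn] at z3
  exact h.t1 z3

theorem φinj {g g' : SL(2, F)} {ω : Ω} (hω : t • ω ≠ ω) (e : φ g • ω = φ g' • ω) : g = g' :=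
  (inv_mul_eq_one.1 (k.semireg h k2 hω (g := g'⁻¹ * g) (by
    rw [map_mul, map_inv, mul_smul, e, inv_smul_smul]))).symm

theorem φsurj (hF : Nat.card F = q) {ω0 : Ω} (h0 : t • ω0 ≠ ω0) {ω : Ω} (hω : t • ω ≠ ω) :
    ∃ g, φ g • ω0 = ω := by
  classical
  have := h.finite
  have h3 := h.three_le
  have : Finite F := Nat.finite_of_card_ne_zero (by omega)
  have := Fintype.ofFinite F
  let f : SL(2, F) → {ω : Ω // ¬ t • ω = ω} := fun g => ⟨φ g • ω0, k.φne h k2 g h0⟩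
  have hf : Function.Injective f := fun g g' e => k.φinj h k2 h0 (congrArg Subtype.val e)
  have k3 := Nat.card_congr (Equiv.sumCompl fun ω : Ω => t • ω = ω)
  rw [Nat.card_sum, h.card_fix (good_self t), h.card_X,
    ← Nat.card_congr (Equiv.subtypeUnivEquiv (p := fun _ : Ω => True) fun _ => trivial),
    h.card_all] at k3
  obtain ⟨g, hg⟩ := (hf.bijective_of_nat_card_le (by
    rw [H7.card_sl_two (Fintype.card_eq_nat_card.trans hF), Nat.mul_sub, mul_one, ← pow_succ']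
    norm_num
    omega)).2 ⟨ω, hω⟩
  exact ⟨g, congrArg Subtype.val hg⟩

theorem fixS {S : G} (hS : Good t S) (hb : S • b = b) {ω0 : Ω} (h0 : t • ω0 ≠ ω0) {g : SL(2, F)}
    (e : S • φ g • ω0 = φ g • ω0) (ω : Ω) :
    S • ω = ω ↔ ω = b ∨ ∃ g', r1 g' = r1 g ∧ ω = φ g' • ω0 := by
  obtain ⟨g, rfl⟩ : ∃ g', g = slW * g' := ⟨slW⁻¹ * g, by group⟩
  obtain ⟨ω, rfl⟩ : ∃ ω', ω = n • ω' := ⟨n⁻¹ • ω, by rw [smul_inv_smul]⟩
  have n1 := ne_a h (k.φne h k2 g h0)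
  obtain ⟨u, hu, e1⟩ := h.Utr _ n1
  rw [map_mul, k2.φW, mul_smul] at e
  have e2 : S = n * u * t * (n * u)⁻¹ := by
    refine h.good_uniq hS ⟨_, rfl⟩ (α := n • a) (β := n • φ g • ω0)
      (fun e => n1 (smul_left_cancel n e)) (by rwa [k2.sw.1]) e ?_ ?_
    · rw [← h.Ua u hu, ← mul_smul n, conj_smul_iff, h.ta]
    · rw [← e1, ← mul_smul n, conj_smul_iff, h.tb]
  rw [e2, conj_smul_iff', _root_.mul_inv_rev, mul_smul, inv_smul_smul, r1_W]
  constructor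
  · intro e3
    rcases k.x_cases h e3 with e4 | ⟨s, e4⟩
    · left; rw [inv_smul_eq_iff.1 e4, h.Ua u hu, k2.sw.1]
    · refine Or.inr ⟨slW * (slU s * g), by rw [r1_W, r2_U], ?_⟩
      rw [inv_smul_eq_iff.1 e4, map_mul, map_mul, k2.φW, k2.φU, mul_smul, mul_smul, ← e1,
        ← mul_smul u, ← k.xcomm h s hu, mul_smul]
  · rintro (e3 | ⟨g', e3, e4⟩)
    · rw [← k2.sw.1, smul_left_cancel_iff] at e3
      rw [e3, h.Ua _ (inv_mem hu), h.ta]
    · obtain ⟨g', rfl⟩ : ∃ g'', g' = slW * g'' := ⟨slW⁻¹ * g', by group⟩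
      rw [r1_W] at e3
      obtain ⟨s, rfl⟩ := r2_eq e3.symm
      rw [map_mul, map_mul, k2.φW, k2.φU, mul_smul, mul_smul, smul_left_cancel_iff, ← e1,
        ← mul_smul, k.xcomm h s hu, mul_smul] at e4
      rw [e4, inv_smul_smul, k.txb h]

theorem eh_eq_iff {ω0 : Ω} (h0 : t • ω0 ≠ ω0) {g g' : SL(2, F)} :
    eh b U ε (φ g • ω0) = eh b U ε (φ g' • ω0) ↔ r2 g = r2 g' := by
  constructor
  · intro e
    obtain ⟨s, hs⟩ := k.eh_eq h (ne_a h (k.φne h k2 g h0)) (ne_a h (k.φne h k2 g' h0)) e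
    rw [← k2.φU, ← mul_smul, ← map_mul] at hs
    rw [k.φinj h k2 h0 hs, r2_U]
  · intro e
    obtain ⟨s, rfl⟩ := r2_eq e
    rw [map_mul, mul_smul, k2.φU, k.eh_x h _ (ne_a h (k.φne h k2 g h0))]

theorem φdg (s : F) (hs : s ≠ 0) : φ (dg s hs) = hh s⁻¹ := by
  rw [k2.φ0 _ rfl]
  simp [coe_dg, k.x0]

theorem χhh_pow (hF : Nat.card F = q) {s : F} (hs : s ≠ 0) : χ (hh s) ^ q = χ (hh s) := by
  have h3 := h.three_le
  have : Finite F := Nat.finite_of_card_ne_zero (by omega)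
  have := Fintype.ofFinite F
  have e : ∀ m : ℕ, χ (hh (s ^ m)) = χ (hh s) ^ m := fun m => by
    induction m with
    | zero => rw [pow_zero, pow_zero, k2.h1, k.χone h]
    | succ m ih =>
      rw [pow_succ, pow_succ, k2.hmul _ _ (pow_ne_zero m hs) hs,
        k.χmul h (k2.mem _ (pow_ne_zero m hs)) (k2.mem _ hs), ih]
  rw [← e, ← hF, ← Fintype.card_eq_nat_card, FiniteField.pow_card]

/-- the circle geometry -/
theorem exists_geo (hF : Nat.card F = q) {ω0 : Ω} (h0 : t • ω0 ≠ ω0) (i : F →+* K)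
    (hi : ∀ z : K, z ^ q = z → ∃ s, i s = z) (e : F × F ≃+ K)
    (he : ∀ (s : F) v, e (s • v) = i s * e v) :
    ∃ (θ : F → F) (κ cen : F × F → F × F), Geo θ κ cen (fun v => Tt a b U t ε (e v)) ∧
      (∀ g, e (κ (r2 g)) = eh b U ε (φ g • ω0)) ∧
      ∀ S g, Good t S → S • b = b → S • φ g • ω0 = φ g • ω0 →
        e (cen (r1 g)) = eh b U ε (S • a) := by
  classical
  have h3 := h.three_le
  have : Finite F := Nat.finite_of_card_ne_zero (by omega)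
  choose! θ' hθ' using fun s (hs : s ≠ 0) => hi _ (k.χhh_pow h k2 hF hs)
  let θ : F → F := fun s => if s = 0 then 0 else θ' s
  have θ0 : θ 0 = 0 := if_pos rfl
  have hθ : ∀ s, s ≠ 0 → i (θ s) = χ (hh s) := fun s hs => by
    simp only [θ, if_neg hs, hθ' s hs]
  have θmul : ∀ s s', θ (s * s') = θ s * θ s' := fun s s' => by
    by_cases hs : s = 0
    · rw [hs, zero_mul, θ0, zero_mul]
    by_cases hs' : s' = 0
    · rw [hs', mul_zero, θ0, mul_zero]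
    refine i.injective ?_
    rw [map_mul, hθ _ (mul_ne_zero hs hs'), hθ _ hs, hθ _ hs', k2.hmul _ _ hs hs',
      k.χmul h (k2.mem _ hs) (k2.mem _ hs')]
  have θ1 : θ 1 = 1 := i.injective (by rw [hθ _ one_ne_zero, k2.h1, k.χone h, map_one])
  have θi : ∀ s, s ≠ 0 → θ s⁻¹ * θ s = 1 := fun s hs => by rw [← θmul, inv_mul_cancel₀ hs, θ1]
  have θinj : Function.Injective θ := fun s s' e => by
    by_cases hs : s = 0
    · by_contra hn
      have := θi s' (fun e' => hn (hs.trans e'.symm))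
      rw [← e, hs, θ0, mul_zero] at this
      exact zero_ne_one this
    have e1 := θi s hs
    rw [e, ← θmul] at e1
    have hs' : s⁻¹ * s' ≠ 0 := fun e' => by rw [e', θ0] at e1; exact zero_ne_one e1
    have e2 := hθ _ hs'
    rw [e1, map_one] at e2
    exact (inv_mul_eq_one₀ hs).1 (k2.hinj _ hs' (k.χ_inj h (k2.mem _ hs') e2.symm))
  choose! g2 hg2 using fun v : F × F => exists_r2 (v := v)
  choose! g1 hg1 using fun v : F × F => exists_r1 (v := v)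
  choose S hS Sb Sg using fun g : SL(2, F) => h.exists_good (ne_b h (k.φne h k2 g h0))
  have p2 : ∀ g, e (e.symm (eh b U ε (φ (g2 (r2 g)) • ω0))) = eh b U ε (φ g • ω0) := fun g => by
    rw [e.apply_symm_apply, k.eh_eq_iff h k2 h0, hg2 _ (r2_ne g)]
  have p1 : ∀ S' g, Good t S' → S' • b = b → S' • φ g • ω0 = φ g • ω0 → S (g1 (r1 g)) = S' :=
    fun S' g h1 h2 h3 => h.good_uniq (hS _) h1 (ne_b h (k.φne h k2 g h0)) (Sb _)
      ((k.fixS h k2 (hS _) (Sb _) h0 (Sg _) _).2 (Or.inr ⟨g, (hg1 _ (r1_ne g)).symm, rfl⟩)) h2 h3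
  have Sa : ∀ g, S g • a ≠ a := fun g => S_ne h (hS g) (Sb g) (k.φne h k2 g h0) (Sg g)
  refine ⟨θ, fun v => e.symm (eh b U ε (φ (g2 v) • ω0)), fun v => e.symm (eh b U ε (S (g1 v) • a)),
    ⟨θ0, θmul, θinj, Finite.surjective_of_injective θinj, fun v _ => ?_, fun v v' hv hv' e1 => ?_,
      fun z hz => ?_, fun s v hs hv => ?_, fun v _ => ?_, fun v' hv' z => ?_, fun z hz => ?_,
      fun z => ?_⟩, p2, fun S' g h1 h2 h3 => by rw [e.apply_symm_apply, p1 S' g h1 h2 h3]⟩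
  · rw [Ne, map_eq_zero_iff _ e.symm.injective, k.eh_zero h]
    exact k.φne h k2 _ h0
  · rw [← hg2 v hv, ← hg2 v' hv', ← k.eh_eq_iff h k2 h0]
    exact e.symm.injective e1
  · obtain ⟨ω, hω, e1⟩ := k.eh_surj h (mt (map_eq_zero_iff _ e.injective).1 hz)
    obtain ⟨g, rfl⟩ := k.φsurj h k2 hF h0 hω
    exact ⟨r2 g, r2_ne g, e.injective (by rw [p2, e1])⟩
  · refine e.injective ?_
    have e1 := p2 (dg s hs * g2 v)
    rw [r2_dg, hg2 v hv] at e1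
    rw [e1, he, e.apply_symm_apply, map_mul, mul_smul, k.φdg h k2,
      k.eh_c h (k2.mem _ (inv_ne_zero hs)) (ne_a h (k.φne h k2 _ h0)), ← hθ _ (inv_ne_zero hs),
      eq_inv_of_mul_eq_one_left (θi s hs)]
  · rw [Ne, map_eq_zero_iff _ e.symm.injective]
    exact (k.circ h (hS _) (Sb _) (Sa _)).1
  · have e1 := (k.circ h (hS (g1 v')) (Sb _) (Sa _)).2 (e z)
    simp only [map_sub, e.apply_symm_apply]
    rw [Ne, ← map_eq_zero_iff _ e.injective, ← map_eq_zero_iff _ e.injective (x := z - _), map_sub,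
      e.apply_symm_apply, ← Ne, ← e1]
    simp only [k.fixS h k2 (hS _) (Sb _) h0 (Sg _), hg1 v' hv']
    constructor
    · rintro (e2 | ⟨v, e2, rfl⟩)
      · exact ⟨b, Or.inl rfl, by rw [e2, k.eh_b h]⟩
      · obtain ⟨g, rfl, rfl⟩ := exists_rows e2
        exact ⟨_, Or.inr ⟨g, rfl, rfl⟩, (p2 g).symm⟩
    · rintro ⟨ω, rfl | ⟨g, rfl, rfl⟩, e2⟩
      · left; rw [← e2, k.eh_b h]
      · exact Or.inr ⟨r2 g, dt_rows g, e.injective (by rw [p2, e2])⟩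
  · obtain ⟨S', h1, h2, h3, ω, hω, h4⟩ := k.exists_S h (mt (map_eq_zero_iff _ e.injective).1 hz)
    obtain ⟨g, rfl⟩ := k.φsurj h k2 hF h0 hω
    exact ⟨r1 g, r1_ne g, by rw [p1 S' g h1 h2 h4, h3, e.symm_apply_apply]⟩
  · rw [map_neg, k.Tt_neg h]

end Crd

end H2.U3
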