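import Mathlib
import Cfsg.Prelude.Def_Classical
import Cfsg.Agent.H7.SpSuSimple

/-! A concrete model of `SU₃(q)`, `q` odd, and recognition from coordinates
(adapted from helper12's model for even `q`). -/

set_option autoImplicit false
set_option linter.unusedSectionVars false

namespace H2
namespace U3M

open Matrix

variable {F : Type*} [Field F] [Fintype F] {q : ℕ} (hF : Fintype.card F = q ^ 2)

local notation "σ" => H15.frob hF

theorem ss (x : F) : σ (σ x) = x := H15.frob_frob hF x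

/-- pairs `(x, y)` with `y + y^q = x^(q+1)` -/
@[ext] structure Uq where
  x : F
  y : F
  rel : y + σ y = x * σ x

variable {hF}

instance : Mul (Uq hF) := ⟨fun a b => ⟨a.x + b.x, a.y + b.y + σ a.x * b.x, by
  have h1 := a.rel; have h2 := b.rel
  simp only [map_add, map_mul, ss]
  linear_combination h1 + h2⟩⟩

instance : One (Uq hF) := ⟨⟨0, 0, by simp⟩⟩

instance : Inv (Uq hF) := ⟨fun a => ⟨-a.x, σ a.y, by
  have h1 := a.rel
  rw [ss, map_neg]; linear_combination h1⟩⟩

@[simp] theorem mul_x (a b : Uq hF) : (a * b).x = a.x + b.x := rfl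
@[simp] theorem mul_y (a b : Uq hF) : (a * b).y = a.y + b.y + σ a.x * b.x := rfl
@[simp] theorem one_x : (1 : Uq hF).x = 0 := rfl
@[simp] theorem one_y : (1 : Uq hF).y = 0 := rfl
@[simp] theorem inv_x (a : Uq hF) : a⁻¹.x = -a.x := rfl
@[simp] theorem inv_y (a : Uq hF) : a⁻¹.y = σ a.y := rfl

instance : Group (Uq hF) := Group.ofLeftAxioms
  (fun a b c => by ext <;> simp <;> ring)
  (fun a => by ext <;> simp)
  (fun a => by
    have h1 := a.rel
    ext
    · simp
    · simp only [mul_y, inv_y, inv_x, map_neg, one_y]; linear_combination h1)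

instance : Finite (Uq hF) :=
  Finite.of_injective (fun a : Uq hF => (a.x, a.y)) fun a b h => by
    ext
    · exact congrArg Prod.fst h
    · exact congrArg Prod.snd h

theorem exists_y (x : F) : ∃ y, y + σ y = x * σ x := by
  have h1 := H15.card_trace_eq hF (x * σ x) (by
    rw [← H15.frob_apply hF, map_mul, ss, mul_comm])
  have := H15.two_le_of_card_sq hF
  obtain ⟨b⟩ := (Nat.card_pos_iff.1 (h1 ▸ (by omega : 0 < q))).1
  exact ⟨b.1, b.2⟩

theorem card_Uq : Nat.card (Uq hF) = q ^ 3 := by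
  have e : Uq hF ≃ Σ x : F, {y : F // y + y ^ q = x * σ x} :=
    ⟨fun a => ⟨a.x, a.y, a.rel⟩, fun p => ⟨p.1, p.2.1, p.2.2⟩, fun _ => rfl, fun _ => rfl⟩
  rw [Nat.card_congr e, Nat.card_sigma]
  have : ∀ x : F, Nat.card {y : F // y + y ^ q = x * σ x} = q := fun x =>
    H15.card_trace_eq hF _ (by rw [← H15.frob_apply hF, map_mul, ss, mul_comm])
  simp only [this, Finset.sum_const, Finset.card_univ, hF, smul_eq_mul]
  ring

theorem y_ne_zero {a : Uq hF} (h : a ≠ 1) : a.y ≠ 0 := by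
  intro h0
  apply h
  have h1 := a.rel
  rw [h0, map_zero, add_zero] at h1
  ext
  · rcases mul_eq_zero.1 h1.symm with h2 | h2
    · exact h2
    · exact (map_eq_zero σ).1 h2
  · exact h0

theorem herm_eq (u v : Fin 3 → F) :
    Cfsg.hermForm 3 F q u v = u 0 * σ (v 0) + u 1 * σ (v 1) + u 2 * σ (v 2) := by
  simp [Cfsg.hermForm, Fin.sum_univ_three, H15.frob_apply]

variable (hF) in
/-- the data of a hyperbolic basis -/
structure Hb where
  c : F
  two : (2 : F) ≠ 0
  hc : c * σ c = -1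

theorem Hb.ne (B : Hb hF) : B.c ≠ 0 := fun e => by simpa [e] using B.hc

theorem exists_Hb (h2 : (2 : F) ≠ 0) : Nonempty (Hb hF) := by
  obtain ⟨c, hc⟩ := H15.norm_surj σ (H15.frob_ne_id hF) (ss hF) (a := -1) (by simp)
  exact ⟨⟨c, h2, hc⟩⟩

variable (B : Hb hF)

/-- coordinates with respect to the hyperbolic basis -/
def vec (α β γ : F) : Fin 3 → F := ![γ - α / 2, B.c * (γ + α / 2), β]

theorem exists_vec (v : Fin 3 → F) : ∃ α β γ, v = vec B α β γ :=
  ⟨v 1 / B.c - v 0, v 2, (v 0 + v 1 / B.c) / 2, by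
    have := B.two; have := B.ne
    ext i; fin_cases i <;> simp [vec] <;> field_simp <;> ring⟩

variable {B} in
theorem vec_inj {α β γ α' β' γ' : F} (h : vec B α β γ = vec B α' β' γ') :
    α = α' ∧ β = β' ∧ γ = γ' := by
  have h0 := congrFun h 0
  have h1 := congrFun h 1
  have h2 := congrFun h 2
  simp only [vec, Matrix.cons_val_zero, Matrix.cons_val_one, Matrix.cons_val] at h0 h1 h2
  have h3 := mul_left_cancel₀ B.ne h1
  have := B.two
  refine ⟨?_, h2, ?_⟩
  · have : α / 2 * 2 = α' / 2 * 2 := by linear_combination h3 - h0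
    simpa [B.two] using this
  · exact mul_left_cancel₀ B.two (by linear_combination h3 + h0)

theorem smul_vec (l α β γ : F) : l • vec B α β γ = vec B (l * α) (l * β) (l * γ) := by
  ext i; fin_cases i <;> simp [vec] <;> ring

theorem add_vec (α β γ α' β' γ' : F) :
    vec B α β γ + vec B α' β' γ' = vec B (α + α') (β + β') (γ + γ') := by
  ext i; fin_cases i <;> simp [vec] <;> ring

theorem vec_eq (α β γ : F) :
    vec B α β γ = α • vec B 1 0 0 + β • vec B 0 1 0 + γ • vec B 0 0 1 := by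
  simp [smul_vec, add_vec]

theorem herm_vec (α β γ α' β' γ' : F) :
    Cfsg.hermForm 3 F q (vec B α β γ) (vec B α' β' γ') = β * σ β' - α * σ γ' - γ * σ α' := by
  rw [herm_eq (hF := hF)]
  have h1 := B.hc
  have := B.two
  simp only [vec, Matrix.cons_val_zero, Matrix.cons_val_one, Matrix.cons_val, map_sub, map_add,
    map_mul, map_div₀, map_ofNat]
  have e : ∀ x : F, x / 2 * 2 = x := fun x => by field_simp
  linear_combination (γ + α / 2) * (σ γ' + σ α' / 2) * h1 - γ * e (σ α') - σ γ' * e α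

/-- base change matrices -/
def Pm : Matrix (Fin 3) (Fin 3) F := !![-1 / 2, 0, 1; B.c / 2, 0, B.c; 0, 1, 0]

/-- the inverse base change -/
def Pi : Matrix (Fin 3) (Fin 3) F := !![-1, 1 / B.c, 0; 0, 0, 1; 1 / 2, 1 / (2 * B.c), 0]

theorem Pm_vec (α β γ : F) : Pm B *ᵥ ![α, β, γ] = vec B α β γ := by
  ext i; fin_cases i <;> simp [Pm, vec, Matrix.mulVec, dotProduct, Fin.sum_univ_three] <;> ring

theorem Pi_vec (α β γ : F) : Pi B *ᵥ vec B α β γ = ![α, β, γ] := by
  have := B.two; have := B.ne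
  ext i
  fin_cases i <;> simp [Pi, vec, Matrix.mulVec, dotProduct, Fin.sum_univ_three] <;> field_simp <;>
    ring

theorem Pm_Pi : Pm B * Pi B = 1 := by
  have := B.two; have := B.ne
  ext i j
  fin_cases i <;> fin_cases j <;> simp [Pm, Pi, Matrix.mul_apply, Fin.sum_univ_three] <;>
    field_simp <;> ring

/-- the action of an element of `SU₃(q)` on vectors -/
def act (g : Cfsg.SU 3 F q) (v : Fin 3 → F) : Fin 3 → F := (g.1.1 : Matrix _ _ F) *ᵥ v

theorem act_mul (g h : Cfsg.SU 3 F q) (v : Fin 3 → F) : act (g * h) v = act g (act h v) := by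
  simp [act]

theorem act_one (v : Fin 3 → F) : act (1 : Cfsg.SU 3 F q) v = v := by
  simp [act]

theorem act_smul (g : Cfsg.SU 3 F q) (l : F) (v : Fin 3 → F) : act g (l • v) = l • act g v := by
  simp [act, Matrix.mulVec_smul]

theorem act_add (g : Cfsg.SU 3 F q) (u v : Fin 3 → F) : act g (u + v) = act g u + act g v := by
  simp [act, Matrix.mulVec_add]

theorem act_inv_act (g : Cfsg.SU 3 F q) (v : Fin 3 → F) : act g⁻¹ (act g v) = v := by
  rw [← act_mul, inv_mul_cancel, act_one]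

theorem herm_act (g : Cfsg.SU 3 F q) (u v : Fin 3 → F) :
    Cfsg.hermForm 3 F q (act g u) (act g v) = Cfsg.hermForm 3 F q u v := g.2 u v

theorem act_vec (g : Cfsg.SU 3 F q) (α β γ : F) : act g (vec B α β γ) =
    α • act g (vec B 1 0 0) + β • act g (vec B 0 1 0) + γ • act g (vec B 0 0 1) := by
  rw [vec_eq, act_add, act_add, act_smul, act_smul, act_smul]

theorem ext_act {g h : Cfsg.SU 3 F q} (h1 : act g (vec B 1 0 0) = act h (vec B 1 0 0))
    (h2 : act g (vec B 0 1 0) = act h (vec B 0 1 0))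
    (h3 : act g (vec B 0 0 1) = act h (vec B 0 0 1)) : g = h := by
  apply Subtype.ext; apply Subtype.ext
  apply Matrix.toLin'.injective
  refine LinearMap.ext fun v => ?_
  obtain ⟨α, β, γ, rfl⟩ := exists_vec B v
  have : act g (vec B α β γ) = act h (vec B α β γ) := by
    rw [act_vec, act_vec B h, h1, h2, h3]
  simpa [act] using this

theorem exists_SU (A : Matrix (Fin 3) (Fin 3) F) (hA : A.det = 1) (f1 f2 f3 : F → F → F → F)
    (hf : ∀ α β γ, A *ᵥ ![α, β, γ] = ![f1 α β γ, f2 α β γ, f3 α β γ])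
    (hh : ∀ α β γ α' β' γ', f2 α β γ * σ (f2 α' β' γ') - f1 α β γ * σ (f3 α' β' γ') -
      f3 α β γ * σ (f1 α' β' γ') = β * σ β' - α * σ γ' - γ * σ α') :
    ∃ g : Cfsg.SU 3 F q, ∀ α β γ, act g (vec B α β γ) = vec B (f1 α β γ) (f2 α β γ) (f3 α β γ) := by
  have hv : ∀ α β γ, (Pm B * A * Pi B) *ᵥ vec B α β γ = vec B (f1 α β γ) (f2 α β γ) (f3 α β γ) :=
    fun α β γ => by rw [← Matrix.mulVec_mulVec, ← Matrix.mulVec_mulVec, Pi_vec, hf, Pm_vec]
  have hd : (Pm B * A * Pi B).det = 1 := by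
    rw [Matrix.det_mul, Matrix.det_mul, hA, mul_one, ← Matrix.det_mul, Pm_Pi, Matrix.det_one]
  refine ⟨⟨⟨_, hd⟩, fun u v => ?_⟩, hv⟩
  show Cfsg.hermForm 3 F q ((Pm B * A * Pi B) *ᵥ u) ((Pm B * A * Pi B) *ᵥ v) = _
  obtain ⟨α, β, γ, rfl⟩ := exists_vec B u
  obtain ⟨α', β', γ', rfl⟩ := exists_vec B v
  rw [hv, hv, herm_vec, herm_vec, hh]

theorem exists_root (a : Uq hF) : ∃ g : Cfsg.SU 3 F q, ∀ α β γ,
    act g (vec B α β γ) = vec B α (β + a.x * α) (γ + σ a.x * β + a.y * α) := by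
  refine exists_SU B !![1, 0, 0; a.x, 1, 0; a.y, σ a.x, 1] (by simp [Matrix.det_fin_three])
    (fun α _ _ => α) _ _ (fun α β γ => ?_) fun α β γ α' β' γ' => ?_
  · ext i; fin_cases i <;> simp [Matrix.mulVec, dotProduct, Fin.sum_univ_three] <;> ring
  · simp only [map_add, map_mul, ss]
    linear_combination (-(α * σ α')) * a.rel

/-- the root group in `SU₃(q)` -/
noncomputable def toSU : Uq hF →* Cfsg.SU 3 F q :=
  MonoidHom.mk' (fun a => (exists_root B a).choose) fun a b => by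
    refine ext_act B ?_ ?_ ?_ <;>
    · rw [act_mul, (exists_root B _).choose_spec, (exists_root B _).choose_spec,
        (exists_root B _).choose_spec]
      congr 1 <;> simp <;> ring

theorem act_toSU (a : Uq hF) (α β γ : F) :
    act (toSU B a) (vec B α β γ) = vec B α (β + a.x * α) (γ + σ a.x * β + a.y * α) :=
  (exists_root B a).choose_spec α β γ

theorem exists_weyl {j : F} (hj : j ≠ 0) (hjσ : σ j = -j) : ∃ g : Cfsg.SU 3 F q, ∀ α β γ,
    act g (vec B α β γ) = vec B (γ / j) β (-j * α) := by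
  refine exists_SU B !![0, 0, 1 / j; 0, 1, 0; -j, 0, 0] (by simp [Matrix.det_fin_three, hj])
    _ (fun _ β _ => β) _ (fun α β γ => ?_) fun α β γ α' β' γ' => ?_
  · ext i; fin_cases i <;> simp [Matrix.mulVec, dotProduct, Fin.sum_univ_three]; ring
  · simp only [map_neg, map_mul, map_div₀, hjσ]
    field_simp
    ring

/-- the isotropic point attached to a pair -/
def pt (a : Uq hF) : Fin 3 → F := vec B 1 a.x a.y

theorem act_toSU_pt (a b : Uq hF) : act (toSU B a) (pt B b) = pt B (a * b) := by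
  rw [pt, act_toSU, pt]
  congr 1 <;> simp <;> ring

theorem act_toSU_e (a : Uq hF) : act (toSU B a) (vec B 0 0 1) = vec B 0 0 1 := by
  rw [act_toSU]; simp

theorem pt_one : pt B (1 : Uq hF) = vec B 1 0 0 := by simp [pt]

theorem isotropic {v : Fin 3 → F} (hv : Cfsg.hermForm 3 F q v v = 0) :
    (∃ l : F, v = l • vec B 0 0 1) ∨ ∃ (l : F) (a : Uq hF), v = l • pt B a := by
  obtain ⟨α, β, γ, rfl⟩ := exists_vec B v
  rw [herm_vec] at hv
  by_cases h : α = 0
  · left
    subst h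
    have : β = 0 := by
      simp only [zero_mul, map_zero, mul_zero, sub_zero] at hv
      rcases mul_eq_zero.1 hv with h2 | h2
      · exact h2
      · exact (map_eq_zero σ).1 h2
    exact ⟨γ, by rw [smul_vec, this]; simp⟩
  · right
    have h' : σ α ≠ 0 := (map_ne_zero σ).2 h
    refine ⟨α, ⟨β / α, γ / α, ?_⟩, ?_⟩
    · simp only [map_div₀]
      field_simp
      linear_combination -hv
    · rw [pt, smul_vec]
      congr 1 <;> field_simp

variable {B}

theorem act_w {g : Cfsg.SU 3 F q} {l : F} (h : act g (vec B 0 0 1) = l • vec B 0 0 1) :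
    l ≠ 0 ∧ ∃ μ ν, μ ≠ 0 ∧ act g (vec B 0 1 0) = vec B 0 μ ν := by
  have hl : l ≠ 0 := by
    rintro rfl
    have := congrArg (act g⁻¹) h
    rw [act_inv_act, act_smul, zero_smul, ← zero_smul F (vec B 0 0 1), smul_vec] at this
    simpa using (vec_inj this).2.2
  obtain ⟨α, β, γ, e⟩ := exists_vec B (act g (vec B 0 1 0))
  have h1 := herm_act g (vec B 0 1 0) (vec B 0 0 1)
  have h2 := herm_act g (vec B 0 1 0) (vec B 0 1 0)
  rw [e, h, smul_vec, herm_vec, herm_vec] at h1
  rw [e, herm_vec, herm_vec] at h2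
  have hα : α = 0 := by simpa [hl] using h1
  subst hα
  refine ⟨hl, β, γ, ?_, e⟩
  rintro rfl
  simp at h2

theorem mem_range {g : Cfsg.SU 3 F q} {x : F}
    (h1 : act g (vec B 0 0 1) = vec B 0 0 1) (h2 : act g (vec B 0 1 0) = vec B 0 1 x) :
    g ∈ (toSU B).range := by
  obtain ⟨α, β, γ, e⟩ := exists_vec B (act g (vec B 1 0 0))
  have k1 := herm_act g (vec B 1 0 0) (vec B 0 0 1)
  have k2 := herm_act g (vec B 1 0 0) (vec B 0 1 0)
  have k3 := herm_act g (vec B 1 0 0) (vec B 1 0 0)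
  rw [e, h1, herm_vec, herm_vec] at k1
  rw [e, h2, herm_vec, herm_vec] at k2
  rw [e, herm_vec, herm_vec] at k3
  have hα : α = 1 := by simpa using k1
  subst hα
  have hβ : β = σ x := by simp at k2; linear_combination k2
  subst hβ
  refine ⟨⟨σ x, γ, by simp [ss] at k3 ⊢; linear_combination -k3⟩, ext_act B ?_ ?_ ?_⟩
  · rw [e, act_toSU]; simp
  · rw [h2, act_toSU]; simp [ss]
  · rw [h1, act_toSU_e]

theorem conj_mem_range {g : Cfsg.SU 3 F q} {l : F}
    (h : act g (vec B 0 0 1) = l • vec B 0 0 1) (a : Uq hF) :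
    g⁻¹ * toSU B a * g ∈ (toSU B).range := by
  obtain ⟨hl, μ, ν, hμ, e⟩ := act_w h
  have h' : act g⁻¹ (vec B 0 0 1) = l⁻¹ • vec B 0 0 1 := by
    have := congrArg (act g⁻¹) h
    rw [act_inv_act, act_smul] at this
    rw [eq_inv_smul_iff₀ hl, ← this]
  refine mem_range (x := σ a.x * μ * l⁻¹) ?_ ?_
  · rw [act_mul, act_mul, h, act_smul, act_smul, act_toSU_e, ← act_smul, ← h, act_inv_act]
  · rw [act_mul, act_mul, e, act_toSU]
    have : vec B 0 (μ + a.x * 0) (ν + σ a.x * μ + a.y * 0) =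
        vec B 0 μ ν + (σ a.x * μ) • vec B 0 0 1 := by
      simp [smul_vec, add_vec]
    rw [this, act_add, act_smul, h', ← e, act_inv_act]
    simp [smul_vec, add_vec]

theorem exists_x_ne : ∃ a : Uq hF, a.x ≠ 0 := by
  obtain ⟨y, hy⟩ := exists_y (hF := hF) 1
  exact ⟨⟨1, y, hy⟩, one_ne_zero⟩

theorem mem_center_of_fix {g : Cfsg.SU 3 F q}
    (h1 : ∃ l : F, act g (vec B 0 0 1) = l • vec B 0 0 1)
    (h2 : ∀ a : Uq hF, ∃ l : F, act g (pt B a) = l • pt B a) : g ∈ Subgroup.center _ := by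
  obtain ⟨l, h1⟩ := h1
  obtain ⟨m, hm⟩ := h2 1
  rw [pt_one] at hm
  obtain ⟨a, ha⟩ := exists_x_ne (hF := hF)
  obtain ⟨k, hk⟩ := h2 a
  obtain ⟨hl, μ, ν, hμ, e⟩ := act_w h1
  have hy : a.y ≠ 0 := y_ne_zero (by rintro rfl; exact ha rfl)
  have k1 := herm_act g (vec B 1 0 0) (vec B 0 0 1)
  have k2 := herm_act g (vec B 0 1 0) (vec B 1 0 0)
  rw [hm, h1, smul_vec, smul_vec, herm_vec, herm_vec] at k1
  rw [hm, e, smul_vec, herm_vec, herm_vec] at k2
  have hm0 : m ≠ 0 := by rintro rfl; simp at k1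
  have hν : ν = 0 := by simpa [hm0] using k2
  subst hν
  rw [pt, act_vec, hm, e, h1, smul_vec, smul_vec, smul_vec, smul_vec, smul_vec, smul_vec, add_vec,
    add_vec] at hk
  obtain ⟨e1, e2, e3⟩ := vec_inj hk
  have e1' : m = k := by simpa using e1
  have e4 : μ = k := mul_left_cancel₀ ha (by linear_combination e2)
  have e5 : l = k := mul_left_cancel₀ hy (by linear_combination e3)
  have key : ∀ v, act g v = k • v := fun v => by
    obtain ⟨α, β, γ, rfl⟩ := exists_vec B v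
    rw [act_vec, hm, e, h1, e4, e5, e1']
    simp [smul_vec, add_vec, mul_comm]
  rw [Subgroup.mem_center_iff]
  intro h
  refine ext_act B ?_ ?_ ?_ <;> rw [act_mul, act_mul, key, key, act_smul]

theorem fix_of_mem_center {w : Cfsg.SU 3 F q} {j : F} (hj : j ≠ 0)
    (hw : ∀ α β γ, act w (vec B α β γ) = vec B (γ / j) β (-j * α)) {g : Cfsg.SU 3 F q}
    (hg : g ∈ Subgroup.center _) :
    ∃ l : F, act g (vec B 0 0 1) = l • vec B 0 0 1 ∧ ∀ a : Uq hF, act g (pt B a) = l • pt B a := by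
  rw [Subgroup.mem_center_iff] at hg
  obtain ⟨α, β, γ, e⟩ := exists_vec B (act g (vec B 0 0 1))
  have key : ∀ a : Uq hF, vec B α (β + a.x * α) (γ + σ a.x * β + a.y * α) = vec B α β γ := by
    intro a
    rw [← act_toSU, ← e, ← act_mul, hg, act_mul, act_toSU_e]
  obtain ⟨a, ha⟩ := exists_x_ne (hF := hF)
  have ha' : σ a.x ≠ 0 := (map_ne_zero σ).2 ha
  obtain ⟨-, e2, e3⟩ := vec_inj (key a)
  have hα : α = 0 := by simpa [ha] using e2
  subst hα
  have hβ : β = 0 := by simpa [ha'] using e3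
  subst hβ
  have e' : act g (vec B 0 0 1) = γ • vec B 0 0 1 := by rw [e, smul_vec]; simp
  refine ⟨γ, e', fun b => ?_⟩
  have : pt B b = j • act (toSU B b * w) (vec B 0 0 1) := by
    rw [act_mul, ← act_smul, hw, smul_vec, mul_div_cancel₀ _ hj]
    simp only [mul_zero]
    rw [← pt_one, act_toSU_pt, mul_one]
  rw [this, act_smul, ← act_mul, ← hg, act_mul, e', act_smul, smul_comm]

theorem eq_top {w : Cfsg.SU 3 F q} {j : F} (hj : j ≠ 0)
    (hw : ∀ α β γ, act w (vec B α β γ) = vec B (γ / j) β (-j * α)) {N : Subgroup (Cfsg.SU 3 F q)}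
    (h1 : ∀ a : Uq hF, toSU B a ∈ N) (h2 : w ∈ N) (h3 : Subgroup.center _ ≤ N) : N = ⊤ := by
  have hq : q ≠ 2 := by
    rintro rfl
    have := (H15.card_odd_iff (F := F)).2 B.two
    rw [hF] at this
    exact absurd this (by decide)
  have hsimple := H7.psu_simple hF 3 le_rfl (by simp [hq])
  have hpt : ∀ b, pt B b = j • act (toSU B b * w) (vec B 0 0 1) := fun b => by
    rw [act_mul, ← act_smul, hw, smul_vec, mul_div_cancel₀ _ hj]
    simp only [mul_zero]
    rw [← pt_one, act_toSU_pt, mul_one]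
  set N0 := Subgroup.normalClosure ((toSU B).range : Set (Cfsg.SU 3 F q)) with hN0
  have hle : N0 ≤ N := by
    rw [hN0, Subgroup.normalClosure, Subgroup.closure_le]
    intro z hz
    obtain ⟨u, ⟨a, rfl⟩, hz⟩ := Group.mem_conjugatesOfSet_iff.1 hz
    obtain ⟨g, rfl⟩ := isConj_iff.1 hz
    have hiso : Cfsg.hermForm 3 F q (act g (vec B 0 0 1)) (act g (vec B 0 0 1)) = 0 := by
      rw [herm_act, herm_vec]; simp
    have : ∃ m ∈ N, ∃ l : F, act g (vec B 0 0 1) = l • act m (vec B 0 0 1) := by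
      rcases isotropic B hiso with ⟨l, e⟩ | ⟨l, b, e⟩
      · exact ⟨1, N.one_mem, l, by rw [act_one, e]⟩
      · exact ⟨toSU B b * w, N.mul_mem (h1 b) h2, l * j, by rw [e, hpt, smul_smul]⟩
    obtain ⟨m, hm, l, e⟩ := this
    have e' : act (m⁻¹ * g) (vec B 0 0 1) = l • vec B 0 0 1 := by
      rw [act_mul, e, act_smul, act_inv_act]
    have hl := (act_w e').1
    have e'' : act (m⁻¹ * g)⁻¹ (vec B 0 0 1) = l⁻¹ • vec B 0 0 1 := by
      have := congrArg (act (m⁻¹ * g)⁻¹) e'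
      rw [act_inv_act, act_smul] at this
      rw [eq_inv_smul_iff₀ hl, ← this]
    obtain ⟨b, hb⟩ := conj_mem_range e'' a
    have : g * toSU B a * g⁻¹ = m * toSU B b * m⁻¹ := by rw [hb]; group
    rw [this]
    exact N.mul_mem (N.mul_mem hm (h1 b)) (N.inv_mem hm)
  have hn : (N0.map (QuotientGroup.mk' (Subgroup.center _))).Normal :=
    Subgroup.Normal.map inferInstance _ (QuotientGroup.mk'_surjective _)
  rcases hn.eq_bot_or_eq_top with h | h
  · exfalso
    obtain ⟨a, ha⟩ := exists_x_ne (hF := hF)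
    rw [Subgroup.map_eq_bot_iff, QuotientGroup.ker_mk'] at h
    obtain ⟨l, -, k2⟩ := fix_of_mem_center hj hw (h (Subgroup.subset_normalClosure ⟨a, rfl⟩))
    have := k2 1
    rw [act_toSU_pt, mul_one, pt, pt, smul_vec] at this
    exact ha (by simpa using (vec_inj this).2.1)
  · rw [eq_top_iff]
    intro g _
    have : QuotientGroup.mk' (Subgroup.center _) g ∈
        N0.map (QuotientGroup.mk' (Subgroup.center _)) := h ▸ Subgroup.mem_top _
    obtain ⟨k, hk, e⟩ := this
    have h4 : k⁻¹ * g ∈ Subgroup.center _ := QuotientGroup.eq.1 e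
    simpa using N.mul_mem (hle hk) (h3 h4)

/-- recognition of `PSU₃(q)` from coordinates -/
theorem iso_psu (h2 : (2 : F) ≠ 0) {G Ω : Type*} [Group G] [MulAction G Ω] {a b : Ω}
    {U : Subgroup G} {n : G} (hf : ∀ g : G, (∀ ω : Ω, g • ω = ω) → g = 1)
    (hUa : ∀ u ∈ U, u • a = a) (hba : b ≠ a) (htr : ∀ ω, ω ≠ a → ∃ u ∈ U, u • b = ω)
    (hfree : ∀ u ∈ U, u • b = b → u = 1) (hna : n • a = b) (hnb : n • b = a)
    (hgen : U ⊔ Subgroup.zpowers n = ⊤) (ψ : U →* Uq hF) (hψ : Function.Bijective ψ) {j : F}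
    (hj : j ≠ 0) (hjσ : σ j = -j)
    (hn : ∀ u : U, u ≠ 1 → ∃ u' : U, n • (u : G) • b = (u' : G) • b ∧
      (ψ u').x * (ψ u).y = j * (ψ u).x ∧ (ψ u').y * (ψ u).y = - (j * j)) :
    Nonempty (G ≃* Cfsg.PSU 3 F q) := by
  classical
  obtain ⟨B⟩ := exists_Hb (hF := hF) h2
  obtain ⟨w, hw⟩ := exists_weyl B hj hjσ
  have ψinj := hψ.1
  have ψsurj := hψ.2
  have hex : ∀ ω : Ω, ω ≠ a → ∃ u : U, (u : G) • b = ω := fun ω h => by
    obtain ⟨u, hu, e⟩ := htr ω h
    exact ⟨⟨u, hu⟩, e⟩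
  choose! uu huu using hex
  have hne : ∀ u : U, (u : G) • b ≠ a := fun u e =>
    hba (by rw [← hUa _ (U.inv_mem u.2), ← e, inv_smul_smul])
  let v : Ω → Fin 3 → F := fun ω => if ω = a then vec B 0 0 1 else pt B (ψ (uu ω))
  have va : v a = vec B 0 0 1 := if_pos rfl
  have vu : ∀ u : U, v ((u : G) • b) = pt B (ψ u) := fun u => by
    have : uu ((u : G) • b) = u := by
      have h1 := hfree _ (U.mul_mem (U.inv_mem u.2) (uu ((u : G) • b)).2) (by
        rw [mul_smul, huu _ (hne u), inv_smul_smul])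
      exact Subtype.ext (inv_mul_eq_one.1 h1).symm
    simp only [v, if_neg (hne u), this]
  have cases : ∀ ω : Ω, ω = a ∨ ∃ u : U, ω = (u : G) • b := fun ω => by
    by_cases h : ω = a
    · exact Or.inl h
    · exact Or.inr ⟨uu ω, (huu ω h).symm⟩
  have vinj : ∀ (ω ω' : Ω) (l : F), v ω = l • v ω' → ω = ω' := by
    intro ω ω' l h
    rcases cases ω with rfl | ⟨u, rfl⟩ <;> rcases cases ω' with rfl | ⟨u', rfl⟩
    · rfl
    · rw [va, vu, pt, smul_vec] at h
      obtain ⟨e1, -, e3⟩ := vec_inj h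
      have : l = 0 := by simpa using e1.symm
      simp [this] at e3
    · rw [va, vu, pt, smul_vec] at h
      simpa using (vec_inj h).1
    · rw [vu, vu, pt, pt, smul_vec] at h
      obtain ⟨e1, e2, e3⟩ := vec_inj h
      have hl : l = 1 := by simpa using e1.symm
      rw [hl, one_mul] at e2 e3
      rw [ψinj (Uq.ext e2 e3)]
  let R0 : G → Cfsg.SU 3 F q → Prop := fun g M => ∀ ω, ∃ l : F, act M (v ω) = l • v (g • ω)
  have R0mul : ∀ g g' M M', R0 g M → R0 g' M' → R0 (g * g') (M * M') := by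
    intro g g' M M' h h' ω
    obtain ⟨l', e'⟩ := h' ω
    obtain ⟨l, e⟩ := h (g' • ω)
    exact ⟨l' * l, by rw [act_mul, e', act_smul, e, smul_smul, mul_smul g]⟩
  have vne : ∀ ω, v ω ≠ 0 := fun ω h => by
    have h0 : (0 : Fin 3 → F) = vec B 0 0 0 := by ext i; fin_cases i <;> simp [vec]
    rw [h0] at h
    rcases cases ω with rfl | ⟨u, rfl⟩
    · rw [va] at h; simpa using (vec_inj h).2.2
    · rw [vu, pt] at h; simpa using (vec_inj h).1
  have R0inv : ∀ g M, R0 g M → R0 g⁻¹ M⁻¹ := by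
    intro g M h ω
    obtain ⟨l, e⟩ := h (g⁻¹ • ω)
    rw [smul_inv_smul] at e
    have e' := congrArg (act M⁻¹) e
    rw [act_inv_act, act_smul] at e'
    have hl : l ≠ 0 := by
      rintro rfl
      exact vne _ (by rw [e', zero_smul])
    exact ⟨l⁻¹, by rw [eq_inv_smul_iff₀ hl, e']⟩
  have R0Q : ∀ u : U, R0 u (toSU B (ψ u)) := fun u ω => by
    refine ⟨1, ?_⟩
    rcases cases ω with rfl | ⟨u', rfl⟩
    · rw [hUa _ u.2, va, act_toSU_e, one_smul]
    · rw [← mul_smul (u : G), ← Subgroup.coe_mul, vu, vu, act_toSU_pt, map_mul, one_smul]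
  have vb : v b = vec B 1 0 0 := by
    have := vu 1
    rwa [Subgroup.coe_one, one_smul, map_one, pt_one] at this
  have R0t : R0 n w := fun ω => by
    rcases cases ω with rfl | ⟨u, rfl⟩
    · exact ⟨1 / j, by rw [va, hna, vb, hw, smul_vec]; simp⟩
    · by_cases hu : u = 1
      · subst hu
        exact ⟨-j, by rw [Subgroup.coe_one, one_smul, hnb, va, vb, hw, smul_vec]; simp⟩
      · obtain ⟨u', e1, e2, e3⟩ := hn u hu
        refine ⟨(ψ u).y / j, ?_⟩
        rw [e1, vu, vu, pt, pt, hw, smul_vec]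
        congr 1
        · rw [mul_one]
        · field_simp; linear_combination -e2
        · field_simp; linear_combination -e3
  have R0ex : ∀ g : G, ∃ M, R0 g M := by
    let S : Subgroup G :=
      { carrier := {g | ∃ M, R0 g M}
        one_mem' := ⟨1, fun ω => ⟨1, by rw [act_one, one_smul, one_smul]⟩⟩
        mul_mem' := fun ⟨M, h⟩ ⟨M', h'⟩ => ⟨_, R0mul _ _ _ _ h h'⟩
        inv_mem' := fun ⟨M, h⟩ => ⟨_, R0inv _ _ h⟩ }
    have : U ⊔ Subgroup.zpowers n ≤ S := sup_le (fun u hu => ⟨_, R0Q ⟨u, hu⟩⟩)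
      (Subgroup.zpowers_le.2 ⟨_, R0t⟩)
    exact fun g => this (hgen ▸ Subgroup.mem_top g)
  have R0one : ∀ M, R0 1 M → M ∈ Subgroup.center _ := fun M h => by
    refine mem_center_of_fix (B := B) ?_ fun b' => ?_
    · have := h a
      rwa [one_smul, va] at this
    · obtain ⟨u, rfl⟩ := ψsurj b'
      have := h ((u : G) • b)
      rwa [one_smul, vu] at this
  have R0uniq : ∀ g M M', R0 g M → R0 g M' →
      (QuotientGroup.mk M : Cfsg.PSU 3 F q) = QuotientGroup.mk M' := fun g M M' h h' => by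
    refine QuotientGroup.eq.2 (R0one _ ?_)
    have := R0mul _ _ _ _ (R0inv _ _ h) h'
    rwa [inv_mul_cancel] at this
  choose M hM using R0ex
  let φ : G →* Cfsg.PSU 3 F q := MonoidHom.mk' (fun g => QuotientGroup.mk (M g)) fun g g' => by
    rw [← QuotientGroup.mk_mul]
    exact R0uniq _ _ _ (hM _) (R0mul _ _ _ _ (hM g) (hM g'))
  refine ⟨MulEquiv.ofBijective φ ⟨(injective_iff_map_eq_one φ).2 fun g hg => ?_, ?_⟩⟩
  · have hz : M g ∈ Subgroup.center _ := (QuotientGroup.eq_one_iff _).1 hg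
    obtain ⟨l, k1, k2⟩ := fix_of_mem_center hj hw hz
    have hv : ∀ ω, act (M g) (v ω) = l • v ω := fun ω => by
      rcases cases ω with rfl | ⟨u, rfl⟩
      · rw [va, k1]
      · rw [vu, k2]
    have hl := (act_w k1).1
    refine hf _ fun ω => ?_
    obtain ⟨l', e⟩ := hM g ω
    rw [hv] at e
    exact (vinj _ _ (l⁻¹ * l') (by rw [mul_smul, ← e, inv_smul_smul₀ hl])).symm
  · have : φ.range.comap (QuotientGroup.mk' _) = ⊤ := by
      refine eq_top hj hw (fun b => ?_) ?_ fun z hz => ?_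
      · obtain ⟨u, rfl⟩ := ψsurj b
        exact ⟨u, R0uniq _ _ _ (hM _) (R0Q u)⟩
      · exact ⟨n, R0uniq _ _ _ (hM _) R0t⟩
      · have : QuotientGroup.mk' _ z = 1 := (QuotientGroup.eq_one_iff _).2 hz
        rw [Subgroup.mem_comap, this]
        exact Subgroup.one_mem _
    intro k
    obtain ⟨z, rfl⟩ := QuotientGroup.mk'_surjective _ k
    have h : z ∈ φ.range.comap (QuotientGroup.mk' _) := this ▸ Subgroup.mem_top z
    exact h

end U3M
end H2
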