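import Mathlib
import Cfsg.Agent.H2.U3C
import Cfsg.Agent.H2.U3Model

/-!
# Recognition of `PSU₃(q)`, `q` odd, from its doubly transitive action (Suzuki, O'Nan)
-/

set_option autoImplicit false
set_option linter.unusedSectionVars false

namespace H2.U3

open Cfsg Subgroup H24 MulAction H19 Matrix
open scoped MatrixGroups

universe u

variable {G : Type u} {Ω : Type*} [Group G] [MulAction G Ω]

theorem exists_lin {F K : Type*} [Field F] [Field K] [Finite F] [Finite K] (i : F →+* K)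
    (hK : Nat.card K = Nat.card F ^ 2) :
    ∃ e : F × F ≃+ K, ∀ (s : F) v, e (s • v) = i s * e v := by
  let _ := i.toAlgebra
  have h1 := Module.natCard_eq_pow_finrank (K := F) (V := K)
  have h2 : Module.finrank F K = 2 :=
    Nat.pow_right_injective (Finite.one_lt_card (α := F)) (h1.symm.trans hK)
  let e := LinearEquiv.ofFinrankEq (R := F) (F × F) K (by simp [h2])
  exact ⟨e.toAddEquiv, fun s v => (e.map_smul s v).trans (Algebra.smul_def _ _)⟩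

/-- the unitary coordinates -/
structure Crd3 (a b : Ω) (t : G) {F K : Type*} [Field F] [Field K] (σ : K →+* K) (x : F → G)
    (n : G) (X Y : Ω → K) (θ : F → K) (j : K) : Prop where
  j0 : j ≠ 0
  σj : σ j = -j
  θinj : ∀ s, θ s = 0 → s = 0
  Yb : Y b = 0
  Yx : ∀ s ω, ω ≠ a → Y (x s • ω) = Y ω - θ s * j
  YS : ∀ S : G, Good t S → S • b = b → S • a ≠ a → ∀ ω, S • ω = ω → Y ω = σ (X (S • a)) * X ω
  circ : ∀ S : G, Good t S → S • b = b → S • a ≠ a → ∀ z,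
    z * σ z = z * σ (X (S • a)) + σ z * X (S • a) → ∃ ω, S • ω = ω ∧ X ω = z
  tr : ∀ ω, ω ≠ a → Y ω + σ (Y ω) = X ω * σ (X ω)
  Yn : ∀ ω, ω ≠ a → ω ≠ b → X (n • ω) * Y ω = j * X ω ∧ Y (n • ω) * Y ω = -(j * j)

namespace Crd

variable [Finite G] {a b : Ω} {U : Subgroup G} {q : ℕ} {t : G} {F K : Type*} [Field F] [Field K]
  {x : F → G} {ψ : G → F} {ε χ : G → K} (h : Hyp G a b U q t) (k : Crd a b U t x ψ ε χ)
  {hh : F → G} {n : G} {φ : SL(2, F) →* G} (k2 : Crd2 a b t x ψ hh n φ)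

include h k k2

theorem exists_crd3 (hF : Nat.card F = q) [Fintype K] (hK : Fintype.card K = q ^ 2) (i : F →+* K)
    (hi : ∀ z : K, H15.frob hK z = z ↔ ∃ s, i s = z) :
    ∃ (Ψ : K ≃+ K) (Y : Ω → K) (θ : F → K) (j : K),
      Crd3 a b t (H15.frob hK) x n (fun ω => Ψ (eh b U ε ω)) Y θ j := by
  classical
  have h3 := h.three_le
  have : Finite F := Nat.finite_of_card_ne_zero (by omega)
  have h2 := k.two_ne h hF
  obtain ⟨ω0, h0⟩ : ∃ ω : Ω, t • ω ≠ ω := by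
    by_contra hn
    push Not at hn
    exact h.t1 (h.faith t hn)
  obtain ⟨e, he⟩ := exists_lin i (by rw [hF, ← hK, Fintype.card_eq_nat_card])
  obtain ⟨θ, κ, cen, geo, p1, p2⟩ := k.exists_geo h k2 hF h0 i (fun z hz => (hi z).1 hz) e he
  obtain ⟨Φ, l, j, j0, σj, hl, hκ, hc, hT⟩ := geo.exists_coords h2 (H15.frob hK)
    (H15.frob_ne_id hK) (H15.frob_frob hK) i hi
  have ss := H15.frob_frob hK
  generalize H15.frob hK = σ at *
  have σi : ∀ s, σ (i s) = i s := fun s => (hi _).2 ⟨s, rfl⟩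
  let Ψ : K ≃+ K := e.symm.trans Φ
  have hΨ : ∀ v, Ψ (e v) = Φ v := fun v => congrArg Φ (e.symm_apply_apply v)
  have q1 : ∀ g, Ψ (eh b U ε (φ g • ω0)) * σ (l (r2 g)) = 1 := fun g => by
    rw [← p1, hΨ, hκ _ (r2_ne g)]
  have ladd : ∀ v s w, l (v + s • w) = l v + i (θ s) * l w := fun v s w => by
    rw [hl, hl v, hl w]
    simp only [Prod.fst_add, Prod.snd_add, Prod.smul_fst, Prod.smul_snd, smul_eq_mul,
      geo.θadd h2, geo.θmul, map_add, map_mul]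
    ring
  have lneg : ∀ v, l (-v) = -l v := fun v => by
    rw [hl, hl v]
    simp only [Prod.fst_neg, Prod.snd_neg, geo.θneg h2, map_neg]
    ring
  choose! Γ hΓ using fun ω (hω : t • ω ≠ ω) => k.φsurj h k2 hF h0 hω
  choose! β hβ using fun ω (hω : t • ω = ω) (ha : ω ≠ a) => (k.x_cases h hω).resolve_left ha
  let Y : Ω → K := fun ω => if t • ω = ω then -(i (θ (β ω)) * j)
    else σ (j * l (r1 (Γ ω))) * Ψ (eh b U ε ω)
  have Y1 : ∀ s, Y (x s • b) = -(i (θ s) * j) := fun s => by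
    simp only [Y, if_pos (k.txb h s)]
    rw [← k.xinj (h.Ueq (k.xU _) (k.xU _) (hβ _ (k.txb h s) (h.ub_ne (k.xU s))))]
  have Y2 : ∀ g, Y (φ g • ω0) = σ (j * l (r1 g)) * Ψ (eh b U ε (φ g • ω0)) := fun g => by
    simp only [Y, if_neg (k.φne h k2 g h0)]
    rw [k.φinj h k2 h0 (hΓ _ (k.φne h k2 g h0))]
  have X1 : ∀ s, Ψ (eh b U ε (x s • b)) = 0 := fun s => by
    rw [(k.eh_zero h).2 (k.txb h s), map_zero]
  have cas : ∀ ω, ω ≠ a → (∃ s, ω = x s • b) ∨ ∃ g, ω = φ g • ω0 := fun ω ha => by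
    by_cases e : t • ω = ω
    · exact Or.inl ⟨_, hβ ω e ha⟩
    · exact Or.inr ⟨_, (hΓ ω e).symm⟩
  have Yb : Y b = 0 := by simpa [k.x0, geo.θ0] using Y1 0
  have circ : ∀ S : G, Good t S → S • b = b → S • a ≠ a → ∀ z,
      (∃ ω, S • ω = ω ∧ Ψ (eh b U ε ω) = z) ↔
      z * σ z = z * σ (Ψ (eh b U ε (S • a))) + σ z * Ψ (eh b U ε (S • a)) := by
    intro S hS hb ha z
    obtain ⟨z, rfl⟩ := Ψ.surjective z
    obtain ⟨c0, hc⟩ := k.circ h hS hb ha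
    simp only [Ψ.apply_eq_iff_eq, hc]
    obtain ⟨z, rfl⟩ := e.surjective z
    obtain ⟨c, hc'⟩ := e.surjective (eh b U ε (S • a))
    rw [← hc'] at c0 ⊢
    have c1 : c ≠ 0 := fun e => c0 (by rw [e, map_zero])
    have c2 : Φ c * σ (Φ c) ≠ 0 := by simpa using c1
    rw [← map_sub, hΨ, hΨ, Ne, map_eq_zero_iff _ e.injective]
    constructor
    · rintro ⟨h1, h2⟩
      have := (hT _ _ h1 c1).1 h2
      rw [map_sub, map_sub] at this
      linear_combination this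
    · intro h1
      have h2 : Φ (z - c) * σ (Φ (z - c)) = Φ c * σ (Φ c) := by
        rw [map_sub, map_sub]; linear_combination h1
      have h3 : z - c ≠ 0 := fun e => c2 (by rw [← h2, e, map_zero, zero_mul])
      exact ⟨h3, (hT _ _ h3 c1).2 h2⟩
  have YS : ∀ S : G, Good t S → S • b = b → S • a ≠ a → ∀ ω, S • ω = ω →
      Y ω = σ (Ψ (eh b U ε (S • a))) * Ψ (eh b U ε ω) := by
    intro S hS hb ha ω hω
    rcases cas ω (fun e => ha (e ▸ hω)) with ⟨s, rfl⟩ | ⟨g, rfl⟩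
    · by_cases e : x s • b = b
      · rw [e, Yb, k.eh_b h, map_zero, mul_zero]
      · exact absurd (h.good_uniq hS (good_self t) e hb hω h.tb (k.txb h s) ▸ h.ta) ha
    · rw [Y2, ← p2 S g hS hb hω, hΨ, hc _ (r1_ne g)]
  refine ⟨Ψ, Y, fun s => i (θ s), j, j0, σj, fun s hs => geo.θinj (by
    rw [geo.θ0]; exact (map_eq_zero i).1 hs), Yb, fun s ω ha => ?_, YS,
    fun S h1 h2 h3 z hz => (circ S h1 h2 h3 z).2 hz, fun ω ha => ?_, fun ω ha hb => ?_⟩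
  · rcases cas ω ha with ⟨s', rfl⟩ | ⟨g, rfl⟩
    · rw [← mul_smul, ← k.xadd, Y1, Y1, geo.θadd h2, map_add]; ring
    · have e1 := k.eh_x h s ha
      rw [← k2.φU, ← mul_smul, ← map_mul] at e1 ⊢
      rw [Y2, Y2, e1, r1_U, ladd]
      simp only [map_mul, map_add, σi, σj]
      linear_combination (-j * i (θ s)) * q1 g
  · rcases cas ω ha with ⟨s', rfl⟩ | ⟨g, rfl⟩
    · rw [Y1, X1, map_neg, map_mul, σi, σj]; ring
    · obtain ⟨S, h1, h2, h3⟩ := h.exists_good (ne_b h (k.φne h k2 g h0))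
      have h4 := S_ne h h1 h2 (k.φne h k2 g h0) h3
      rw [YS S h1 h2 h4 _ h3, (circ S h1 h2 h4 _).1 ⟨_, h3, rfl⟩, map_mul, ss]; ring
  · rcases cas ω ha with ⟨s, rfl⟩ | ⟨g, rfl⟩
    · have hs : s ≠ 0 := fun e => hb (by rw [e, k.x0, one_smul])
      have e1 : i (θ s⁻¹) * i (θ s) = 1 := by
        rw [← map_mul, ← geo.θmul, inv_mul_cancel₀ hs, geo.θ1, map_one]
      rw [k2.nx s hs, X1, X1, Y1, Y1, geo.θneg h2, map_neg]
      exact ⟨by ring, by linear_combination (-j * j) * e1⟩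
    · have e1 := q1 g
      have e2 := q1 (slW * g)
      rw [← k2.φW, ← mul_smul, ← map_mul, Y2, Y2, r1_W]
      rw [r2_W, lneg, map_neg] at e2
      simp only [map_mul σ, σj]
      generalize Ψ (eh b U ε (φ (slW * g) • ω0)) = x' at e2 ⊢
      generalize Ψ (eh b U ε (φ g • ω0)) = x at e1 ⊢
      exact ⟨by linear_combination (j * x) * e2,
        by linear_combination (-j * j) * e2 + (j * j * σ (l (r1 g)) * x') * e1⟩

omit k2 in
theorem cocycle {σ : K →+* K} (ss : ∀ z, σ (σ z) = z) (h2 : (2 : K) ≠ 0) {Ψ : K ≃+ K} {Y : Ω → K}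
    {θ : F → K} {j : K} (k3 : Crd3 a b t σ x n (fun ω => Ψ (eh b U ε ω)) Y θ j) {u u' : G}
    (hu : u ∈ U) (hu' : u' ∈ U) :
    Y ((u * u') • b) = Y (u • b) + Y (u' • b) + σ (Ψ (ε u)) * Ψ (ε u') := by
  let D : G → G → Prop := fun u u' =>
    Y ((u * u') • b) = Y (u • b) + Y (u' • b) + σ (Ψ (ε u)) * Ψ (ε u')
  have Dl : ∀ u ∈ U, ∀ u' ∈ U, ∀ s, D u u' → D (x s * u) u' := fun u hu u' hu' s d => by
    simp only [D] at d ⊢
    rw [mul_assoc, mul_smul (x s), mul_smul (x s), k3.Yx _ _ (h.ub_ne (mul_mem hu hu')),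
      k3.Yx _ _ (h.ub_ne hu), d, k.εadd _ (k.xU s) _ hu, k.εx, zero_add]
    ring
  have Dr : ∀ u ∈ U, ∀ u' ∈ U, ∀ s, D u u' → D u (x s * u') := fun u hu u' hu' s d => by
    simp only [D] at d ⊢
    rw [← mul_assoc, ← k.xcomm h s hu, mul_assoc, mul_smul (x s), mul_smul (x s),
      k3.Yx _ _ (h.ub_ne (mul_mem hu hu')), k3.Yx _ _ (h.ub_ne hu'), d, k.εadd _ (k.xU s) _ hu',
      k.εx, zero_add]
    ring
  have D0 : ∀ u ∈ U, ∀ u' ∈ U, ε u = 0 ∨ ε u' = 0 → D u u' := by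
    rintro u hu u' hu' (e | e)
    · obtain ⟨s, rfl⟩ := k.ε_eq (one_mem U) hu (k.ε1.trans e.symm)
      exact Dl _ (one_mem U) _ hu' s (by simp [D, k3.Yb, k.ε1])
    · obtain ⟨s, rfl⟩ := k.ε_eq (one_mem U) hu' (k.ε1.trans e.symm)
      exact Dr _ hu _ (one_mem U) s (by simp [D, k3.Yb, k.ε1])
  have D1 : ∀ u ∈ U, ∀ u' ∈ U, Ψ (ε u) * σ (Ψ (ε u')) ≠ σ (Ψ (ε u)) * Ψ (ε u') → D u u' := by
    intro u hu u' hu' hne
    obtain ⟨A, hA⟩ : ∃ A, A = Ψ (ε u) := ⟨_, rfl⟩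
    obtain ⟨E, hE⟩ : ∃ E, E = Ψ (ε u') := ⟨_, rfl⟩
    rw [← hA, ← hE, ← sub_ne_zero] at hne
    have A0 : A ≠ 0 := by rintro rfl; simp at hne
    have E0 : E ≠ 0 := by rintro rfl; simp at hne
    have AE0 : A + E ≠ 0 := fun e => hne (by rw [eq_neg_of_add_eq_zero_left e, map_neg]; ring)
    obtain ⟨S, h1, h2, h3, ω, h4, h5⟩ := k.exists_S h
      (e := Ψ.symm (A * (A + E) * σ E / (A * σ E - σ A * E))) (by simp [A0, E0, AE0, hne])
    have h6 := S_ne h h1 h2 h4 h5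
    have h7 : Ψ (eh b U ε (S • a)) * (A * σ E - σ A * E) = A * (A + E) * σ E := by
      rw [h3, Ψ.apply_symm_apply, div_mul_cancel₀ _ hne]
    have h8 := congrArg σ h7
    simp only [map_mul, map_add, map_sub, ss] at h8
    obtain ⟨ω1, f1, g1⟩ := k3.circ S h1 h2 h6 A (mul_right_cancel₀ hne (by
      linear_combination A * h8 - σ A * h7))
    obtain ⟨ω2, f2, g2⟩ := k3.circ S h1 h2 h6 (A + E) (mul_right_cancel₀ hne (by
      rw [map_add]; linear_combination (A + E) * h8 - (σ A + σ E) * h7))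
    obtain ⟨u1, hu1, rfl⟩ := h.Utr ω1 fun e => h6 (e ▸ f1)
    obtain ⟨u3, hu3, rfl⟩ := h.Utr ω2 fun e => h6 (e ▸ f2)
    obtain ⟨u2, rfl⟩ : ∃ u2, u3 = u1 * u2 := ⟨u1⁻¹ * u3, by group⟩
    have hu2 : u2 ∈ U := (mul_mem_cancel_left hu1).1 hu3
    have y1 := k3.YS S h1 h2 h6 _ f1
    have y3 := k3.YS S h1 h2 h6 _ f2
    have s2 : (u1⁻¹ * S * u1⁻¹⁻¹) • a = u1⁻¹ • S • a := by
      rw [inv_inv, mul_smul, mul_smul, h.Ua u1 hu1]
    have y2 := k3.YS (u1⁻¹ * S * u1⁻¹⁻¹) (h1.conj _) (by rw [conj_smul_iff', inv_inv, f1])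
      (by rw [s2]; exact Hyp.ne_of_fix (h.Ua _ (inv_mem hu1)) h6) (u2 • b)
      (by rw [conj_smul_iff', inv_inv, ← mul_smul u1, f2])
    simp only [eh_ub h hu1, eh_ub h hu2, eh_ub h hu3, s2, k.eh_u h (inv_mem hu1) h6, k.εinv hu1,
      k.εadd _ hu1 _ hu2, map_add, map_neg] at g1 g2 y1 y2 y3
    have d : D u1 u2 := by simp only [D]; rw [y1, y2, y3]; ring
    rw [g1, add_right_inj] at g2
    obtain ⟨s, rfl⟩ := k.ε_eq hu1 hu (Ψ.injective (g1.trans hA))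
    obtain ⟨s', rfl⟩ := k.ε_eq hu2 hu' (Ψ.injective (g2.trans hE))
    exact Dl _ hu1 _ hu' s (Dr _ hu1 _ hu2 s' d)
  by_cases c0 : ε u = 0 ∨ ε u' = 0
  · exact D0 u hu u' hu' c0
  by_cases c1 : Ψ (ε u) * σ (Ψ (ε u')) = σ (Ψ (ε u)) * Ψ (ε u')
  swap
  · exact D1 u hu u' hu' c1
  obtain ⟨w, hw, e⟩ := k.εsurj (Ψ.symm (j * Ψ (ε u)))
  have e1 : Ψ (ε w) = j * Ψ (ε u) := by rw [e, Ψ.apply_symm_apply]
  push Not at c0
  have A0 : σ (Ψ (ε u)) ≠ 0 := by simpa using c0.1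
  have A1 : Ψ (ε u) ≠ 0 := by simpa using c0.1
  have E0 : Ψ (ε u') ≠ 0 := by simpa using c0.2
  have d1 := D1 u' hu' w hw (by
    rw [e1, map_mul, k3.σj]
    intro e2
    exact mul_ne_zero (mul_ne_zero (mul_ne_zero h2 k3.j0) A0) E0
      (by linear_combination (-1) * e2 - j * c1))
  have d2 := D1 u hu (u' * w) (mul_mem hu' hw) (by
    rw [k.εadd _ hu' _ hw, map_add, e1, map_add, map_mul, k3.σj]
    intro e2
    exact mul_ne_zero (mul_ne_zero (mul_ne_zero h2 k3.j0) A0) A1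
      (by linear_combination (-1) * e2 + c1))
  have d3 : D (u * u') w := by
    by_cases c2 : ε (u * u') = 0
    · exact D0 _ (mul_mem hu hu') _ hw (Or.inl c2)
    refine D1 _ (mul_mem hu hu') _ hw ?_
    have c3 : Ψ (ε u) + Ψ (ε u') ≠ 0 := by
      rw [← map_add, ← k.εadd _ hu _ hu']; simpa using c2
    rw [k.εadd _ hu _ hu', map_add, e1, map_add, map_mul, k3.σj]
    intro e2
    exact mul_ne_zero (mul_ne_zero (mul_ne_zero h2 k3.j0) A0) c3
      (by linear_combination (-1) * e2 - j * c1)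
  simp only [D, k.εadd _ hu _ hu', k.εadd _ hu' _ hw, map_add] at d1 d2 d3
  rw [mul_assoc u, d2, d1] at d3
  linear_combination -d3

end Crd

theorem Hyp.gen [IsSimpleGroup G] {a b : Ω} {U : Subgroup G} {q : ℕ} {t : G} (h : Hyp G a b U q t)
    {n : G} (hn : n • a = b) : U ⊔ zpowers n = ⊤ := by
  have h1 : normalClosure (U : Set G) ≤ U ⊔ zpowers n := by
    refine (closure_le _).2 fun y hy => ?_
    obtain ⟨u, hu, hc⟩ := Group.mem_conjugatesOfSet_iff.1 hy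
    obtain ⟨g, rfl⟩ := isConj_iff.1 hc
    by_cases e : g • a = a
    · exact mem_sup_left (h.Un g e u hu)
    obtain ⟨u', hu', e'⟩ := h.Utr _ e
    have := h.Un ((u' * n)⁻¹ * g) (by rw [mul_smul, ← e', ← hn, ← mul_smul u', inv_smul_smul]) u hu
    have e2 : g * u * g⁻¹ = u' * n * ((u' * n)⁻¹ * g * u * ((u' * n)⁻¹ * g)⁻¹) * (u' * n)⁻¹ := by
      group
    have m := mul_mem (mem_sup_left hu' : u' ∈ U ⊔ zpowers n) (mem_sup_right (mem_zpowers n))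
    rw [e2]
    exact mul_mem (mul_mem m (mem_sup_left this)) (inv_mem m)
  rcases (inferInstance : (normalClosure (U : Set G)).Normal).eq_bot_or_eq_top with e | e
  · have h2 : U = ⊥ := eq_bot_iff.2 (e ▸ le_normalClosure)
    have h3 := h.cardU
    have := h.three_le
    rw [h2, card_bot] at h3
    have := Nat.pow_le_pow_left this 3
    omega
  · exact eq_top_iff.2 (e ▸ h1)

theorem Hyp.iso [Finite G] {a b : Ω} {U : Subgroup G} {q : ℕ} {t : G} (h : Hyp G a b U q t)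
    (hgen : ∀ n : G, n • a = b → U ⊔ zpowers n = ⊤)
    (K : Type*) [Field K] [Fintype K] (hK : Fintype.card K = q ^ 2) :
    Nonempty (G ≃* PSU 3 K q) := by
  let F := (H15.frob hK).eqLocusField (RingHom.id K)
  have hF : Nat.card F = q := H15.card_fixed hK
  obtain ⟨x, ψ, ε, χ, k⟩ := h.exists_crd F K hF (Fintype.card_eq_nat_card.symm.trans hK)
  obtain ⟨hh, n, φ, k2⟩ := k.exists_crd2 h (k.two_ne h hF)
  obtain ⟨Ψ, Y, θ, j, k3⟩ := k.exists_crd3 h k2 hF hK F.subtype fun z =>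
    ⟨fun e => ⟨⟨z, e⟩, rfl⟩, fun ⟨s, e⟩ => e ▸ s.2⟩
  have h2 : (2 : K) ≠ 0 := H15.card_odd_iff.1 (hK ▸ h.q_odd.pow)
  let f : U →* U3M.Uq hK := MonoidHom.mk' (fun u => ⟨Ψ (ε u), Y ((u : G) • b), by
    rw [k3.tr _ (h.ub_ne u.2), Crd.eh_ub h u.2]⟩) fun u u' => U3M.Uq.ext
      (by simp only [U3M.mul_x, coe_mul]; rw [k.εadd _ u.2 _ u'.2, map_add])
      (k.cocycle h (H15.frob_frob hK) h2 k3 u.2 u'.2)
  have hf : Function.Injective f := (injective_iff_map_eq_one f).2 fun u e => by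
    have e1 : Ψ (ε u) = 0 := congrArg U3M.Uq.x e
    have e2 : Y ((u : G) • b) = 0 := congrArg U3M.Uq.y e
    obtain ⟨s, hs⟩ := k.xsurj _ ((k.εker _ u.2).1 (by simpa using e1))
    rw [← hs, k3.Yx _ _ h.ba, k3.Yb, zero_sub, neg_eq_zero] at e2
    rw [k3.θinj s ((mul_eq_zero.1 e2).resolve_right k3.j0), k.x0] at hs
    exact Subtype.ext hs.symm
  refine U3M.iso_psu h2 h.faith h.Ua h.ba h.Utr h.Ufree k2.sw.1 k2.sw.2 (hgen n k2.sw.1) f
    (hf.bijective_of_nat_card_le (by rw [U3M.card_Uq, h.cardU])) k3.j0 k3.σj fun u hu => ?_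
  have hb : (u : G) • b ≠ b := fun e => hu (Subtype.ext (h.Ufree _ u.2 e))
  obtain ⟨u', hu', e⟩ := h.Utr (n • (u : G) • b) fun e =>
    hb (smul_left_cancel n (e.trans k2.sw.2.symm))
  have := k3.Yn _ (h.ub_ne u.2) hb
  rw [← e, Crd.eh_ub h hu', Crd.eh_ub h u.2] at this
  exact ⟨⟨u', hu'⟩, e.symm, this⟩

/-- **Suzuki–O'Nan**, `q` odd -/
theorem core [Finite G] [IsSimpleGroup G] {a b : Ω} {U : Subgroup G} {q : ℕ} (hba : b ≠ a)
    (hmv : ∃ g : G, g • a = b) (hUa : ∀ u ∈ U, u • a = a)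
    (hUn : ∀ h : G, h • a = a → ∀ u ∈ U, h * u * h⁻¹ ∈ U)
    (hUtr : ∀ ω, ω ≠ a → ∃ u ∈ U, u • b = ω) (hUfree : ∀ u ∈ U, u • b = b → u = 1)
    (hcard : Nat.card U = q ^ 3) (hq : ∃ p n : ℕ, p.Prime ∧ p ≠ 2 ∧ n ≠ 0 ∧ q = p ^ n)
    (hcyc : IsCyclic ↥(stabilizer G a ⊓ stabilizer G b))
    (hC : ∃ d, Odd d ∧ d * Nat.card ↥(stabilizer G a ⊓ stabilizer G b) = q ^ 2 - 1)
    (K : Type*) [Field K] [Fintype K] (hK : Fintype.card K = q ^ 2) :
    Nonempty (G ≃* PSU 3 K q) := by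
  have faith : ∀ g : G, (∀ ω : Ω, g • ω = ω) → g = 1 := fun g hg => by
    rcases (inferInstance : (toPermHom G Ω).ker.Normal).eq_bot_or_eq_top with e | e
    · exact mem_bot.1 (e ▸ (Equiv.ext hg : g ∈ (toPermHom G Ω).ker))
    · obtain ⟨g, rfl⟩ := hmv
      exact absurd (congrArg (fun σ : Equiv.Perm Ω => σ a)
        (show g ∈ (toPermHom G Ω).ker from e ▸ mem_top g)) hba
  obtain ⟨t, ht, ho⟩ : ∃ t ∈ CC G a b, orderOf t = 2 := by
    obtain ⟨d, hd, e⟩ := hC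
    obtain ⟨p, n, hp, hp2, -, rfl⟩ := hq
    refine exists_order hcyc ((Nat.coprime_two_left.2 hd).dvd_of_dvd_mul_left ?_)
    rw [e]
    exact even_iff_two_dvd.1 (Nat.Odd.sub_odd (hp.odd_of_ne_two hp2).pow.pow odd_one)
  have h : Hyp G a b U q t := ⟨faith, hba, hmv, hUa, hUn, hUtr, hUfree, hcard, hq, hcyc, hC, ht,
    fun e => by simp [e] at ho, by rw [← sq, ← ho, pow_orderOf_eq_one]⟩
  exact h.iso (fun _ => h.gen) K hK

/-- subgroup form -/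
theorem core_sub [Finite G] [IsSimpleGroup G] {B U : Subgroup G} {s : G} {q : ℕ} (hs : s ∉ B)
    (hUB : U ≤ B) (hUn : ∀ h ∈ B, ∀ u ∈ U, h * u * h⁻¹ ∈ U) (hind : B.index = q ^ 3 + 1)
    (hfree : ∀ u ∈ U, s⁻¹ * u * s ∈ B → u = 1)
    (hcard : Nat.card U = q ^ 3) (hq : ∃ p n : ℕ, p.Prime ∧ p ≠ 2 ∧ n ≠ 0 ∧ q = p ^ n)
    {H : Subgroup G} (hH : ∀ g, g ∈ H ↔ g ∈ B ∧ s⁻¹ * g * s ∈ B) (hcyc : IsCyclic H)
    (hC : ∃ d, Odd d ∧ d * Nat.card H = q ^ 2 - 1)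
    (K : Type*) [Field K] [Fintype K] (hK : Fintype.card K = q ^ 2) :
    Nonempty (G ≃* PSU 3 K q) := by
  classical
  have e1 : ∀ g : G, g • ((1 : G) : G ⧸ B) = (1 : G) ↔ g ∈ B := fun g => by
    rw [MulAction.Quotient.smul_coe, eq_comm, QuotientGroup.eq]; simp
  have e2 : ∀ g : G, g • ((s : G) : G ⧸ B) = (s : G) ↔ s⁻¹ * g * s ∈ B := fun g => by
    rw [MulAction.Quotient.smul_coe, eq_comm, QuotientGroup.eq, smul_eq_mul, mul_assoc]
  have e3 : stabilizer G ((1 : G) : G ⧸ B) ⊓ stabilizer G ((s : G) : G ⧸ B) = H := by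
    ext g; rw [hH, ← e1, ← e2]; rfl
  have hba : ((s : G) : G ⧸ B) ≠ (1 : G) := fun e => hs (by simpa using QuotientGroup.eq.1 e.symm)
  refine core (Ω := G ⧸ B) (a := (1 : G)) (b := s) (U := U) hba
    ⟨s, by rw [MulAction.Quotient.smul_coe, smul_eq_mul, mul_one]⟩ (fun u hu => (e1 u).2 (hUB hu))
    (fun g hg => hUn g ((e1 g).1 hg)) (fun ω hω => ?_) (fun u hu e => hfree u hu ((e2 u).1 e))
    hcard hq (e3 ▸ hcyc) (e3 ▸ hC) K hK
  let f : U → {ω : G ⧸ B // ¬ ω = (1 : G)} := fun u => ⟨(u : G) • (s : G ⧸ B),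
    Hyp.ne_of_fix ((e1 _).2 (hUB u.2)) hba⟩
  have hf : Function.Injective f := fun u u' e => Subtype.ext (inv_mul_eq_one.1
    (hfree _ (mul_mem (inv_mem u'.2) u.2) ((e2 _).1 (by
      rw [mul_smul, show (u : G) • (s : G ⧸ B) = (u' : G) • (s : G ⧸ B) from congrArg Subtype.val e,
        inv_smul_smul])))).symm
  have k := Nat.card_congr (Equiv.sumCompl fun ω : G ⧸ B => ω = (1 : G))
  rw [Nat.card_sum, Nat.card_unique, ← index_eq_card, hind] at k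
  obtain ⟨u, hu⟩ := (hf.bijective_of_nat_card_le (by omega)).2 ⟨ω, hω⟩
  exact ⟨u, u.2, congrArg Subtype.val hu⟩

end H2.U3
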