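import Mathlib
import Cfsg.Agent.H2.CDefs

set_option autoImplicit false
set_option linter.unusedVariables false
set_option linter.unusedSectionVars false

namespace H2.C2

open Cfsg H24 H26 H26.Gold Subgroup
open scoped commutatorElement

universe u

variable {G : Type u} [Group G] [Finite G]
  {A B D E H K L M N0 P P' Q Q' R R' S T T' U W X a a' b b' b'' v : Subgroup G}
  {g k n o s t x y z : G} {q : ℕ}

/-! ### CHB -/

private theorem ea_cj' (h : EA A) (g : G) : EA (cj g A) := ea_of_sq fun x hx => by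
  obtain ⟨a, ha, rfl⟩ := mem_cj'.1 hx
  rw [conj_mul, h.sq ha]; simp

private theorem cj_cj' (g k : G) (A : Subgroup G) : cj (g * k * g⁻¹) (cj g A) = cj g (cj k A) := by
  rw [← cj_mul, inv_mul_cancel_right, cj_mul]

private theorem relIndex_cj' (g : G) (A B : Subgroup G) :
    (cj g A).relIndex (cj g B) = A.relIndex B :=
  relIndex_map_map_of_injective A B (conj_injective' g)

private theorem comm_mem_of_norm {u : G} (hx : x ∈ N[U]) (hu : u ∈ U) : ⁅x, u⁆ ∈ U :=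
  mul_mem (conj_mem hx hu) (inv_mem hu)

section
variable (h : Half K W X R q)
include h
theorem Half.conj (g : G) : Half (cj g K) (cj g W) (cj g X) (cj g R) q := by
  refine ⟨ea_cj' h.ea g, ea_cj' h.eaX g, cj_sup g W X ▸ cj_mono g h.leK, norm_cj h.norm g,
    norm_cj h.normR g, cj_inf g W X ▸ cj_mono g h.leR, h.two_le, ?_, ?_, ?_, ?_, ?_, ?_, ?_, ?_⟩
  · rw [← cj_inf, relIndex_cj', h.idxW]
  · rw [← cj_inf, relIndex_cj', h.idxX]
  · rw [← cj_inf, relIndex_cj', h.idxR]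
  · rw [← cj_comm, h.comm, cj_inf]
  · intro w hw x hx e
    obtain ⟨w0, hw0, rfl⟩ := mem_cj'.1 hw
    obtain ⟨x0, hx0, rfl⟩ := mem_cj'.1 hx
    rw [← conjugate_commutatorElement, conj_mem_cj_iff] at e
    simpa using h.nd w0 hw0 x0 hx0 e
  · intro k hk e
    obtain ⟨k0, hk0, rfl⟩ := mem_cj'.1 hk
    rw [← cj_inf, cj_cj', cj_inj] at e
    rw [cj_cj', ← cj_C, ← cj_sup]
    exact cj_mono g (h.fix k0 hk0 e)
  · intro k hk e
    obtain ⟨k0, hk0, rfl⟩ := mem_cj'.1 hk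
    rw [← cj_inf, cj_cj'] at e ⊢
    obtain ⟨e1, e2⟩ := h.mov k0 hk0 fun e' => e (by rw [e'])
    rw [← cj_inf, ← cj_sup, e1, e2]
    exact ⟨rfl, rfl⟩
  · obtain ⟨k, hk, e⟩ := h.ex
    exact ⟨_, conj_mem_cj g hk, by rwa [← cj_inf, cj_cj', Ne, cj_inj]⟩
theorem Half.sub (hK : L ≤ K) (hL : W ⊔ X ≤ L) (he : ∃ g ∈ L, cj g (W ⊓ X) ≠ W ⊓ X) :
    Half L W X R q :=
  ⟨h.ea, h.eaX, hL, hK.trans h.norm, hK.trans h.normR, h.leR, h.two_le, h.idxW, h.idxX, h.idxR,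
    h.comm, h.nd, fun g hg => h.fix g (hK hg), fun g hg => h.mov g (hK hg), he⟩
theorem Half.normX : W ⊔ X ≤ N[X] :=
  sup_le (norm_of_comm_le_right (h.comm.le.trans inf_le_right)) (norm_self X)
theorem Half.normW : W ⊔ X ≤ N[W] := h.leK.trans h.norm
theorem Half.mem_sup : y ∈ W ⊔ X ↔ ∃ w ∈ W, ∃ x ∈ X, y = w * x :=
  mem_sup_of_norm (le_sup_right.trans h.normW)
theorem Half.two : TwoG (W ⊔ X) := h.ea.two.sup h.eaX.two (le_sup_right.trans h.normW)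
theorem Half.not_le : ¬ W ≤ X := fun e => by
  have := h.two_le
  rw [← h.idxW, relIndex_eq_one.2 (le_inf le_rfl e)] at this
  omega
theorem Half.not_ge : ¬ X ≤ W := fun e => by
  have := h.two_le
  rw [← h.idxX, relIndex_eq_one.2 (le_inf e le_rfl)] at this
  omega
theorem Half.not_le_R : ¬ W ⊓ X ≤ R := fun e => by
  have := h.two_le
  rw [← h.idxR, relIndex_eq_one.2 e] at this
  omega
theorem Half.der : ⁅W ⊔ X, W ⊔ X⁆ = W ⊓ X := by
  rw [der1_sup (le_sup_right.trans h.normW), der1_eq_bot.2 h.ea.abl, der1_eq_bot.2 h.eaX.abl, h.comm,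
    bot_sup_eq, sup_bot_eq]
theorem Half.cent1W (hw : y ∈ W) (hx : y ∉ X) : (W ⊔ X) ⊓ C{y} = W := by
  refine le_antisymm (fun u hu => ?_) (le_inf le_sup_left (mem_C_iff_le_C1.1 (h.ea.le_C hw)))
  obtain ⟨w, hw', x, hx', rfl⟩ := h.mem_sup.1 hu.1
  have := (mul_mem_cancel_left (mem_C_iff_le_C1.1 (h.ea.le_C hw) hw')).1 hu.2
  refine mul_mem hw' ((h.nd y hw x hx' ?_).resolve_left hx)
  rw [commutatorElement_eq_one_iff_mul_comm.2 (mem_C1.1 this).symm]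
  exact one_mem R
theorem Half.cent1X (hx : y ∈ X) (hw : y ∉ W) : (W ⊔ X) ⊓ C{y} = X := by
  refine le_antisymm (fun u hu => ?_) (le_inf le_sup_right (mem_C_iff_le_C1.1 (h.eaX.le_C hx)))
  obtain ⟨w, hw', x, hx', rfl⟩ := h.mem_sup.1 hu.1
  have := (mul_mem_cancel_right (mem_C_iff_le_C1.1 (h.eaX.le_C hx) hx')).1 hu.2
  refine mul_mem ((h.nd w hw' y hx ?_).resolve_right hw) hx'
  rw [commutatorElement_eq_one_iff_mul_comm.2 (mem_C1.1 this)]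
  exact one_mem R
theorem Half.centW : (W ⊔ X) ⊓ C[W] = W := by
  obtain ⟨y, h1, h2⟩ := SetLike.not_le_iff_exists.1 h.not_le
  exact le_antisymm ((inf_le_inf_left _ (C_le_C1 h1)).trans (h.cent1W h1 h2).le)
    (le_inf le_sup_left h.ea.le_C)
theorem Half.centX : (W ⊔ X) ⊓ C[X] = X := by
  obtain ⟨y, h1, h2⟩ := SetLike.not_le_iff_exists.1 h.not_ge
  exact le_antisymm ((inf_le_inf_left _ (C_le_C1 h1)).trans (h.cent1X h1 h2).le)
    (le_inf le_sup_right h.eaX.le_C)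
theorem Half.center : (W ⊔ X) ⊓ C[W ⊔ X] = W ⊓ X := by
  rw [C_sup, inf_inf_distrib_left, h.centW, h.centX]
theorem Half.cl2 : Cl2 (W ⊔ X) := h.der.le.trans (h.center.ge.trans inf_le_right)
theorem Half.not_abl : ¬ Abl (W ⊔ X) := fun e =>
  h.not_le_R (by rw [← h.der, der1_eq_bot.2 e]; exact bot_le)
theorem Half.inv_mem (hy : y ∈ W ⊔ X) (h2 : y * y = 1) : y ∈ W ∨ y ∈ X := by
  obtain ⟨w, hw, x, hx, rfl⟩ := h.mem_sup.1 hy
  refine (h.nd w hw x hx ?_).symm.imp (mul_mem hw) fun e => mul_mem e hx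
  rw [commutatorElement_def, h.ea.inv hw, h.eaX.inv hx, mul_assoc, h2]
  exact one_mem R
theorem Half.ea_le (hU : EA U) (hle : U ≤ W ⊔ X) : U ≤ W ∨ U ≤ X := by
  refine or_iff_not_imp_left.2 fun h2 v hv => ?_
  obtain ⟨u, hu, h3⟩ := SetLike.not_le_iff_exists.1 h2
  have k := fun w (hw : w ∈ U) => h.inv_mem (hle hw) (hU.sq hw)
  refine (k v hv).elim (fun vA => ?_) id
  rcases k _ (mul_mem hu hv) with e | e
  · exact absurd ((mul_mem_cancel_right vA).1 e) h3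
  · exact (mul_mem_cancel_left ((k u hu).resolve_left h3)).1 e
theorem Half.cardY : ♯(W ⊓ X) = q * ♯R := by
  rw [← card_mul_relIndex h.leR, h.idxR, mul_comm]
theorem Half.cardW : ♯W = q ^ 2 * ♯R := by
  rw [← card_mul_relIndex (inf_le_left : W ⊓ X ≤ W), h.idxW, h.cardY]; ring
theorem Half.cardX : ♯X = q ^ 2 * ♯R := by
  rw [← card_mul_relIndex (inf_le_right : W ⊓ X ≤ X), h.idxX, h.cardY]; ring
theorem Half.cardE : ♯(W ⊔ X) = q ^ 3 * ♯R := by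
  have := card_sup (le_sup_right.trans h.normW)
  rw [h.cardY, h.cardW, h.cardX] at this
  refine Nat.eq_of_mul_eq_mul_right (Nat.mul_pos (zero_lt_two.trans_le h.two_le) (card_pos R)) ?_
  rw [this]; ring
theorem Half.eq_or (hU : EA U) (hle : U ≤ W ⊔ X) (hc : ♯U = ♯W) : U = W ∨ U = X :=
  (h.ea_le hU hle).imp (fun e => eq_of_card_eq e hc)
    fun e => eq_of_card_eq e (by rw [hc, h.cardW, h.cardX])
theorem Half.norm_cases (hn : n ∈ N[W ⊔ X]) :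
    (cj n W = W ∧ cj n X = X) ∨ (cj n W = X ∧ cj n X = W) := by
  have ne : W ≠ X := fun e => h.not_le e.le
  rcases h.eq_or (ea_cj' h.ea n) (cj_le_of_mem_N le_sup_left hn) (card_cj _ _) with e1 | e1 <;>
    rcases h.eq_or (ea_cj' h.eaX n) (cj_le_of_mem_N le_sup_right hn)
      (by rw [card_cj, h.cardW, h.cardX]) with e2 | e2
  · exact absurd (cj_inj.1 (e1.trans e2.symm)) ne
  · exact Or.inl ⟨e1, e2⟩
  · exact Or.inr ⟨e1, e2⟩
  · exact absurd (cj_inj.1 (e1.trans e2.symm)) ne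
theorem Half.two_cases : q = 2 ∨ 4 ≤ q := by
  have h1 := h.two_le
  have h2 : q ≠ 3 := fun e => absurd (h.ea.two.relIndex (W ⊓ X) 3 Nat.prime_three
    (by rw [h.idxW, e])) (by decide)
  omega
theorem Half.R_bot (h2 : q = 2) : R = ⊥ := by
  obtain ⟨w, w1, w2⟩ := SetLike.not_le_iff_exists.1 h.not_le
  obtain ⟨x, x1, x2⟩ := SetLike.not_le_iff_exists.1 h.not_ge
  have i2 : ∀ {A : Subgroup G} {a b : G}, (W ⊓ X).relIndex A = 2 → a ∈ A → b ∈ A → a ∉ W ⊓ X →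
      b ∉ W ⊓ X → a * b ∈ W ⊓ X := fun {A a b} e ha hb h1 h2 =>
    (mul_mem_iff_of_index_two e (a := ⟨a, ha⟩) (b := ⟨b, hb⟩)).2 (iff_of_false h1 h2)
  have cY := h.center.ge.trans inf_le_right
  have m : ⁅w, x⁆ ∈ W ⊓ X := h.comm ▸ commutator_mem_commutator w1 x1
  have k : W ⊓ X ≤ zpowers ⁅w, x⁆ := by
    rw [← h.comm, commutator_le]
    intro a ha b hb
    by_cases e1 : a ∈ X
    · rw [commutatorElement_eq_one_iff_mul_comm.2 (h.eaX.comm e1 hb)]; exact one_mem _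
    by_cases e2 : b ∈ W
    · rw [commutatorElement_eq_one_iff_mul_comm.2 (h.ea.comm ha e2)]; exact one_mem _
    have k1 := cY (i2 (h.idxW.trans h2) w1 ha (fun e => w2 e.2) fun e => e1 e.2)
    have k2 := cY (i2 (h.idxX.trans h2) x1 hb (fun e => x2 e.1) fun e => e2 e.1)
    obtain ⟨c, rfl⟩ : ∃ c, a = w * c := ⟨w * a, by rw [← mul_assoc, h.ea.sq w1, one_mul]⟩
    obtain ⟨d, rfl⟩ : ∃ d, b = x * d := ⟨x * b, by rw [← mul_assoc, h.eaX.sq x1, one_mul]⟩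
    rw [← mul_assoc, h.ea.sq w1, one_mul] at k1
    rw [← mul_assoc, h.eaX.sq x1, one_mul] at k2
    have : ⁅w * c, x * d⁆ = ⁅w, x⁆ := by
      calc ⁅w * c, x * d⁆ = w * (c * (x * d) * c⁻¹) * w⁻¹ * (x * d)⁻¹ := by group
        _ = w * x * (d * w⁻¹ * d⁻¹) * x⁻¹ := by
          rw [conj_eq_of_mem_C k1 (mem_sup_right hb)]; group
        _ = ⁅w, x⁆ := by rw [conj_eq_of_mem_C k2 (mem_sup_left (Subgroup.inv_mem _ w1))]; group
    rw [this]; exact mem_zpowers _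
  refine eq_bot_iff.2 fun r hr => ?_
  obtain ⟨n, hn⟩ := mem_zpowers_iff.1 (k (h.leR hr))
  have s2 := h.ea.sq m.1
  obtain ⟨j, rfl | rfl⟩ := Int.even_or_odd' n
  · rw [zpow_mul, zpow_two, s2, one_zpow] at hn
    exact hn ▸ one_mem _
  · rw [zpow_add, zpow_mul, zpow_two, s2, one_zpow, one_mul, zpow_one] at hn
    exact ((h.nd w w1 x x1 (hn ▸ hr)).elim w2 x2).elim
theorem Half.cent_R : ncl K (W ⊔ X) ≤ C[R] :=
  iSup_le fun g => cj_le_of_mem_N (cents_symm (h.leR.trans (h.center.ge.trans inf_le_right)))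
    (N_le_NC R (h.normR g.2))
/-- two `K`-conjugates of `Y` meeting outside `R` are equal -/
theorem Half.cj_eq (hg : g ∈ K) (hk : k ∈ K) (hy : y ∈ cj g (W ⊓ X)) (hy' : y ∈ cj k (W ⊓ X))
    (hR : y ∉ R) : cj g (W ⊓ X) = cj k (W ⊓ X) := by
  by_contra e
  have := (h.mov _ (mul_mem (Subgroup.inv_mem _ hk) hg) fun e' => e (by
    rw [cj_mul, cj_eq_iff, inv_inv] at e'; exact e')).1
  refine hR ((conj_mem_iff' (h.normR hk)).1 (this.le (mem_inf.2 ⟨?_, mem_cj.1 hy'⟩)))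
  rw [cj_mul, mem_cj]
  simpa [mul_assoc] using hy
/-- `[w, ·]` maps `X` onto `Y` modulo `R` -/
theorem Half.surj {w : G} (hw : w ∈ W) (hx : w ∉ X) (hy : y ∈ W ⊓ X) : ∃ x ∈ X, ⁅x, w⁆ * y ∈ R := by
  have m : ∀ x ∈ X, ⁅x, w⁆ ∈ W ⊓ X := fun x hx =>
    h.comm ▸ commC W X ▸ commutator_mem_commutator hx hw
  let f : X →* G := MonoidHom.mk' (fun x => ⁅(x : G), w⁆) fun a b => by
    calc ⁅((a * b : X) : G), w⁆ = a * ⁅(b : G), w⁆ * (a : G)⁻¹ * ⁅(a : G), w⁆ := by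
          rw [coe_mul]; group
      _ = _ := by
        rw [h.eaX.comm a.2 (m b b.2).2, mul_inv_cancel_right, h.eaX.comm (m b b.2).2 (m a a.2).2]
  have k0 : ∀ x : X, f x ∈ R → (x : G) ∈ W := fun x e =>
    (h.nd w hw x x.2 (by rw [← commutatorElement_inv]; exact Subgroup.inv_mem _ e)).resolve_left hx
  have k1 : ∀ x : X, (x : G) ∈ W → f x = 1 := fun x e =>
    commutatorElement_eq_one_iff_mul_comm.2 (h.ea.comm e hw)
  have k2 : f.ker = (W ⊓ X).subgroupOf X := by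
    ext x
    exact ⟨fun e => ⟨k0 x (by rw [MonoidHom.mem_ker.1 e]; exact one_mem R), x.2⟩, fun e => k1 x e.1⟩
  have k3 : f.range ≤ W ⊓ X := by rintro _ ⟨x, rfl⟩; exact m x x.2
  have n := h.ea.abl.norm (h.leR.trans inf_le_left) (k3.trans inf_le_left)
  have k4 : f.range ⊔ R = W ⊓ X := eq_of_card_eq (sup_le k3 h.leR) (by
    rw [card_sup_of_inf n (eq_bot_iff.2 (by rintro _ ⟨⟨x, rfl⟩, e⟩; exact k1 x (k0 x e))),
      ← index_ker, k2, h.cardY]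
    exact congrArg (· * _) h.idxX)
  obtain ⟨_, ⟨x, rfl⟩, r, hr, rfl⟩ := (mem_sup_of_norm n).1 (k4.ge hy)
  refine ⟨x, x.2, ?_⟩
  change f x * (f x * r) ∈ R
  rwa [← mul_assoc, h.ea.sq (k3 ⟨x, rfl⟩).1, one_mul]
private theorem Half.R_le (hk : k ∈ K) : R ≤ cj k (W ⊓ X) := by
  rw [← cj_of_mem_N (h.normR hk)]; exact cj_mono k h.leR
private theorem Half.cj_le_W (hk : k ∈ K) : cj k (W ⊓ X) ≤ W :=
  cj_le_of_mem_N inf_le_left (h.norm hk)
private theorem Half.exw (hk : k ∈ K) : ∃ w ∈ cj k (W ⊓ X), w ∉ R :=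
  SetLike.not_le_iff_exists.1 fun e => h.not_le_R (by
    rwa [← cj_of_mem_N (h.normR hk), cj_le_cj] at e)
private theorem Half.cj' (hg : g ∈ K) : Half K W (cj g X) R q ∧ W ⊓ cj g X = cj g (W ⊓ X) := by
  have := h.conj g
  rw [cj_of_mem hg, cj_of_mem_N (h.norm hg), cj_of_mem_N (h.normR hg)] at this
  exact ⟨this, by rw [cj_inf, cj_of_mem_N (h.norm hg)]⟩
private theorem Half.up {u : G} (hU : U ≤ W) (hn : X ≤ N[U]) (hu : u ∈ U) (hx : u ∉ X) :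
    W ⊓ X ≤ U ⊔ R ∧ ∃ y ∈ U, y ∈ W ⊓ X ∧ y ∉ R := by
  constructor
  · intro y hy
    obtain ⟨x, hx, e⟩ := h.surj (hU hu) hx hy
    exact (mul_mem_cancel_left (mem_sup_left (comm_mem_of_norm (hn hx) hu))).1 (mem_sup_right e)
  · obtain ⟨y, hy, y1⟩ := SetLike.not_le_iff_exists.1 h.not_le_R
    obtain ⟨x, hx, e⟩ := h.surj (hU hu) hx hy
    exact ⟨_, comm_mem_of_norm (hn hx) hu, (mul_mem_cancel_right hy).1 (h.leR e),
      fun e' => y1 ((mul_mem_cancel_left e').1 e)⟩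
variable (hg : g ∈ K) (hY : cj g (W ⊓ X) ≠ W ⊓ X)
include hg hY
theorem Half.free (hx : x ∈ X) (he : cj (x * g) (W ⊓ X) = cj g (W ⊓ X)) : x ∈ W := by
  obtain ⟨w, hw, w1⟩ := h.exw hg
  have e := (h.mov g hg hY).1
  have wW := h.cj_le_W hg hw
  rw [cj_mul] at he
  refine (h.nd w wW x hx (e.le ⟨?_, h.comm ▸ commutator_mem_commutator wW hx⟩)).resolve_left
    fun e' => w1 (e.le ⟨hw, wW, e'⟩)
  rw [← commutatorElement_inv]
  exact Subgroup.inv_mem _ (comm_mem_of_norm (mem_N_iff_cj.2 he) hw)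
theorem Half.cover {w : G} (hw : w ∈ W) : w ∈ X ∨ ∃ x ∈ X, w ∈ cj (x * g) (W ⊓ X) := by
  obtain ⟨y', hy', y, hy, rfl⟩ := (mem_sup_of_norm (h.ea.abl.norm inf_le_left (h.cj_le_W hg))).1
    ((h.mov g hg hY).2.ge hw)
  by_cases e : y' ∈ X
  · exact Or.inl (mul_mem e hy.2)
  obtain ⟨x, hx, e1⟩ := h.surj (h.cj_le_W hg hy') e hy
  refine Or.inr ⟨x, hx, ?_⟩
  have k := h.R_le (mul_mem (h.leK (mem_sup_right hx)) hg) e1
  rw [commutatorElement_def, h.ea.inv (h.cj_le_W hg hy'), mul_assoc] at k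
  refine (mul_mem_cancel_left ?_).1 k
  rw [cj_mul]
  exact conj_mem_cj x hy'
theorem Half.trans (hk : k ∈ K) (hk' : cj k (W ⊓ X) ≠ W ⊓ X) :
    ∃ x ∈ X, cj k (W ⊓ X) = cj (x * g) (W ⊓ X) := by
  obtain ⟨w, hw, w1⟩ := h.exw hk
  have wW := h.cj_le_W hk hw
  obtain ⟨x, hx, e⟩ := (h.cover hg hY wW).resolve_left fun e => w1 ((h.mov k hk hk').1.le ⟨hw, wW, e⟩)
  exact ⟨x, hx, h.cj_eq hk (mul_mem (h.leK (mem_sup_right hx)) hg) hw e w1⟩
theorem Half.irr (hU : U ≤ W) (hn : X ⊔ cj g X ≤ N[U]) : U ≤ R ∨ U = W := by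
  refine or_iff_not_imp_left.2 fun h1 => ?_
  obtain ⟨u, hu, u1⟩ := SetLike.not_le_iff_exists.1 h1
  obtain ⟨h', e'⟩ := h.cj' hg
  obtain ⟨e1, e2⟩ := h.mov g hg hY
  rw [← e'] at e1 e2
  have n1 := le_sup_left.trans hn
  have n2 := le_sup_right.trans hn
  have k : W ≤ U ⊔ R := by
    rw [← e2]
    by_cases e : u ∈ X
    · obtain ⟨k1, y, y1, y2, y3⟩ := h'.up hU n2 hu fun e0 => u1 (e1.le ⟨⟨hU hu, e0⟩, hU hu, e⟩)
      exact sup_le k1 (h.up hU n1 y1 fun e0 => y3 (e1.le ⟨y2, y2.1, e0⟩)).1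
    · obtain ⟨k1, y, y1, y2, y3⟩ := h.up hU n1 hu e
      exact sup_le (h'.up hU n2 y1 fun e0 => y3 (e1.le ⟨⟨y2.1, e0⟩, y2⟩)).1 k1
  refine le_antisymm hU (k.trans (sup_le le_rfl (h.leR.trans ?_)))
  rw [← h.comm, commutator_le]
  intro w hw x hx
  obtain ⟨u, hu, r, hr, rfl⟩ := (mem_sup_of_norm (h.ea.abl.norm (h.leR.trans inf_le_left) hU)).1 (k hw)
  rw [show ⁅u * r, x⁆ = u * (r * x * r⁻¹) * u⁻¹ * x⁻¹ by group, h.eaX.comm (h.leR hr).2 hx,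
    mul_inv_cancel_right, ← commutatorElement_def, ← commutatorElement_inv]
  exact Subgroup.inv_mem _ (comm_mem_of_norm (n1 hx) hu)
theorem Half.comm_L : ⁅W, X ⊔ cj g X⁆ = W := by
  obtain ⟨h', e'⟩ := h.cj' hg
  refine le_antisymm (comm_le_left (sup_le (le_sup_right.trans h.normW) (le_sup_right.trans h'.normW)))
    ((h.mov g hg hY).2.ge.trans (sup_le ?_ ?_))
  · rw [← e', ← h'.comm]; exact comm_mono_right le_sup_right
  · rw [← h.comm]; exact comm_mono_right le_sup_left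
theorem Half.tor (hx : x ∈ W ⊓ X) (hx' : x ∉ R) (hy : y ∈ W ⊓ X) (hy' : y ∉ R) :
    ∃ k ∈ X ⊔ cj g X, cj k (W ⊓ X) = W ⊓ X ∧ k * x * k⁻¹ * y ∈ R := by
  obtain ⟨h', e'⟩ := h.cj' hg
  obtain ⟨e1, -⟩ := h.mov g hg hY
  have LK : X ⊔ cj g X ≤ K := sup_le (le_sup_right.trans h.leK) (le_sup_right.trans h'.leK)
  obtain ⟨w, hw, w1⟩ := h.exw hg
  have wW := h.cj_le_W hg hw
  have sy : ∀ {a b}, a ∈ W → b ∈ W → (∃ k ∈ X ⊔ cj g X, k * a * k⁻¹ * b ∈ R) →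
      ∃ k ∈ X ⊔ cj g X, k * b * k⁻¹ * a ∈ R := by
    rintro a b ha hb ⟨k, hk, e⟩
    refine ⟨k⁻¹, Subgroup.inv_mem _ hk, ?_⟩
    rw [h.ea.comm (conj_mem (h.norm (LK (Subgroup.inv_mem _ hk))) hb) ha]
    simpa [mul_assoc] using conj_mem' (h.normR (LK hk)) e
  have tr : ∀ {a b c}, b ∈ W → (∃ k ∈ X ⊔ cj g X, k * a * k⁻¹ * b ∈ R) →
      (∃ k ∈ X ⊔ cj g X, k * b * k⁻¹ * c ∈ R) → ∃ k ∈ X ⊔ cj g X, k * a * k⁻¹ * c ∈ R := by
    rintro a b c hb ⟨k, hk, e⟩ ⟨l, hl, e2⟩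
    refine ⟨l * k, mul_mem hl hk, ?_⟩
    have := mul_mem (conj_mem (h.normR (LK hl)) e) e2
    rwa [show l * (k * a * k⁻¹ * b) * l⁻¹ * (l * b * l⁻¹ * c) =
      l * k * a * k⁻¹ * (b * b) * l⁻¹ * c by group, h.ea.sq hb,
      show l * k * a * k⁻¹ * 1 * l⁻¹ * c = l * k * a * (l * k)⁻¹ * c by group] at this
  have s1 : ∀ a ∈ W ⊓ X, a ∉ R → ∃ k ∈ X ⊔ cj g X, k * a * k⁻¹ * w ∈ R := fun a ha a1 => by
    obtain ⟨x1, h1, k1⟩ := h'.surj ha.1 (fun e => a1 (e1.le ⟨e' ▸ ⟨ha.1, e⟩, ha⟩)) (e'.ge hw)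
    obtain ⟨x2, h2, k2⟩ := h.surj wW (fun e => w1 (e1.le ⟨hw, wW, e⟩)) ha
    rw [commutatorElement_def, h.ea.inv ha.1, mul_assoc] at k1
    rw [commutatorElement_def, h.ea.inv wW, mul_assoc, h.ea.comm wW ha.1] at k2
    exact tr (mul_mem ha.1 wW) ⟨x1, mem_sup_right h1, k1⟩
      (sy wW (mul_mem ha.1 wW) ⟨x2, mem_sup_left h2, k2⟩)
  obtain ⟨k, hk, e⟩ := tr wW (s1 x hx hx') (sy hy.1 wW (s1 y hy hy'))
  refine ⟨k, hk, ?_, e⟩
  simpa using h.cj_eq (LK hk) (one_mem K) (conj_mem_cj k hx)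
    (by simpa using (mul_mem_cancel_right hy).1 (h.leR e)) fun e' => hy' ((mul_mem_cancel_left e').1 e)
theorem Half.conj_le (hk : k ∈ K) : ∃ l ∈ X ⊔ cj g X, cj k X ≤ cj l X ⊔ (K ⊓ C[W]) := by
  obtain ⟨h', e'⟩ := h.cj' hg
  have XK := le_sup_right.trans h.leK
  have LK : X ⊔ cj g X ≤ K := sup_le XK (le_sup_right.trans h'.leK)
  obtain ⟨l, hl, e⟩ : ∃ l ∈ X ⊔ cj g X, cj k (W ⊓ X) = cj l (W ⊓ X) := by
    by_cases e : cj k (W ⊓ X) = W ⊓ X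
    · exact ⟨1, one_mem _, by rw [e, cj_one]⟩
    obtain ⟨x, hx, e1⟩ := h.trans hg hY hk e
    obtain ⟨x', h1, h2⟩ := SetLike.not_le_iff_exists.1 h'.not_ge
    obtain ⟨x1, h3, e2⟩ := h.trans hg hY (LK (mem_sup_right h1)) fun e0 => h2
      (h'.free (Subgroup.inv_mem _ hg) (by rw [e', cj_inv_cj]; exact hY.symm) h1 (by
        rw [cj_mul, e', cj_inv_cj, e0]))
    refine ⟨x * x1⁻¹ * x', mul_mem (mem_sup_left (mul_mem hx (Subgroup.inv_mem _ h3))) (mem_sup_right h1), ?_⟩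
    rw [cj_mul, e2, ← cj_mul, e1, mul_assoc, inv_mul_cancel_left]
  refine ⟨l, hl, ?_⟩
  have k1 := cj_mono l (h.fix _ (mul_mem (Subgroup.inv_mem _ (LK hl)) hk) (by rw [cj_mul, e, cj_inv_cj]))
  rw [← cj_mul, mul_inv_cancel_left, cj_sup, cj_of_mem_N (N_le_NC W (h.norm (LK hl)))] at k1
  have k2 := cj_le_of_mem XK (LK hl)
  rw [inf_comm, group_modl' (k2.trans (norm_C h.norm)) k2]
  exact le_inf k1 (cj_le_of_mem XK hk)
theorem Half.gen (hM : K ⊓ N[W ⊓ X] ≤ M) (hgM : g ∈ M) : K ≤ M := fun k hk => by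
  by_cases e : cj k (W ⊓ X) = W ⊓ X
  · exact hM ⟨hk, mem_N_iff_cj.2 e⟩
  obtain ⟨x, hx, e1⟩ := h.trans hg hY hk e
  have xK := h.leK (mem_sup_right hx)
  have k1 := mul_mem (hM ⟨xK, h.eaX.abl.norm le_rfl inf_le_right hx⟩) hgM
  exact (mul_mem_cancel_left (Subgroup.inv_mem _ k1)).1
    (hM ⟨mul_mem (Subgroup.inv_mem _ (mul_mem xK hg)) hk, cj_eq_cj_iff.1 e1⟩)
end

end H2.C2
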