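import Mathlib
import Cfsg.Agent.H2.CDefs

set_option autoImplicit false
set_option linter.unusedVariables false
set_option linter.unusedSectionVars false

namespace H2.C2

open Cfsg H24 H26 H26.Gold Subgroup
open scoped commutatorElement

universe u

variable {G : Type u} [Group G] [Finite G]
  {A B D E H K L M N0 P P' Q Q' R R' S T T' U W X a a' b b' b'' v : Subgroup G}
  {g k n o s t x y z : G} {q : ℕ}

/-! ### CT1 -/

theorem mem_hc (hx : x ∈ A) (hg : g ∈ H) : g * x * g⁻¹ ∈ hc H A := ⟨x, hx, g, hg, rfl⟩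
theorem mem_hc' (hx : x ∈ A) : x ∈ hc H A := ⟨x, hx, 1, one_mem _, by simp⟩
theorem hc_conj (hx : x ∈ hc H A) (hg : g ∈ H) : g * x * g⁻¹ ∈ hc H A := by
  obtain ⟨a, ha, k, hk, rfl⟩ := hx
  exact ⟨a, ha, g * k, mul_mem hg hk, by group⟩

theorem hc_conj_iff (hg : g ∈ H) : g * x * g⁻¹ ∈ hc H A ↔ x ∈ hc H A :=
  ⟨fun h => by simpa [mul_assoc] using hc_conj h (inv_mem hg), fun h => hc_conj h hg⟩

theorem hc_mono (hH : K ≤ H) (hA : B ≤ A) (hx : x ∈ hc K B) : x ∈ hc H A := by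
  obtain ⟨a, ha, k, hk, rfl⟩ := hx
  exact ⟨a, hA ha, k, hH hk, rfl⟩

theorem SCl.mem (h : SCl H A) (hP : TwoG P) (hA : A ≤ P) (hH : P ≤ H) (hx : x ∈ P)
    (hc' : x ∈ hc H A) : x ∈ A := by
  obtain ⟨a, ha, k, hk, rfl⟩ := hc'
  exact h.max P hP hA hH a ha k hk hx

theorem SCl.of_syl (hS : Syl 2 H S) (hA : A ≤ S)
    (h : ∀ a ∈ A, ∀ g ∈ H, g * a * g⁻¹ ∈ S → g * a * g⁻¹ ∈ A) : SCl H A := by
  refine ⟨hA.trans hS.le, hS.pi.of_le hA, fun P hP hAP hPH a ha g hg hx => ?_⟩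
  obtain ⟨l, hl, hle⟩ := Sylow_Jsub Nat.prime_two hS hP hPH
  have h1 : l ∈ N[A] := mem_N_of_finite fun b hb => h b hb l hl (hle (conj_mem_cj l (hAP hb)))
  have h2 := h a ha (l * g) (mul_mem hl hg) (by
    have := hle (conj_mem_cj l hx)
    simpa [mul_assoc] using this)
  rw [← conj_mem_iff h1]
  simpa [mul_assoc] using h2

theorem SCl.of_sc (hS : Syl 2 ⊤ S) (h : IsStronglyClosed A S) : SCl ⊤ A :=
  SCl.of_syl hS h.1 fun a ha g _ hg => h.2 a ha g hg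

theorem SCl.sc (h : SCl ⊤ A) (hS : TwoG S) (hA : A ≤ S) : IsStronglyClosed A S :=
  ⟨hA, fun x hx g hg => h.max S hS hA le_top x hx g (mem_top g) hg⟩

theorem scl_syl (hS : Syl 2 H S) : SCl H S := SCl.of_syl hS le_rfl fun _ _ _ _ h => h

theorem SCl.mono (h : SCl H A) (hK : K ≤ H) (hA : A ≤ K) : SCl K A :=
  ⟨hA, h.two, fun P hP h1 h2 a ha g hg => h.max P hP h1 (h2.trans hK) a ha g (hK hg)⟩

theorem SCl.le_norm (h : SCl H A) (hP : TwoG P) (hA : A ≤ P) (hH : P ≤ H) : P ≤ N[A] :=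
  le_N_iff.2 fun g hg a ha =>
    h.max P hP hA hH a ha g (hH hg) (mul_mem (mul_mem hg (hA ha)) (inv_mem hg))

theorem SCl.conj (h : SCl H A) (g : G) : SCl (cj g H) (cj g A) := by
  refine ⟨cj_mono g h.le, h.two.cj g, fun P hP h1 h2 a ha k hk hx => ?_⟩
  rw [mem_cj] at ha hk ⊢
  have := h.max (cj g⁻¹ P) (hP.cj _) (cj_le_iff.1 h1) (le_cj_iff.1 h2) _ ha _ hk (by
    rw [mem_cj]; simpa [mul_assoc] using hx)
  simpa [mul_assoc] using this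

theorem SCl.exists_syl (h : SCl H A) : ∃ S, Syl 2 H S ∧ A ≤ S :=
  Sylow_superset Nat.prime_two h.two h.le

theorem SCl.sub (h : SCl H A) (hB : B ≤ A)
    (hc : ∀ x ∈ B, ∀ g ∈ H, g * x * g⁻¹ ∈ A → g * x * g⁻¹ ∈ B) : SCl H B := by
  obtain ⟨S, hS, hA⟩ := h.exists_syl
  exact SCl.of_syl hS (hB.trans hA) fun a ha g hg hx =>
    hc a ha g hg (h.max S hS.pi hA hS.le a (hB ha) g hg hx)

theorem SCl.inf_nml (h : SCl H A) (hK : H ≤ N[K]) : SCl H (A ⊓ K) :=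
  h.sub inf_le_left fun _ hx _ hg hy => ⟨hy, conj_mem (hK hg) hx.2⟩

theorem SCl.eq_of_le (h : SCl H A) (hg : g ∈ H) (hle : cj g A ≤ A) : g ∈ N[A] :=
  mem_N_of_cj_le hle

/-- a `2`-subgroup of `H`: its `hc`-elements lie in one conjugate of `A` -/
theorem SCl.conj_into (h : SCl H A) (hP : TwoG P) (hH : P ≤ H) :
    ∃ g ∈ H, ∀ x ∈ P, x ∈ hc H A → g * x * g⁻¹ ∈ A := by
  obtain ⟨S, hS, hA⟩ := h.exists_syl
  obtain ⟨g, hg, hle⟩ := Sylow_Jsub Nat.prime_two hS hP hH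
  exact ⟨g, hg, fun x hx hc' => h.mem hS.pi hA hS.le (hle (conj_mem_cj g hx)) (hc_conj hc' hg)⟩

theorem SCl.exists_part (h : SCl H A) (hP : TwoG P) (hH : P ≤ H) :
    ∃ T : Subgroup G, ∀ x, x ∈ T ↔ x ∈ P ∧ x ∈ hc H A := by
  obtain ⟨g, hg, h1⟩ := h.conj_into hP hH
  refine ⟨P ⊓ cj g⁻¹ A, fun x => ⟨fun hx => ⟨hx.1, ?_⟩, fun hx => ⟨hx.1, ?_⟩⟩⟩
  · obtain ⟨y, hy, rfl⟩ := mem_cj'.1 hx.2
    exact mem_hc hy (inv_mem hg)
  · refine mem_cj.2 ?_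
    simpa using h1 x hx.1 hx.2

theorem mx_of_syl (hL : L ≤ H) (hP : Syl 2 L P) (hT : ∀ x, x ∈ T ↔ x ∈ P ∧ x ∈ hc H A) :
    Mx H A L T := by
  have hTP : T ≤ P := fun x hx => ((hT x).1 hx).1
  refine ⟨hTP.trans hP.le, hP.pi.of_le hTP, fun x hx => ((hT x).1 hx).2,
    fun Q hQ h1 h2 x hx hc' => ?_⟩
  obtain ⟨l, hl, hle⟩ := Sylow_Jsub Nat.prime_two hP hQ h2
  have h3 : l ∈ N[T] := mem_N_of_finite fun b hb =>
    (hT _).2 ⟨hle (conj_mem_cj l (h1 hb)), hc_conj ((hT b).1 hb).2 (hL hl)⟩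
  exact (conj_mem_iff h3).1 ((hT _).2 ⟨hle (conj_mem_cj l hx), hc_conj hc' (hL hl)⟩)

theorem Mx.iff (hT : Mx H A L T) (hP : TwoG P) (h1 : T ≤ P) (h2 : P ≤ L) (x : G) :
    x ∈ T ↔ x ∈ P ∧ x ∈ hc H A :=
  ⟨fun hx => ⟨h1 hx, hT.mem x hx⟩, fun hx => hT.max P hP h1 h2 x hx.1 hx.2⟩

theorem Mx.mono (hT : Mx H A L T) (hK : K ≤ L) (h1 : T ≤ K) : Mx H A K T :=
  ⟨h1, hT.two, hT.mem, fun P hP h2 h3 => hT.max P hP h2 (h3.trans hK)⟩

theorem Mx.conj (hL : L ≤ H) (hT : Mx H A L T) (hg : g ∈ H) : Mx H A (cj g L) (cj g T) := by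
  refine ⟨cj_mono g hT.le, hT.two.cj g, fun x hx => ?_, fun P hP h1 h2 x hx hc' => ?_⟩
  · obtain ⟨y, hy, rfl⟩ := mem_cj'.1 hx
    exact hc_conj (hT.mem y hy) hg
  · rw [mem_cj]
    refine hT.max (cj g⁻¹ P) (hP.cj _) (cj_le_iff.1 h1) (le_cj_iff.1 h2) _ ?_ ?_
    · simpa using conj_mem_cj g⁻¹ hx
    · simpa using hc_conj hc' (inv_mem hg)

theorem SCl.mx_self (h : SCl H A) (hL : L ≤ H) (hA : A ≤ L) : Mx H A L A :=
  ⟨hA, h.two, fun _ hx => mem_hc' hx, fun _ hP h1 h2 _ hx hc' => h.mem hP h1 (h2.trans hL) hx hc'⟩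

theorem SCl.mx_conj (h : SCl H A) (hL : L ≤ H) (hg : g ∈ H) (hA : cj g A ≤ L) :
    Mx H A L (cj g A) := by
  have := (h.mx_self le_rfl h.le).conj le_rfl hg
  rw [cj_of_mem hg] at this
  exact this.mono hL hA

theorem SCl.mx_inf (h : SCl H A) (hL : L ≤ H) (hA : A ≤ N[L]) : Mx H A L (A ⊓ L) := by
  obtain ⟨S, hS, hAS⟩ := Sylow_superset Nat.prime_two h.two (le_sup_right : A ≤ L ⊔ A)
  refine mx_of_syl hL (hS.inf_nml (nml_sup_left hA)) fun x => ⟨fun hx => ⟨⟨hAS hx.1, hx.2⟩,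
    mem_hc' hx.1⟩, fun hx => ⟨?_, hx.1.2⟩⟩
  exact h.mem hS.pi hAS (hS.le.trans (sup_le hL h.le)) hx.1.1 hx.2

theorem SCl.exists_mx (h : SCl H A) (hL : L ≤ H) (hD : D ≤ L) (h2 : TwoG D)
    (hm : ∀ x ∈ D, x ∈ hc H A) : ∃ T, Mx H A L T ∧ D ≤ T := by
  obtain ⟨P, hP, hDP⟩ := Sylow_superset Nat.prime_two h2 hD
  obtain ⟨T, hT⟩ := h.exists_part hP.pi (hP.le.trans hL)
  exact ⟨T, mx_of_syl hL hP hT, fun x hx => (hT x).2 ⟨hDP hx, hm x hx⟩⟩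

theorem Mx.scl (h : SCl H A) (hL : L ≤ H) (hT : Mx H A L T) : SCl L T :=
  ⟨hT.le, hT.two, fun P hP h1 h2 a ha _ hg hx =>
    hT.max P hP h1 h2 _ hx (hc_conj (hT.mem a ha) (hL hg))⟩

theorem le_ncl (H A : Subgroup G) : A ≤ ncl H A := by
  have := le_iSup (fun g : H => cj (g : G) A) 1
  rwa [OneMemClass.coe_one, cj_one] at this

theorem cj_le_ncl (hg : g ∈ H) : cj g A ≤ ncl H A := le_iSup (fun g : H => cj (g : G) A) ⟨g, hg⟩

theorem ncl_le' (h : ∀ g ∈ H, cj g A ≤ M) : ncl H A ≤ M := iSup_le fun g => h g g.2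

theorem ncl_le (hA : A ≤ M) (hM : H ≤ N[M]) : ncl H A ≤ M :=
  ncl_le' fun _ hg => cj_le_of_mem_N hA (hM hg)

theorem ncl_mono (hH : H ≤ K) (hA : A ≤ B) : ncl H A ≤ ncl K B :=
  ncl_le' fun g hg => (cj_mono g hA).trans (cj_le_ncl (hH hg))

theorem ncl_sup (H A B : Subgroup G) : ncl H (A ⊔ B) = ncl H A ⊔ ncl H B :=
  le_antisymm (ncl_le' fun g hg => by
    rw [cj_sup]; exact sup_le_sup (cj_le_ncl hg) (cj_le_ncl hg))
    (sup_le (ncl_mono le_rfl le_sup_left) (ncl_mono le_rfl le_sup_right))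

theorem cj_ncl_le (g : G) (H A : Subgroup G) : cj g (ncl H A) ≤ ncl (cj g H) (cj g A) := by
  rw [cj_le_iff]
  refine ncl_le' fun k hk => ?_
  rw [← cj_le_iff, ← cj_mul]
  have := cj_le_ncl (A := cj g A) (conj_mem_cj g hk)
  rwa [← cj_mul, inv_mul_cancel_right] at this

theorem cj_ncl (g : G) (H A : Subgroup G) : cj g (ncl H A) = ncl (cj g H) (cj g A) := by
  refine le_antisymm (cj_ncl_le g H A) ?_
  rw [le_cj_iff]
  simpa only [cj_inv_cj] using cj_ncl_le g⁻¹ (cj g H) (cj g A)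

theorem le_norm_ncl (H A : Subgroup G) : H ≤ N[ncl H A] := fun g hg =>
  mem_N_of_cj_le (by
    rw [cj_le_iff]
    refine ncl_le' fun k hk => ?_
    rw [← cj_le_iff, ← cj_mul]
    exact cj_le_ncl (mul_mem hg hk))

theorem ncl_nml (hA : A ≤ H) : ncl H A ⊴ H := ⟨ncl_le hA (norm_self H), le_norm_ncl H A⟩

theorem norm_ncl (hH : M ≤ N[H]) (hA : M ≤ N[A]) : M ≤ N[ncl H A] := fun g hg => by
  rw [mem_N_iff_cj, cj_ncl, cj_of_mem_N (hH hg), cj_of_mem_N (hA hg)]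

theorem ncl_top [IsSimpleGroup G] (hA : A ≠ ⊥) : ncl ⊤ A = ⊤ :=
  ((nml_top_iff.1 (ncl_nml le_top)).eq_bot_or_eq_top).resolve_left
    (ne_bot_of_le hA (le_ncl ⊤ A))

theorem Mx.exists_conj' (hL : L ≤ H) (hT : Mx H A L T) (hT' : Mx H A L T') :
    ∃ l ∈ L, T' = cj l T := by
  obtain ⟨P, hP, h1⟩ := Sylow_superset Nat.prime_two hT.two hT.le
  obtain ⟨P', hP', h1'⟩ := Sylow_superset Nat.prime_two hT'.two hT'.le
  obtain ⟨l, hl, rfl⟩ := Sylow_trans Nat.prime_two hP hP'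
  refine ⟨l, hl, ?_⟩
  ext x
  rw [hT'.iff hP'.pi h1' hP'.le, mem_cj, mem_cj, hT.iff hP.pi h1 hP.le,
    ← hc_conj_iff (inv_mem (hL hl)), inv_inv]

theorem Mx.exists_conj (h : SCl H A) (hL : L ≤ H) (hT : Mx H A L T) (hT' : Mx H A L T') :
    ∃ l ∈ ncl L T, T' = cj l T := by
  obtain ⟨l, hl, e⟩ := hT.exists_conj' hL hT'
  have hK := (ncl_nml hT.le).le
  exact (hT.mono hK (le_ncl L T)).exists_conj' (hK.trans hL) (hT'.mono hK (e ▸ cj_le_ncl hl))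

/-- a `2`-subgroup of `L` made of `hc`-elements is conjugate into a given `Mx` -/
theorem Mx.conj_le (h : SCl H A) (hL : L ≤ H) (hT : Mx H A L T) (hD : D ≤ L) (h2 : TwoG D)
    (hm : ∀ x ∈ D, x ∈ hc H A) : ∃ l ∈ ncl L T, cj l D ≤ T := by
  obtain ⟨T', hT', hle⟩ := h.exists_mx hL hD h2 hm
  obtain ⟨l, hl, rfl⟩ := hT.exists_conj h hL hT'
  exact ⟨l⁻¹, inv_mem hl, le_cj_iff.1 hle⟩

/-- move two fused elements of `A` to a common fully centralised one -/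
theorem SCl.exists_full (h : SCl H A) (hx : x ∈ A) (hg : g ∈ H) (hy : g * x * g⁻¹ ∈ A) :
    ∃ u ∈ H, ∃ w ∈ H, cj u (A ⊓ C{x}) ≤ A ∧ cj w (A ⊓ C{g * x * g⁻¹}) ≤ A ∧
      u * x * u⁻¹ = w * (g * x * g⁻¹) * w⁻¹ := by
  have hL : H ⊓ C{x} ≤ H := inf_le_left
  obtain ⟨T, hT, h1⟩ := h.exists_mx hL (D := A ⊓ C{x}) (inf_le_inf_right _ h.le)
    (h.two.inf_left _) fun y hy => mem_hc' hy.1
  obtain ⟨c, hc', h2⟩ := hT.conj_le h hL (D := cj g⁻¹ (A ⊓ C{g * x * g⁻¹})) (by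
      rw [cj_inf, cj_C1]
      exact inf_le_inf (cj_le_of_mem h.le (inv_mem hg)) (by simp [mul_assoc]))
    ((h.two.inf_left _).cj _) fun y hy => by
      obtain ⟨z, hz, rfl⟩ := mem_cj'.1 hy
      exact mem_hc hz.1 (inv_mem hg)
  have hc2 := (ncl_nml hT.le).le hc'
  obtain ⟨u, hu, h3⟩ := h.conj_into hT.two (hT.le.trans hL)
  have h4 : cj u T ≤ A := fun y hy => by
    obtain ⟨z, hz, rfl⟩ := mem_cj'.1 hy
    exact h3 z hz (hT.mem z hz)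
  refine ⟨u, hu, u * c * g⁻¹, mul_mem (mul_mem hu hc2.1) (inv_mem hg), (cj_mono u h1).trans h4, ?_, ?_⟩
  · rw [cj_mul, cj_mul]
    exact (cj_mono u h2).trans h4
  · have := mem_C1_iff_conj.1 hc2.2
    calc u * x * u⁻¹ = u * (c * x * c⁻¹) * u⁻¹ := by rw [this]
      _ = _ := by group

theorem SCl.frattini (h : SCl H A) (hK : K ⊴ H) : IsProd K (H ⊓ N[A ⊓ K]) H := by
  have hT := h.mx_inf hK.le (h.le.trans hK.norm)
  refine isProd_of_trans hK.le fun m hm => ?_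
  have h1 := hT.conj hK.le hm
  rw [cj_of_mem_N (hK.norm hm)] at h1
  exact hT.exists_conj' hK.le h1

theorem SCl.frattini' (h : SCl H A) : IsProd (ncl H A) (H ⊓ N[A]) H := by
  have := h.frattini (ncl_nml h.le)
  rwa [inf_of_le_left (le_ncl H A)] at this

theorem SCl.ncl_ncl (h : SCl H A) : ncl (ncl H A) A = ncl H A := by
  refine le_antisymm (ncl_nml (le_ncl H A)).le (ncl_le' fun g hg => ?_)
  obtain ⟨k, hk, n, hn, rfl⟩ := h.frattini'.mul g hg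
  rw [cj_mul, cj_of_mem_N hn.2]
  exact cj_le_ncl hk

theorem O2_le_of (h : ∀ x ∈ H, OddE x → x ∈ M) : O2 H ≤ M :=
  (closure_le M).2 fun x hx => h x hx.1 hx.2
theorem O2_le (H : Subgroup G) : O2 H ≤ H := O2_le_of fun _ hx _ => hx
theorem mem_O2 (hx : x ∈ H) (ho : OddE x) : x ∈ O2 H := subset_closure ⟨hx, ho⟩
theorem O2_mono (h : H ≤ K) : O2 H ≤ O2 K := O2_le_of fun _ hx ho => mem_O2 (h hx) ho
theorem norm_O2 (h : M ≤ N[H]) : M ≤ N[O2 H] :=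
  norm_closure fun a ha _ hs => mem_O2 (conj_mem (h ha) hs.1) (hs.2.conj a)
theorem O2_nml (H : Subgroup G) : O2 H ⊴ H := ⟨O2_le H, norm_O2 (norm_self H)⟩
theorem cj_O2_le (g : G) (H : Subgroup G) : cj g (O2 H) ≤ O2 (cj g H) :=
  cj_le_iff.2 (O2_le_of fun x hx ho => mem_cj.2 (by
    simpa using mem_O2 (conj_mem_cj g hx) (ho.conj g)))
theorem cj_O2 (g : G) (H : Subgroup G) : cj g (O2 H) = O2 (cj g H) := by
  refine le_antisymm (cj_O2_le g H) ?_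
  rw [le_cj_iff]
  simpa only [cj_inv_cj] using cj_O2_le g⁻¹ (cj g H)

theorem O2_sup_syl (hS : Syl 2 H S) : O2 H ⊔ S = H := by
  refine le_antisymm (sup_le (O2_le H) hS.le) (le_of_syl_le fun p hp _ => ?_)
  by_cases e : p = 2
  · subst e; exact ⟨S, hS, le_sup_right⟩
  · obtain ⟨P, hP⟩ := Sylow_exists hp H
    exact ⟨P, hP, le_sup_of_le_left fun x hx => mem_O2 (hP.le hx) ((hP.pi.compl_of_ne e).piElt hx)⟩

theorem O2_le_of_idx (hK : K ⊴ H) (h : PiNat {2} (K.relIndex H)) : O2 H ≤ K :=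
  O2_le_of fun x hx ho => zpowers_le.1 (le_of_idx_compl' hK h ho.isPi (zpowers_le.2 hx))

theorem SCl.ncl_eq (h : SCl H A) : ncl H A = O2 (ncl H A) ⊔ A := by
  refine le_antisymm ?_ (sup_le (O2_le _) (le_ncl H A))
  have hK := ncl_nml h.le
  obtain ⟨S, hS, hA⟩ := Sylow_superset Nat.prime_two h.two (le_ncl H A)
  refine ncl_le le_sup_right (h.frattini'.sup_eq.ge.trans ?_)
  refine sup_le ((O2_sup_syl hS).ge.trans ?_)
    (norm_sup (norm_O2 (inf_le_left.trans hK.norm)) inf_le_right)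
  exact sup_le (norm_of_le le_sup_left) (norm_sup (hS.le.trans (O2_nml _).norm)
    (h.le_norm hS.pi hA (hS.le.trans hK.le)))

theorem mem_Zo : x ∈ Zo A ↔ x ∈ A ∧ x ∈ C[A] ∧ x * x = 1 := by
  refine ⟨fun hx => ?_, fun hx => subset_closure hx⟩
  induction hx using closure_induction with
  | mem x hx => exact hx
  | one => exact ⟨one_mem _, one_mem _, mul_one 1⟩
  | mul x y _ _ hx hy =>
    refine ⟨mul_mem hx.1 hy.1, mul_mem hx.2.1 hy.2.1, ?_⟩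
    have := mem_C.1 hy.2.1 x hx.1
    calc x * y * (x * y) = x * (y * x) * y := by group
      _ = x * x * (y * y) := by rw [← this]; group
      _ = 1 := by rw [hx.2.2, hy.2.2, mul_one]
  | inv x _ hx =>
    refine ⟨inv_mem hx.1, inv_mem hx.2.1, ?_⟩
    rw [← mul_inv_rev, hx.2.2, inv_one]

theorem Zo_le (A : Subgroup G) : Zo A ≤ A ⊓ C[A] := fun _ hx =>
  ⟨(mem_Zo.1 hx).1, (mem_Zo.1 hx).2.1⟩
theorem ea_Zo (A : Subgroup G) : EA (Zo A) := ea_of_sq fun _ hx => (mem_Zo.1 hx).2.2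
theorem cj_Zo (g : G) (A : Subgroup G) : cj g (Zo A) = Zo (cj g A) := by
  ext x
  rw [mem_cj, mem_Zo, mem_Zo, ← cj_C, mem_cj, mem_cj]
  refine and_congr_right fun _ => and_congr_right fun _ => ?_
  have : g⁻¹ * x * g * (g⁻¹ * x * g) = g⁻¹ * (x * x) * g⁻¹⁻¹ := by group
  rw [this, conj_eq_one_iff']

theorem Mv.res {𝓛 : Set (Subgroup G × Subgroup G)} (h : Mv 𝓛 D g) (hB : B ≤ D) : Mv 𝓛 B g := by
  induction h generalizing B with
  | cent hc => exact Mv.cent (C_anti hB hc)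
  | step h1 h2 h3 _ ih => exact Mv.step h1 (hB.trans h2) h3 (ih (cj_mono _ hB))

theorem Mv.mul_cent {𝓛 : Set (Subgroup G × Subgroup G)} (h : Mv 𝓛 D g) {c : G} (hc : c ∈ C[D]) :
    Mv 𝓛 D (g * c) := by
  induction h generalizing c with
  | cent hc' => exact Mv.cent (mul_mem hc' hc)
  | @step D Q K k g h1 h2 h3 _ ih =>
    have := Mv.step h1 h2 h3 (ih (c := k * c * k⁻¹) (by rw [← cj_C]; exact conj_mem_cj k hc))
    rwa [show g * (k * c * k⁻¹) * k = g * k * c by group] at this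

theorem Mv.trans {𝓛 : Set (Subgroup G × Subgroup G)} (h : Mv 𝓛 D g) (h' : Mv 𝓛 (cj g D) k) :
    Mv 𝓛 D (k * g) := by
  induction h generalizing k with
  | cent hc =>
    rw [cj_of_mem_C hc] at h'
    exact h'.mul_cent hc
  | step h1 h2 h3 _ ih =>
    rw [cj_mul] at h'
    rw [← mul_assoc]
    exact Mv.step h1 h2 h3 (ih h')

theorem Mv.inv {𝓛 : Set (Subgroup G × Subgroup G)} (hL : ∀ p ∈ 𝓛, p.2 ≤ N[p.1])
    (h : Mv 𝓛 D g) : Mv 𝓛 (cj g D) g⁻¹ := by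
  induction h with
  | cent hc =>
    rw [cj_of_mem_C hc]
    exact Mv.cent (inv_mem hc)
  | @step D Q K k g h1 h2 h3 _ ih =>
    rw [cj_mul, mul_inv_rev]
    refine ih.trans ?_
    rw [cj_inv_cj]
    have := Mv.step (g := 1) h1 (cj_le_of_mem_N h2 (hL _ h1 h3)) (inv_mem h3) (Mv.cent (one_mem _))
    rwa [one_mul] at this

/-- control of fusion -/
theorem Mv.ctl {𝓛 : Set (Subgroup G × Subgroup G)} (hL : ∀ p ∈ 𝓛, p.2 ≤ M) (h : Mv 𝓛 D g) :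
    ∃ m ∈ M, ∃ c ∈ C[D], g = m * c := by
  induction h with
  | cent hc => exact ⟨1, one_mem _, _, hc, (one_mul _).symm⟩
  | @step D Q K k g h1 h2 h3 _ ih =>
    obtain ⟨m, hm, c, hc, rfl⟩ := ih
    rw [← cj_C, mem_cj] at hc
    exact ⟨m * k, mul_mem hm (hL _ h1 h3), _, hc, by group⟩

/-- a set stable under all moves -/
theorem Mv.stable {𝓛 : Set (Subgroup G × Subgroup G)} {Z : Set G}
    (hL : ∀ p ∈ 𝓛, ∀ x ∈ p.1, ∀ k ∈ p.2, x ∈ Z → k * x * k⁻¹ ∈ Z) (h : Mv 𝓛 D g) (hx : x ∈ D)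
    (hZ : x ∈ Z) : g * x * g⁻¹ ∈ Z := by
  induction h generalizing x with
  | cent hc => rwa [conj_eq_of_mem_C hc hx]
  | @step D Q K k g h1 h2 h3 _ ih =>
    have := ih (conj_mem_cj k hx) (hL _ h1 x (h2 hx) k h3 hZ)
    rwa [show g * (k * x * k⁻¹) * g⁻¹ = g * k * x * (g * k)⁻¹ by group] at this

end H2.C2
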