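import Mathlib
import Cfsg.Agent.H2.CT1

set_option autoImplicit false
set_option linter.unusedVariables false
set_option linter.unusedSectionVars false

namespace H2.C2

open Cfsg H24 H26 H26.Gold Subgroup
open scoped commutatorElement

universe u

variable {G : Type u} [Group G] [Finite G]
  {A B D E H K L M N0 P P' Q Q' R R' S T T' U W X a a' b b' b'' v : Subgroup G}
  {g k n o s t x y z : G} {q : ℕ}

/-! ### CT3 -/

theorem SCl.quo' {X : Type u} [Group X] [Finite X] {f : H →* X} (hf : H8.PC.Quo f R)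
    (hK : K ≤ H) (h : SCl K A) : SCl (img f K) (img f A) := by
  obtain ⟨S, hS, hA⟩ := h.exists_syl
  refine SCl.of_syl (hS.img f hK) (img_mono f hA) fun α hα γ hγ hx => ?_
  obtain ⟨a, ha, rfl⟩ := (mem_img_of_le (h.le.trans hK)).1 hα
  obtain ⟨g, hg, rfl⟩ := (mem_img_of_le hK).1 hγ
  have hxK : g * a * g⁻¹ ∈ K := mul_mem (mul_mem hg (h.le ha)) (inv_mem hg)
  rw [← ap_conj f (hK hg) (hK (h.le ha))] at hx ⊢
  have h1 := (hf.mem_iff (hK hxK) (hS.le.trans hK)).1 hx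
  have hn : S ≤ N[R] := (hS.le.trans hK).trans hf.nml.norm
  have h2 : g * a * g⁻¹ ∈ (R ⊓ K) ⊔ S := by
    rw [group_modr hn hS.le, sup_comm]; exact ⟨h1, hxK⟩
  have hn2 : S ≤ N[R ⊓ K] := norm_inf hn (norm_of_le hS.le)
  obtain ⟨p, hp, h3⟩ := Sylow_Jsub Nat.prime_two (hS.of_le le_sup_right (sup_le inf_le_right hS.le))
    ((h.two.piElt ha).conj g).isPi (zpowers_le.2 h2)
  obtain ⟨s, hs, r, hr, rfl⟩ := (isProd_sup hn2).symm.mul p hp
  rw [cj_mul, cj_le_iff, cj_of_mem (inv_mem hs)] at h3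
  have h4 := h.max S hS.pi hA hS.le a ha (r * g) (mul_mem hr.2 hg) (by
    have := h3 (conj_mem_cj r (mem_zpowers _))
    simpa [mul_assoc] using this)
  rw [← hf.ap_conj_ker hr.1 (hK hxK)]
  refine ap_mem_img f ?_ (hK (mul_mem (mul_mem hr.2 hxK) (inv_mem hr.2)))
  simpa [mul_assoc] using h4

theorem SCl.quo {X : Type u} [Group X] [Finite X] {f : H →* X} (hf : H8.PC.Quo f R)
    (h : SCl H A) : SCl ⊤ (img f A) := hf.img_top ▸ h.quo' hf le_rfl

theorem img_ncl {X : Type u} [Group X] [Finite X] {f : H →* X} (hK : K ≤ H) (hA : A ≤ H) :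
    img f (ncl K A) = ncl (img f K) (img f A) := by
  have hle : ncl K A ≤ H := ncl_le hA (norm_of_le hK)
  refine le_antisymm ((img_le_iff hle).2 (ncl_le' fun g hg => ?_)) (ncl_le' fun γ hγ => ?_)
  · rw [← img_le_iff (cj_le_of_mem hA (hK hg)), img_cj f (hK hg)]
    exact cj_le_ncl (ap_mem_img f hg (hK hg))
  · obtain ⟨g, hg, rfl⟩ := (mem_img_of_le hK).1 hγ
    rw [← img_cj f (hK hg)]
    exact img_mono f (cj_le_ncl hg)

theorem quo_id (H : Subgroup G) : H8.PC.Quo (MonoidHom.id H) ⊥ :=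
  ⟨Function.surjective_id, by simp [pre]⟩

theorem pre_id_Od (hD : D ≤ H) : pre (MonoidHom.id H) Od[img (MonoidHom.id H) D] = Od[D] := by
  rw [← (quo_id H).Od_img (isPi_bot _) hD, (quo_id H).pre_img ((pcore_le _ _).trans hD), sup_bot_eq]

theorem ncl_top_eq (A : Subgroup G) : ncl ⊤ A = normalClosure (A : Set G) := by
  refine le_antisymm (ncl_le le_normalClosure (norm_of_normal _ _)) ?_
  haveI := nml_top_iff.1 (ncl_nml (le_top : A ≤ ⊤))
  exact normalClosure_le_normal (le_ncl ⊤ A)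

/-- Goldschmidt's product theorem, relative form -/
theorem SCl.prod (hT : SCl H T) (hU : SCl H U) (hc : T ≤ C[U]) (hd : T ⊓ U = ⊥) :
    ⁅ncl H T, ncl H U⁆ ≤ Od[H] := by
  have hf := quo_id H
  have h1 := hT.quo hf
  have h2 := hU.quo hf
  have hc' := img_cent (MonoidHom.id H) hc
  obtain ⟨S, hS, hle⟩ := Sylow_superset Nat.prime_two (h1.two.sup' h2.two (norm_of_cent hc')) le_top
  have h3 := H8.PC.comm_le_oddCore H8.PC.bh hS (h1.sc hS.pi (le_sup_left.trans hle))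
    (h2.sc hS.pi (le_sup_right.trans hle)) hc' (by
      rw [← img_inf_of_ker_le _ _ hU.le (hf.ker.le.trans bot_le), hd, img_bot])
  rw [← ncl_top_eq, ← ncl_top_eq, ← H8.PC.Od_top_eq, ← hf.img_top, ← img_ncl le_rfl hT.le,
    ← img_ncl le_rfl hU.le, ← img_comm _ (ncl_nml hT.le).le (ncl_nml hU.le).le,
    img_le_iff (comm_le_of_le (ncl_nml hT.le).le (ncl_nml hU.le).le), pre_id_Od le_rfl] at h3
  exact h3

/-- S1251, relative form -/
theorem SCl.zl (h : SCl H A) (hD : D ≤ H) (hn : A ≤ N[D]) (hd : A ⊓ D = ⊥) : ⁅A, D⁆ ≤ Od[D] := by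
  have hf := quo_id H
  have h1 := h.quo hf
  obtain ⟨S, hS, hle⟩ := h1.exists_syl
  have hT := h1.mx_inf (L := img (MonoidHom.id H) D) le_top (img_norm _ hn)
  rw [← img_inf_of_ker_le _ _ hD (hf.ker.le.trans bot_le), hd, img_bot] at hT
  have hcl := H8.PC.cl_cls hS (h1.sc hS.pi hle)
  have h2 := H8.PC.zl0' (H := img (MonoidHom.id H) A) hcl (fun y hy hyD => mem_bot.1
    (hT.max (zpowers y) (hcl.two y hy).isPi bot_le (zpowers_le.2 hyD) y (mem_zpowers y) (by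
      obtain ⟨g, hg⟩ := hy
      exact (hc_conj_iff (mem_top g)).1 (mem_hc' hg)))) (img_norm _ hn)
  have h3 := (comm_mono_left (H8.PC.le_Og_cls le_rfl)).trans h2
  rwa [← img_comm _ h.le hD, img_le_iff (comm_le_of_le h.le hD), pre_id_Od hD] at h3

theorem conj_lift {X : Type u} [Group X] [Finite X] {f : H →* X} (hf : H8.PC.Quo f R)
    (hR : OddG R) (hP : TwoG P) (hQ : TwoG Q) (hPH : P ≤ H) (hQH : Q ≤ H) {γ : X}
    (h : cj γ (img f P) ≤ img f Q) : ∃ g ∈ H, ap f g = γ ∧ cj g P ≤ Q := by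
  obtain ⟨g, hg, rfl⟩ := hf.exists_ap γ
  rw [← img_cj f hg, hf.le_iff (cj_le_of_mem hPH hg) hQH, sup_comm] at h
  have hn : Q ≤ N[R] := hQH.trans hf.nml.norm
  obtain ⟨p, hp, h3⟩ := Sylow_Jsub Nat.prime_two ((isProd_sup hn).hall_right hR hQ) (hP.cj g) h
  obtain ⟨s, hs, r, hr, rfl⟩ := (isProd_sup hn).symm.mul p hp
  rw [cj_mul, cj_le_iff, cj_of_mem (inv_mem hs), ← cj_mul] at h3
  exact ⟨r * g, mul_mem (hf.le hr) hg, by rw [ap_mul f (hf.le hr) hg, hf.ap_ker hr, one_mul], h3⟩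

theorem SCl.gold [IsSimpleGroup G] (h : SCl ⊤ A) (h1 : A ≠ ⊥) (hab : Abl A) :
    (∀ P : Subgroup G, TwoG P → Abl P) ∨ ∃ M : Subgroup G, IsStronglyEmbedded M := by
  obtain ⟨S, hS, hle⟩ := h.exists_syl
  refine (goldschmidt hS h1 hab (h.sc hS.pi hle)).imp_left fun h2 P hP => ?_
  obtain ⟨g, -, h3⟩ := Sylow_subJ Nat.prime_two hS hP le_top
  exact (h2.cj g).of_le h3

theorem se_nab [IsSimpleGroup G] (hM : IsStronglyEmbedded M) : ¬ IsMulCommutative G := fun hc => by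
  have : M.Normal := inferInstance
  have h2 := hM.2.1
  rw [this.eq_bot_or_eq_top.resolve_right hM.1, card_bot] at h2
  exact absurd h2 (by decide)

theorem se_central [IsSimpleGroup G] (hM : IsStronglyEmbedded M) (hP : TwoG P) (ht : t ∈ P)
    (h2 : t * t = 1) : t ∈ C[P] := by
  obtain ⟨Q, Z, hT, -⟩ := ty1_of_stronglyEmbedded (se_nab hM) hM
  obtain ⟨g, -, h3⟩ := Sylow_Jsub Nat.prime_two hT.syl hP le_top
  have h4 : g * t * g⁻¹ ∈ Z := (hT.memZ _).2 ⟨h3 (conj_mem_cj g ht), by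
    rw [show g * t * g⁻¹ * (g * t * g⁻¹) = g * (t * t) * g⁻¹ by group, h2]; group⟩
  rw [← conj_mem_cj_iff (g := g), cj_C]
  exact C_anti h3 (cents_symm hT.cent h4)

theorem SCl.bender [IsSimpleGroup G] (h : SCl ⊤ A) (h1 : A ≠ ⊥) (hM : M ≠ ⊤)
    (hc : ∀ t ∈ A, t ≠ 1 → t * t = 1 → C{t} ≤ M) : ∃ M : Subgroup G, IsStronglyEmbedded M := by
  obtain ⟨S, hS, hle⟩ := h.exists_syl
  have hcl := h.sc hS.pi hle
  obtain ⟨P, rfl⟩ := hS.exists_sylow_top Nat.prime_two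
  exact Cfsg.Agent.S1174.result P _ h1 hcl fun e => hM (top_le_iff.1 (e ▸ iSup_le fun t =>
    hc t t.2.1 (H6.ne_one_of_orderOf_two t.2.2) (H6.mul_self_of_orderOf_two t.2.2)))

end H2.C2
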