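import Mathlib
import Cfsg.Agent.H2.CDefs
import Cfsg.Agent.H2.CHB
import Cfsg.Agent.H2.CT3
import Cfsg.Agent.H18.Eight
import Cfsg.Agent.S0483
import Cfsg.Agent.S0222

set_option autoImplicit false
set_option linter.unusedVariables false
set_option linter.unusedSectionVars false

namespace H2.C2

open Cfsg H24 H26 H26.Gold Subgroup
open scoped commutatorElement

universe u

variable {G : Type u} [Group G] [Finite G]
  {A B D E H K L M N0 P P' Q Q' R R' S T T' U W X a a' b b' b'' v : Subgroup G}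
  {g k n o s t x y z : G} {q : ℕ}

/-! ### CE1 -/

theorem ce1_tr_sq {F : Type*} [Field F] [CharP F 2] (M : Matrix (Fin 2) (Fin 2) F) :
    (M * M).trace = M.trace ^ 2 := by
  have h2 : (2 : F) = 0 := CharP.ofNat_eq_zero F 2
  simp only [Matrix.trace_fin_two, Matrix.mul_apply, Fin.sum_univ_two]
  linear_combination (M 0 1 * M 1 0 - M 0 0 * M 1 1) * h2

theorem ce1_tr_pow {F : Type*} [Field F] [CharP F 2] (M : Matrix (Fin 2) (Fin 2) F) (k : ℕ) :
    (M ^ 2 ^ k).trace = M.trace ^ 2 ^ k := by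
  induction k with
  | zero => simp
  | succ k ih => rw [pow_succ, pow_mul, pow_mul, sq (M ^ 2 ^ k), ce1_tr_sq, ih]

theorem ce1_sq {F : Type*} [Field F] [CharP F 2] (x : Matrix.ProjectiveSpecialLinearGroup (Fin 2) F)
    {k : ℕ} (h : x ^ 2 ^ k = 1) : x * x = 1 := by
  have h2 : (2 : F) = 0 := CharP.ofNat_eq_zero F 2
  obtain ⟨M, rfl⟩ := QuotientGroup.mk_surjective x
  rw [← QuotientGroup.mk_pow, QuotientGroup.eq_one_iff,
    Matrix.SpecialLinearGroup.mem_center_iff] at h
  obtain ⟨r, -, hr⟩ := h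
  have h1 : (M.1).trace ^ 2 ^ k = 0 := by
    rw [← ce1_tr_pow, ← Matrix.SpecialLinearGroup.coe_pow, ← hr]
    simp only [Matrix.trace_fin_two, Matrix.scalar_apply, Matrix.diagonal_apply_eq]
    linear_combination r * h2
  have h3 := pow_eq_zero_iff (by positivity) |>.1 h1
  have h4 := M.2
  rw [Matrix.trace_fin_two] at h3
  rw [Matrix.det_fin_two] at h4
  have : M * M = 1 := by
    ext i j
    fin_cases i <;> fin_cases j <;>
      simp only [Matrix.SpecialLinearGroup.coe_mul, Matrix.mul_apply, Fin.sum_univ_two,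
        Matrix.SpecialLinearGroup.coe_one, Fin.zero_eta, Fin.mk_one, Fin.isValue,
        Matrix.one_apply_eq, ne_eq, zero_ne_one, one_ne_zero, not_false_eq_true, Matrix.one_apply_ne]
    · linear_combination M.1 0 0 * h3 - h4 - h2
    · linear_combination M.1 0 1 * h3
    · linear_combination M.1 1 0 * h3
    · linear_combination M.1 1 1 * h3 - h4 - h2
  rw [← QuotientGroup.mk_mul, this, QuotientGroup.mk_one]

theorem end_se [IsSimpleGroup G] (hM : IsStronglyEmbedded M) (hP : TwoG P) (hna : ¬ Abl P) :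
    (∃ (F : Type) (_ : Field F) (_ : Fintype F) (q : ℕ), Fintype.card F = q ^ 2 ∧ Even q ∧ 4 ≤ q ∧
      Nonempty (G ≃* PSU 3 F q)) ∨ IsSuzuki G := by
  have h1 : ∃ a b : G, a * b ≠ b * a := by
    by_contra hc
    push Not at hc
    exact se_nab hM ⟨⟨hc⟩⟩
  rcases Cfsg.Agent.S0222.result h1 M hM with ⟨F, _, _, _, -, ⟨e⟩⟩ | h | h
  · refine absurd (ea_of_sq fun x hx => ?_).abl hna
    obtain ⟨k, hk⟩ := (hP.piElt hx).exists_pow Nat.prime_two
    apply e.injective
    rw [map_mul, map_one]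
    exact ce1_sq (k := k) _ (by rw [← map_pow, ← hk, pow_orderOf_eq_one, map_one])
  · exact Or.inr h
  · exact Or.inl h
theorem end_two [IsSimpleGroup G] (h : Amal W X R R' 2) :
    (∃ (F : Type) (_ : Field F) (_ : Fintype F),
      (Fintype.card F % 16 = 7 ∨ Fintype.card F % 16 = 9) ∧
      Nonempty (G ≃* Matrix.ProjectiveSpecialLinearGroup (Fin 2) F)) ∨
    Nonempty (G ≃* alternatingGroup (Fin 7)) := by
  obtain ⟨T, hTe⟩ := h.syl.exists_sylow_top Nat.prime_two
  have hT : ♯(T : Subgroup G) = 8 := by rw [hTe, h.h.cardE, h.h.R_bot rfl]; simp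
  have hab : ¬ Abl (T : Subgroup G) := hTe ▸ h.h.not_abl
  have hG : ¬ IsMulCommutative G := fun hc => hab inferInstance
  have hp : Group.IsPerfect G := by
    refine ⟨(IsSimpleGroup.eq_bot_or_eq_top_of_normal _ inferInstance).resolve_left fun h => ?_⟩
    exact hG (H24.abl_iff.1 (H24.der1_eq_bot.1 h) |> fun h' => ⟨⟨fun a b =>
      H24.comm_of_cent h' (Subgroup.mem_top a) (Subgroup.mem_top b)⟩⟩)
  have hO : Cfsg.oddCore G = ⊥ := by
    refine (IsSimpleGroup.eq_bot_or_eq_top_of_normal _ inferInstance).resolve_right fun h => ?_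
    have h1 := H17.odd_card_pPrimeCore (G := G)
    have h2 := T.1.card_subgroup_dvd_card
    rw [show Cfsg.pPrimeCore 2 G = ⊤ from h, Subgroup.card_top] at h1
    exact (h1.of_dvd_nat (hT ▸ h2)).not_two_dvd_nat (by norm_num)
  have e₀ : G ≃* G ⧸ Cfsg.oddCore G :=
    (QuotientGroup.quotientBot.symm).trans (QuotientGroup.quotientMulEquivOfEq hO.symm)
  rcases Cfsg.Agent.S0483.result T 4 (by norm_num) (H18.dihedral_of_card_eight hG T hT hab) with
    ⟨F, _, _, hF, -, ⟨e⟩⟩ | ⟨⟨e⟩⟩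
  · exact .inl ⟨F, _, _, (H18.psl_card_eight T hT (e₀.trans e)).2 hF, ⟨e₀.trans e⟩⟩
  · exact .inr ⟨e₀.trans e⟩

end H2.C2
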