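import Mathlib
import Cfsg.Agent.H2.CT1

set_option autoImplicit false
set_option linter.unusedVariables false
set_option linter.unusedSectionVars false

namespace H2.C2

open Cfsg H24 H26 H26.Gold Subgroup
open scoped commutatorElement

universe u

variable {G : Type u} [Group G] [Finite G]
  {A B D E H K L M N0 P P' Q Q' R R' S T T' U W X a a' b b' b'' v : Subgroup G}
  {g k n o s t x y z : G} {q : ℕ}

/-! ### CT2 -/

/-- conjugation by `g` on `D` agrees modulo `A` with an element of `N_H(A)` -/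
def RelN (H A D : Subgroup G) (g : G) : Prop :=
  ∃ n ∈ H ⊓ N[A], ∀ d ∈ D, (n * d * n⁻¹)⁻¹ * (g * d * g⁻¹) ∈ A

theorem RelN.res (h : RelN H A D g) (hB : B ≤ D) : RelN H A B g :=
  let ⟨n, hn, h1⟩ := h; ⟨n, hn, fun d hd => h1 d (hB hd)⟩

theorem RelN.trans (h : RelN H A D g) (h' : RelN H A (cj g D) k) : RelN H A D (k * g) := by
  obtain ⟨n, hn, h1⟩ := h
  obtain ⟨m, hm, h2⟩ := h'
  refine ⟨m * n, mul_mem hm hn, fun d hd => ?_⟩
  have := mul_mem (conj_mem hm.2 (h1 d hd)) (h2 _ (conj_mem_cj g hd))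
  convert this using 1
  group

theorem RelN.inv (h : RelN H A D g) : RelN H A (cj g D) g⁻¹ := by
  obtain ⟨n, hn, h1⟩ := h
  refine ⟨n⁻¹, inv_mem hn, fun e he => ?_⟩
  obtain ⟨d, hd, rfl⟩ := mem_cj'.1 he
  have := conj_mem' hn.2 (inv_mem (h1 d hd))
  convert this using 1
  group

theorem SCl.cj_inf_eq (h : SCl H A) (hS : TwoG S) (hA : A ≤ S) (hH : S ≤ H) (hD : D ≤ S)
    (hg : g ∈ H) (hD' : cj g D ≤ S) : cj g (D ⊓ A) = cj g D ⊓ A := by
  refine le_antisymm (fun x hx => ?_) fun x hx => ?_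
  · obtain ⟨y, hy, rfl⟩ := mem_cj'.1 hx
    exact ⟨conj_mem_cj g hy.1, h.max S hS hA hH y hy.2 g hg (hD' (conj_mem_cj g hy.1))⟩
  · have h1 := mem_cj.1 hx.1
    refine mem_cj.2 ⟨h1, ?_⟩
    have := h.max S hS hA hH x hx.2 g⁻¹ (inv_mem hg) (by simpa using hD h1)
    simpa using this

theorem SCl.lt_step (h : SCl H A) (hS : TwoG S) (hA : A ≤ S) (hH : S ≤ H) (hD : D ≤ S)
    (hn : ¬ A ≤ D) : ♯(D ⊓ A) < ♯((D ⊔ (A ⊓ N[D])) ⊓ A) := by
  have h1 : D < D ⊔ A := left_lt_sup.2 hn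
  have h2 := ((hS.of_le (sup_le hD hA)).nil Nat.prime_two).proper_norm h1
  rw [← group_modl' (hD.trans (h.le_norm hS hA hH)) (norm_self D)] at h2
  refine card_lt (lt_of_le_of_ne (inf_le_inf_right _ le_sup_left) fun e => h2.not_ge ?_)
  exact sup_le le_rfl (((le_inf le_sup_right inf_le_left).trans e.ge).trans inf_le_left)

theorem SCl.relN (h : SCl H A) (hS : Syl 2 H S) (hA : A ≤ S) (m : ℕ) :
    ∀ (D : Subgroup G) (g : G), ♯A - ♯(D ⊓ A) = m → D ≤ S → g ∈ H → cj g D ≤ S → RelN H A D g := by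
  induction m using Nat.strong_induction_on with
  | _ m ih =>
  intro D g hm hD hg hD'
  by_cases hAD : A ≤ D
  · refine ⟨g, ⟨hg, mem_N_of_finite fun a ha => h.max S hS.pi hA hS.le a ha g hg
      (hD' (conj_mem_cj g (hAD ha)))⟩, fun d _ => by rw [inv_mul_cancel]; exact one_mem _⟩
  have e1 := h.cj_inf_eq hS.pi hA hS.le hD hg hD'
  have c1 : ♯(cj g D ⊓ A) = ♯(D ⊓ A) := by rw [← e1, card_cj]
  have hAD' : ¬ A ≤ cj g D := fun hle => hAD (by
    rw [inf_of_le_right hle] at c1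
    exact (eq_of_card_eq inf_le_right c1.symm).ge.trans inf_le_left)
  have hL : H ⊓ N[D] ≤ H := inf_le_left
  obtain ⟨T, hT, h1⟩ := h.exists_mx hL (D := A ⊓ N[D]) (inf_le_inf_right _ h.le)
    (h.two.inf_left _) fun y hy => mem_hc' hy.1
  obtain ⟨k, hk, h2⟩ := hT.conj_le h hL (D := cj g⁻¹ (A ⊓ N[cj g D])) (by
      rw [cj_inf, cj_N, cj_inv_cj]
      exact inf_le_inf_right _ (cj_le_of_mem h.le (inv_mem hg)))
    ((h.two.inf_left _).cj _) fun y hy => by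
      obtain ⟨z, hz, rfl⟩ := mem_cj'.1 hy
      exact mem_hc hz.1 (inv_mem hg)
  have hk2 := (ncl_nml hT.le).le hk
  have hkD : cj k D = D := cj_of_mem_N hk2.2
  have hLV : H ⊓ N[D] ≤ N[D ⊓ A] := fun l hl => by
    have e := cj_of_mem_N hl.2
    rw [mem_N_iff_cj, h.cj_inf_eq hS.pi hA hS.le hD hl.1 (e.le.trans hD), e]
  have hDL : D ≤ H ⊓ N[D] := le_inf (hD.trans hS.le) (norm_self D)
  have hDT : TwoG (D ⊔ T) := (hS.pi.of_le hD).sup hT.two (hT.le.trans inf_le_right)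
  have hTn : D ≤ N[T] := le_sup_left.trans
    ((hT.scl h hL).le_norm hDT le_sup_right (sup_le hDL hT.le))
  have h3 : ncl (H ⊓ N[D]) T ≤ centQ D (D ⊓ A) := by
    refine ncl_le ((le_centQ (hDL.trans hLV)).2 ⟨hT.le.trans hLV, fun x hx => ?_⟩)
      (norm_centQ inf_le_right hLV)
    have hxD := comm_le_right (hT.le.trans inf_le_right) hx
    exact ⟨hxD, h.mem hS.pi hA hS.le (hD hxD) (hT.mem x (comm_le_left hTn hx))⟩
  have r1 : RelN H A D k := by
    refine ⟨1, one_mem _, fun d hd => ?_⟩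
    have := ((mem_centQ (hDL.trans hLV)).1 (h3 hk)).2 d hd
    have h4 := conj_mem' ((hD.trans (h.le_norm hS.pi hA hS.le)) hd) this.2
    convert h4 using 1
    simp only [commutatorElement_def]
    group
  obtain ⟨u, hu, h4⟩ := Sylow_Jsub Nat.prime_two hS hDT ((sup_le hDL hT.le).trans hL)
  have hb : ∀ X : Subgroup G, ♯(X ⊓ A) ≤ ♯A := fun X => card_le inf_le_right
  have r2 : RelN H A D u := by
    have := h.lt_step hS.pi hA hS.le hD hAD
    have := hb (D ⊔ (A ⊓ N[D]))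
    exact (ih _ (by omega) (D ⊔ (A ⊓ N[D])) u rfl (sup_le hD (inf_le_left.trans hA)) hu
      ((cj_mono u (sup_le_sup_left h1 D)).trans h4)).res le_sup_left
  have r3 : RelN H A (cj g D) (u * k * g⁻¹) := by
    have := h.lt_step hS.pi hA hS.le hD' hAD'
    have := hb (cj g D ⊔ (A ⊓ N[cj g D]))
    refine (ih _ (by omega) (cj g D ⊔ (A ⊓ N[cj g D])) _ rfl (sup_le hD' (inf_le_left.trans hA))
      (mul_mem (mul_mem hu hk2.1) (inv_mem hg)) ?_).res le_sup_left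
    rw [cj_mul, cj_mul, cj_sup, cj_sup, cj_inv_cj, hkD]
    exact (cj_mono u (sup_le_sup_left h2 D)).trans h4
  have r4 := r1.trans (k := u) (by rwa [hkD])
  have r5 := r3.inv
  rw [← cj_mul, inv_mul_cancel_right] at r5
  have := r4.trans r5
  rwa [show (u * k * g⁻¹)⁻¹ * (u * k) = g by group] at this

/-- `N(A)` controls fusion modulo `A` -/
theorem SCl.ctl (h : SCl H A) (hP : TwoG P) (hA : A ≤ P) (hH : P ≤ H) (hx : x ∈ P) (hg : g ∈ H)
    (hy : g * x * g⁻¹ ∈ P) : ∃ n ∈ H ⊓ N[A], ∃ a ∈ A, g * x * g⁻¹ = n * x * n⁻¹ * a := by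
  obtain ⟨S, hS, hPS⟩ := Sylow_superset Nat.prime_two hP hH
  obtain ⟨n, hn, h1⟩ := h.relN hS (hA.trans hPS) _ (zpowers x) g rfl (zpowers_le.2 (hPS hx)) hg
    (by rw [cj_zpowers]; exact zpowers_le.2 (hPS hy))
  exact ⟨n, hn, _, h1 x (mem_zpowers x), by group⟩

theorem foc (hS : Syl 2 H S) (hB : B ≤ S)
    (h : ∀ x ∈ S, ∀ g ∈ H, g * x * g⁻¹ ∈ S → x⁻¹ * (g * x * g⁻¹) ∈ B) (hA : A ≤ B)
    (hg : ncl H A = H) : S ≤ B := by
  have hn : ⁅H, H⁆ ⊔ B ⊴ H := nml_of_der1_le le_sup_left (sup_le (der1_le H) (hB.trans hS.le))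
  have h1 : ⁅H, H⁆ ⊓ S ≤ B := H8.PC.focal_le Nat.prime_two hS fun x hx g hg hc => by
    have e : ⁅x, g⁆ = x⁻¹⁻¹ * (g * x⁻¹ * g⁻¹) := by simp only [commutatorElement_def]; group
    rw [e] at hc ⊢
    exact h _ (inv_mem hx) g hg ((mul_mem_cancel_left (by simpa using hx)).1 hc)
  have h2 : H ≤ ⁅H, H⁆ ⊔ B := hg.ge.trans (ncl_le (hA.trans le_sup_right) hn.norm)
  have h3 := group_modr ((hB.trans hS.le).trans (der1_nml H).norm) hB
  calc S ≤ (⁅H, H⁆ ⊔ B) ⊓ S := le_inf (hS.le.trans h2) le_rfl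
    _ = _ := h3.symm
    _ ≤ B := sup_le h1 le_rfl

theorem exists_sq_of_odd (ho : OddE x) : ∃ y ∈ zpowers x, x = y * y := by
  obtain ⟨m, hm⟩ := oddE_iff.1 ho
  refine ⟨x ^ (m + 1), pow_mem (mem_zpowers x) _, ?_⟩
  rw [← pow_add, show m + 1 + (m + 1) = orderOf x + 1 by omega, pow_succ, pow_orderOf_eq_one,
    one_mul]

/-- no subgroup of index two of `N_H(A)` contains `A` -/
theorem SCl.tr (h : SCl H A) (hg : ncl H A = H) (hA : A ≤ N0) (hN : N0 ≤ H ⊓ N[A])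
    (hm : ∀ a ∈ H ⊓ N[A], ∀ b ∈ H ⊓ N[A], a ∉ N0 → b ∉ N0 → a * b ∈ N0) : H ⊓ N[A] ≤ N0 := by
  obtain ⟨S, hS, hAS⟩ := h.exists_syl
  have hSN : S ≤ H ⊓ N[A] := le_inf hS.le (h.le_norm hS.pi hAS hS.le)
  have k1 : ∀ u ∈ H ⊓ N[A], ∀ x ∈ H ⊓ N[A], x⁻¹ * (u * x * u⁻¹) ∈ N0 := fun u hu x hx => by
    by_cases a1 : u ∈ N0 <;> by_cases a2 : x ∈ N0
    · exact mul_mem (inv_mem a2) (mul_mem (mul_mem a1 a2) (inv_mem a1))
    · refine hm _ (inv_mem hx) _ (mul_mem (mul_mem hu hx) (inv_mem hu)) (by simpa using a2) ?_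
      rwa [mul_mem_cancel_right (inv_mem a1), mul_mem_cancel_left a1]
    · refine mul_mem (inv_mem a2) (hm _ (mul_mem hu hx) _ (inv_mem hu) ?_ (by simpa using a1))
      rwa [mul_mem_cancel_right a2]
    · rw [show x⁻¹ * (u * x * u⁻¹) = x⁻¹ * u * (x * u⁻¹) by group]
      exact mul_mem (hm _ (inv_mem hx) _ hu (by simpa using a2) a1)
        (hm _ hx _ (inv_mem hu) a2 (by simpa using a1))
  have k2 : S ≤ S ⊓ N0 := foc hS inf_le_left (fun x hx g hg' hy => by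
    obtain ⟨n, hn, a, ha, e⟩ := h.ctl hS.pi hAS hS.le hx hg' hy
    refine mem_inf.2 ⟨mul_mem (inv_mem hx) hy, ?_⟩
    rw [e, ← mul_assoc]
    exact mul_mem (k1 n hn x (hSN hx)) (hA ha)) (le_inf hAS hA) hg
  intro n hn
  obtain ⟨y, z, hy, hz, hy', hz', rfl⟩ := exists_piElt_decomp {2} n
  have hyN := zpowers_le.2 hn hy'
  have hzN := zpowers_le.2 hn hz'
  refine mul_mem ?_ ?_
  · obtain ⟨u, hu, h1⟩ := Sylow_Jsub Nat.prime_two (hS.of_le hSN inf_le_left) hy.isPi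
      (zpowers_le.2 hyN)
    have h2 : u * y * u⁻¹ ∈ N0 := (k2 (h1 (conj_mem_cj u (mem_zpowers y)))).2
    have := k1 u hu y hyN
    rwa [mul_mem_cancel_right h2, inv_mem_iff] at this
  · obtain ⟨w, hw, rfl⟩ := exists_sq_of_odd hz
    have hwN := zpowers_le.2 hzN hw
    by_cases a1 : w ∈ N0
    · exact mul_mem a1 a1
    · exact hm w hwN w hwN a1 a1

theorem SCl.not_index_two (h : SCl H A) (hg : ncl H A = H) (hS : Syl 2 H S) (hA : A ≤ S) :
    A.relIndex S ≠ 2 := by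
  intro h2
  have h3 : S ≤ A := foc hS hA (fun x hx g hg' hy => by
    have e : g * x * g⁻¹ ∈ A ↔ x ∈ A := ⟨fun h1 => by
      have := h.max S hS.pi hA hS.le _ h1 g⁻¹ (inv_mem hg') (by simpa [mul_assoc] using hx)
      simpa [mul_assoc] using this, fun h1 => h.max S hS.pi hA hS.le x h1 g hg' hy⟩
    have := mul_mem_iff_of_index_two (H := A.subgroupOf S) h2 (a := ⟨x⁻¹, inv_mem hx⟩)
      (b := ⟨_, hy⟩)
    simp only [mem_subgroupOf, MulMemClass.coe_mul, inv_mem_iff] at this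
    exact this.2 e.symm) le_rfl hg
  rw [relIndex_eq_one.2 h3] at h2
  omega

theorem transfer_center (hQ : Syl 2 H Q) : Q ⊓ C[H] ⊓ (⁅H, H⁆ ⊔ O2 H) ≤ ⁅Q, Q⁆ := by
  rintro x ⟨⟨hxQ, hxC⟩, hx⟩
  let Q' := Q.subgroupOf H
  let V : H →* Abelianization Q' := MonoidHom.transfer (Abelianization.of (G := Q'))
  have hQ' : IsPGroup 2 Q' := (isPi_subgroupOf hQ.pi H).isPGroup Nat.prime_two
  have h1 : ⁅H, H⁆ ⊔ O2 H ≤ pre V ⊥ := by
    refine sup_le ((comm_le_ker le_rfl le_rfl).2 (le_C_iff.2 fun a _ b _ => mul_comm a b))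
      (O2_le_of fun y hy ho => mem_pre_bot.2 ⟨hy, ?_⟩)
    have h2 : PiElt {2} (ap V y) := by
      obtain ⟨k, hk⟩ := (hQ'.of_surjective _ (QuotientGroup.mk'_surjective (commutator Q'))) (ap V y)
      exact piElt_of_pow_eq_one (piNat_self_pow Nat.prime_two k) hk
    exact h2.eq_one (ho.ap V hy)
  have hxH := hQ.le hxQ
  have h2 := (mem_pre_bot.1 (h1 hx)).2
  rw [ap_of_mem V hxH] at h2
  have e := MonoidHom.transfer_eq_pow (Abelianization.of (G := Q')) ⟨x, hxH⟩ fun k g _ => by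
    have : (g : G) * x = x * g := mem_C.1 hxC g g.2
    have hc : Commute g (⟨x, hxH⟩ : H) := Subtype.ext this
    rw [mul_assoc, ← (Commute.pow_right hc k).eq, inv_mul_cancel_left]
  have h3 := e.symm.trans h2
  have h4 := (Abelianization.ker_of Q').le h3
  have h5 : x ^ Q.relIndex H ∈ ⁅Q, Q⁆ := by
    have := mem_map_of_mem H.subtype (mem_map_of_mem Q'.subtype h4)
    rw [commutator_def, map_commutator, map_commutator, ← MonoidHom.range_eq_map, range_subtype,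
      map_subgroupOf_eq_of_le hQ.le] at this
    exact this
  have h6 : (Q.relIndex H).Coprime (orderOf x) := (hQ.idx.coprime' (hQ.pi.piElt hxQ))
  obtain ⟨m, hm⟩ := exists_pow_eq_self_of_coprime h6
  rw [← hm]
  exact pow_mem h5 m

/-- Burnside: `N(A)` controls fusion in an abelian strongly closed `A` -/
theorem SCl.burnside (h : SCl H A) (hab : Abl A) (hD : D ≤ A) (hg : g ∈ H) (hle : cj g D ≤ A) :
    ∃ n ∈ H ⊓ N[A], ∃ c ∈ C[D], g = n * c := by
  have hL : H ⊓ C[cj g D] ≤ H := inf_le_left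
  have h1 := h.mx_conj hL hg (le_inf (cj_le_of_mem h.le hg) (cent_cj (hab.cents le_rfl hD) g))
  obtain ⟨l, hl, e⟩ := h1.exists_conj' hL (h.mx_self hL (le_inf h.le (hab.cents le_rfl hle)))
  refine ⟨l * g, ⟨mul_mem hl.1 hg, mem_N_iff_cj.2 (by rw [cj_mul, ← e])⟩, g⁻¹ * l⁻¹ * g, ?_,
    by group⟩
  rw [← mem_cj, cj_C]
  exact inv_mem hl.2

/-- `b` is central in `K` modulo the odd group `O` -/
theorem le_sup_C_of_comm {O : Subgroup G} (hO : OddG O) (hP : TwoG P) (hK : K ≤ N[O])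
    (hPO : P ≤ N[O]) (h : ⁅K, P⁆ ≤ O) : K ≤ O ⊔ C[P] := by
  intro k hk
  have hS : Syl 2 (O ⊔ P) P := (isProd_sup hPO).hall_right hO hP
  have h1 : cj k P ≤ O ⊔ P := fun x hx => by
    obtain ⟨y, hy, rfl⟩ := mem_cj'.1 hx
    have := mul_mem (mem_sup_left (T := P) (h (commutator_mem_commutator hk hy))) (mem_sup_right hy)
    simpa [commutatorElement_def] using this
  obtain ⟨g, hg, h2⟩ := Sylow_Jsub Nat.prime_two hS (hP.cj k) h1
  obtain ⟨y, hy, o, ho, rfl⟩ := (isProd_sup hPO).symm.mul g hg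
  rw [cj_mul, cj_le_iff, cj_of_mem (inv_mem hy), ← cj_mul] at h2
  have h3 : o * k ∈ C[P] := mem_C'.2 fun x hx => by
    have a1 : ⁅o * k, x⁆ ∈ P := mul_mem (h2 (conj_mem_cj _ hx)) (inv_mem hx)
    have a2 : ⁅o * k, x⁆ ∈ O := by
      have := mul_mem (mul_mem ho (h (commutator_mem_commutator hk hx)))
        (conj_mem (hPO hx) (inv_mem ho))
      convert this using 1
      simp only [commutatorElement_def]
      group
    exact commutatorElement_eq_one_iff_mul_comm.1 (mem_bot.1 ((hP.inf_eq_bot hO).le ⟨a1, a2⟩))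
  have := mul_mem (mem_sup_left (T := C[P]) (inv_mem ho)) (mem_sup_right h3)
  simpa using this

theorem conj_pow_eq {u : G} (h : x * y * x⁻¹ = u * y) (hu : x * u = u * x) (m : ℕ) :
    x ^ m * y * (x ^ m)⁻¹ = u ^ m * y := by
  induction m with
  | zero => simp
  | succ m ih =>
    have hc : Commute x (u ^ m) := Commute.pow_right hu m
    calc x ^ (m + 1) * y * (x ^ (m + 1))⁻¹ = x * (x ^ m * y * (x ^ m)⁻¹) * x⁻¹ := by group
      _ = (x * u ^ m) * y * x⁻¹ := by rw [ih]; group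
      _ = u ^ m * (x * y * x⁻¹) := by rw [hc.eq]; group
      _ = _ := by rw [h, pow_succ, mul_assoc]

theorem odd_fix {u : G} (ho : OddE x) (h2 : TwoE u) (h : x * y * x⁻¹ = u * y)
    (hu : x * u = u * x) : x * y = y * x := by
  have := conj_pow_eq h hu (orderOf x)
  rw [pow_orderOf_eq_one, one_mul, inv_one, mul_one, right_eq_mul] at this
  have h1 : u = 1 := h2.eq_one (piElt_of_pow_eq_one ho this)
  rw [h1, one_mul] at h
  exact mul_inv_eq_iff_eq_mul.1 h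

/-- an odd element stabilising a chain of `2`-groups -/
theorem odd_cent_of_chain (hQ : TwoG Q) (hU : U ≤ Q) (ho : OddE x) (h1 : ⁅Q, zpowers x⁆ ≤ U)
    (h2 : x ∈ C[U]) : x ∈ C[Q] := mem_C'.2 fun y hy => by
  have h3 : ⁅x, y⁆ ∈ U := by
    rw [commC] at h1
    exact h1 (commutator_mem_commutator (mem_zpowers x) hy)
  exact odd_fix ho (hQ.piElt (hU h3)) (by simp [commutatorElement_def]) (mem_C'.1 h2 _ h3)

/-- an odd element normalising an abelian `2`-group and centralising its involutions -/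
theorem odd_cent_of_omega (hQ : TwoG Q) (hab : Abl Q) (hx : x ∈ N[Q]) (ho : OddE x)
    (h : ∀ y ∈ Q, y * y = 1 → y ∈ C{x}) : x ∈ C[Q] := by
  suffices H : ∀ m, ∀ y ∈ Q, orderOf y = m → x * y = y * x from
    mem_C'.2 fun y hy => H _ y hy rfl
  intro m
  induction m using Nat.strong_induction_on with
  | _ m ih =>
  intro y hy hm
  by_cases y1 : y = 1
  · simp [y1]
  have h1 := ih _ (hm ▸ H8.PC.orderOf_sq_lt (hQ.piElt hy) y1) (y * y) (mul_mem hy hy) rfl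
  have h2 := conj_mem hx hy
  have h3 : ⁅x, y⁆ ∈ Q := mul_mem h2 (inv_mem hy)
  have h4 : ⁅x, y⁆ * ⁅x, y⁆ = 1 := by
    have c := hab.comm (inv_mem hy) h2
    calc ⁅x, y⁆ * ⁅x, y⁆ = x * y * x⁻¹ * (y⁻¹ * (x * y * x⁻¹)) * y⁻¹ := by
          simp only [commutatorElement_def]; group
      _ = x * (y * y) * x⁻¹ * (y * y)⁻¹ := by rw [c]; group
      _ = 1 := by rw [h1]; group
  exact odd_fix ho (hQ.piElt h3) (by simp [commutatorElement_def]) (mem_C1.1 (h _ h3 h4)).symm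

end H2.C2
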