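import Mathlib
import Cfsg.Agent.H2.CT2
import Cfsg.Agent.H2.CHB

set_option autoImplicit false
set_option linter.unusedVariables false
set_option linter.unusedSectionVars false

namespace H2.C2

open Cfsg H24 H26 H26.Gold Subgroup
open scoped commutatorElement

universe u

variable {G : Type u} [Group G] [Finite G]
  {A B D E H K L M N0 P P' Q Q' R R' S T T' U W X a a' b b' b'' v : Subgroup G}
  {g k n o s t x y z : G} {q : ℕ}

/-! ### CAm -/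

theorem Amal.symm (h : Amal W X R R' q) : Amal X W R' R q :=
  ⟨sup_comm W X ▸ h.syl, h.h', h.h, inf_comm R R' ▸ h.RR, h.typ.imp And.symm fun e => by
    rw [sup_comm, e, inf_comm]⟩

theorem Amal.conj (h : Amal W X R R' q) (g : G) :
    Amal (cj g W) (cj g X) (cj g R) (cj g R') q := by
  refine ⟨?_, cj_N g W ▸ h.h.conj g, cj_N g X ▸ h.h'.conj g, ?_, h.typ.imp (fun e => ?_) fun e => ?_⟩
  · rw [← cj_sup]; exact h.syl.cj_mem (mem_top g)
  · rw [← cj_inf, h.RR, cj_bot]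
  · rw [e.1, e.2, cj_bot]; exact ⟨rfl, rfl⟩
  · rw [← cj_sup, e, cj_inf]

theorem Amal.norm (h : Amal W X R R' q) : N[W ⊔ X] ≤ N[W] ⊓ N[X] := by
  intro n hn
  obtain ⟨y, z, hy, hz, hy', hz', rfl⟩ := exists_piElt_decomp {2} n
  have hyN := zpowers_le.2 hn hy'
  have hzN := zpowers_le.2 hn hz'
  refine mul_mem ?_ ?_
  · exact le_inf h.h.normW h.h.normX
      ((h.syl.of_le (norm_self _) le_top).mem_of_nml le_rfl hy hyN)
  · obtain ⟨w, hw, rfl⟩ := exists_sq_of_odd hz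
    rw [mem_inf, mem_N_iff_cj, mem_N_iff_cj, cj_mul, cj_mul]
    rcases h.h.norm_cases (zpowers_le.2 hzN hw) with ⟨e1, e2⟩ | ⟨e1, e2⟩
    · rw [e1, e1, e2, e2]; exact ⟨rfl, rfl⟩
    · rw [e1, e2, e1]; exact ⟨rfl, rfl⟩

theorem Amal.not_conj (h : Amal W X R R' q) (g : G) : cj g W ≠ X := fun e => by
  have h1 : Syl 2 N[X] (cj g (W ⊔ X)) :=
    (h.syl.cj_mem (mem_top g)).of_le (e ▸ norm_cj h.h.normW g) le_top
  obtain ⟨k, hk, e1⟩ := Sylow_trans Nat.prime_two h1 (h.syl.of_le h.h.normX le_top)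
  rw [← cj_mul] at e1
  have h2 := cj_of_mem_N (h.norm (mem_N_iff_cj.2 e1.symm)).1
  rw [cj_mul, e, cj_of_mem_N hk] at h2
  exact h.h.not_le h2.ge

theorem Amal.syl_over (h : Amal W X R R' q) (hP : Syl 2 ⊤ P) (hW : W ≤ P) :
    ∃ k ∈ N[W], P = cj k (W ⊔ X) := by
  obtain ⟨k, -, rfl⟩ := Sylow_trans Nat.prime_two h.syl hP
  refine ⟨k, ?_, rfl⟩
  rcases h.h.eq_or (H8.PC.ea_cj h.h.ea k⁻¹) (le_cj_iff.1 hW) (card_cj _ _) with e | e
  · simpa using inv_mem (mem_N_iff_cj.2 e)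
  · exact absurd e (h.not_conj _)

theorem mem_Rt : x ∈ Rt a ↔ x ∈ a ∧ ∀ S, Syl 2 ⊤ S → a ≤ S → x ∈ C[S] := by
  simp only [Rt, mem_inf, mem_iInf, Set.mem_setOf_eq, and_imp]

theorem cj_Rt (g : G) (a : Subgroup G) : cj g (Rt a) = Rt (cj g a) := by
  ext x
  rw [mem_cj, mem_Rt, mem_Rt, mem_cj]
  refine and_congr_right fun _ => ⟨fun h S hS hle => ?_, fun h S hS hle => ?_⟩
  · have := h _ (hS.cj_mem (mem_top g⁻¹)) (cj_le_iff.1 hle)
    rwa [← mem_cj, cj_C, cj_cj_inv] at this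
  · rw [← mem_cj, cj_C]
    exact h _ (hS.cj_mem (mem_top g)) (cj_mono g hle)

theorem Amal.Rt_eq (h : Amal W X R R' q) : Rt W = R := by
  refine le_antisymm (fun x hx => ?_) fun x hx => mem_Rt.2 ⟨(h.h.leR hx).1, fun S hS hle => ?_⟩
  · obtain ⟨hW, h1⟩ := mem_Rt.1 hx
    obtain ⟨g, hg, hY⟩ := h.h.ex
    rw [← (h.h.mov g hg hY).1]
    refine ⟨?_, h.h.center.le ⟨mem_sup_left hW, h1 _ h.syl le_sup_left⟩⟩
    have h2 : W ≤ cj g (W ⊔ X) := (cj_of_mem_N hg).ge.trans (cj_mono g le_sup_left)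
    rw [← h.h.center, cj_inf, cj_C]
    exact ⟨h2 hW, h1 _ (h.syl.cj_mem (mem_top g)) h2⟩
  · obtain ⟨k, hk, rfl⟩ := h.syl_over hS hle
    exact cents_symm ((cj_le_ncl hk).trans h.h.cent_R) hx

theorem Amal.conj_Y (h : Amal W X R R' q) (ht : t * t = 1) : ∃ g, g * t * g⁻¹ ∈ W ⊓ X := by
  have key : ∀ {W X R : Subgroup G}, Half N[W] W X R q → ∀ w ∈ W, ∃ g, g * w * g⁻¹ ∈ W ⊓ X :=
    fun h w hw => by
      obtain ⟨g, hg, hY⟩ := h.ex
      rcases h.cover hg hY hw with h1 | ⟨x, -, h1⟩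
      · exact ⟨1, by simpa using ⟨hw, h1⟩⟩
      · exact ⟨(x * g)⁻¹, by simpa using mem_cj.1 h1⟩
  obtain ⟨g, -, h1⟩ := Sylow_Jsub Nat.prime_two h.syl (twoE_of_sq ht).isPi le_top
  have h2 := h1 (conj_mem_cj g (mem_zpowers t))
  have h3 : g * t * g⁻¹ * (g * t * g⁻¹) = 1 := by
    rw [show g * t * g⁻¹ * (g * t * g⁻¹) = g * (t * t) * g⁻¹ by group, ht]; group
  rcases h.h.inv_mem h2 h3 with h4 | h4
  · obtain ⟨k, hk⟩ := key h.h _ h4
    exact ⟨k * g, by simpa [mul_assoc] using hk⟩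
  · obtain ⟨k, hk⟩ := key h.h' _ h4
    exact ⟨k * g, by rw [inf_comm]; simpa [mul_assoc] using hk⟩

theorem Amal.cardR (h : Amal W X R R' q) : ♯R' = ♯R ∧ (R = ⊥ ∨ ♯R = q) := by
  have h1 := h.h.cardY
  have h2 := h.h'.cardY
  have hq := h.h.two_le
  rw [inf_comm, h1] at h2
  have h3 : ♯R' = ♯R := (Nat.eq_of_mul_eq_mul_left (by omega) h2).symm
  refine ⟨h3, h.typ.imp And.left fun e => ?_⟩
  have h4 := card_sup_of_inf (h.h.ea.abl.norm (h.h'.leR.trans inf_le_right)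
    (h.h.leR.trans inf_le_left)) h.RR
  rw [e, h1, h3] at h4
  exact (Nat.eq_of_mul_eq_mul_right (card_pos R) h4).symm

theorem Amal.O2_le (h : Amal W X R R' q) (hP : TwoG P) (hn : P ⊴ N[W]) : P ≤ W := by
  obtain ⟨g, hg, hY⟩ := h.h.ex
  have hS := h.syl.of_le h.h.normW le_top
  have h1 := hS.nml_le hP hn
  have h2 := (hS.cj_mem hg).nml_le hP hn
  obtain ⟨w0, hw0, hw1⟩ := SetLike.not_le_iff_exists.1 h.h.not_le
  intro y hy
  have h3 : ⁅w0, y⁆ ∈ R := by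
    rw [← (h.h.mov g hg hY).1]
    refine ⟨?_, h.h.der.le (commutator_mem_commutator (mem_sup_left hw0) (h1 hy))⟩
    rw [← h.h.der, cj_comm]
    exact commutator_mem_commutator ((cj_of_mem_N hg).ge.trans (cj_mono g le_sup_left) hw0) (h2 hy)
  obtain ⟨w, hw, x, hx, rfl⟩ := h.h.mem_sup.1 (h1 hy)
  refine mul_mem hw ((h.h.nd w0 hw0 x hx ?_).resolve_left hw1)
  have c := h.h.ea.comm hw0 hw
  have c2 := h.h.ea.comm hw (comm_le_left (le_sup_right.trans h.h.normW)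
    (commutator_mem_commutator hw0 hx))
  convert h3 using 1
  calc ⁅w0, x⁆ = w * ⁅w0, x⁆ * w⁻¹ := by rw [c2]; group
    _ = (w * w0) * x * w0⁻¹ * x⁻¹ * w⁻¹ := by simp only [commutatorElement_def]; group
    _ = _ := by rw [← c]; simp only [commutatorElement_def]; group

end H2.C2
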