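import Mathlib
import Cfsg.Agent.H2.CDefs
import Cfsg.Agent.H2.CT3
import Cfsg.Agent.H2.CHB
import Cfsg.Agent.H2.CAm
import Cfsg.Agent.H26.CG1a

set_option autoImplicit false
set_option linter.unusedVariables false
set_option linter.unusedSectionVars false

namespace H2.C2

open Cfsg H24 H26 H26.Gold Subgroup
open scoped commutatorElement

universe u

variable {G : Type u} [Group G] [Finite G]
  {A B D E H K L M N0 P P' Q Q' R R' S T T' U W X a a' b b' b'' v : Subgroup G}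
  {g k n o s t x y z : G} {q : ℕ}

/-! ### CG1 -/

private theorem Amal.leC (h : Amal W X R R' q) (hz : z ∈ W ⊓ X) : W ⊔ X ≤ C{z} :=
  mem_C_iff_le_C1.1 (h.h.center.ge hz).2

theorem Amal.scl (h : Amal W X R R' q) (hz : z ∈ W ⊓ X) (hR : z ∉ R') : SCl C{z} W := by
  have hSH := h.leC hz
  have hS : Syl 2 C{z} (W ⊔ X) := h.syl.of_le hSH le_top
  refine SCl.of_syl hS le_sup_left fun w hw g hg hx => ?_
  by_contra hxW
  have hsq : (g * w * g⁻¹) * (g * w * g⁻¹) = 1 := h.h.ea.sq.{u} (A := W) hw ▸ by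
    have := h.h.ea.sq hw
    calc _ = g * (w * w) * g⁻¹ := by group
      _ = w * w := by rw [this]; group
  set x := g * w * g⁻¹ with hxe
  have hxX : x ∈ X := (h.h.inv_mem hx hsq).resolve_left hxW
  have hXc : X ≤ C{z} ⊓ C{x} := le_inf (le_sup_right.trans hSH) (mem_C_iff_le_C1.1 (h.h.eaX.le_C hxX))
  have hcard : ♯X = ♯W := h.h.cardX.trans h.h.cardW.symm
  obtain ⟨P, hP, hXP⟩ := Sylow_superset Nat.prime_two h.h.eaX.two hXc
  obtain ⟨k, hk, hPk⟩ := Sylow_subJ Nat.prime_two hS hP.pi (hP.le.trans inf_le_left)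
  have hk' := h.h.conj k
  rw [cj_sup] at hPk
  have hXk : X = cj k X := (hk'.eq_or h.h.eaX (hXP.trans hPk) (by rw [card_cj, hcard])).resolve_left
    fun e => h.not_conj k e.symm
  have hY : cj k (X ⊓ W) = X ⊓ W := by
    by_contra hne
    refine hR ((h.h'.mov k (mem_N_iff_cj.2 hXk.symm) hne).1.le ⟨?_, hz.2, hz.1⟩)
    rw [← mem_C1_iff_conj.1 hk]
    exact conj_mem_cj k ⟨hz.2, hz.1⟩
  have hxk : x ∉ cj k W := fun e => hxW (hY.le (by rw [cj_inf, ← hXk]; exact ⟨hxX, e⟩)).2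
  have hPX : P ≤ X := by
    have := hk'.cent1X (hXk ▸ hxX) hxk
    rw [← hXk] at this hPk
    exact (le_inf hPk (hP.le.trans inf_le_right)).trans this.le
  obtain ⟨c, -, hc⟩ := Sylow_Jsub Nat.prime_two hP (h.h.ea.two.cj g)
    (le_inf (cj_le_of_mem (le_sup_left.trans hSH) hg)
      (cj_C1 g w ▸ cj_mono g (mem_C_iff_le_C1.1 (h.h.ea.le_C hw))))
  refine h.not_conj (c * g) (eq_of_card_eq ?_ (by rw [card_cj, hcard]))
  rw [cj_mul]
  exact hc.trans hPX

theorem Amal.nml (h : Amal W X R R' q) (hz : z ∈ W ⊓ X) (hR : z ∉ R') :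
    C{z} ≤ N[W ⊔ Od[C{z}]] := by
  have hSH := h.leC hz
  have hWH : W ≤ C{z} := le_sup_left.trans hSH
  have hXH : X ≤ C{z} := le_sup_right.trans hSH
  have hS : Syl 2 C{z} (W ⊔ X) := h.syl.of_le hSH le_top
  obtain ⟨Q, _, _, f, hf⟩ := H8.PC.exists_quo (pcore_nml ({2}ᶜ : Set ℕ) C{z})
  have hO := hf.Od_eq_bot
  have hS' : Syl 2 ⊤ (img f (W ⊔ X)) := hf.img_top ▸ hS.img f le_rfl
  have back : ∀ A B : Subgroup G, A ≤ W ⊔ X → B ≤ W ⊔ X → img f A ≤ img f B → A ≤ B :=
    fun A B hA hB e => by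
      have h1 := le_inf ((hf.le_iff (hA.trans hSH) (hB.trans hSH)).1 e) hA
      rwa [← group_modl' ((hB.trans hSH).trans hf.nml.norm) hB,
        (Od_odd _).inf_eq_bot' hS.pi, sup_bot_eq] at h1
  have hea : ∀ A : Subgroup G, A ≤ C{z} → EA A → EA (img f A) := fun A hA he =>
    ea_of_sq fun y hy => by
      obtain ⟨a, ha, rfl⟩ := (mem_img_of_le hA).1 hy
      rw [← ap_mul f (hA ha) (hA ha), he.sq ha, ap_one]
  have sW := (h.scl hz hR).quo hf
  have main : ⊤ ≤ N[img f W] := by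
    by_cases hzR : z ∈ R
    · obtain ⟨g, hg, hY⟩ := h.h.ex
      have hLR : X ⊔ cj g X ≤ C[R] := le_trans (sup_le (le_sup_right.trans (le_ncl _ _))
        ((cj_mono g le_sup_right).trans (cj_le_ncl hg))) h.h.cent_R
      have hLH : X ⊔ cj g X ≤ C{z} := hLR.trans (C_le_C1 hzR)
      have hLW : X ⊔ cj g X ≤ N[W] :=
        sup_le (le_sup_right.trans h.h.normW) (cj_le_of_mem (le_sup_right.trans h.h.normW) hg)
      have hRS : R ≤ W ⊔ X := (h.h.leR.trans inf_le_left).trans le_sup_left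
      refine H26.CG.caseB (R := img f R) (z := ap f z) hO hS' (hea W hWH h.h.ea) sW
        (img_mono f le_sup_left) (img_norm f hLW) (img_cent f hLR)
        (fun e => h.h.not_le ((back W R le_sup_left hRS e).trans (h.h.leR.trans inf_le_right)))
        (fun U hU hn => ?_) (fun t ht hc => ?_) (ap_mem_img f hz.1 (hWH hz.1)) (fun e => ?_) ?_
      · have e : img f (W ⊓ pre f U) = U := by rw [img_inf_pre, inf_eq_right.2 hU]
        refine (h.h.irr hg hY inf_le_left (norm_inf hLW (norm_pre hLH hn))).imp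
          (fun e2 => e ▸ img_mono f e2) fun e2 => by rw [← e, e2]
      · obtain ⟨t, ht', rfl⟩ := (mem_img_of_le hSH).1 ht
        refine ap_mem_img f ?_ (hSH ht')
        rw [← img_zpowers f (hSH ht'), ← img_comm f hWH (zpowers_le.2 (hSH ht'))] at hc
        have h1 := back _ _ (comm_le_of_le le_sup_left (zpowers_le.2 ht')) hRS hc
        obtain ⟨w, hw, x, hx, rfl⟩ := h.h.mem_sup.1 ht'
        obtain ⟨v, hv, hvX⟩ := SetLike.not_le_iff_exists.1 h.h.not_le
        refine mul_mem hw ((h.h.nd v hv x hx ?_).resolve_left hvX)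
        have h2 := h1 (commutator_mem_commutator hv (mem_zpowers _))
        have h3 : ⁅v, x⁆ ∈ W := (h.h.comm.le (commutator_mem_commutator hv hx)).1
        have e : ⁅v, w * x⁆ = ⁅v, x⁆ := by
          have e1 : ⁅v, w * x⁆ = ⁅v, w⁆ * (w * ⁅v, x⁆ * w⁻¹) := by
            simp only [commutatorElement_def]; group
          rw [e1, commutatorElement_eq_one_iff_mul_comm.2 (h.h.ea.comm hv hw), one_mul,
            conj_eq_of_mem_C (h.h.ea.le_C hw) h3]
        rwa [e] at h2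
      · refine hR ?_
        have h1 : z ∈ Od[C{z}] ⊓ (W ⊔ X) := ⟨(hf.eq_one (self_mem_C1 z)).1 e, mem_sup_left hz.1⟩
        rw [(Od_odd _).inf_eq_bot' hS.pi, mem_bot] at h1
        rw [h1]; exact one_mem _
      · rw [← hf.img_top]; exact img_cent1 f le_rfl (self_mem_C1 z)
    · have sX := (h.symm.scl ⟨hz.2, hz.1⟩ hzR).quo hf
      rw [img_sup f hWH hXH] at hS'
      refine H26.CG.caseA hO hS' (hea W hWH h.h.ea) (hea X hXH h.h.eaX) sW sX ?_ ?_
      · rw [← img_comm f hWH hXH, h.h.comm]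
        rintro y ⟨h1, h2⟩
        obtain ⟨w, hw, rfl⟩ := (mem_img_of_le hWH).1 h1
        refine ap_mem_img f ⟨hw, back _ X (zpowers_le.2 (mem_sup_left hw)) le_sup_right ?_
          (mem_zpowers w)⟩ (hWH hw)
        rw [img_zpowers f (hWH hw)]
        exact zpowers_le.2 h2
      · rintro y ⟨h1, h2⟩
        obtain ⟨w, hw, rfl⟩ := (mem_img_of_le hWH).1 h1
        refine ap_mem_img f (h.h.centX.le ⟨mem_sup_left hw, ?_⟩) (hWH hw)
        refine comm_eq_bot.1 (eq_bot_of_le rfl (back _ ⊥ (comm_le_of_le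
          (zpowers_le.2 (mem_sup_left hw)) le_sup_right) bot_le ?_)) (mem_zpowers w)
        rw [img_comm f (zpowers_le.2 (hWH hw)) hXH, img_zpowers f (hWH hw),
          comm_eq_bot.2 (zpowers_le.2 h2)]
        exact bot_le
  rw [← hf.pre_img hWH]
  exact (hf.pre_nml_top main).norm

end H2.C2
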