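import Mathlib
import Cfsg.Agent.H2.CDefs
import Cfsg.Agent.H2.CG1
import Cfsg.Agent.H25.Dich

set_option autoImplicit false
set_option linter.unusedVariables false
set_option linter.unusedSectionVars false

namespace H2.C2

open Cfsg H24 H26 H26.Gold Subgroup
open scoped commutatorElement

universe u

variable {G : Type u} [Group G] [Finite G]
  {A B D E H K L M N0 P P' Q Q' R R' S T T' U W X a a' b b' b'' v : Subgroup G}
  {g k n o s t x y z : G} {q : ℕ}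

/-! ### CG1b -/

private theorem c2_rel (h : IsCharacteristicTwoType G) (hT : TwoG T) (h1 : T ≠ ⊥) :
    N[T] ⊓ C[O[{2}, N[T]]] ≤ O[{2}, N[T]] := by
  intro x hx
  have h2 := h.2 T (hT.isPGroup Nat.prime_two) h1
  rw [pcore_singleton Nat.prime_two] at hx ⊢
  refine ⟨⟨x, hx.1⟩, h2 (mem_centralizer_iff.2 fun y hy => Subtype.ext ?_), rfl⟩
  exact mem_C.1 hx.2 y ⟨y, hy, rfl⟩

private theorem c2_Od (h : IsCharacteristicTwoType G) (hz : z * z = 1) (h1 : z ≠ 1) :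
    Od[C{z}] = ⊥ := by
  have h2 := c2_rel h (twoE_of_sq hz).isPi (ne_bot_of_mem (mem_zpowers z) h1)
  have h3 : Od[C{z}] ≤ Od[N[zpowers z]] := C_zpowers z ▸ (C_nml_N (zpowers z)).pcore_le _
  have h4 : Od[N[zpowers z]] ≤ O[{2}, N[zpowers z]] :=
    (le_inf (pcore_nml _ _).le (pcore_compl_cent_pcore _ _)).trans h2
  exact eq_bot_of_le (pcore_inf_pcore_compl {2} _ _) (le_inf (h3.trans h4) h3)

private theorem Amal.no_comp (h : Amal W X R R' q) (hz : z ∈ W ⊓ X) (hR : z ∉ R') :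
    ¬ HasComponent (↥C{z} ⧸ oddCore ↥C{z}) := by
  rintro ⟨K, hK⟩
  have hSH : W ⊔ X ≤ C{z} := mem_C_iff_le_C1.1 (h.h.center.ge hz).2
  have hWH : W ≤ C{z} := le_sup_left.trans hSH
  set f : C{z} →* ↥C{z} ⧸ oddCore ↥C{z} := QuotientGroup.mk' _
  have hf : H8.PC.Quo f Od[C{z}] := by
    refine ⟨QuotientGroup.mk'_surjective _, ?_⟩
    rw [pcore_compl_singleton Nat.prime_two]
    ext x
    rw [mem_pre_bot]
    refine ⟨fun ⟨h1, h2⟩ => ?_, ?_⟩
    · rw [ap_of_mem _ h1] at h2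
      exact ⟨⟨x, h1⟩, (QuotientGroup.eq_one_iff _).1 h2, rfl⟩
    · rintro ⟨y, hy, rfl⟩
      exact ⟨y.2, by rw [coe_subtype, ap_coe]; exact (QuotientGroup.eq_one_iff _).2 hy⟩
  have hS : Syl 2 C{z} (W ⊔ X) := h.syl.of_le hSH le_top
  have hS' : Syl 2 ⊤ (img f (W ⊔ X)) := hf.img_top ▸ hS.img f le_rfl
  have hn : ⊤ ≤ N[img f W] := by
    have := img_norm f (h.nml hz hR)
    rwa [hf.img_top, ← hf.ker, img_sup_ker f hWH] at this
  have hV : Abl (img f W) := h.h.ea.abl.img f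
  have h1 : K ≤ C[img f W] := comm_eq_bot.1
    (H23.IsComponent.comm_of_solvable hK hV.sol (le_top.trans hn))
  have h2 : img f (W ⊔ X) ⊓ C[img f W] = img f W := by
    refine le_antisymm ?_ (le_inf (img_mono f le_sup_left) hV.le_C)
    rintro y ⟨hy, hc⟩
    obtain ⟨s, hs, rfl⟩ := (mem_img_of_le hSH).1 hy
    refine ap_mem_img f (h.h.centW.le ⟨hs, ?_⟩) (hSH hs)
    refine comm_eq_bot.1 (eq_bot_of_le ((Od_odd C{z}).inf_eq_bot' hS.pi) (le_inf ?_
      (comm_le_of_le (zpowers_le.2 hs) le_sup_left))) (mem_zpowers s)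
    rw [← hf.ker, comm_le_ker (zpowers_le.2 (hSH hs)) hWH, img_zpowers f (hSH hs)]
    exact zpowers_le.2 hc
  have h3 : Syl 2 C[img f W] (img f W) := by
    have := hS'.inf_nml (K := C[img f W]) ⟨le_top, norm_C hn⟩
    rwa [h2] at this
  have h4 : Syl 2 K (img f W ⊓ K) := h3.nml_inf (C_le_N _) h1
  have h5 := transfer_center h4
  have hp := H23.IsComponent.perfect hK
  rw [der1_eq_bot.2 (hV.of_le inf_le_left), hp] at h5
  have h6 : img f W ⊓ K = ⊥ := eq_bot_of_le rfl (le_trans (le_inf (le_inf le_rfl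
    (inf_le_left.trans (cents_symm h1))) (inf_le_right.trans le_sup_left)) h5)
  exact H23.IsComponent.ne_bot hK (perfect_eq_bot hp (OddG.sol (h4.isPi_compl_of_eq_bot h6)))

private theorem Amal.char2 [IsSimpleGroup G] (h : Amal W X R R' q) (h4 : 4 ≤ q) :
    IsCharacteristicTwoType G := by
  have hW : 16 ≤ ♯W := by
    rw [h.h.cardW]
    nlinarith [card_pos R]
  have hW1 : W ≠ ⊥ := fun e => by rw [e, card_bot] at hW; omega
  have h2 : 2 ∣ ♯W := h.h.ea.two.dvd_card hW1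
  refine ((H25.Sg.dichotomy (even_iff_two_dvd.2 (h2.trans (card_subgroup_dvd_card W)))
    (fun N hN e => ?_) ?_).resolve_left fun e => ?_).resolve_left ?_
  · rcases hN.eq_bot_or_eq_top with rfl | rfl
    · rw [index_bot] at e
      have := card_le_card_group W
      omega
    · simp at e
  · rw [← H8.PC.Od_top_eq]
    refine (nml_top_iff.1 (pcore_nml _ ⊤)).eq_bot_or_eq_top.resolve_right fun e => hW1 ?_
    exact h.h.ea.two.eq_bot ((Od_odd ⊤).of_le (le_top.trans e.ge))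
  · have := e W h.h.ea.abl fun a ha => by rw [pow_two, h.h.ea.sq ha]
    omega
  · rintro ⟨t, ht, hc⟩
    obtain ⟨g, hg⟩ := h.conj_Y (H6.mul_self_of_orderOf_two ht)
    have h' := h.conj g⁻¹
    have h1 : t ∈ cj g⁻¹ W ⊓ cj g⁻¹ X := by rw [← cj_inf, mem_cj, inv_inv]; exact hg
    by_cases e : t ∈ cj g⁻¹ R'
    · exact h'.symm.no_comp ⟨h1.2, h1.1⟩
        (fun e2 => H6.ne_one_of_orderOf_two ht (mem_bot.1 (h'.RR.le ⟨e2, e⟩))) hc
    · exact h'.no_comp h1 e hc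

private theorem Amal.cz (h : Amal W X R R' q) (c2 : IsCharacteristicTwoType G) (hz : z ∈ W ⊓ X)
    (hR : z ∉ R') : C{z} ≤ N[W] := by
  have := h.nml hz hR
  rwa [c2_Od c2 (h.h.ea.sq hz.1) (fun e => hR (e ▸ one_mem _)), sup_bot_eq] at this

private theorem Amal.ca (h : Amal W X R R' q) (c2 : IsCharacteristicTwoType G) : C[W] ≤ W := by
  have h1 : O[{2}, N[W]] ≤ W := h.O2_le (pcore_pi _ _) (pcore_nml _ _)
  exact ((le_inf (C_le_N W) (C_anti h1)).trans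
    (c2_rel c2 h.h.ea.two fun e => h.h.not_le (e ▸ bot_le))).trans h1

private theorem Amal.cM (h : Amal W X R R' q) (c2 : IsCharacteristicTwoType G) (ht : t ∈ W)
    (h1 : t ≠ 1) : C{t} ≤ N[W] ⊔ N[X] := by
  have key : ∀ y ∈ W ⊓ X, y ≠ 1 → C{y} ≤ N[W] ⊔ N[X] := fun y hy hy1 => by
    by_cases e : y ∈ R'
    · exact (h.symm.cz c2 ⟨hy.2, hy.1⟩ fun e2 => hy1 (mem_bot.1 (h.RR.le ⟨e2, e⟩))).trans
        le_sup_right
    · exact (h.cz c2 hy e).trans le_sup_left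
  obtain ⟨g, hg, hY⟩ := h.h.ex
  rcases h.h.cover hg hY ht with h2 | ⟨x, hx, h2⟩
  · exact key t ⟨ht, h2⟩ h1
  · obtain ⟨y, hy, rfl⟩ := mem_cj'.1 h2
    rw [← cj_C1]
    exact cj_le_of_mem (key y hy fun e => h1 (by rw [e]; group))
      (mem_sup_left (mul_mem (h.h.normW (mem_sup_right hx)) hg))

theorem Amal.geo [IsSimpleGroup G] (h : Amal W X R R' q) (h4 : 4 ≤ q) : Geo q W X := by
  have c2 := h.char2 h4
  refine ⟨h.Rt_eq.symm ▸ h.symm.Rt_eq.symm ▸ h, h4, h.ca c2, h.symm.ca c2,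
    fun z hz hR => h.cz c2 hz (h.symm.Rt_eq ▸ hR),
    fun z hz hR => h.symm.cz c2 ⟨hz.2, hz.1⟩ (h.Rt_eq ▸ hR), ?_⟩
  by_contra hM
  obtain ⟨w, hw, hwX⟩ := SetLike.not_le_iff_exists.1 h.h.not_le
  obtain ⟨M, hM⟩ := (scl_syl h.syl).bender
    (ne_bot_of_mem (mem_sup_left hw) fun e => hwX (e ▸ one_mem _)) hM fun t ht h1 h2 => by
      rcases h.h.inv_mem ht h2 with e | e
      · exact h.cM c2 e h1
      · exact sup_comm N[X] N[W] ▸ h.symm.cM c2 e h1
  exact hwX (h.h.center.le ⟨mem_sup_left hw,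
    se_central hM h.syl.pi (mem_sup_left hw) (h.h.ea.sq hw)⟩).2

end H2.C2
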