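import Mathlib
import Cfsg.Agent.H2.CDefs
import Cfsg.Agent.H2.CHB
import Cfsg.Agent.H2.CAm
import Cfsg.Agent.H6.Dihedral

set_option autoImplicit false
set_option linter.unusedVariables false
set_option linter.unusedSectionVars false

namespace H2.C2

open Cfsg H24 H26 H26.Gold Subgroup
open scoped commutatorElement

universe u

variable {G : Type u} [Group G] [Finite G]
  {A B D E H K L M N0 P P' Q Q' R R' S T T' U W X a a' b b' b'' v : Subgroup G}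
  {g k n o s t x y z : G} {q : ℕ}

/-! ### CG2 -/

theorem Geo.symm (h : Geo q a b) : Geo q b a :=
  ⟨h.am.symm, h.four, h.cb, h.ca, fun z hz => h.czb z ⟨hz.2, hz.1⟩,
    fun z hz => h.cza z ⟨hz.2, hz.1⟩, sup_comm N[a] N[b] ▸ h.gen⟩

theorem Geo.conj (h : Geo q a b) (g : G) : Geo q (cj g a) (cj g b) := by
  have key : ∀ {c d : Subgroup G}, (∀ z ∈ a ⊓ b, z ∉ Rt c → C{z} ≤ N[d]) →
      ∀ z ∈ cj g a ⊓ cj g b, z ∉ Rt (cj g c) → C{z} ≤ N[cj g d] := fun hc z hz h1 => by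
    rw [← cj_inf] at hz
    obtain ⟨y, hy, rfl⟩ := mem_cj'.1 hz
    rw [← cj_Rt, conj_mem_cj_iff] at h1
    rw [← cj_C1, ← cj_N]
    exact cj_mono g (hc y hy h1)
  refine ⟨cj_Rt g a ▸ cj_Rt g b ▸ h.am.conj g, h.four, cj_C g a ▸ cj_mono g h.ca,
    cj_C g b ▸ cj_mono g h.cb, key h.cza, key h.czb, ?_⟩
  rw [← cj_N, ← cj_N, ← cj_sup, h.gen, cj_top]

theorem Geo.ne (h : Geo q a b) : a ≠ b := fun e => h.am.h.not_le e.le
theorem Geo.not_conj (h : Geo q a b) (g : G) : cj g a ≠ b := h.am.not_conj g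
theorem Geo.nb (h : Geo q a b) (hk : k ∈ N[a]) : Geo q a (cj k b) := by
  have := h.conj k
  rwa [cj_of_mem_N hk] at this

theorem Geo.ea (h : Geo q a b) : EA a := h.am.h.ea
theorem Geo.ea' (h : Geo q a b) : EA b := h.am.h.eaX
theorem Geo.card_adj (h : Geo q a b) : ♯b = ♯a := h.am.h.cardX.trans h.am.h.cardW.symm

/-- all vertices have the same order -/
theorem Geo.card_eq (h : Geo q a b) (h' : Geo q a' b') : ♯a' = ♯a := by
  have h1 := h.am.syl.card_eq h'.am.syl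
  rw [h.am.h.cardE, h'.am.h.cardE] at h1
  have hq : 0 < q ^ 3 := pow_pos (by have := h.four; omega) 3
  rw [h.am.h.cardW, h'.am.h.cardW, Nat.eq_of_mul_eq_mul_left hq h1]

/-- a vertex inside a flag group is one of its two vertices -/
theorem Geo.eq_or (h : Geo q a b) (hv : Geo q v a') (hle : v ≤ a ⊔ b) : v = a ∨ v = b :=
  h.am.h.eq_or hv.ea hle (h.card_eq hv)

theorem Geo.trans (h : Geo q a b) (h' : Geo q a b') : ∃ k ∈ N[a], cj k b = b' := by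
  obtain ⟨k, hk, e⟩ := h.am.syl_over h'.am.syl le_sup_left
  rw [cj_sup, cj_of_mem_N hk] at e
  exact ⟨k, hk, (((h.nb hk).eq_or h'.symm (e ▸ le_sup_right)).resolve_left h'.ne.symm).symm⟩

theorem Geo.le_norm (h : Geo q a b) : a ≤ N[b] := le_sup_left.trans h.am.h.normX
theorem Geo.norm (h : Geo q a b) : N[a ⊔ b] = N[a] ⊓ N[b] :=
  le_antisymm h.am.norm (norm_sup inf_le_left inf_le_right)
theorem Geo.Rt_le (h : Geo q a b) : Rt a ≤ a ⊓ b := h.am.h.leR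

theorem Geo.exists_gen (h : Geo q a b) :
    ∃ z ∈ a ⊓ b, ∃ z' ∈ a ⊓ b, z ≠ z' ∧ z ∉ Rt a ∧ z ∉ Rt b ∧ z' ∉ Rt a ∧ z' ∉ Rt b := by
  have h1 : ((a ⊓ b : Subgroup G) : Set G).ncard = q * ♯(Rt a) := h.am.h.cardY
  have h2 : (Rt a : Set G).ncard = ♯(Rt a) := rfl
  have h3 : (Rt b : Set G).ncard = ♯(Rt a) := h.am.cardR.1
  have h4 := Set.ncard_union_le (Rt a : Set G) (Rt b : Set G)
  have h5 := Set.le_ncard_sdiff ((Rt a : Set G) ∪ Rt b) ((a ⊓ b : Subgroup G) : Set G)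
  have h6 := card_pos (Rt a)
  have h7 : 4 * ♯(Rt a) ≤ q * ♯(Rt a) := Nat.mul_le_mul_right _ h.four
  obtain ⟨z, hz, z', hz', hne⟩ := (Set.one_lt_ncard (s := ((a ⊓ b : Subgroup G) : Set G) \
    ((Rt a : Set G) ∪ Rt b))).1 (by omega)
  exact ⟨z, hz.1, z', hz'.1, hne, fun e => hz.2 (Or.inl e), fun e => hz.2 (Or.inr e),
    fun e => hz'.2 (Or.inl e), fun e => hz'.2 (Or.inr e)⟩

theorem Geo.cj_Y (h : Geo q a b) (hk : k ∈ N[a]) : cj k (a ⊓ b) = a ⊓ cj k b := by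
  rw [cj_inf, cj_of_mem_N hk]

/-- a neighbour is determined by its edge group -/
theorem Geo.eq_of_Y (h : Geo q a b) (h' : Geo q a b') (e : a ⊓ b = a ⊓ b') : b = b' := by
  obtain ⟨k, hk, rfl⟩ := h.trans h'
  have h1 := h.am.h.fix k hk (by rw [h.cj_Y hk, e])
  exact ((h.eq_or h'.symm (h1.trans (sup_le le_sup_right (h.ca.trans le_sup_left)))).resolve_left
    h'.ne.symm).symm

theorem Geo.Y_ne (h : Geo q a b) (hk : k ∈ N[a]) (hne : cj k b ≠ b) : cj k (a ⊓ b) ≠ a ⊓ b :=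
  fun e => hne ((h.nb hk).eq_of_Y h (by rw [← h.cj_Y hk, e]))

theorem Geo.inf_eq (h : Geo q a b) (h' : Geo q a b') (hne : b ≠ b') : b ⊓ b' = Rt a := by
  obtain ⟨k, hk, rfl⟩ := h.trans h'
  have h1 := (h.am.h.mov k hk (h.Y_ne hk hne.symm)).1
  rw [h.cj_Y hk] at h1
  refine le_antisymm (fun x hx => ?_) (h1.ge.trans fun x hx => ⟨hx.2.2, hx.1.2⟩)
  obtain ⟨w, hw, hwb⟩ := SetLike.not_le_iff_exists.1 h.am.h.not_le
  have h2 : x ∈ a := (h.am.h.nd w hw x hx.1 (h1.le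
    ⟨h'.am.h.comm.le (commutator_mem_commutator hw hx.2),
      h.am.h.comm.le (commutator_mem_commutator hw hx.1)⟩)).resolve_left hwb
  exact h1.le ⟨⟨h2, hx.2⟩, h2, hx.1⟩

theorem Geo.sup_eq (h : Geo q a b) (h' : Geo q a b') (hne : b ≠ b') : (a ⊓ b) ⊔ (a ⊓ b') = a := by
  obtain ⟨k, hk, rfl⟩ := h.trans h'
  have h1 := (h.am.h.mov k hk (h.Y_ne hk hne.symm)).2
  rwa [h.cj_Y hk, sup_comm] at h1

theorem Geo.cover (h : Geo q a b) (hx : x ∈ a) : ∃ b', Geo q a b' ∧ x ∈ b' := by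
  obtain ⟨g, hg, hY⟩ := h.am.h.ex
  rcases h.am.h.cover hg hY hx with h1 | ⟨y, hy, h1⟩
  · exact ⟨b, h, h1⟩
  · exact ⟨_, h.nb (mul_mem (h.symm.le_norm hy) hg), cj_mono _ inf_le_right h1⟩

theorem Geo.free (h : Geo q a b) (h' : Geo q a b') (n' : b' ≠ b) (hx : x ∈ a ⊔ b)
    (he : x ∈ N[b']) : x ∈ a := by
  obtain ⟨w, hw, y, hy, rfl⟩ := h.am.h.mem_sup.1 hx
  have h1 : y ∈ N[b'] := (mul_mem_cancel_left (h'.le_norm hw)).1 he
  obtain ⟨k, hk, rfl⟩ := h.trans h'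
  refine mul_mem hw (h.am.h.free hk (h.Y_ne hk n') hy ?_)
  rw [cj_mul, h.cj_Y hk, cj_inf, cj_of_mem_N h1, cj_of_mem_N (h.symm.le_norm hy)]

theorem Geo.exists_nb (h : Geo q a b) : ∃ c, Geo q a c ∧ c ≠ b := by
  obtain ⟨g, hg, hY⟩ := h.am.h.ex
  exact ⟨_, h.nb hg, fun e => hY (by rw [h.cj_Y hg, e])⟩

theorem Geo.other (h : Geo q a b) (b' b'' : Subgroup G) :
    ∃ c, Geo q a c ∧ c ≠ b ∧ c ≠ b' ∧ c ≠ b'' := by
  obtain ⟨c, hc, hcb⟩ := h.exists_nb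
  obtain ⟨x, hx, hxa⟩ := SetLike.not_le_iff_exists.1 h.am.h.not_ge
  have hn : ¬ b ≤ (a ⊓ b) ⊔ zpowers x := fun e => by
    have h1 := card_le e
    have h2 := (isProd_sup (A := a ⊓ b) (B := zpowers x)
      (h.ea'.abl.norm (zpowers_le.2 hx) inf_le_right)).card_dvd
    have h3 : ♯(zpowers x) ≤ 2 := by
      rw [card_zpowers']
      exact Nat.le_of_dvd two_pos (orderOf_dvd_of_pow_eq_one (by rw [pow_two, h.ea'.sq hx]))
    have h4 := Nat.le_of_dvd (Nat.mul_pos (card_pos _) (card_pos _)) h2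
    rw [h.am.h.cardY] at h4
    rw [h.am.h.cardX] at h1
    have h5 := card_pos (Rt a)
    have h6 := h.four
    have h7 : q * ♯(Rt a) * ♯(zpowers x) ≤ q * ♯(Rt a) * 2 := Nat.mul_le_mul_left _ h3
    have h8 : q * ♯(Rt a) * 4 ≤ q ^ 2 * ♯(Rt a) := by nlinarith [Nat.mul_pos (by omega : 0 < q) h5]
    nlinarith [Nat.mul_pos (by omega : 0 < q) h5]
  obtain ⟨y, hy, hya⟩ := SetLike.not_le_iff_exists.1 hn
  have k1 : ∀ u ∈ b, Geo q a (cj u c) ∧ cj u c ≠ b := fun u hu =>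
    ⟨hc.nb (h.symm.le_norm hu), fun e => hcb (by rw [cj_eq_iff, cj_of_mem (b.inv_mem hu)] at e; exact e)⟩
  have k2 : ∀ u ∈ b, ∀ w ∈ b, cj u c = cj w c → w⁻¹ * u ∈ a ⊓ b := fun u hu w hw e =>
    ⟨h.free hc hcb (mem_sup_right (mul_mem (inv_mem hw) hu)) (cj_eq_cj_iff.1 e),
      b.mul_mem (b.inv_mem hw) hu⟩
  have d1 : cj x c ≠ cj 1 c := fun e => hxa (by simpa using (k2 x hx 1 (one_mem _) e).1)
  have d2 : cj y c ≠ cj 1 c := fun e => hya (mem_sup_left (by simpa using k2 y hy 1 (one_mem _) e))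
  have d3 : cj y c ≠ cj x c := fun e => hya (by
    simpa using mul_mem (mem_sup_right (mem_zpowers x)) (mem_sup_left (T := zpowers x) (k2 y hy x hx e)))
  by_contra hne
  push Not at hne
  have a1 := hne _ (k1 1 (one_mem _)).1 (k1 1 (one_mem _)).2
  have a2 := hne _ (k1 x hx).1 (k1 x hx).2
  have a3 := hne _ (k1 y hy).1 (k1 y hy).2
  generalize cj 1 c = c1, cj x c = c2, cj y c = c3 at *
  by_cases e1 : c1 = b'
  · exact d3 ((a3 fun e => d2 (e.trans e1.symm)).trans (a2 fun e => d1 (e.trans e1.symm)).symm)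
  · by_cases e2 : c2 = b'
    · exact d2 ((a3 fun e => d3 (e.trans e2.symm)).trans (a1 e1).symm)
    · exact d1 ((a2 e2).trans (a1 e1).symm)

theorem Geo.reg (h : Geo q a b) (h' : Geo q a b') (h'' : Geo q a b'') (n' : b' ≠ b) (n'' : b'' ≠ b)
    (hU : b ≤ U ⊔ (a ⊓ b)) (hU' : U ≤ b) : ∃ x ∈ U, cj x b' = b'' := by
  obtain ⟨g, hg, rfl⟩ := h.trans h'
  obtain ⟨k, hk, rfl⟩ := h.trans h''
  obtain ⟨x, hx, e⟩ := h.am.h.trans hg (h.Y_ne hg n') hk (h.Y_ne hk n'')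
  have hxg := mul_mem (h.symm.le_norm hx) hg
  rw [h.cj_Y hk, h.cj_Y hxg] at e
  have e2 := h''.eq_of_Y (h.nb hxg) e
  obtain ⟨u, hu, y, hy, rfl⟩ := (mem_sup_of_norm (h.ea'.abl.norm inf_le_right hU')).1 (hU hx)
  refine ⟨u, hu, ?_⟩
  rw [e2, cj_mul, cj_mul, cj_of_mem_N (h'.le_norm hy.1)]

theorem Geo.two_le (h : Geo q a b) (hP : TwoG P) (hn : P ≤ N[a] ⊓ N[b]) : P ≤ a ⊔ b :=
  h.am.syl.le_of_norm hP le_top (h.norm ▸ hn)

theorem Geo.two_norm (h : Geo q a b) (hP : TwoG P) (hn : P ≤ N[a]) :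
    ∃ b', Geo q a b' ∧ P ≤ a ⊔ b' := by
  obtain ⟨k, hk, e⟩ := Sylow_subJ Nat.prime_two (h.am.syl.of_le h.am.h.normW le_top) hP hn
  rw [cj_sup, cj_of_mem_N hk] at e
  exact ⟨_, h.nb hk, e⟩

theorem Geo.two_mem (h : Geo q a b) (h' : Geo q a b') (hne : b ≠ b') (hx : TwoE x)
    (hn : x ∈ N[a] ⊓ N[b] ⊓ N[b']) : x ∈ a :=
  h.free h' hne.symm (h.two_le hx.isPi (zpowers_le.2 hn.1) (mem_zpowers x)) hn.2

theorem Geo.inv_fix (h : Geo q a b) (ht : t * t = 1) (hn : t ∈ N[a]) :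
    t ∈ a ∨ ∃ b', Geo q a b' ∧ t ∈ b' := by
  obtain ⟨b', h', e⟩ := h.two_norm (twoE_of_sq ht).isPi (zpowers_le.2 hn)
  exact (h'.am.h.inv_mem (e (mem_zpowers t)) ht).imp_right fun h1 => ⟨b', h', h1⟩

/-- vertices through a generic involution (`v` is a vertex: it has a neighbour) -/
theorem Geo.mem0 (h : Geo q a b) (hz : z ∈ a ⊓ b) (h1 : z ∉ Rt a) (h2 : z ∉ Rt b)
    (hv : Geo q v a') (hzv : z ∈ v) : v = a ∨ v = b :=
  h.eq_or hv (h.two_le hv.ea.two ((mem_C_iff_le_C1.1 (hv.ea.le_C hzv)).trans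
    (le_inf (h.cza z hz h2) (h.czb z hz h1))))

theorem Geo.not_mem_Rt (h : Geo q a b) (hz : z ∈ Rt a) (h1 : z ≠ 1) : z ∉ Rt b := fun e =>
  h1 (mem_bot.1 (h.am.RR.le ⟨hz, e⟩))

theorem Geo.C_le_of_Rt (h : Geo q a b) (hz : z ∈ Rt a) (h1 : z ≠ 1) : C{z} ≤ N[a] :=
  h.cza z (h.Rt_le hz) (h.not_mem_Rt hz h1)

theorem Geo.memR (h : Geo q a b) (hz : z ∈ Rt a) (h1 : z ≠ 1) (hv : Geo q v a') (hzv : z ∈ v) :
    v = a ∨ Geo q a v := by
  obtain ⟨b', h', e⟩ := h.two_norm hv.ea.two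
    ((mem_C_iff_le_C1.1 (hv.ea.le_C hzv)).trans (h.C_le_of_Rt hz h1))
  exact (h'.eq_or hv e).imp_right fun (e : v = b') => e ▸ h'

/-- every flag is conjugate to `(a, b)` or `(b, a)` -/
theorem Geo.flag (h : Geo q a b) (h' : Geo q a' b') :
    ∃ g, (cj g a = a' ∧ cj g b = b') ∨ (cj g a = b' ∧ cj g b = a') := by
  obtain ⟨g, -, e⟩ := Sylow_trans Nat.prime_two h.am.syl h'.am.syl
  rw [cj_sup] at e
  have h1 := h'.eq_or (h.conj g) (e ▸ le_sup_left)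
  have h2 := h'.eq_or (h.conj g).symm (e ▸ le_sup_right)
  have h3 := (h.conj g).ne
  refine ⟨g, ?_⟩
  grind

theorem Geo.exists_edge (h : Geo q a b) (ht : t * t = 1) : ∃ a' b', Geo q a' b' ∧ t ∈ a' ⊓ b' := by
  obtain ⟨g, hg⟩ := h.am.conj_Y ht
  refine ⟨_, _, h.conj g⁻¹, ?_⟩
  rw [← cj_inf, mem_cj, inv_inv]
  exact hg

theorem Geo.no_tri (h1 : Geo q a b) (h2 : Geo q b v) (h3 : Geo q v a) : False := by
  obtain ⟨k, -, e⟩ := h2.trans h1.symm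
  exact h3.not_conj k e

theorem Geo.digon (h1 : Geo q a b) (h2 : Geo q a b') (h3 : Geo q a' b) (h4 : Geo q a' b')
    (hne : b ≠ b') : a = a' := by
  obtain ⟨z, hz, -, -, -, z1, z2, -⟩ := h1.exists_gen
  have h5 := h4.two_le (twoE_of_sq (h1.ea.sq hz.1)).isPi
    (zpowers_le.2 ⟨h3.symm.le_norm hz.2, h2.le_norm hz.1⟩) (mem_zpowers z)
  rcases h4.am.h.inv_mem h5 (h1.ea.sq hz.1) with h6 | h6
  · exact ((h1.mem0 hz z1 z2 h3 h6).resolve_right h3.ne).symm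
  · rcases h1.mem0 hz z1 z2 h2.symm h6 with e | e
    · exact absurd e.symm h2.ne
    · exact absurd e.symm hne

theorem Geo.C_gen (h : Geo q a b) (hz : z ∈ a ⊓ b) (h1 : z ∉ Rt a) (h2 : z ∉ Rt b) :
    C{z} ≤ N[a] ⊓ N[b] := le_inf (h.cza z hz h2) (h.czb z hz h1)

theorem Geo.le_C1 (h : Geo q a b) (hz : z ∈ a ⊓ b) : a ⊔ b ≤ C{z} :=
  mem_C_iff_le_C1.1 (h.am.h.center.ge hz).2

/-- far flags are swapped by an involution -/
theorem Geo.far (h : Geo q a b) (h' : Geo q a' b') (hc : ∃ g, cj g a = a')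
    (hf : (a ⊔ b) ⊓ (a' ⊔ b') = ⊥) {z' : G} (hz : z ∈ a ⊓ b) (h1 : z ∉ Rt a) (h2 : z ∉ Rt b)
    (hz' : z' ∈ a' ⊓ b') (h1' : z' ∉ Rt a') (h2' : z' ∉ Rt b') :
    ∃ t, t * t = 1 ∧ t * z * t⁻¹ = z' ∧ cj t a = a' ∧ cj t b = b' := by
  have s1 := h.ea.sq hz.1
  have s2 := h'.ea.sq hz'.1
  have hodd : Odd (orderOf (z * z')) := by
    refine Nat.not_even_iff_odd.1 fun he => ?_
    obtain ⟨e1, e2, e3⟩ := H6.central_involution s1 s2 he
    have e4 := (twoE_of_sq (H6.mul_self_of_orderOf_two e1)).isPi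
    refine H6.ne_one_of_orderOf_two e1 (mem_bot.1 (hf.le ⟨?_, ?_⟩))
    · exact h.two_le e4 (zpowers_le.2 (h.C_gen hz h1 h2 (mem_C1.2 e2))) (mem_zpowers _)
    · exact h'.two_le e4 (zpowers_le.2 (h'.C_gen hz' h1' h2' (mem_C1.2 e3))) (mem_zpowers _)
  obtain ⟨m, hm⟩ := H6.exists_zpow_conj_of_odd s1 s2 hodd
  have ht : (z * z') ^ m * z * z * ((z * z') ^ m * z)⁻¹ = z' := Eq.trans (by group) hm
  have hle : cj ((z * z') ^ m * z) (a ⊔ b) ≤ a' ⊔ b' := h'.two_le (h.am.syl.pi.cj _)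
    (le_trans ((cj_mono _ (h.le_C1 hz)).trans (by rw [cj_C1, ht])) (h'.C_gen hz' h1' h2'))
  rw [cj_sup] at hle
  have a1 := h'.eq_or (h.conj _) (le_sup_left.trans hle)
  have a2 := h'.eq_or (h.conj _).symm (le_sup_right.trans hle)
  have a3 := (h.conj ((z * z') ^ m * z)).ne
  obtain ⟨g, rfl⟩ := hc
  have a4 := h'.not_conj ((z * z') ^ m * z * g⁻¹)
  rw [cj_mul, cj_inv_cj] at a4
  refine ⟨_, ?_, ht, a1.resolve_right a4, a2.resolve_left fun e => a3 ((a1.resolve_right a4).trans e.symm)⟩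
  rw [H6.zpow_mul_left s1 s2]
  exact H6.refl_mul_self s1 s2 _

theorem Geo.typ_adj (h : Geo q a b) : Rt a = ⊥ ↔ Rt b = ⊥ := by
  rw [← card_eq_one', ← card_eq_one', h.am.cardR.1]

theorem Geo.card_inf (h : Geo q a b) (hR : Rt a = ⊥) : ♯(a ⊓ b) = q := by
  rw [h.am.h.cardY, hR, card_bot, mul_one]

theorem Geo.card_Rt (h : Geo q a b) (hR : Rt a ≠ ⊥) : ♯(Rt a) = q ∧ Rt a ⊔ Rt b = a ⊓ b :=
  ⟨h.am.cardR.2.resolve_left hR, h.am.typ.resolve_left fun e => hR e.1⟩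

end H2.C2
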