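import Mathlib
import Cfsg.Agent.H2.CDefs
import Cfsg.Agent.H2.CG2

set_option autoImplicit false
set_option linter.unusedVariables false
set_option linter.unusedSectionVars false

namespace H2.C2

open Cfsg H24 H26 H26.Gold Subgroup
open scoped commutatorElement

universe u

variable {G : Type u} [Group G] [Finite G]
  {A B D E H K L M N0 P P' Q Q' R R' S T T' U W X a a' b b' b'' v : Subgroup G}
  {g k n o s t x y z : G} {q : ℕ}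

/-! ### CG3a -/

namespace G3

variable {c d v1 v2 v3 v4 v5 v6 x0 x1 x2 x3 x4 x5 : Subgroup G}

/-- all radicals are trivial -/
def Z0 (G : Type u) [Group G] (q : ℕ) : Prop := ∀ v v' : Subgroup G, Geo q v v' → Rt v = ⊥

theorem z0_of (h : Geo q a b) (hR : Rt a = ⊥) : Z0 G q := fun v v' hv => by
  obtain ⟨g, ⟨e, -⟩ | ⟨-, e⟩⟩ := h.flag hv
  · rw [← e, ← cj_Rt, hR, cj_bot]
  · rw [← e, ← cj_Rt, h.typ_adj.1 hR, cj_bot]

/-- a hexagon -/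
structure Hx (q : ℕ) (x0 x1 x2 x3 x4 x5 : Subgroup G) : Prop where
  a0 : Geo q x0 x1
  a1 : Geo q x1 x2
  a2 : Geo q x2 x3
  a3 : Geo q x3 x4
  a4 : Geo q x4 x5
  a5 : Geo q x5 x0
  n0 : x2 ≠ x0
  n1 : x3 ≠ x1
  n2 : x4 ≠ x2
  n3 : x5 ≠ x3
  n4 : x0 ≠ x4
  n5 : x1 ≠ x5

theorem Hx.conj (h : Hx q x0 x1 x2 x3 x4 x5) (g : G) :
    Hx q (cj g x0) (cj g x1) (cj g x2) (cj g x3) (cj g x4) (cj g x5) :=
  ⟨h.a0.conj g, h.a1.conj g, h.a2.conj g, h.a3.conj g, h.a4.conj g, h.a5.conj g,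
    cj_inj.not.2 h.n0, cj_inj.not.2 h.n1, cj_inj.not.2 h.n2, cj_inj.not.2 h.n3, cj_inj.not.2 h.n4,
    cj_inj.not.2 h.n5⟩

theorem Hx.rev (h : Hx q x0 x1 x2 x3 x4 x5) : Hx q x1 x0 x5 x4 x3 x2 :=
  ⟨h.a0.symm, h.a5.symm, h.a4.symm, h.a3.symm, h.a2.symm, h.a1.symm, h.n5.symm, h.n4.symm, h.n3.symm,
    h.n2.symm, h.n1.symm, h.n0.symm⟩

theorem Hx.pg (h : Hx q x0 x1 x2 x3 x4 x5) : ∃ w, Pg 6 q w ∧ w 0 = x0 ∧ w 1 = x1 := by
  refine ⟨fun i => if i % 6 = 0 then x0 else if i % 6 = 1 then x1 else if i % 6 = 2 then x2 else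
    if i % 6 = 3 then x3 else if i % 6 = 4 then x4 else x5, ⟨fun i => ?_, fun i => ?_, fun i => ?_⟩,
    by simp, by simp⟩
  · rw [show (i + 6) % 6 = i % 6 by omega]
  · rw [show (i + 1) % 6 = (i % 6 + 1) % 6 by omega]
    have : i % 6 = 0 ∨ i % 6 = 1 ∨ i % 6 = 2 ∨ i % 6 = 3 ∨ i % 6 = 4 ∨ i % 6 = 5 := by omega
    rcases this with e | e | e | e | e | e <;> rw [e] <;> norm_num
    exacts [h.a0, h.a1, h.a2, h.a3, h.a4, h.a5]
  · rw [show (i + 2) % 6 = (i % 6 + 2) % 6 by omega]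
    have : i % 6 = 0 ∨ i % 6 = 1 ∨ i % 6 = 2 ∨ i % 6 = 3 ∨ i % 6 = 4 ∨ i % 6 = 5 := by omega
    rcases this with e | e | e | e | e | e <;> rw [e] <;> norm_num
    exacts [h.n0, h.n1, h.n2, h.n3, h.n4, h.n5]

/-- two neighbours of a vertex are conjugate -/
theorem cjg (h : Geo q a b) (h' : Geo q a b') : ∃ g, cj g b = b' :=
  let ⟨g, _, e⟩ := h.trans h'; ⟨g, e⟩

/-- uniqueness of common neighbours -/
theorem uniq (h1 : Geo q b a) (h2 : Geo q a b') (h3 : Geo q b a') (h4 : Geo q a' b') (hne : b ≠ b') :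
    a = a' := h1.symm.digon h2 h3.symm h4 hne

theorem fix_mid (h1 : Geo q b a) (h2 : Geo q a b') (hne : b ≠ b') (e1 : g ∈ N[b]) (e2 : g ∈ N[b']) :
    g ∈ N[a] := by
  have h3 := h1.conj g
  have h4 := h2.conj g
  rw [cj_of_mem_N e1] at h3
  rw [cj_of_mem_N e2] at h4
  exact mem_N_iff_cj.2 (uniq h3 h4 h1 h2 hne)

/-- the vertices fixed by an involution -/
theorem exists_fx (hZ : Z0 G q) (h : Geo q v1 v2) (ht : t * t = 1) (h1 : t ≠ 1) (hn : t ∈ N[v1]) :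
    ∃ c d, Geo q c d ∧ Geo q d v1 ∧ ∀ v v', Geo q v v' → t ∈ N[v] → Geo q d v ∨ Geo q c v := by
  obtain ⟨c, d, hcd, hm⟩ := h.exists_edge ht
  have n1 : t ∉ Rt c := by rw [hZ c d hcd, mem_bot]; exact h1
  have n2 : t ∉ Rt d := by rw [hZ d c hcd.symm, mem_bot]; exact h1
  have key : ∀ v v', Geo q v v' → t ∈ N[v] → Geo q d v ∨ Geo q c v := fun v v' hv hn => by
    rcases hv.inv_fix ht hn with e | ⟨b', hb, e⟩
    · rcases hcd.mem0 hm n1 n2 hv e with rfl | rfl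
      · exact Or.inl hcd.symm
      · exact Or.inr hcd
    · rcases hcd.mem0 hm n1 n2 hb.symm e with rfl | rfl
      · exact Or.inr hb.symm
      · exact Or.inl hb.symm
  rcases key v1 v2 h hn with e | e
  · exact ⟨c, d, hcd, e, key⟩
  · exact ⟨d, c, hcd.symm, e, fun v v' hv hn => (key v v' hv hn).symm⟩

theorem eq_bot_of_inv (hP : TwoG P) (h : ∀ t ∈ P, t * t = 1 → t = 1) : P = ⊥ := by
  by_contra hne
  obtain ⟨x, hx, h1, h2⟩ := TwoG.exists_inv hP hne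
  exact h1 (h x hx h2)

theorem le_N (h : Geo q a b) : a ⊔ b ≤ N[a] ⊓ N[b] := h.norm ▸ norm_self _

theorem far4 (hZ : Z0 G q) (a1 : Geo q v1 v2) (a2 : Geo q v2 v3) (a3 : Geo q v3 v4) (a4 : Geo q v4 v5)
    (n1 : v1 ≠ v3) (n2 : v2 ≠ v4) (n3 : v3 ≠ v5) : (v1 ⊔ v2) ⊓ (v5 ⊔ v4) = ⊥ := by
  refine eq_bot_of_inv (a1.am.syl.pi.inf_left _) fun t ht h2 => ?_
  by_contra h1
  have f12 := le_N a1 ht.1
  have f54 := le_N a4.symm ht.2
  have f3 := fix_mid a2 a3 n2 f12.2 f54.2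
  obtain ⟨c, d, hcd, d1, key⟩ := exists_fx hZ a1 h2 h1 f12.1
  have c2 := (key v2 v1 a1.symm f12.2).resolve_left fun e => d1.no_tri a1 e.symm
  have d3 := (key v3 v2 a2.symm f3).resolve_right fun e => c2.no_tri a2 e.symm
  have c4 := (key v4 v3 a3.symm f54.2).resolve_left fun e => d3.no_tri a3 e.symm
  have d5 := (key v5 v4 a4.symm f54.1).resolve_right fun e => c4.no_tri a4 e.symm
  exact n2 ((uniq a1 a2 d1.symm d3 n1).trans (uniq a3 a4 d3.symm d5 n3).symm)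

section NoHex

variable (hN : ∀ x0 x1 x2 x3 x4 x5 : Subgroup G, ¬ Hx q x0 x1 x2 x3 x4 x5)
include hN

theorem nc5 (a1 : Geo q v1 v2) (a2 : Geo q v2 v3) (a3 : Geo q v3 v4) (a4 : Geo q v4 v5)
    (n1 : v1 ≠ v3) (n2 : v2 ≠ v4) (n3 : v3 ≠ v5) (d1 : Geo q d v1) (d5 : Geo q d v5) : False := by
  refine hN v1 v2 v3 v4 v5 d ⟨a1, a2, a3, a4, d5.symm, d1, n1.symm, n2.symm, n3.symm, ?_, ?_, ?_⟩
  · rintro rfl; exact n2 (uniq a1 a2 d1.symm a3.symm n1)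
  · rintro rfl; exact n2 (uniq a1 a2 a4.symm a3.symm n1)
  · rintro rfl; exact n2 (uniq a2.symm d5 a3 a4 n3)

theorem far5 (hZ : Z0 G q) (a1 : Geo q v1 v2) (a2 : Geo q v2 v3) (a3 : Geo q v3 v4) (a4 : Geo q v4 v5)
    (a5 : Geo q v5 v6) (n1 : v1 ≠ v3) (n2 : v2 ≠ v4) (n3 : v3 ≠ v5) :
    (v1 ⊔ v2) ⊓ (v5 ⊔ v6) = ⊥ := by
  refine eq_bot_of_inv (a1.am.syl.pi.inf_left _) fun t ht h2 => ?_
  by_contra h1
  have f12 := le_N a1 ht.1
  have f56 := le_N a5 ht.2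
  obtain ⟨c, d, hcd, d1, key⟩ := exists_fx hZ a1 h2 h1 f12.1
  have c2 := (key v2 v1 a1.symm f12.2).resolve_left fun e => d1.no_tri a1 e.symm
  rcases key v5 v4 a4.symm f56.1 with e | e
  · exact nc5 hN a1 a2 a3 a4 n1 n2 n3 d1 e
  · obtain ⟨g, e1⟩ := cjg c2 e
    obtain ⟨k, e2⟩ := cjg a3 a2.symm
    exact a4.not_conj (g * k) (by rw [cj_mul, e2, e1])

/-- paths of length three are unique -/
theorem path3 {p p' r r' : Subgroup G} (a1 : Geo q a p) (a2 : Geo q p r) (a3 : Geo q r b)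
    (b1 : Geo q a p') (b2 : Geo q p' r') (b3 : Geo q r' b) (n1 : a ≠ r) (n2 : p ≠ b) : p = p' := by
  by_contra hne
  exact nc5 hN b1.symm a1 a2 a3 (Ne.symm hne) n1 n2 b2.symm b3

end NoHex

/-- an element without fixed points on the edge groups extends a fixed path uniquely -/
theorem ext (hZ : Z0 G q) (hk : ∀ y, y * y = 1 → k * y = y * k → y = 1) (a1 : Geo q v1 v2)
    (a2 : Geo q v2 v3) (n1 : v1 ≠ v3) (f1 : k ∈ N[v1]) (f2 : k ∈ N[v2]) (f3 : k ∈ N[v3]) :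
    (∃ c, Geo q v3 c ∧ c ≠ v2 ∧ k ∈ N[c]) ∧ ∀ c c', Geo q v3 c → c ≠ v2 → k ∈ N[c] →
      Geo q v3 c' → c' ≠ v2 → k ∈ N[c'] → c = c' := by
  have hU : v2 ≤ (v2 ⊓ v1) ⊔ (v3 ⊓ v2) := by rw [inf_comm v3, a1.symm.sup_eq a2 n1]
  have hkU : k ∈ N[v2 ⊓ v1] := norm_inf (zpowers_le.2 f2) (zpowers_le.2 f1) (mem_zpowers k)
  have h13 : v1 ⊓ v3 = ⊥ := (a1.symm.inf_eq a2 n1).trans (hZ _ _ a2)
  have inj : ∀ y ∈ v2 ⊓ v1, y⁻¹ * (k * y * k⁻¹) = 1 → y = 1 := fun y hy e =>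
    hk y (a2.ea.sq hy.1) (by rw [inv_mul_eq_one, eq_mul_inv_iff_mul_eq] at e; exact e.symm)
  constructor
  · obtain ⟨c, hc, hc2⟩ := a2.symm.exists_nb
    obtain ⟨x, hx, e⟩ := a2.symm.reg hc (hc.nb f3)
      hc2 (fun e => hc2 (by rw [cj_eq_iff, cj_of_mem_N (inv_mem f2)] at e; exact e)) hU inf_le_left
    let φ : ↥(v2 ⊓ v1) → ↥(v2 ⊓ v1) := fun y => ⟨(y : G)⁻¹ * (k * y * k⁻¹),
      mul_mem (inv_mem y.2) (conj_mem hkU y.2)⟩
    have hφ : Function.Injective φ := fun y y' e => by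
      have e1 : (y : G)⁻¹ * (k * y * k⁻¹) = (y' : G)⁻¹ * (k * y' * k⁻¹) := congrArg Subtype.val e
      have hm := mul_mem y.2 (inv_mem y'.2)
      have := inj _ hm (by
        calc _ = (y' : G) * ((y : G)⁻¹ * (k * y * k⁻¹)) * (k * (y' : G)⁻¹ * k⁻¹) := by group
          _ = 1 := by rw [e1]; group)
      exact Subtype.ext (mul_inv_eq_one.1 this)
    obtain ⟨y, hy⟩ := Finite.injective_iff_surjective.1 hφ ⟨x⁻¹, inv_mem hx⟩
    have e1 : (y : G)⁻¹ * (k * y * k⁻¹) = x⁻¹ := congrArg Subtype.val hy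
    have hy3 := a2.le_norm y.2.1
    refine ⟨cj y c, hc.nb hy3, fun e => hc2 (by
      rw [cj_eq_iff, cj_of_mem (v2.inv_mem y.2.1)] at e; exact e), mem_N_iff_cj.2 ?_⟩
    rw [← cj_mul, show k * y = y * x⁻¹ * k by rw [← e1]; group, cj_mul, ← e, ← cj_mul,
      inv_mul_cancel_right]
  · intro c c' hc hc2 kc hc' hc2' kc'
    obtain ⟨y, hy, rfl⟩ := a2.symm.reg hc hc' hc2 hc2' hU inf_le_left
    have hm := mul_mem (inv_mem hy) (conj_mem hkU hy)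
    have h1 : y⁻¹ * (k * y * k⁻¹) ∈ N[c] := by
      rw [mem_N_iff_cj, cj_mul, cj_mul, cj_mul, cj_of_mem_N (inv_mem kc), cj_of_mem_N kc', cj_inv_cj]
    have h2 := a2.symm.free hc hc2 (mem_sup_right hm.1) h1
    rw [inj y hy (mem_bot.1 (h13.le ⟨hm.2, h2⟩)), cj_one]

/-- an odd element inverted by an involution centralises no involution -/
theorem no_inv (hZ : Z0 G q) (h : Geo q a b) (hs : s * s = 1) (ho : OddE k) (hk : k ≠ 1)
    (hi : s * k * s⁻¹ = k⁻¹) (y : G) (hy : y * y = 1) (hc : k * y = y * k) : y = 1 := by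
  by_contra hy1
  have hn : zpowers s ≤ N[C{k}] := by
    rw [zpowers_le, mem_N_iff_cj, cj_C1, hi, ← C_zpowers, zpowers_inv, C_zpowers]
  obtain ⟨T, hT, hsT⟩ := Sylow_superset Nat.prime_two (twoE_of_sq hs).isPi
    (le_sup_right : zpowers s ≤ C{k} ⊔ zpowers s)
  have hT' := hT.inf_nml (nml_sup_left hn)
  have h1 : T ⊓ C{k} ≠ ⊥ := fun e => hy1 (eq_one_of_odd_sq
    ((hT'.isPi_compl_of_eq_bot e).piElt (mem_C1.2 hc.symm)) hy)
  have h2 := IsPi.inf_C_ne_bot Nat.prime_two (twoE_of_sq hs).isPi hT'.pi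
    (norm_inf (norm_of_le hsT) hn) h1
  obtain ⟨u, hu, hu1, hu2⟩ := TwoG.exists_inv (hT'.pi.inf_left _) h2
  obtain ⟨c, d, hcd, hm⟩ := h.exists_edge hu2
  have h3 := hcd.C_gen hm (by rw [hZ c d hcd, mem_bot]; exact hu1)
    (by rw [hZ d c hcd.symm, mem_bot]; exact hu1)
  have h4 : s ∈ c ⊔ d := hcd.two_le (twoE_of_sq hs).isPi
    (zpowers_le.2 (h3 (mem_C1_comm.1 (C_zpowers s ▸ hu.2)))) (mem_zpowers s)
  have h5 : k ∈ N[c ⊔ d] := hcd.norm ▸ h3 (mem_C1_comm.1 hu.1.2)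
  have h6 : k * k ∈ c ⊔ d := by
    have := mul_mem (conj_mem h5 (inv_mem h4)) h4
    rwa [show k * s⁻¹ * k⁻¹ * s = k * k by rw [← hi]; group] at this
  exact hk (eq_one_of_odd_sq ho ((hcd.am.syl.pi.piElt h6).eq_one (ho.mul ho rfl)))

theorem swap (hs : s * s = 1) (e : cj s a = b) : cj s b = a := by
  rw [← e, ← cj_mul, hs, cj_one]

theorem exists_hx (hZ : Z0 G q) (a1 : Geo q v1 v2) :
    ∃ x0 x1 x2 x3 x4 x5 : Subgroup G, Hx q x0 x1 x2 x3 x4 x5 := by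
  by_contra hN
  push Not at hN
  obtain ⟨v3, a2, n1⟩ := a1.symm.exists_nb
  obtain ⟨v4, a3, n2⟩ := a2.symm.exists_nb
  obtain ⟨v5, a4, n3⟩ := a3.symm.exists_nb
  have hc : ∃ g, cj g v1 = v5 := by
    obtain ⟨g, e1⟩ := cjg a1.symm a2
    obtain ⟨k, e2⟩ := cjg a3.symm a4
    exact ⟨k * g, by rw [cj_mul, e1, e2]⟩
  have hf := far4 hZ a1 a2 a3 a4 n1.symm n2.symm n3.symm
  obtain ⟨z, hz, -, -, -, z1, z2, -⟩ := a1.exists_gen
  obtain ⟨y, hy, y', hy', hne, y1, y2, y1', y2'⟩ := a4.symm.exists_gen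
  obtain ⟨s, s2, sz, s15, s24⟩ := a1.far a4.symm hc hf hz z1 z2 hy y1 y2
  obtain ⟨s', s2', sz', s15', s24'⟩ := a1.far a4.symm hc hf hz z1 z2 hy' y1' y2'
  have s51 := swap s2 s15
  have s42 := swap s2 s24
  have s3 : s ∈ N[v3] := by
    have h1 := a2.conj s
    have h2 := a3.conj s
    rw [s24] at h1
    rw [s42] at h2
    exact mem_N_iff_cj.2 (uniq h2.symm h1.symm a2 a3 n2.symm)
  have k1 : s * s' ∈ N[v1] := by rw [mem_N_iff_cj, cj_mul, s15', s51]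
  have k2 : s * s' ∈ N[v2] := by rw [mem_N_iff_cj, cj_mul, s24', s42]
  have k4 : s * s' ∈ N[v4] := by rw [mem_N_iff_cj, cj_mul, swap s2' s24', s24]
  have k5 : s * s' ∈ N[v5] := by rw [mem_N_iff_cj, cj_mul, swap s2' s15', s15]
  have k3 := fix_mid a2 a3 n2.symm k2 k4
  have hk : s * s' ≠ 1 := fun e => hne (by
    rw [← sz, ← sz', (eq_inv_of_mul_eq_one_left e).trans (H6.inv_eq_of_mul_self s2')])
  have hi : s * (s * s') * s⁻¹ = (s * s')⁻¹ := H6.conj_mul_left s2 s2'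
  set k := s * s'
  have ho : OddE k := by
    have h2 := piElt_constt {2} k
    refine constt_eq_one_iff.1 (mem_bot.1 (((a2.symm.inf_eq a3 n2.symm).trans (hZ _ _ a3)).le
      ⟨a1.symm.two_mem a2 n1.symm h2 (constt_mem _ ⟨⟨k2, k1⟩, k3⟩),
        a3.symm.two_mem a4 n3.symm h2 (constt_mem _ ⟨⟨k4, k3⟩, k5⟩)⟩))
  have hfp := no_inv hZ a1 s2 ho hk hi
  obtain ⟨v6, a5, n4, k6⟩ := (ext hZ hfp a3 a4 n3.symm k3 k4 k5).1
  have hf' := far5 hN hZ a1 a2 a3 a4 a5 n1.symm n2.symm n3.symm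
  obtain ⟨r, hr, -, -, -, r1, r2, -⟩ := a5.exists_gen
  obtain ⟨t, t2, -, t15, t26⟩ := a1.far a5 hc hf' hz z1 z2 hr r1 r2
  have b1 : Geo q v6 (cj t v3) := t26 ▸ a2.conj t
  have b2 := a3.conj t
  have b3 : Geo q (cj t v4) v1 := swap t2 t15 ▸ a4.conj t
  have m1 : cj t v3 ≠ v5 := t15 ▸ cj_inj.not.2 n1
  have m2 : cj t v4 ≠ v6 := t26 ▸ cj_inj.not.2 n2
  have m3 : v1 ≠ cj t v3 := swap t2 t15 ▸ cj_inj.not.2 n3
  have m4 : cj t v4 ≠ v2 := swap t2 t26 ▸ cj_inj.not.2 n4.symm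
  have k8 : k ∈ N[cj t v4] := by
    have c1 := b3.symm.conj k
    have c3 := b1.symm.conj k
    rw [cj_of_mem_N k1] at c1
    rw [cj_of_mem_N k6] at c3
    exact mem_N_iff_cj.2 (path3 hN b3.symm b2.symm b1.symm c1 (b2.symm.conj k) c3 m3 m2).symm
  have e0 : cj t v4 = cj s v6 := by
    refine (ext hZ hfp a2.symm a1.symm n1 k3 k2 k1).2 _ _ b3.symm m4 k8 (s51 ▸ a5.conj s)
      (s42 ▸ cj_inj.not.2 n4) ?_
    rw [← inv_mem_iff, ← hi, ← cj_N]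
    exact conj_mem_cj s k6
  have s7 : s ∈ N[cj t v3] := by
    have c1 := b1.conj s
    have c2 := b2.conj s
    rw [e0, swap s2 rfl] at c2
    rw [← e0] at c1
    exact mem_N_iff_cj.2 (uniq c2.symm c1.symm b1 b2 m2.symm)
  have hs1 : s ≠ 1 := fun e => by
    rw [e, cj_one] at s24
    exact n2 s24.symm
  obtain ⟨c, d, hcd, d3, key⟩ := exists_fx hZ a3 s2 hs1 s3
  rcases key _ _ b2 s7 with e | e
  · exact nc5 hN a3 a4 a5 b1 n3.symm n4.symm m1.symm d3 e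
  · obtain ⟨g, e1⟩ := cjg e hcd
    exact d3.symm.not_conj (g * t) (by rw [cj_mul, e1])

end G3

theorem Geo.exists_hex (h : Geo q a b) (hR : Rt a = ⊥) : ∃ w, Pg 6 q w ∧ w 0 = a ∧ w 1 = b := by
  obtain ⟨x0, x1, x2, x3, x4, x5, hx⟩ := G3.exists_hx (G3.z0_of h hR) h
  obtain ⟨g, ⟨e1, e2⟩ | ⟨e1, e2⟩⟩ := hx.a0.flag h
  · exact e1 ▸ e2 ▸ (hx.conj g).pg
  · exact e1 ▸ e2 ▸ (hx.conj g).rev.pg

end H2.C2
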