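import Mathlib
import Cfsg.Agent.H2.CDefs
import Cfsg.Agent.H2.CT1
import Cfsg.Agent.H2.CG3a

set_option autoImplicit false
set_option linter.unusedVariables false
set_option linter.unusedSectionVars false

namespace H2.C2

open Cfsg H24 H26 H26.Gold Subgroup
open scoped commutatorElement

universe u

variable {G : Type u} [Group G] [Finite G]
  {A B D E H K L M N0 P P' Q Q' R R' S T T' U W X a a' b b' b'' v : Subgroup G}
  {g k n o s t x y z : G} {q : ℕ}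

/-! ### CG3b -/

namespace G3

variable {c x0 x1 x2 x3 x4 x5 : Subgroup G} {w : ℤ → Subgroup G}

theorem ne_of_fix (hk : k ∈ N[b]) (h : c ≠ b) : cj k c ≠ b := fun e =>
  h (by rw [cj_eq_iff, cj_of_mem_N (inv_mem hk)] at e; exact e)

theorem Hx.mu (hZ : Z0 G q) (h : Hx q x0 x1 x2 x3 x4 x5) (hx : x ∈ x0 ⊓ x1) (h1 : x ≠ 1) :
    ∃ κ ∈ x3 ⊓ x4, ∃ l ∈ x3 ⊓ x4, cj (κ * x * l) x0 = x4 ∧ cj (κ * x * l) x1 = x3 ∧
      cj (κ * x * l) x2 = x2 ∧ cj (κ * x * l) x3 = x1 ∧ cj (κ * x * l) x4 = x0 ∧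
      cj (κ * x * l) x5 = x5 := by
  have hU : x3 ≤ (x3 ⊓ x4) ⊔ (x2 ⊓ x3) := by rw [inf_comm x2, h.a3.sup_eq h.a2.symm h.n2]
  have x2N : x ∈ N[x2] := h.a1.le_norm hx.2
  have hn : x ∉ N[x3] := fun e => h1 (mem_bot.1
    (((h.a0.symm.inf_eq h.a1 h.n0.symm).trans (hZ _ _ h.a1)).le
      ⟨hx.1, h.a1.symm.free h.a2 h.n1 (mem_sup_right hx.2) e⟩))
  obtain ⟨l, hl, e1⟩ := h.a2.reg h.a1.symm (h.a2.nb (inv_mem x2N)) h.n1.symm
    (fun e => hn (inv_mem_iff.1 (mem_N_iff_cj.2 e))) hU inf_le_left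
  obtain ⟨κ, hκ, e2⟩ := h.a2.reg (h.a2.nb x2N) h.a1.symm (fun e => hn (mem_N_iff_cj.2 e)) h.n1.symm
    hU inf_le_left
  have m1 : cj (κ * x * l) x1 = x3 := by rw [cj_mul, cj_mul, e1, cj_cj_inv, cj_of_mem hκ.1]
  have m3 : cj (κ * x * l) x3 = x1 := by rw [cj_mul, cj_mul, cj_of_mem hl.1, e2]
  have m2 : cj (κ * x * l) x2 = x2 := cj_of_mem_N
    (mul_mem (mul_mem (h.a2.symm.le_norm hκ.1) x2N) (h.a2.symm.le_norm hl.1))
  have m5 : cj (κ * x * l) x5 = x5 := cj_of_mem_N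
    (mul_mem (mul_mem (h.a4.le_norm hκ.2) (h.a5.symm.le_norm hx.1)) (h.a4.le_norm hl.2))
  refine ⟨κ, hκ, l, hl, ?_, m1, m2, m3, ?_, m5⟩
  · have c1 := h.a5.conj (κ * x * l)
    have c2 := h.a0.conj (κ * x * l)
    rw [m5] at c1
    rw [m1] at c2
    exact uniq c1 c2 h.a4.symm h.a3.symm h.n3
  · have c1 := h.a3.conj (κ * x * l)
    have c2 := h.a4.conj (κ * x * l)
    rw [m3] at c1
    rw [m5] at c2
    exact uniq c1 c2 h.a0.symm h.a5.symm h.n5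

theorem Hx.bru (h : Hx q x0 x1 x2 x3 x4 x5) (h0 : x0 ≤ M) (h1 : x1 ≤ M) (h2 : x2 ≤ M) (hg : g ∈ N[x1]) :
    ∃ m ∈ M, m * g ∈ N[x0] ⊓ N[x1] ⊓ N[x2] ⊓ N[x3] ⊓ N[x4] ⊓ N[x5] := by
  have step : ∀ {V : Subgroup G} {g : G}, V ≤ M → g ∈ V → ∀ {P : G → Prop} {k : G},
      (∃ m ∈ M, P (m * (g * k))) → ∃ m ∈ M, P (m * k) := fun hV hg P k ⟨m, hm, e⟩ =>
    ⟨m * _, mul_mem hm (hV hg), by rwa [mul_assoc]⟩
  have s4 : ∀ g ∈ N[x0] ⊓ N[x1] ⊓ N[x2] ⊓ N[x3],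
      ∃ m ∈ M, m * g ∈ N[x0] ⊓ N[x1] ⊓ N[x2] ⊓ N[x3] ⊓ N[x4] ⊓ N[x5] := fun g hg => by
    obtain ⟨m, hm, e⟩ := h.a2.symm.reg (U := x2 ⊓ x1) (h.a3.nb hg.2) h.a3 (ne_of_fix hg.1.2 h.n2) h.n2
      (by rw [inf_comm x3, h.a1.symm.sup_eq h.a2 h.n1.symm]) inf_le_left
    have e4 : m * g ∈ N[x4] := by rw [mem_N_iff_cj, cj_mul, e]
    have e0 : m * g ∈ N[x0] := mul_mem (h.a0.symm.le_norm hm.2) hg.1.1.1
    exact ⟨m, h2 hm.1, ⟨⟨⟨⟨e0, mul_mem (norm_self _ hm.2) hg.1.1.2⟩, mul_mem (norm_self _ hm.1) hg.1.2⟩,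
      mul_mem (h.a2.le_norm hm.1) hg.2⟩, e4⟩, fix_mid h.a4 h.a5 h.n4.symm e4 e0⟩
  have s3 : ∀ g ∈ N[x0] ⊓ N[x1] ⊓ N[x2],
      ∃ m ∈ M, m * g ∈ N[x0] ⊓ N[x1] ⊓ N[x2] ⊓ N[x3] ⊓ N[x4] ⊓ N[x5] := fun g hg => by
    obtain ⟨m, hm, e⟩ := h.a1.symm.reg (U := x1 ⊓ x0) (h.a2.nb hg.2) h.a2 (ne_of_fix hg.1.2 h.n1) h.n1
      (by rw [inf_comm x2, h.a0.symm.sup_eq h.a1 h.n0.symm]) inf_le_left
    exact step (inf_le_left.trans h1) hm (s4 _ ⟨⟨⟨mul_mem (norm_self _ hm.2) hg.1.1,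
      mul_mem (norm_self _ hm.1) hg.1.2⟩, mul_mem (h.a1.le_norm hm.1) hg.2⟩,
      mem_N_iff_cj.2 (by rw [cj_mul, e])⟩)
  have s2 : ∀ g ∈ N[x0] ⊓ N[x1],
      ∃ m ∈ M, m * g ∈ N[x0] ⊓ N[x1] ⊓ N[x2] ⊓ N[x3] ⊓ N[x4] ⊓ N[x5] := fun g hg => by
    obtain ⟨m, hm, e⟩ := h.a0.symm.reg (U := x0) (h.a1.nb hg.2) h.a1 (ne_of_fix hg.1 h.n0) h.n0
      le_sup_left le_rfl
    exact step h0 hm (s3 _ ⟨⟨mul_mem (norm_self _ hm) hg.1, mul_mem (h.a0.le_norm hm) hg.2⟩,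
      mem_N_iff_cj.2 (by rw [cj_mul, e])⟩)
  have s1 : ∀ g ∈ N[x1], cj g x0 ≠ x2 →
      ∃ m ∈ M, m * g ∈ N[x0] ⊓ N[x1] ⊓ N[x2] ⊓ N[x3] ⊓ N[x4] ⊓ N[x5] := fun g hg hne => by
    obtain ⟨m, hm, e⟩ := h.a1.reg (U := x2) (h.a0.symm.nb hg) h.a0.symm hne h.n0.symm
      le_sup_left le_rfl
    exact step h2 hm (s2 _ ⟨mem_N_iff_cj.2 (by rw [cj_mul, e]), mul_mem (h.a1.symm.le_norm hm) hg⟩)
  by_cases hne : cj g x0 = x2
  · obtain ⟨c, hc, c0, c2, -⟩ := h.a0.symm.other x2 x2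
    obtain ⟨m, hm, e⟩ := h.a0.symm.reg (U := x0) h.a1 hc h.n0 c0 le_sup_left le_rfl
    exact step h0 hm (s1 _ (mul_mem (h.a0.le_norm hm) hg) (by rwa [cj_mul, hne, e]))
  · exact s1 g hg hne

theorem per6 (h : Pg 6 q w) {i j : ℤ} (e : i % 6 = j % 6) : w i = w j := by
  have hp : Function.Periodic w 6 := h.per
  have := hp.int_mul ((i - j) / 6) j
  rw [← this]
  congr 1
  push_cast
  omega

theorem pg_hx (h : Pg 6 q w) (i : ℤ) :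
    Hx q (w i) (w (i + 1)) (w (i + 2)) (w (i + 3)) (w (i + 4)) (w (i + 5)) := by
  have a : ∀ j k l : ℤ, j % 6 = l % 6 → k % 6 = (l + 1) % 6 → Geo q (w j) (w k) := fun j k l e1 e2 => by
    rw [per6 h e1, per6 h e2]; exact h.adj l
  have n : ∀ j k l : ℤ, j % 6 = (l + 2) % 6 → k % 6 = l % 6 → w j ≠ w k := fun j k l e1 e2 => by
    rw [per6 h e1, per6 h e2]; exact h.nb l
  exact ⟨a _ _ i rfl rfl, a _ _ (i + 1) rfl (by omega), a _ _ (i + 2) rfl (by omega),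
    a _ _ (i + 3) rfl (by omega), a _ _ (i + 4) rfl (by omega), a _ _ (i + 5) (by omega) (by omega),
    n _ _ i rfl rfl, n _ _ (i + 1) (by omega) rfl, n _ _ (i + 2) (by omega) rfl,
    n _ _ (i + 3) (by omega) rfl, n _ _ (i + 4) (by omega) rfl, n _ _ (i + 5) (by omega) rfl⟩

theorem cases6 (i j : ℤ) : j % 6 = i % 6 ∨ j % 6 = (i + 1) % 6 ∨ j % 6 = (i + 2) % 6 ∨
    j % 6 = (i + 3) % 6 ∨ j % 6 = (i + 4) % 6 ∨ j % 6 = (i + 5) % 6 := by omega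

end G3

open G3 in
theorem Pg.hex [IsSimpleGroup G] {w : ℤ → Subgroup G} (h : Pg 6 q w) (hR : Rt (w 0) = ⊥) :
    ∃ H : H20.TB.Hex G, (⨆ i, H.U i) = ⊤ ∧ ♯(H.U 0) = q := by
  have hZ := z0_of (h.adj 0) hR
  have hc : ∀ i, ♯(w i ⊓ w (i + 1)) = q := fun i => (h.adj i).card_inf (hZ _ _ (h.adj i))
  have hne : ∀ i, w i ⊓ w (i + 1) ≠ ⊥ := fun i e => by
    have := hc i
    have := (h.adj i).four
    rw [e, card_bot] at *
    omega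
  have hb : ∀ i, w i ⊓ w (i + 2) = ⊥ := fun i =>
    ((pg_hx h i).a0.symm.inf_eq (pg_hx h i).a1 (h.nb i).symm).trans (hZ _ _ (pg_hx h i).a1)
  refine ⟨⟨fun i => w i ⊓ w (i + 1), fun i => ?_, fun i => inferInstance, fun i a ha b hb => ?_,
    fun i a ha b hb => ?_, fun i a ha b hb' c hc e => ?_, fun i a ha a1 => ?_, hne⟩, ?_, hc 0⟩
  · rw [h.per, per6 h (show (i + 6 + 1) % 6 = (i + 1) % 6 by omega)]
  · exact (h.adj (i + 1)).ea.comm ha.2 hb.1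
  · have := (pg_hx h i).a1.am.h.comm.le (commutator_mem_commutator ha.2 hb.1)
    rwa [show i + 1 + 1 = i + 2 by ring]
  · have h1 : c ∈ w (i + 1) := by
      rw [eq_inv_of_mul_eq_one_right e]; exact inv_mem (mul_mem ha.2 hb'.1)
    have h2 : c = 1 := mem_bot.1 ((hb (i + 1)).le ⟨h1, by rw [show i + 1 + 2 = i + 2 + 1 by ring]; exact hc.2⟩)
    rw [h2, mul_one] at e
    have h3 : a = 1 := mem_bot.1 ((hb i).le ⟨ha.1, by
      rw [eq_inv_of_mul_eq_one_left e, show i + 2 = i + 1 + 1 by ring]; exact Subgroup.inv_mem _ hb'.2⟩)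
    rw [h3, one_mul] at e
    exact ⟨h3, e, h2⟩
  · obtain ⟨κ, hκ, l, hl, m0, m1, m2, m3, m4, m5⟩ := (pg_hx h i).mu hZ ha a1
    have e4 : i + 3 + 1 = i + 4 := by ring
    have key : ∀ j, cj (κ * a * l) (w j) = w (2 * i + 4 - j) := fun j => by
      rcases cases6 i j with e | e | e | e | e | e <;> rw [per6 h e]
      · rw [m0]; exact per6 h (by omega)
      · rw [m1]; exact per6 h (by omega)
      · rw [m2]; exact per6 h (by omega)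
      · rw [m3]; exact per6 h (by omega)
      · rw [m4]; exact per6 h (by omega)
      · rw [m5]; exact per6 h (by omega)
    rw [← e4] at hκ hl
    refine ⟨κ * a * l, ⟨κ, hκ, l, hl, rfl⟩, fun j g => ?_⟩
    beta_reduce
    rw [show 2 * i + 3 - j + 1 = 2 * i + 4 - j by ring, show 2 * i + 3 - j = 2 * i + 4 - (j + 1) by ring,
      ← key, ← key, ← cj_inf, conj_mem_cj_iff, inf_comm]
  · set M := ⨆ i, w i ⊓ w (i + 1) with hM
    have hU : ∀ i, w i ⊓ w (i + 1) ≤ M := fun i => le_iSup (fun i => w i ⊓ w (i + 1)) i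
    have hw : ∀ i, w i ≤ M := fun i => by
      have h1 := (h.adj (i - 1)).symm
      have h2 := h.nb (i - 1)
      have h3 := hU (i - 1)
      rw [sub_add_cancel] at h1 h3
      rw [show i - 1 + 2 = i + 1 by ring] at h2
      rw [← h1.sup_eq (h.adj i) h2.symm]
      exact sup_le (inf_comm (w i) _ ▸ h3) (hU i)
    have hN : ∀ i, N[w (i + 1)] ≤ N[M] := fun i g hg => by
      obtain ⟨m, hm, e⟩ := (pg_hx h i).bru (hw _) (hw _) (hw _) hg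
      have key : ∀ j, m * g ∈ N[w j] := fun j => by
        rcases cases6 i j with e' | e' | e' | e' | e' | e' <;> rw [per6 h e']
        exacts [e.1.1.1.1.1, e.1.1.1.1.2, e.1.1.1.2, e.1.1.2, e.1.2, e.2]
      exact (mul_mem_cancel_left (norm_self M hm)).1 (norm_iSup (fun j => norm_inf
        (zpowers_le.2 (key j)) (zpowers_le.2 (key (j + 1)))) (mem_zpowers _))
    have h1 : ⊤ ≤ N[M] := (h.adj (0 + 1)).gen.ge.trans (sup_le (hN 0) (hN (0 + 1)))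
    exact (nml_top_iff.1 ⟨le_top, h1⟩).eq_bot_or_eq_top.resolve_left (ne_bot_of_le (hne 0) (hU 0))

end H2.C2
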