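import Mathlib
import Cfsg.Agent.H2.CDefs
import Cfsg.Agent.H14.G4b

set_option autoImplicit false
set_option linter.unusedVariables false
set_option linter.unusedSectionVars false

namespace H2.C2

open Cfsg H24 H26 H26.Gold Subgroup
open scoped commutatorElement

universe u

variable {G : Type u} [Group G] [Finite G]
  {A B D E H K L M N0 P P' Q Q' R R' S T T' U W X a a' b b' b'' v : Subgroup G}
  {g k n o s t x y z : G} {q : ℕ}

/-! ### CG4a -/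

theorem Pg.no_hex {w : ℤ → Subgroup G} (h : Pg 6 q w) (hR : Rt (w 0) ≠ ⊥) : False :=
  H14.G4.path4 hR (H14.G4.adj' h 0 1) (H14.G4.adj' h 1 2) (H14.G4.adj' h 2 3) (H14.G4.adj' h 3 4)
    (H14.G4.nb' h 0 2) (H14.G4.nb' h 1 3) (H14.G4.nb' h 2 4)
    (by simpa using h.per 0 ▸ H14.G4.adj' h 5 (0 + 6)) (H14.G4.adj' h 4 5).symm

theorem Geo.exists_oct (h : Geo q a b) (hR : Rt a ≠ ⊥) : ∃ w, Pg 8 q w ∧ w 0 = a ∧ w 1 = b :=
  H14.G4.exists_oct h hR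

theorem Pg.oct [IsSimpleGroup G] {w : ℤ → Subgroup G} (h : Pg 8 q w) (hR : Rt (w 0) ≠ ⊥) :
    ∃ O : H20.TB.Oct G, (∀ i, O.U i = Rt (w i)) ∧ (⨆ i, O.U i) = ⊤ ∧ ∀ i, O.ab i :=
  ⟨H14.G4.oct h hR, fun _ => rfl, H14.G4.gen h hR, fun i _ hx _ hy => H14.G4.ab h i hx hy⟩


end H2.C2
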