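import Mathlib
import Cfsg.Agent.H2.CHB
import Cfsg.Agent.H11.JordanField

set_option autoImplicit false
set_option linter.unusedVariables false
set_option linter.unusedSectionVars false
set_option linter.style.haveILetI false

namespace H2.C2

open Cfsg H24 H26 H26.Gold Subgroup
open scoped commutatorElement

universe u

variable {G : Type u} [Group G] [Finite G]
  {A B D E H K L M N0 P P' Q Q' R R' S T T' U W X a a' b b' b'' v : Subgroup G}
  {g k n o s t x y z : G} {q : ℕ}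

/-! ### CHC -/

private theorem exists_quot (hW : EA W) (hR : R ≤ W) :
    ∃ (V : Type u) (_ : AddCommGroup V) (_ : Finite V) (π : G → V) (ρ : G → AddMonoid.End V),
      Nat.card V = R.relIndex W ∧ (∀ v ∈ W, ∀ w ∈ W, π (v * w) = π v + π w) ∧
      (∀ w ∈ W, π w = 0 ↔ w ∈ R) ∧ (∀ u, ∃ w ∈ W, π w = u) ∧
      ∀ k ∈ N[W] ⊓ N[R], ∀ w ∈ W, ρ k • π w = π (k * w * k⁻¹) := by
  classical
  letI : CommGroup W := { (inferInstance : Group W) with
    mul_comm := fun a b => Subtype.ext (hW.comm a.2 b.2) }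
  let V := Additive (W ⧸ R.subgroupOf W)
  let π : G → V := fun w => if h : w ∈ W then Additive.ofMul (QuotientGroup.mk ⟨w, h⟩) else 0
  have hπ : ∀ w (h : w ∈ W), π w = Additive.ofMul (QuotientGroup.mk ⟨w, h⟩) := fun w h => dif_pos h
  have ex : ∀ k, ∃ f : AddMonoid.End V, k ∈ N[W] ⊓ N[R] → ∀ w ∈ W, f • π w = π (k * w * k⁻¹) := by
    intro k
    by_cases hk : k ∈ N[W] ⊓ N[R]
    · let c : W →* W := MonoidHom.mk' (fun w => ⟨k * w * k⁻¹, conj_mem hk.1 w.2⟩)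
        fun a b => Subtype.ext (by simp [mul_assoc])
      refine ⟨MonoidHom.toAdditive (QuotientGroup.map _ _ c fun w hw => conj_mem hk.2 hw),
        fun _ w hw => ?_⟩
      rw [hπ w hw, hπ _ (conj_mem hk.1 hw)]; rfl
    · exact ⟨0, fun h => absurd h hk⟩
  choose ρ hρ using ex
  refine ⟨V, inferInstance, inferInstance, π, ρ, rfl, fun v hv w hw => ?_, fun w hw => ?_,
    fun u => ?_, hρ⟩
  · rw [hπ v hv, hπ w hw, hπ _ (mul_mem hv hw)]; rfl
  · rw [hπ w hw]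
    exact QuotientGroup.eq_one_iff (N := R.subgroupOf W) ⟨w, hw⟩
  · obtain ⟨w, e⟩ := QuotientGroup.mk_surjective u.toMul
    exact ⟨w, w.2, by rw [hπ _ w.2]; exact congrArg Additive.ofMul e⟩

private theorem ring_inv {E : Type*} [Ring E] {p r A B : E} (pp : p * p = 0) (rr : r * r = 0)
    (pr : p * r + r * p = 1) (Ap : A * p = 0) (pA : p * A = 0) (Br : B * r = 0) (rB : r * B = 0)
    (AB : A * B + B * A = 1) :
    (A * r + r * A) * (p * B * p * r + r * (p * B * p)) = 1 ∧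
      (p * B * p * r + r * (p * B * p)) * (A * r + r * A) = 1 := by
  have e1 : r * p * B = B := by linear_combination (norm := noncomm_ring) pr * B - p * rB
  have e2 : B * p * r = B := by linear_combination (norm := noncomm_ring) B * pr - Br * p
  have e3 : A * B = p * r := by
    linear_combination (norm := noncomm_ring) p * r * AB - pr * (A * B) + r * pA * B - p * rB * A
  have e4 : B * A = r * p := by linear_combination (norm := noncomm_ring) AB - e3 - pr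
  have e5 : p * B * p * r + r * (p * B * p) = p * B + B * p := by
    linear_combination (norm := noncomm_ring) p * e2 + e1 * p
  rw [e5]
  constructor
  · linear_combination (norm := noncomm_ring) A * e1 + A * rB * p + r * Ap * B + r * e3 * p + e3 +
      r * p * pr - r * pp * r + pr
  · linear_combination (norm := noncomm_ring) p * e4 * r + p * Br * A + B * pA * r + e2 * A + e4 +
      p * r * pr - p * rr * p + pr

theorem Half.coord (h : Half K W X R q) (hg : g ∈ K) (hY : cj g (W ⊓ X) ≠ W ⊓ X) :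
    ∃ (F : Type) (_ : Field F) (_ : Fintype F) (θ : G → F × F) (α β : G → F),
      Fintype.card F = q ∧ CharP F 2 ∧ Crd W X (cj g X) R F θ α β := by
  obtain ⟨V, _, _, π, ρ, cV, pa, pk, ps, pρ⟩ := exists_quot h.ea (h.leR.trans inf_le_left)
  have h' := h.conj g
  rw [cj_of_mem hg, cj_of_mem_N (h.norm hg), cj_of_mem_N (h.normR hg)] at h'
  have e' : W ⊓ cj g X = cj g (W ⊓ X) := by rw [cj_inf, cj_of_mem_N (h.norm hg)]
  obtain ⟨e1, e2⟩ := h.mov g hg hY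
  have pρ : ∀ k ∈ K, ∀ w ∈ W, ρ k • π w = π (k * w * k⁻¹) :=
    fun k hk => pρ k ⟨h.norm hk, h.normR hk⟩
  have XK := le_sup_right.trans h.leK
  have XK' := le_sup_right.trans h'.leK
  have ext : ∀ a b : AddMonoid.End V, (∀ w ∈ W, a • π w = b • π w) → a = b := fun a b e =>
    AddMonoidHom.ext fun v => by obtain ⟨w, hw, rfl⟩ := ps v; exact e w hw
  have p1 : π 1 = 0 := (pk 1 (one_mem W)).2 (one_mem R)
  have two : ∀ v : V, v + v = 0 := fun v => by
    obtain ⟨w, hw, rfl⟩ := ps v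
    rw [← pa w hw w hw, h.ea.sq hw, p1]
  have peq : ∀ v ∈ W, ∀ w ∈ W, v * w ∈ R → π v = π w := fun v hv w hw e => by
    have := (pk _ (mul_mem hv hw)).2 e
    rw [pa v hv w hw, ← two (π w)] at this
    exact add_right_cancel this
  have t2 : ∀ a : AddMonoid.End V, a + a = 0 := fun a =>
    ext _ _ fun w _ => by rw [add_smul, two, zero_smul]
  have rm : ∀ k ∈ K, ∀ l ∈ K, ρ (k * l) = ρ k * ρ l := fun k hk l hl => ext _ _ fun w hw => by
    rw [mul_smul, pρ l hl w hw, pρ k hk _ (conj_mem (h.norm hl) hw), pρ _ (mul_mem hk hl) w hw]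
    congr 1; group
  obtain ⟨n, rn⟩ : ∃ n : G → AddMonoid.End V, ∀ k, ρ k = n k + 1 :=
    ⟨fun k => ρ k - 1, fun k => (sub_add_cancel _ _).symm⟩
  have cW : ∀ k ∈ K, ∀ w ∈ W, ⁅k, w⁆ ∈ W := fun k hk w hw =>
    mul_mem (conj_mem (h.norm hk) hw) (Subgroup.inv_mem _ hw)
  have nπ : ∀ k ∈ K, ∀ w ∈ W, n k • π w = π ⁅k, w⁆ := fun k hk w hw => by
    have := pρ k hk w hw
    rw [rn, add_smul, one_smul, show k * w * k⁻¹ = ⁅k, w⁆ * w by group, pa _ (cW k hk w hw) w hw]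
      at this
    exact add_right_cancel this
  have n0 : ∀ k ∈ K, ∀ w ∈ W, k * w = w * k → n k • π w = 0 := fun k hk w hw e => by
    rw [nπ k hk w hw, commutatorElement_eq_one_iff_mul_comm.2 e, p1]
  have cY : ∀ {X}, Half K W X R q → ∀ x ∈ X, ∀ w ∈ W, ⁅x, w⁆ ∈ W ⊓ X := fun {X} h x hx w hw =>
    h.comm ▸ commC W X ▸ commutator_mem_commutator hx hw
  have nn : ∀ {X}, Half K W X R q → ∀ x ∈ X, ∀ y ∈ X, n x * n y = 0 := fun {X} h x hx y hy =>
    ext _ _ fun w hw => by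
      have m := cY h y hy w hw
      rw [mul_smul, nπ y (h.leK (mem_sup_right hy)) w hw, zero_smul,
        n0 x (h.leK (mem_sup_right hx)) _ m.1 (h.eaX.comm hx m.2)]
  have key : ∀ x ∈ X, ∀ x' ∈ cj g X, ∀ y ∈ W ⊓ X, ∀ y' ∈ W ⊓ cj g X,
      x * y' * x⁻¹ = x' * y * x'⁻¹ → n x • π y' = π y ∧ n x' • π y = π y' := by
    intro x hx x' hx' y hy y' hy' e
    have m := cY h x hx y' hy'.1
    have m' := cY h' x' hx' y hy.1
    have e3 : ⁅x, y'⁆ * y = ⁅x', y⁆ * y' := by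
      rw [commutatorElement_def, commutatorElement_def, e, h.ea.inv hy.1, h.ea.inv hy'.1,
        mul_assoc _ y' y, mul_assoc _ y y', h.ea.comm hy.1 hy'.1]
    have e4 : ⁅x, y'⁆ * y ∈ R := e1.le ⟨e' ▸ e3 ▸ mul_mem m' hy', mul_mem m hy⟩
    rw [nπ x (XK hx) _ hy'.1, nπ x' (XK' hx') _ hy.1]
    exact ⟨peq _ m.1 _ hy.1 e4, peq _ m'.1 _ hy'.1 (e3 ▸ e4)⟩
  have inv : ∀ x ∈ X, x ∉ W → ∃ x' ∈ cj g X, cj x (W ⊓ cj g X) = cj x' (W ⊓ X) ∧
      n x * n x' + n x' * n x = 1 := by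
    intro x hx hx1
    obtain ⟨x', hx', e⟩ := h'.trans (Subgroup.inv_mem _ hg) (by rw [e', cj_inv_cj]; exact hY.symm)
      (XK hx) fun e => hx1 (h.free hg hY hx (by rw [cj_mul, ← e', e]))
    rw [cj_mul, e', cj_inv_cj, ← e'] at e
    refine ⟨x', hx', e, ext _ _ fun w hw => ?_⟩
    obtain ⟨y', hy', y, hy, rfl⟩ := (mem_sup_of_norm (h.ea.abl.norm inf_le_left inf_le_left)).1
      ((e' ▸ e2).ge hw)
    obtain ⟨y1, h1, k1⟩ := mem_cj'.1 (e ▸ conj_mem_cj x hy')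
    obtain ⟨y2, h2, k2⟩ := mem_cj'.1 (e.symm ▸ conj_mem_cj x' hy)
    obtain ⟨k3, k4⟩ := key x hx x' hx' y1 h1 y' hy' k1
    obtain ⟨k5, k6⟩ := key x hx x' hx' y hy y2 h2 k2.symm
    rw [pa y' hy'.1 y hy.1, add_smul, mul_smul, mul_smul, smul_add (n x'), smul_add (n x) (π y'),
      n0 x (XK hx) y hy.1 (h.eaX.comm hx hy.2), n0 x' (XK' hx') y' hy'.1 (h'.eaX.comm hx' hy'.2),
      zero_add, add_zero, k3, k4, k6, k5, one_smul, add_comm]
  obtain ⟨x0, hx0, hx1⟩ := SetLike.not_le_iff_exists.1 h.not_ge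
  obtain ⟨x1, hx2, e0, pr⟩ := inv x0 hx0 hx1
  have pp := nn h x0 hx0 x0 hx0
  have rr := nn h' x1 hx2 x1 hx2
  have mK : x0 * x1 * x0 ∈ K := mul_mem (mul_mem (XK hx0) (XK' hx2)) (XK hx0)
  have ρm : ρ (x0 * x1 * x0) = n x0 + n x1 := by
    rw [rm _ (mul_mem (XK hx0) (XK' hx2)) _ (XK hx0), rm _ (XK hx0) _ (XK' hx2), rn x0, rn x1]
    linear_combination (norm := noncomm_ring) n x0 * pr - pp * n x1 + pr + pp + t2 (n x0) + t2 1
  have sw : ∀ x' ∈ cj g X, ∃ y ∈ X, n y = n x0 * n x' * n x0 := by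
    intro x' hx'
    have k1 := h.fix _ (mul_mem mK hg) (by
      rw [cj_mul, ← e', cj_mul, e0, ← cj_mul, mul_assoc, h'.eaX.sq hx2, mul_one,
        cj_of_mem_N (h.eaX.abl.norm le_rfl inf_le_right hx0)])
    rw [cj_mul] at k1
    obtain ⟨y, hy, c, hc, e⟩ := (mem_sup_of_norm' (XK.trans (norm_C h.norm))).1
      (k1 (conj_mem_cj _ hx'))
    have k2 : ρ (x0 * x1 * x0 * x') = ρ (y * (x0 * x1 * x0)) := ext _ _ fun w hw => by
      rw [pρ _ (mul_mem mK (XK' hx')) w hw, pρ _ (mul_mem (XK hy) mK) w hw,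
        mul_inv_eq_iff_eq_mul.1 e]
      congr 1
      conv_rhs => rw [show y * (x0 * x1 * x0) * w * (y * (x0 * x1 * x0))⁻¹ =
        y * (x0 * x1 * x0 * w * (x0 * x1 * x0)⁻¹) * y⁻¹ by group,
        ← conj_eq_of_mem_C hc (conj_mem (h.norm mK) hw)]
      group
    rw [rm _ mK _ (XK' hx'), rm _ (XK hy) _ mK, ρm, rn, rn] at k2
    refine ⟨y, hy, ?_⟩
    linear_combination (norm := noncomm_ring) -k2 * n x0 + nn h' x1 hx2 x' hx' * n x0 - n y * pr -
      n y * pp + nn h y hy x0 hx0 * n x1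
  let S : AddSubgroup (AddMonoid.End V) :=
    { carrier := {a | ∃ x ∈ X, a = n x * n x1 + n x1 * n x}
      add_mem' := by
        rintro _ _ ⟨x, hx, rfl⟩ ⟨y, hy, rfl⟩
        have := rm x (XK hx) y (XK hy)
        rw [rn, rn, rn] at this
        have e : n (x * y) = n x + n y := by
          linear_combination (norm := noncomm_ring) this + nn h x hx y hy
        exact ⟨x * y, mul_mem hx hy, by rw [e]; noncomm_ring⟩
      zero_mem' := ⟨1, one_mem X, by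
        rw [ext (n 1) 0 fun w hw => by rw [n0 1 (one_mem K) w hw (by simp), zero_smul]]; simp⟩
      neg_mem' := by
        rintro _ ⟨x, hx, rfl⟩
        exact ⟨x, hx, neg_eq_of_add_eq_zero_left (t2 _)⟩ }
  have hJ : H11.JF.JD S := by
    refine ⟨one_add_one_eq_two.symm.trans (t2 1), ⟨x0, hx0, pr.symm⟩, ?_⟩
    rintro _ ⟨x, hx, rfl⟩ h0
    obtain ⟨x', hx', -, e⟩ := inv x hx fun e => h0 (by
      rw [ext (n x) 0 fun w hw => by rw [n0 x (XK hx) w hw (h.ea.comm e hw), zero_smul]]; simp)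
    obtain ⟨y, hy, k1⟩ := sw x' hx'
    exact ⟨_, ⟨y, hy, rfl⟩, k1 ▸ ring_inv pp rr pr (nn h x hx x0 hx0) (nn h x0 hx0 x hx)
      (nn h' x' hx' x1 hx2) (nn h' x1 hx2 x' hx') e⟩
  obtain ⟨y0, hy0, hy1⟩ := SetLike.not_le_iff_exists.1 h.not_le_R
  have m0 : π y0 ≠ 0 := fun e => hy1 ((pk _ hy0.1).1 e)
  have : Finite (AddMonoid.End V) := DFunLike.finite _
  have : Nontrivial (AddMonoid.End V) :=
    ⟨⟨1, 0, fun e => m0 (by rw [← one_smul (AddMonoid.End V) (π y0), e, zero_smul])⟩⟩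
  obtain ⟨F, _, _, φ, hφ, hS⟩ := hJ.exists_field
  have : ∀ x, ∃ t, x ∈ X → φ t = n x * n x1 + n x1 * n x := fun x => by
    by_cases hx : x ∈ X
    · obtain ⟨t, e⟩ := (hS _).1 ⟨x, hx, rfl⟩
      exact ⟨t, fun _ => e⟩
    · exact ⟨0, fun e => absurd e hx⟩
  choose α hα using this
  have sα : ∀ t, ∃ x ∈ X, α x = t := fun t => by
    obtain ⟨x, hx, e⟩ := (hS _).2 ⟨t, rfl⟩
    exact ⟨x, hx, hφ ((hα x hx).trans e.symm)⟩
  have αp : ∀ x ∈ X, n x = φ (α x) * n x0 := fun x hx => by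
    rw [hα x hx]
    linear_combination (norm := noncomm_ring) -n x * pr + nn h x hx x0 hx0 * n x1 -
      n x1 * nn h x hx x0 hx0
  have cp : ∀ t, n x0 * φ t = φ t * n x0 := fun t => by
    obtain ⟨x, hx, rfl⟩ := sα t
    rw [← αp x hx, hα x hx]
    linear_combination (norm := noncomm_ring) pr * n x + nn h x0 hx0 x hx * n x1 -
      n x1 * nn h x0 hx0 x hx
  have cr : ∀ t, n x1 * φ t = φ t * n x1 := fun t => by
    obtain ⟨x, hx, rfl⟩ := sα t
    rw [hα x hx]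
    linear_combination (norm := noncomm_ring) rr * n x - n x * rr
  have : ∀ x, ∃ t, x ∈ cj g X → n x = φ t * n x1 := fun x => by
    by_cases hx : x ∈ cj g X
    · obtain ⟨y, hy, e⟩ := sw x hx
      refine ⟨α y, fun _ => ?_⟩
      have k1 := nn h' x hx x1 hx2
      have k2 := nn h' x1 hx2 x hx
      rw [hα y hy, e]
      linear_combination (norm := noncomm_ring) -(n x0 * n x * n x0 * rr) - pr * (n x * n x0 * n x1) +
        n x0 * k2 * n x0 * n x1 - n x * pr + k1 * n x0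
    · exact ⟨0, fun e => absurd e hx⟩
  choose β hβ using this
  have pm : n x0 • π y0 = 0 := n0 x0 (XK hx0) y0 hy0.1 (h.eaX.comm hx0 hy0.2)
  have prm : n x0 • n x1 • π y0 = π y0 := by
    have := congrArg (· • π y0) pr
    simpa only [add_smul, mul_smul, pm, smul_zero, add_zero, one_smul] using this
  have sp : ∀ t (v : V), n x0 • φ t • v = φ t • n x0 • v := fun t v => by
    rw [← mul_smul, cp, mul_smul]
  have sr : ∀ t (v : V), n x1 • φ t • v = φ t • n x1 • v := fun t v => by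
    rw [← mul_smul, cr, mul_smul]
  have z0 : ∀ t, φ t • π y0 = 0 → t = 0 := fun t e => by
    by_contra e0
    apply m0
    rw [← one_smul (AddMonoid.End V) (π y0), ← map_one φ, ← inv_mul_cancel₀ e0, map_mul, mul_smul, e,
      smul_zero]
  let ψ0 : F × F →+ V := AddMonoidHom.mk' (fun u => φ u.1 • π y0 + φ u.2 • n x1 • π y0)
    fun a b => by simp only [Prod.fst_add, Prod.snd_add, map_add, add_smul]; abel
  have hψ : ∀ s t, ψ0 (s, t) = φ s • π y0 + φ t • n x1 • π y0 := fun _ _ => rfl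
  have sM : ∀ u : V, ∃ s, n x0 • u = φ s • π y0 := fun u => by
    obtain ⟨w, hw, rfl⟩ := ps u
    have m := cY h' x1 hx2 y0 hy0.1
    have k1 := nπ x1 (XK' hx2) y0 hy0.1
    obtain ⟨x, hx, e⟩ := h.surj m.1 (fun e => m0 (by
      rw [← prm, k1, n0 x0 (XK hx0) _ m.1 (h.eaX.comm hx0 e)])) (cY h x0 hx0 w hw)
    refine ⟨α x, ?_⟩
    rw [nπ x0 (XK hx0) w hw, ← peq _ (cW x (XK hx) _ m.1) _ (cW x0 (XK hx0) w hw) e,
      ← nπ x (XK hx) _ m.1, ← k1, αp x hx, mul_smul, prm]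
  have bψ : Function.Bijective ψ0 := by
    refine ⟨(injective_iff_map_eq_zero ψ0).2 fun ⟨s, t⟩ e => ?_, fun v => ?_⟩
    · have k1 := congrArg (n x0 • ·) e
      simp only [hψ, smul_add, sp, pm, prm, smul_zero, zero_add] at k1
      obtain rfl := z0 t k1
      rw [hψ, map_zero, zero_smul, add_zero] at e
      rw [z0 s e]; rfl
    · obtain ⟨s, k1⟩ := sM (n x1 • v)
      obtain ⟨t, k2⟩ := sM v
      exact ⟨(s, t), by rw [hψ, ← sr, ← k1, ← k2, ← mul_smul, ← mul_smul, ← add_smul, pr, one_smul]⟩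
  let ψ := AddEquiv.ofBijective ψ0 bψ
  have hψ' : ∀ u, ψ u = φ u.1 • π y0 + φ u.2 • n x1 • π y0 := fun _ => rfl
  refine ⟨F, inferInstance, inferInstance, fun w => ψ.symm (π w), α, β, ?_, ?_,
    fun v hv w hw => by rw [pa v hv w hw, map_add],
    fun w hw => by rw [← pk w hw]; exact ψ.symm.map_eq_zero_iff, fun u => ?_, fun x hx w hw => ?_,
    fun x hx w hw => ?_, sα, fun t => ?_⟩
  · have := Nat.card_eq_of_bijective _ bψ
    rw [cV, ← relIndex_mul_relIndex R _ W h.leR inf_le_left, h.idxR, h.idxW, Nat.card_prod,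
      Nat.card_eq_fintype_card] at this
    exact Nat.mul_self_inj.1 this
  · exact CharTwo.of_one_ne_zero_of_two_eq_zero one_ne_zero
      (hφ (by rw [map_ofNat, map_zero]; exact hJ.two))
  · obtain ⟨w, hw, e⟩ := ps (ψ u)
    exact ⟨w, hw, by rw [e, ψ.symm_apply_apply]⟩
  · rw [← pρ x (XK hx) w hw, ← ψ.apply_symm_apply (π w), ψ.symm_apply_eq, ψ.symm_apply_apply, rn,
      αp x hx]
    simp only [hψ', add_smul, mul_smul, smul_add, sp, pm, prm, smul_zero, one_smul, map_add, map_mul]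
    abel
  · rw [← pρ x (XK' hx) w hw, ← ψ.apply_symm_apply (π w), ψ.symm_apply_eq, ψ.symm_apply_apply, rn,
      hβ x hx]
    simp only [hψ', add_smul, mul_smul, smul_add, sr, ← mul_smul (n x1) (n x1), rr, zero_smul,
      smul_zero, one_smul, map_add, map_mul]
    abel
  · obtain ⟨w, hw, e⟩ := ps (φ t • π y0)
    obtain ⟨x, hx, k1⟩ := h'.surj hy0.1 (fun e => hy1 (e1.le ⟨e' ▸ ⟨hy0.1, e⟩, hy0⟩))
      (cY h' x1 hx2 w hw)
    have k2 := peq _ (cW x (XK' hx) _ hy0.1) _ (cW x1 (XK' hx2) w hw) k1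
    rw [← nπ x (XK' hx) _ hy0.1, ← nπ x1 (XK' hx2) w hw, e, hβ x hx, sr, mul_smul] at k2
    exact ⟨x, hx, congrArg Prod.snd (bψ.1 (a₁ := (0, β x)) (a₂ := (0, t)) (by rw [hψ, hψ, k2]))⟩

private theorem cyc_ringAut (F : Type) [Field F] [Finite F] : IsCyclic (F ≃+* F) := by
  obtain ⟨p, hp⟩ := CharP.exists F
  haveI := Fact.mk (CharP.char_is_prime F p)
  letI := ZMod.algebra F p
  let f : (F ≃ₐ[ZMod p] F) →* (F ≃+* F) :=
    { toFun := fun σ => σ.toRingEquiv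
      map_one' := rfl
      map_mul' := fun _ _ => rfl }
  refine isCyclic_of_surjective f fun σ => ⟨{ σ with commutes' := fun r => ?_ }, rfl⟩
  exact congrArg (fun g : ZMod p →+* F => g r)
    (Subsingleton.elim ((σ : F →+* F).comp (algebraMap (ZMod p) F)) (algebraMap (ZMod p) F))

private theorem triv_of_cyc {C : Type} [Group C] [IsCyclic C] (Φ : T →* C)
    (hE : ∀ e : T, (e : G) ∈ E → Φ e = 1)
    (h2 : ∀ N0 ≤ T, E ⊓ T ≤ N0 → (∀ a ∈ T, ∀ b ∈ T, a ∉ N0 → b ∉ N0 → a * b ∈ N0) → T ≤ N0)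
    (hs : s ∈ T) (h2s : TwoE s) : Φ ⟨s, hs⟩ = 1 := by
  obtain ⟨⟨_, t0, rfl⟩, hc⟩ := IsCyclic.exists_generator (α := Φ.range)
  have gen : ∀ a : T, ∃ i : ℤ, Φ a = Φ t0 ^ i := fun a => by
    obtain ⟨i, e⟩ := mem_zpowers_iff.1 (hc ⟨_, a, rfl⟩)
    exact ⟨i, (congrArg Subtype.val e).symm⟩
  have mem : ∀ a : T, (a : G) ∈ ((zpowers (Φ t0 ^ (2 : ℤ))).comap Φ).map T.subtype ↔
      ∃ i : ℤ, Φ t0 ^ (2 * i) = Φ a := fun a => by
    rw [← T.subtype_apply, mem_map_iff_mem T.subtype_injective, mem_comap, mem_zpowers_iff]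
    simp only [zpow_mul]
  obtain ⟨j, e⟩ := (mem t0).1 (h2 _ (map_subtype_le _)
    (fun e he => (mem ⟨e, he.2⟩).2 ⟨0, by rw [hE ⟨e, he.2⟩ he.1, mul_zero, zpow_zero]⟩)
    (fun a ha b hb h1 h2 => by
      obtain ⟨i, e1⟩ := gen ⟨a, ha⟩
      obtain ⟨j, e2⟩ := gen ⟨b, hb⟩
      obtain ⟨i, rfl | rfl⟩ := Int.even_or_odd' i
      · exact absurd ((mem ⟨a, ha⟩).2 ⟨i, e1.symm⟩) h1
      obtain ⟨j, rfl | rfl⟩ := Int.even_or_odd' j
      · exact absurd ((mem ⟨b, hb⟩).2 ⟨j, e2.symm⟩) h2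
      refine (mem (⟨a, ha⟩ * ⟨b, hb⟩)).2 ⟨i + j + 1, ?_⟩
      rw [map_mul, e1, e2, ← zpow_add]
      congr 1; ring) t0.2)
  have o : PiElt ({2}ᶜ : Set ℕ) (Φ t0) := fun p hp hd e2 => by
    obtain rfl : p = 2 := e2
    have k : Φ t0 ^ (2 * j - 1) = 1 := by rw [zpow_sub, e, zpow_one, mul_inv_cancel]
    have := (Int.natCast_dvd_natCast.2 hd).trans (orderOf_dvd_iff_zpow_eq_one.2 k)
    omega
  obtain ⟨i, e1⟩ := gen ⟨s, hs⟩
  have k : PiElt {2} (⟨s, hs⟩ : T) := by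
    unfold PiElt; rw [← orderOf_coe]; exact h2s
  exact (k.map Φ).eq_one (e1 ▸ o.zpow i)

theorem Half.semi (h : Half K W X R q) (hT : T ≤ N[W] ⊓ N[X] ⊓ N[R])
    (h2 : ∀ N0 ≤ T, (W ⊔ X) ⊓ T ≤ N0 → (∀ a ∈ T, ∀ b ∈ T, a ∉ N0 → b ∉ N0 → a * b ∈ N0) → T ≤ N0)
    (hs : s ∈ T) (h2s : TwoE s) : ⁅W, zpowers s⁆ ≤ X := by
  obtain ⟨g, hg, hY⟩ := h.ex
  obtain ⟨F, _, _, θ, α, β, -, _, c⟩ := h.coord hg hY
  choose ω hω eω using c.surj
  choose ξ hξ eξ using c.sα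
  have NW : ∀ t ∈ T, ∀ w ∈ W, t * w * t⁻¹ ∈ W := fun t ht w hw => conj_mem (hT ht).1.1 hw
  have NX : ∀ t ∈ T, ∀ w ∈ X, t * w * t⁻¹ ∈ X := fun t ht w hw => conj_mem (hT ht).1.2 hw
  have cW : ∀ x ∈ X, ∀ w ∈ W, ⁅x, w⁆ ∈ W := fun x hx w hw =>
    mul_mem (conj_mem (h.normW (mem_sup_right hx)) hw) (Subgroup.inv_mem _ hw)
  have br : ∀ x ∈ X, ∀ w ∈ W, θ ⁅x, w⁆ = (α x * (θ w).2, 0) := fun x hx w hw => by
    rw [commutatorElement_def, h.ea.inv hw, c.add _ (conj_mem (h.normW (mem_sup_right hx)) hw) w hw,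
      c.act x hx w hw]
    refine Prod.ext ?_ (CharTwo.add_self_eq_zero _)
    rw [Prod.fst_add]
    linear_combination CharTwo.add_self_eq_zero (θ w).1
  have nd : ∀ x ∈ X, ∀ w ∈ W, α x * (θ w).2 = 0 → w ∈ X ∨ x ∈ W := fun x hx w hw e =>
    h.nd w hw x hx (by
      rw [← commutatorElement_inv]
      exact Subgroup.inv_mem _ ((c.ker _ (cW x hx w hw)).1 (by rw [br x hx w hw, e]; rfl)))
  have θ1 : θ 1 = 0 := (c.ker 1 (one_mem W)).2 (one_mem R)
  have cm : ∀ x ∈ X, ∀ w ∈ W, x * w = w * x → α x * (θ w).2 = 0 := fun x hx w hw e => by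
    have := br x hx w hw
    rw [commutatorElement_eq_one_iff_mul_comm.2 e, θ1] at this
    exact (congrArg Prod.fst this).symm
  have x1 : ξ 1 ∉ W := fun e => by simpa [eξ, eω] using cm _ (hξ 1) _ (hω (0, 1)) (h.ea.comm e (hω _))
  have snd : ∀ w ∈ W, (θ w).2 = 0 ↔ w ∈ X := fun w hw =>
    ⟨fun e => (nd _ (hξ 1) w hw (by rw [e, mul_zero])).resolve_right x1,
      fun e => by simpa [eξ] using cm _ (hξ 1) w hw (h.eaX.comm (hξ 1) e)⟩
  have seq : ∀ v ∈ W, ∀ w ∈ W, (θ v).2 = (θ w).2 ↔ v * w ∈ X := fun v hv w hw => by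
    rw [← snd _ (mul_mem hv hw), c.add v hv w hw, Prod.snd_add, CharTwo.add_eq_zero]
  obtain ⟨σ, hσ⟩ : ∃ σ : G → F → F, ∀ t ∈ T, ∀ w ∈ W, (θ (t * w * t⁻¹)).2 = σ t (θ w).2 :=
    ⟨fun t b => (θ (t * ω (0, b) * t⁻¹)).2, fun t ht w hw => by
      rw [seq _ (NW t ht w hw) _ (NW t ht _ (hω _)), conj_mul]
      exact NX t ht _ ((seq w hw _ (hω _)).1 (by rw [eω]))⟩
  have hσ' : ∀ t ∈ T, ∀ b, σ t b = (θ (t * ω (0, b) * t⁻¹)).2 := fun t ht b => by
    rw [hσ t ht _ (hω _), eω]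
  have σa : ∀ t ∈ T, ∀ a b, σ t (a + b) = σ t a + σ t b := fun t ht a b => by
    have := hσ t ht _ (mul_mem (hω (0, a)) (hω (0, b)))
    rw [← conj_mul, c.add _ (NW t ht _ (hω _)) _ (NW t ht _ (hω _)), c.add _ (hω _) _ (hω _), eω,
      eω] at this
    rw [hσ' t ht a, hσ' t ht b]
    exact this.symm
  have σm : ∀ t ∈ T, ∀ u ∈ T, ∀ b, σ (t * u) b = σ t (σ u b) := fun t ht u hu b => by
    rw [hσ' u hu, ← hσ t ht _ (NW u hu _ (hω _)), hσ' _ (mul_mem ht hu)]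
    congr 2; group
  have σe : ∀ e ∈ T, e ∈ W ⊔ X → ∀ b, σ e b = b := fun e ht he b => by
    obtain ⟨w, hw, x, hx, rfl⟩ := h.mem_sup.1 he
    have m := conj_mem (h.normW (mem_sup_right hx)) (hω (0, b))
    rw [hσ' _ ht, show w * x * ω (0, b) * (w * x)⁻¹ = w * (x * ω (0, b) * x⁻¹) * w⁻¹ by group,
      h.ea.comm hw m, mul_inv_cancel_right, c.act x hx _ (hω _), eω]
  have σ0 : ∀ t ∈ T, ∀ b, σ t b = 0 → b = 0 := fun t ht b e => by
    rw [hσ' t ht, snd _ (NW t ht _ (hω _)), conj_mem_iff (hT ht).1.2, ← snd _ (hω _), eω] at e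
    exact e
  have σ1 : ∀ t ∈ T, σ t 1 ≠ 0 := fun t ht e => one_ne_zero (σ0 t ht 1 e)
  have rel : ∀ t ∈ T, ∀ a b, α (t * ξ a * t⁻¹) * σ t b = α (t * ξ 1 * t⁻¹) * σ t (a * b) := by
    intro t ht a b
    have k1 : ⁅ξ a, ω (0, b)⁆ * ⁅ξ 1, ω (0, a * b)⁆ ∈ R := by
      rw [← c.ker _ (mul_mem (cW _ (hξ _) _ (hω _)) (cW _ (hξ _) _ (hω _))),
        c.add _ (cW _ (hξ _) _ (hω _)) _ (cW _ (hξ _) _ (hω _)), br _ (hξ _) _ (hω _),
        br _ (hξ _) _ (hω _), eξ, eξ, eω, eω]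
      simp [CharTwo.add_self_eq_zero]
    have k2 := conj_mem (hT ht).2 k1
    have m := fun a u => cW _ (NX t ht _ (hξ a)) _ (NW t ht _ (hω u))
    rw [← conj_mul, conjugate_commutatorElement, conjugate_commutatorElement,
      ← c.ker _ (mul_mem (m _ _) (m _ _)), c.add _ (m _ _) _ (m _ _),
      br _ (NX t ht _ (hξ _)) _ (NW t ht _ (hω _)), br _ (NX t ht _ (hξ _)) _ (NW t ht _ (hω _)),
      ← hσ' t ht, ← hσ' t ht] at k2
    exact CharTwo.add_eq_zero.1 (congrArg Prod.fst k2)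
  have σr : ∀ t ∈ T, ∀ a b, σ t (a * b) * σ t 1 = σ t a * σ t b := fun t ht a b => by
    have k0 : α (t * ξ 1 * t⁻¹) ≠ 0 := fun e => by
      obtain ⟨w, h1, h2⟩ := SetLike.not_le_iff_exists.1 h.not_le
      exact (nd _ (NX t ht _ (hξ 1)) w h1 (by rw [e, zero_mul])).elim h2
        fun e => x1 ((conj_mem_iff (hT ht).1.1).1 e)
    have k1 := rel t ht a b
    have k2 := rel t ht a 1
    rw [mul_one] at k2
    apply mul_left_cancel₀ k0
    linear_combination σ t b * k2 - σ t 1 * k1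
  let f : T → F →+* F := fun t =>
    { toFun := fun b => σ t b / σ t 1
      map_one' := div_self (σ1 t t.2)
      map_mul' := fun a b => by
        have := σ1 t t.2
        field_simp
        exact σr t t.2 a b
      map_zero' := by
        have := σa t t.2 0 0
        rw [add_zero, left_eq_add] at this
        rw [this, zero_div]
      map_add' := fun a b => by rw [σa t t.2, add_div] }
  let Φ : T →* (F ≃+* F) := MonoidHom.mk'
    (fun t => RingEquiv.ofBijective (f t) (Finite.injective_iff_bijective.1 (f t).injective))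
    fun t u => RingEquiv.ext fun b => by
      change σ (t * u) b / σ (t * u) 1 = σ t (σ u b / σ u 1) / σ t 1
      rw [σm t t.2 u u.2, σm t t.2 u u.2, div_eq_div_iff (fun e => σ1 u u.2 (σ0 t t.2 _ e)) (σ1 t t.2),
        ← σr t t.2 (σ u b / σ u 1), div_mul_cancel₀ _ (σ1 u u.2)]
  haveI := cyc_ringAut F
  have k1 := triv_of_cyc Φ (fun e he => RingEquiv.ext fun b => by
    change σ e b / σ e 1 = b
    rw [σe e e.2 he, σe e e.2 he, div_one]) h2 hs h2s
  have k2 : ∀ b, σ s b = b * σ s 1 := fun b =>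
    (div_eq_iff (σ1 s hs)).1 (congrArg (fun e : F ≃+* F => e b) k1)
  have k3 : ∀ i : ℕ, σ (s ^ i) 1 = σ s 1 ^ i := fun i => by
    induction i with
    | zero => rw [pow_zero, pow_zero, σe 1 (one_mem T) (one_mem _)]
    | succ i ih => rw [pow_succ', σm s hs _ (pow_mem hs i), k2, ih, pow_succ]
  obtain ⟨i, e⟩ := h2s.exists_pow Nat.prime_two
  have k4 := k3 (2 ^ i)
  rw [← e, pow_orderOf_eq_one, σe 1 (one_mem T) (one_mem _), e] at k4
  have k5 : σ s 1 = 1 := by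
    haveI := Fact.mk Nat.prime_two
    have : (σ s 1 - 1) ^ 2 ^ i = 0 := by rw [sub_pow_char_pow, ← k4, one_pow, sub_self]
    exact sub_eq_zero.1 (pow_eq_zero_iff (by positivity) |>.1 this)
  have k6 : ∀ i : ℕ, ∀ b, σ (s ^ i) b = b := fun i b => by
    induction i with
    | zero => rw [pow_zero, σe 1 (one_mem T) (one_mem _)]
    | succ i ih => rw [pow_succ', σm s hs _ (pow_mem hs i), k2, ih, k5, mul_one]
  rw [commC, commutator_le]
  intro u hu w hw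
  obtain ⟨j, rfl⟩ := (mem_powers_iff_mem_zpowers.2 hu)
  rw [commutatorElement_def, h.ea.inv hw, ← seq _ (NW _ (pow_mem hs j) w hw) w hw,
    hσ _ (pow_mem hs j) w hw, k6]

end H2.C2
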