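import Mathlib
import Cfsg.Agent.H2.CDefs
import Cfsg.Agent.H14.G4c

set_option autoImplicit false
set_option linter.unusedVariables false
set_option linter.unusedSectionVars false

namespace H2.C2

open Cfsg H24 H26 H26.Gold Subgroup
open scoped commutatorElement

universe u

variable {G : Type u} [Group G] [Finite G]
  {A B D E H K L M N0 P P' Q Q' R R' S T T' U W X a a' b b' b'' v : Subgroup G}
  {g k n o s t x y z : G} {q : ℕ}

/-! ### CG4b -/

theorem Pg.c3 {w : ℤ → Subgroup G} (h : Pg 8 q w) (hR : Rt (w 0) ≠ ⊥) (O : H20.TB.Oct G)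
    (hU : ∀ i, O.U i = Rt (w i)) : ∃ (F : Type) (_ : Field F) (_ : Fintype F),
      Fintype.card F = q ∧ CharP F 2 ∧ Nonempty (O.C3 F) :=
  H14.G4.c3 h hR O hU


end H2.C2
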