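import Mathlib
import Cfsg.Agent.H2.CDefs
import Cfsg.Agent.H14.Pg3

set_option autoImplicit false
set_option linter.unusedVariables false
set_option linter.unusedSectionVars false

namespace H2.C2

open Cfsg H24 H26 H26.Gold Subgroup
open scoped commutatorElement

universe u

variable {G : Type u} [Group G] [Finite G]
  {A B D E H K L M N0 P P' Q Q' R R' S T T' U W X a a' b b' b'' v : Subgroup G}
  {g k n o s t x y z : G} {q : ℕ}

/-! ### CI3 -/

theorem hex_iso {G G' : Type*} [Group G] [Group G'] [Finite G] [Finite G'] (H : H20.TB.Hex G) (H' : H20.TB.Hex G')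
    (hg : (⨆ i, H.U i) = ⊤) (hg' : (⨆ i, H'.U i) = ⊤) (hz : center G = ⊥) (hz' : center G' = ⊥)
    (hc : Nat.card (H.U 0) = Nat.card (H'.U 0)) : Nonempty (G ≃* G') :=
  H14.Pg.hex_iso H H' hg hg' hz hz' hc

end H2.C2
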