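import Mathlib
import Cfsg.Agent.H2.CDefs
import Cfsg.Agent.H14.Pg3

set_option autoImplicit false
set_option linter.unusedVariables false
set_option linter.unusedSectionVars false

namespace H2.C2

open Cfsg H24 H26 H26.Gold Subgroup
open scoped commutatorElement

universe u

variable {G : Type u} [Group G] [Finite G]
  {A B D E H K L M N0 P P' Q Q' R R' S T T' U W X a a' b b' b'' v : Subgroup G}
  {g k n o s t x y z : G} {q : ℕ}

/-! ### CI4 -/

theorem oct_iso {G G' : Type*} [Group G] [Group G'] [Finite G] [Finite G'] (O : H20.TB.Oct G) (O' : H20.TB.Oct G')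
    (hg : (⨆ i, O.U i) = ⊤) (hg' : (⨆ i, O'.U i) = ⊤) (hz : center G = ⊥) (hz' : center G' = ⊥)
    (ha : ∀ i, O.ab i) (ha' : ∀ i, O'.ab i) {Γ : Subgroup (G × G')}
    (hΓ : H20.TB.Gr4 O.U O'.U Γ) : Nonempty (G ≃* G') :=
  H14.Pg.oct_iso O O' hg hg' hz hz' ha ha' hΓ

end H2.C2
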