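import Mathlib
import Cfsg.Agent.H2.CDefs
import Cfsg.Agent.H28.CMc

set_option autoImplicit false
set_option linter.unusedVariables false
set_option linter.unusedSectionVars false

namespace H2.C2

open Cfsg H24 H26 H26.Gold Subgroup
open scoped commutatorElement

theorem model3 (F : Type) [Field F] [Fintype F] :
    ∃ H : H20.TB.Hex (Matrix.ProjectiveSpecialLinearGroup (Fin 3) F), (⨆ i, H.U i) = ⊤ ∧
      Nat.card (H.U 0) = Fintype.card F ∧
      center (Matrix.ProjectiveSpecialLinearGroup (Fin 3) F) = ⊥ := H28.CM.model3 F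

end H2.C2
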