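import Mathlib
import Cfsg.Agent.H2.CDefs
import Cfsg.Agent.H28.CMb

set_option autoImplicit false
set_option linter.unusedVariables false
set_option linter.unusedSectionVars false

namespace H2.C2

open Cfsg H24 H26 H26.Gold Subgroup
open scoped commutatorElement

theorem model4 (F : Type) [Field F] [Fintype F] [CharP F 2] :
    ∃ O : H20.TB.Oct (PSp 2 F), (⨆ i, O.U i) = ⊤ ∧ (∀ i, O.ab i) ∧ Nonempty (O.C3 F) ∧
      Nat.card (O.U 3) = Fintype.card F ∧ center (PSp 2 F) = ⊥ := H28.CM.model4 F

end H2.C2
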