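import Mathlib
import Cfsg.Agent.H2.CG1b
import Cfsg.Agent.H2.CG2
import Cfsg.Agent.H2.CG3a
import Cfsg.Agent.H2.CG3b
import Cfsg.Agent.H2.CG4a
import Cfsg.Agent.H2.CG4b
import Cfsg.Agent.H2.CI3
import Cfsg.Agent.H2.CI4
import Cfsg.Agent.H2.CM3
import Cfsg.Agent.H2.CM4
import Cfsg.Agent.H2.CHC
import Cfsg.Agent.H20.TOct

set_option autoImplicit false
set_option linter.unusedVariables false
set_option linter.unusedSectionVars false

namespace H2.C2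

open Cfsg H24 H26 H26.Gold Subgroup
open scoped commutatorElement

universe u

variable {G : Type u} [Group G] [Finite G]
  {A B D E H K L M N0 P P' Q Q' R R' S T T' U W X a a' b b' b'' v : Subgroup G}
  {g k n o s t x y z : G} {q : ℕ}

theorem center_bot [IsSimpleGroup G] (hA : ¬ Abl A) : center G = ⊥ :=
  (IsSimpleGroup.eq_bot_or_eq_top_of_normal (center G) inferInstance).resolve_right fun h =>
    hA (abl_iff.2 (le_C_iff.2 fun a _ b _ => mem_center_iff.1 (h.ge (mem_top b)) a))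

theorem Geo.end3 [IsSimpleGroup G] (h : Geo q a b) (hR : Rt a = ⊥) :
    ∃ (F : Type) (_ : Field F) (_ : Fintype F), Fintype.card F = q ∧ CharP F 2 ∧
      Nonempty (G ≃* Matrix.ProjectiveSpecialLinearGroup (Fin 3) F) := by
  obtain ⟨w, hw, h0, h1⟩ := h.exists_hex hR
  obtain ⟨H, hg, hc⟩ := hw.hex (h0 ▸ hR)
  obtain ⟨g, hg', hY⟩ := h.am.h.ex
  obtain ⟨F, _, _, -, -, -, hF, h2, -⟩ := h.am.h.coord hg' hY
  obtain ⟨H', k1, k2, k3⟩ := model3 F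
  exact ⟨F, _, _, hF, h2, hex_iso H H' hg k1 (center_bot h.am.h.not_abl) k3 (by rw [hc, k2, hF])⟩

theorem Geo.end4 [IsSimpleGroup G] (h : Geo q a b) (hR : Rt a ≠ ⊥) :
    ∃ (F : Type) (_ : Field F) (_ : Fintype F), Fintype.card F = q ∧ CharP F 2 ∧
      Nonempty (G ≃* PSp 2 F) := by
  obtain ⟨w, hw, h0, h1⟩ := h.exists_oct hR
  obtain ⟨O, hU, hg, hab⟩ := hw.oct (h0 ▸ hR)
  obtain ⟨F, _, _, hF, h2, ⟨C⟩⟩ := hw.c3 (h0 ▸ hR) O hU
  obtain ⟨O', k1, k2, ⟨C'⟩, k3, k4⟩ := model4 F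
  have hR3 : Rt (w 3) ≠ ⊥ := by
    rw [← h0] at hR
    exact mt (hw.adj 2).typ_adj.2 (mt (hw.adj 1).typ_adj.2 (mt (hw.adj 0).typ_adj.2 hR))
  obtain ⟨Γ, hΓ⟩ := C.iso C' rfl (by rw [hU, ((hw.adj 3).card_Rt hR3).1, k3, hF])
    (iff_of_true (hab 0) (k2 0))
  exact ⟨F, _, _, hF, h2, oct_iso O O' hg k1 (center_bot h.am.h.not_abl) k4 hab k2 hΓ⟩

end H2.C2
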