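import Mathlib
import Cfsg.Agent.H2.CT1

set_option autoImplicit false
set_option linter.unusedVariables false
set_option linter.unusedSectionVars false

namespace H2.C2

open Cfsg H24 H26 H26.Gold Subgroup
open scoped commutatorElement

universe u

variable {G : Type u} [Group G] [Finite G]
  {A B D E H K L M N0 P P' Q Q' R R' S T T' U W X a a' b b' b'' v : Subgroup G}
  {g k n o s t x y z : G} {q : ℕ}

/-! ### CF1 -/

theorem Gam_le (A Q : Subgroup G) : Gam A Q ≤ N[Q] :=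
  sup_le (C_le_N Q) (iSup_le fun _ => inf_le_left)
theorem le_Gam (h1 : Q < R) (h2 : R ≤ A) : N[Q] ⊓ N[R] ≤ Gam A Q :=
  le_sup_of_le_right (le_iSup (fun R : {R : Subgroup G // Q < R ∧ R ≤ A} => N[Q] ⊓ N[R.1])
    ⟨R, h1, h2⟩)
theorem C_le_Gam (A Q : Subgroup G) : C[Q] ≤ Gam A Q := le_sup_left

theorem Gam_le_of (h1 : C[Q] ≤ M) (h2 : ∀ R, Q < R → R ≤ A → N[Q] ⊓ N[R] ≤ M) : Gam A Q ≤ M :=
  sup_le h1 (iSup_le fun R => h2 R.1 R.2.1 R.2.2)

theorem cj_Gam_le (g : G) (A Q : Subgroup G) : cj g (Gam A Q) ≤ Gam (cj g A) (cj g Q) := by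
  rw [cj_le_iff]
  refine Gam_le_of ?_ fun R h1 h2 => ?_
  · rw [← cj_le_iff, cj_C]; exact C_le_Gam _ _
  · rw [← cj_le_iff, cj_inf, cj_N, cj_N]
    exact le_Gam (cj_lt_cj.2 h1) (cj_mono g h2)

theorem cj_Gam (g : G) (A Q : Subgroup G) : cj g (Gam A Q) = Gam (cj g A) (cj g Q) := by
  refine le_antisymm (cj_Gam_le g A Q) ?_
  rw [le_cj_iff]
  simpa only [cj_inv_cj] using cj_Gam_le g⁻¹ (cj g A) (cj g Q)

theorem Ess.conj (h : Ess A Q) (g : G) : Ess (cj g A) (cj g Q) := by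
  refine ⟨cj_lt_cj.2 h.lt, ?_, ?_⟩
  · rw [← cj_C, ← cj_inf]; exact cj_mono g h.cent
  · rw [← cj_N, ← cj_Gam, cj_le_cj]; exact h.ne

theorem cj_VV (g : G) (A Q : Subgroup G) : cj g (VV A Q) = VV (cj g A) (cj g Q) := by
  rw [VV, VV, cj_ncl, cj_N, cj_Zo]
theorem cj_KK (g : G) (A Q : Subgroup G) : cj g (KK A Q) = KK (cj g A) (cj g Q) := by
  rw [KK, KK, cj_ncl, cj_N]
theorem cj_WW (g : G) (A Q : Subgroup G) : cj g (WW A Q) = WW (cj g A) (cj g Q) := by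
  rw [WW, WW, cj_comm, cj_VV, cj_O2, cj_KK]
theorem Mt.symm (h : Mt A Q P) : Mt A P Q := ⟨h.r, h.l, fun h1 => h.nc (cents_symm h1)⟩
theorem Mt.conj (h : Mt A Q P) (g : G) : Mt (cj g A) (cj g Q) (cj g P) := by
  refine ⟨h.l.conj g, h.r.conj g, ?_⟩
  rw [← cj_VV, ← cj_VV, ← cj_C, cj_le_cj]; exact h.nc

/-- the elements of `N(D)` which are products of moves -/
def mvSub (𝓛 : Set (Subgroup G × Subgroup G)) (hL : ∀ p ∈ 𝓛, p.2 ≤ N[p.1]) (D : Subgroup G) :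
    Subgroup G where
  carrier := {g | g ∈ N[D] ∧ Mv 𝓛 D g}
  one_mem' := ⟨one_mem _, Mv.cent (one_mem _)⟩
  mul_mem' := fun {a b} ha hb => ⟨mul_mem ha.1 hb.1, hb.2.trans (by
    rw [cj_of_mem_N hb.1]; exact ha.2)⟩
  inv_mem' := fun {a} ha => ⟨inv_mem ha.1, by
    have := ha.2.inv hL
    rwa [cj_of_mem_N ha.1] at this⟩

theorem SCl.alp (h : SCl ⊤ A) (hD : D ≤ A) (hg : cj g D ≤ A) :
    Mv ({(A, N[A])} ∪ {p | ∃ Q, Ess A Q ∧ p = (Q, N[Q])}) D g := by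
  set 𝓛 : Set (Subgroup G × Subgroup G) := {(A, N[A])} ∪ {p | ∃ Q, Ess A Q ∧ p = (Q, N[Q])}
  have hL : ∀ p ∈ 𝓛, p.2 ≤ N[p.1] := by
    rintro p (rfl | ⟨Q, -, rfl⟩) <;> exact le_rfl
  have one : ∀ {D Q K : Subgroup G} {k : G}, (Q, K) ∈ 𝓛 → D ≤ Q → k ∈ K → Mv 𝓛 D k :=
    fun h1 h2 h3 => by simpa using Mv.step (g := 1) h1 h2 h3 (Mv.cent (one_mem _))
  suffices H : ∀ m, ∀ (D : Subgroup G) (g : G), ♯A - ♯D = m → D ≤ A → cj g D ≤ A → Mv 𝓛 D g from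
    H _ D g rfl hD hg
  intro m
  induction m using Nat.strong_induction_on with
  | _ m ih =>
  intro D g hm hD hg
  by_cases e : D = A
  · subst e
    exact one (Or.inl rfl) le_rfl (mem_N_of_cj_le hg)
  have ih' : ∀ (R : Subgroup G) (k : G), ♯D < ♯R → R ≤ A → cj k R ≤ A → Mv 𝓛 R k :=
    fun R k h1 h2 h3 => ih _ (by have := card_le h2; omega) R k rfl h2 h3
  have hlt : ∀ u : G, cj u D ≤ A → cj u D < A ⊓ N[cj u D] := fun u hu =>
    (h.two.nil Nat.prime_two).proper_norm (lt_of_card_lt hu (by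
      rw [card_cj]; exact card_lt (lt_of_le_of_ne hD e)))
  -- a fully normalised conjugate
  obtain ⟨T, hT, hDT⟩ := h.exists_mx (L := N[D]) le_top (norm_self D) (h.two.of_le hD)
    fun x hx => mem_hc' (hD hx)
  obtain ⟨y, -, hy⟩ := h.conj_into hT.two le_top
  have hTA : cj y T ≤ A := fun x hx => by
    obtain ⟨z, hz, rfl⟩ := mem_cj'.1 hx
    exact hy z hz (hT.mem z hz)
  set D' := cj y D with hD'
  have hD'A : D' ≤ A := (cj_mono y hDT).trans hTA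
  have hT' : Mx ⊤ A N[D'] (A ⊓ N[D']) := by
    have h1 := hT.conj le_top (mem_top y)
    rw [cj_N] at h1
    have : A ⊓ N[D'] = cj y T := le_antisymm (fun x hx => h1.max _ (h.two.inf_left _)
      (le_inf hTA h1.le) inf_le_right x hx (mem_hc' hx.1)) (le_inf hTA h1.le)
    rwa [this]
  -- every conjugate in `A` moves to `D'`
  have key : ∀ u : G, cj u D ≤ A → ∃ x, cj x (cj u D) = D' ∧ Mv 𝓛 (cj u D) x := fun u hu => by
    obtain ⟨l, hl, h1⟩ := hT'.conj_le h le_top (D := cj (y * u⁻¹) (A ⊓ N[cj u D])) (by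
        rw [cj_inf, cj_N, ← cj_mul, inv_mul_cancel_right]; exact inf_le_right)
      ((h.two.inf_left _).cj _) fun x hx => by
        obtain ⟨z, hz, rfl⟩ := mem_cj'.1 hx
        exact mem_hc hz.1 (mem_top _)
    have hl' := (ncl_nml hT'.le).le hl
    refine ⟨l * (y * u⁻¹), ?_, (ih' _ _ ?_ inf_le_left ?_).res (hlt u hu).le⟩
    · rw [cj_mul, ← cj_mul (y * u⁻¹), inv_mul_cancel_right, cj_of_mem_N hl']
    · rw [← card_cj u D]; exact card_lt (hlt u hu)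
    · rw [cj_mul]; exact h1.trans inf_le_left
  -- the normaliser of `D'`
  have hN : N[D'] ≤ mvSub 𝓛 hL D' := by
    have hG : Gam A D' ≤ mvSub 𝓛 hL D' := Gam_le_of (fun c hc => ⟨C_le_N _ hc, Mv.cent hc⟩)
      fun R h1 h2 n hn => ⟨hn.1, (ih' R n (by rw [← card_cj y D]; exact card_lt h1) h2
        ((cj_of_mem_N hn.2).le.trans h2)).res h1.le⟩
    by_cases h1 : N[D'] ≤ Gam A D'
    · exact h1.trans hG
    by_cases h2 : A ⊓ C[D'] ≤ D'
    · exact fun n hn => ⟨hn, one (Or.inr ⟨D', ⟨(hlt y hD'A).trans_le inf_le_left, h2, h1⟩, rfl⟩)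
        le_rfl hn⟩
    refine absurd ?_ h1
    have hK : D' ⊔ C[D'] ⊴ N[D'] := (nml_N D').sup (C_nml_N D')
    have h3 : D' ≤ A ⊓ N[D'] ⊓ (D' ⊔ C[D']) := le_inf (hlt y hD'A).le le_sup_left
    have h4 : D' < A ⊓ N[D'] ⊓ (D' ⊔ C[D']) := lt_of_le_of_ne h3 fun e => h2
      ((le_inf (inf_le_inf_left _ (C_le_N _)) (inf_le_right.trans le_sup_right)).trans e.ge)
    have h5 := le_Gam h4 (inf_le_left.trans inf_le_left)
    refine ((hT'.scl h le_top).frattini hK).sup_eq.ge.trans (sup_le (sup_le ?_ (C_le_Gam _ _)) h5)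
    exact (le_inf (norm_self _) (norm_of_le h3)).trans h5
  obtain ⟨x, e1, m1⟩ := key 1 (by rwa [cj_one])
  obtain ⟨x', e2, m2⟩ := key g hg
  rw [cj_one] at e1 m1
  have h1 : x' * g * x⁻¹ ∈ N[D'] := by
    rw [mem_N_iff_cj, cj_mul, cj_mul, ← e1, cj_inv_cj, e2, e1]
  have m3 := m1.trans (k := x' * g * x⁻¹) (e1 ▸ (hN h1).2)
  have m4 := m2.inv hL
  rw [← cj_mul, ← inv_mul_cancel_right (x' * g) x] at m4
  have := m3.trans m4
  rwa [show x'⁻¹ * (x' * g * x⁻¹ * x) = g by group] at this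

end H2.C2
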