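import Mathlib
import Cfsg.Agent.H2.CDefs
import Cfsg.Agent.H2.CT1
import Cfsg.Agent.H2.CT2
import Cfsg.Agent.H2.CT3
import Cfsg.Agent.H2.CF1
import Cfsg.Agent.H23.F3a

set_option autoImplicit false
set_option linter.unusedVariables false
set_option linter.unusedSectionVars false

namespace H2.C2

open Cfsg H24 H26 H26.Gold Subgroup
open scoped commutatorElement

universe u

variable {G : Type u} [Group G] [Finite G]
  {A B D E H K L M N0 P P' Q Q' R R' S T T' U W X a a' b b' b'' v : Subgroup G}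
  {g k n o s t x y z : G} {q : ℕ}

/-! ### CF2 -/

theorem ncl_comm_le (hX : H ≤ N[X]) (hU : H ≤ N[U]) (hn : X ≤ N[U]) (hA : A ≤ H)
    (h : ⁅A, X⁆ ≤ U) : ⁅ncl H A, X⁆ ≤ U :=
  ((le_centQ hn).1 (ncl_le ((le_centQ hn).2 ⟨hA.trans hU, h⟩) (norm_centQ hX hU))).2

theorem norm_Zo (h : M ≤ N[A]) : M ≤ N[Zo A] := fun g hg =>
  mem_N_iff_cj.2 (by rw [cj_Zo, cj_of_mem_N (h hg)])

theorem odd_step (ho : OddE x) (hW : W ≤ U) (h1 : ∀ u ∈ U, ⁅x, u⁆ ∈ W) (hd : ⁅x, y⁆ ∈ U)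
    (h2 : ⁅x, y⁆ * ⁅x, y⁆ = 1) : ⁅x, y⁆ ∈ W := by
  have key : ∀ j : ℕ, ⁅x ^ j, y⁆ ∈ U ∧ ⁅x ^ j, y⁆ * (⁅x, y⁆ ^ j)⁻¹ ∈ W := by
    intro j
    induction j with
    | zero => simp
    | succ j ih =>
      have e : ⁅x ^ (j + 1), y⁆ = ⁅x, ⁅x ^ j, y⁆⁆ * ⁅x ^ j, y⁆ * ⁅x, y⁆ := by
        rw [pow_succ']; simp only [commutatorElement_def]; group
      rw [e]
      refine ⟨mul_mem (mul_mem (hW (h1 _ ih.1)) ih.1) hd, ?_⟩
      rw [pow_succ, mul_inv_rev, mul_assoc, mul_inv_cancel_left, mul_assoc]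
      exact mul_mem (h1 _ ih.1) ih.2
  have h3 := (key (orderOf x)).2
  rw [pow_orderOf_eq_one, commutatorElement_one_left, one_mul, inv_mem_iff] at h3
  exact H23.F3.mem_of_odd (oddE_iff.1 ho) h3 (h2 ▸ one_mem _)

theorem comm_sq_right (h : ⁅x, y⁆ ∈ C{y}) : ⁅x, y * y⁆ = ⁅x, y⁆ * ⁅x, y⁆ := by
  have : ⁅x, y * y⁆ = ⁅x, y⁆ * (y * ⁅x, y⁆) * y⁻¹ := by simp only [commutatorElement_def]; group
  rw [this, ← mem_C1.1 h]; group

theorem comm_sq_left (h : ⁅x, y⁆ ∈ C{x}) : ⁅x * x, y⁆ = ⁅x, y⁆ * ⁅x, y⁆ := by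
  have : ⁅x * x, y⁆ = (x * ⁅x, y⁆) * x⁻¹ * ⁅x, y⁆ := by simp only [commutatorElement_def]; group
  rw [this, ← mem_C1.1 h]; group

section
variable (hA : SCl ⊤ A) (h2 : Cl2 A) (h : Ess A Q)
include hA h2 h
theorem Ess.cz : A ⊓ C[A] ≤ Q ⊓ C[Q] :=
  le_inf ((inf_le_inf_left _ (C_anti h.lt.le)).trans h.cent) (inf_le_right.trans (C_anti h.lt.le))
theorem Ess.derA : ⁅A, A⁆ ≤ Q ⊓ C[Q] := (le_inf (der1_le A) h2).trans (h.cz hA h2)
theorem Ess.le_norm : A ≤ N[Q] := norm_of_der1_le ((h.derA hA h2).trans inf_le_left) h.lt.le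
theorem Ess.scl : SCl N[Q] A := hA.mono le_top (h.le_norm hA h2)
theorem Ess.ZQ : Zo A ≤ Q ⊓ C[Q] := (Zo_le A).trans (h.cz hA h2)
theorem Ess.twoQ : TwoG Q := hA.two.of_le h.lt.le
theorem Ess.K_nml : KK A Q ⊴ N[Q] := ncl_nml (h.le_norm hA h2)
theorem Ess.O_nml : O2 (KK A Q) ⊴ N[Q] :=
  ⟨(O2_le _).trans (h.K_nml hA h2).le, norm_O2 (h.K_nml hA h2).norm⟩
theorem Ess.V_nml : VV A Q ⊴ N[Q] := ncl_nml (((h.ZQ hA h2).trans inf_le_left).trans (norm_self Q))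
theorem Ess.W_nml : WW A Q ⊴ N[Q] := (h.V_nml hA h2).comm (h.O_nml hA h2)
theorem Ess.K_eq : KK A Q = O2 (KK A Q) ⊔ A := (h.scl hA h2).ncl_eq
theorem Ess.prod : IsProd (N[Q] ⊓ N[A]) (O2 (KK A Q)) N[Q] := by
  refine IsProd.symm ⟨(h.O_nml hA h2).le, inf_le_left, fun m hm => ?_⟩
  obtain ⟨k, hk, n, hn, rfl⟩ := (h.scl hA h2).frattini'.mul m hm
  have hk' : k ∈ O2 (KK A Q) ⊔ A := h.K_eq hA h2 ▸ hk
  obtain ⟨o, ho, a, ha, rfl⟩ :=
    (mem_sup_of_norm ((h.le_norm hA h2).trans (h.O_nml hA h2).norm)).1 hk'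
  exact ⟨o, ho, a * n, mul_mem ⟨h.le_norm hA h2 ha, norm_self A ha⟩ hn, mul_assoc _ _ _⟩
theorem Ess.V_le_U : VV A Q ≤ Zo Q :=
  ncl_le (fun z hz => mem_Zo.2 ⟨(h.ZQ hA h2 hz).1, (h.ZQ hA h2 hz).2, (mem_Zo.1 hz).2.2⟩)
    (norm_Zo le_rfl)
theorem Ess.V_ea : EA (VV A Q) := (ea_Zo Q).of_le (h.V_le_U hA h2)
theorem Ess.V_le : VV A Q ≤ Q ⊓ C[Q] := (h.V_le_U hA h2).trans (Zo_le Q)
theorem Ess.V_inf : VV A Q ⊓ C[A] = Zo A :=
  le_antisymm (fun x hx => mem_Zo.2 ⟨h.lt.le (h.V_le hA h2 hx.1).1, hx.2, (h.V_ea hA h2).sq hx.1⟩)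
    (le_inf (le_ncl _ _) ((Zo_le A).trans inf_le_right))
theorem Ess.comm_U : ⁅A, Zo Q⁆ ≤ Zo A := by
  refine commutator_le.2 fun a ha u hu => ?_
  have huA := h.lt.le (Zo_le Q hu).1
  have h1 := commutator_mem_commutator ha huA
  refine mem_Zo.2 ⟨der1_le A h1, h2 h1, (ea_Zo Q).sq ?_⟩
  exact comm_le_right (norm_Zo (h.le_norm hA h2)) (commutator_mem_commutator ha hu)
theorem Ess.comm_V : ⁅VV A Q, A⁆ ≤ Zo A := by
  rw [commC]; exact (comm_mono_right (h.V_le_U hA h2)).trans (h.comm_U hA h2)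
theorem Ess.comm_KU : ⁅KK A Q, Zo Q⁆ ≤ VV A Q :=
  ncl_comm_le (norm_Zo le_rfl) (h.V_nml hA h2).norm
    ((((Zo_le Q).trans inf_le_left).trans (norm_self Q)).trans (h.V_nml hA h2).norm)
    (h.le_norm hA h2) ((h.comm_U hA h2).trans (le_ncl _ _))
theorem Ess.comm_KQ : ⁅KK A Q, Q⁆ ≤ Q ⊓ C[Q] :=
  ncl_comm_le le_rfl (norm_Z le_rfl) (norm_Z (norm_self Q)) (h.le_norm hA h2)
    ((comm_mono_right h.lt.le).trans (h.derA hA h2))
theorem Ess.odd_cent (hx : x ∈ KK A Q) (hc : x ∈ C[VV A Q]) (ho : OddE x) : x ∈ C[Q] := by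
  have hz := zpowers_le.2 hx
  have h1 : x ∈ C[Zo Q] := odd_cent_of_chain (ea_Zo Q).two (h.V_le_U hA h2) ho
    (by rw [commC]; exact (comm_mono_left hz).trans (h.comm_KU hA h2)) hc
  have h3 : x ∈ C[Z[Q]] := odd_cent_of_omega ((h.twoQ hA h2).inf_left _) (abl_center Q)
    (norm_Z le_rfl ((h.K_nml hA h2).le hx)) ho fun y hy e =>
      mem_C1_comm.1 (C_le_C1 (mem_Zo.2 ⟨hy.1, hy.2, e⟩) h1)
  exact odd_cent_of_chain (h.twoQ hA h2) inf_le_left ho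
    (by rw [commC]; exact (comm_mono_left hz).trans (h.comm_KQ hA h2)) h3
theorem Ess.cent_V : A ⊓ C[VV A Q] = Q := by
  have hQ : Q ≤ A ⊓ C[VV A Q] := le_inf h.lt.le (cents_symm ((h.V_le hA h2).trans inf_le_right))
  by_contra hne
  have hlt : Q < A ⊓ C[VV A Q] := lt_of_le_of_ne hQ (Ne.symm hne)
  have hn : N[Q] ≤ N[C[VV A Q]] := norm_C (h.V_nml hA h2).norm
  have hs := (h.scl hA h2).inf_nml hn
  have hG := le_Gam hlt inf_le_left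
  refine h.ne ?_
  rw [← hs.frattini'.sup_eq, hs.ncl_eq]
  refine sup_le (sup_le (O2_le_of fun x hx ho => C_le_Gam A Q ?_)
    (le_trans (le_inf hs.le (norm_self _)) hG)) hG
  exact h.odd_cent hA h2 (ncl_mono le_rfl inf_le_left hx) (ncl_le inf_le_right hn hx) ho
theorem Ess.not_le : ¬ VV A Q ≤ C[A] := fun e =>
  h.lt.not_ge (by rw [← h.cent_V hA h2]; exact le_inf le_rfl (cents_symm e))
theorem Ess.sq_mem (hx : x ∈ A) : x * x ∈ Q := by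
  rw [← h.cent_V hA h2]
  refine ⟨mul_mem hx hx, mem_C'.2 fun v hv => ?_⟩
  have h1 := h.comm_U hA h2 (commutator_mem_commutator hx (h.V_le_U hA h2 hv))
  rw [← commutatorElement_eq_one_iff_mul_comm, comm_sq_left (C_le_C1 hx (Zo_le A h1).2),
    (ea_Zo A).sq h1]
theorem Ess.der_le : ⁅Q, Q⁆ ≤ C[KK A Q] :=
  cents_symm (ncl_le (cents_symm ((der1_mono h.lt.le).trans h2)) (norm_C (norm_der1 le_rfl)))
theorem Ess.sq_cent (hx : x ∈ Q) : x * x ∈ C[O2 (KK A Q)] := by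
  set Φ : Subgroup G := closure {y | ∃ x ∈ Q, y = x * x} with hΦ
  have hn : N[Q] ≤ N[Φ] := norm_closure (by
    rintro g hg _ ⟨y, hy, rfl⟩
    exact subset_closure ⟨g * y * g⁻¹, conj_mem hg hy, by group⟩)
  have hle : Φ ≤ Q := (closure_le _).2 (by rintro _ ⟨y, hy, rfl⟩; exact Q.mul_mem hy hy)
  have hA' : A ≤ N[⁅Q, Q⁆] := norm_der1 (h.le_norm hA h2)
  have h1 : Φ ≤ centQ A ⁅Q, Q⁆ := (closure_le _).2 (by
    rintro _ ⟨y, hy, rfl⟩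
    refine (mem_centQ hA').2 ⟨hA' (h.lt.le (Q.mul_mem hy hy)), fun a ha => ?_⟩
    have h3 := h2 (commutator_mem_commutator (h.lt.le hy) ha)
    rw [comm_sq_left (C_le_C1 (h.lt.le hy) h3), ← comm_sq_right (C_le_C1 ha h3)]
    exact commutator_mem_commutator hy (h.sq_mem hA h2 ha))
  have h3 : ⁅KK A Q, Φ⁆ ≤ ⁅Q, Q⁆ :=
    ncl_comm_le hn (norm_der1 le_rfl) (hle.trans (norm_der1 (norm_self Q))) (h.le_norm hA h2)
      (by rw [commC]; exact ((le_centQ hA').1 h1).2)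
  refine mem_C_iff_le_C1.2 (O2_le_of fun o ho hodd => mem_C1.2 ?_)
  have h4 := h3 (commutator_mem_commutator ho (subset_closure ⟨x, hx, rfl⟩))
  exact odd_fix hodd ((h.twoQ hA h2).piElt (der1_le Q h4))
    (by simp only [commutatorElement_def]; group) (mem_C.1 (h.der_le hA h2 h4) o ho)
theorem Ess.W_le : WW A Q ≤ VV A Q :=
  comm_le_left ((h.O_nml hA h2).le.trans (h.V_nml hA h2).norm)
theorem Ess.comm_Q : ⁅Q, O2 (KK A Q)⁆ = WW A Q := by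
  refine le_antisymm ?_ (comm_mono_left ((h.V_le hA h2).trans inf_le_left))
  have hn : Q ≤ N[WW A Q] := (norm_self Q).trans (h.W_nml hA h2).norm
  rw [commC]
  refine ((le_centQ hn).1 (O2_le_of fun x hx ho => (mem_centQ hn).2
    ⟨(h.W_nml hA h2).norm ((h.K_nml hA h2).le hx), fun y hy => ?_⟩)).2
  have h1 := h.comm_KQ hA h2 (commutator_mem_commutator hx hy)
  have h3 : ⁅x, y⁆ * ⁅x, y⁆ = 1 := by
    rw [← comm_sq_right (C_le_C1 hy h1.2), commutatorElement_eq_one_iff_mul_comm]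
    exact mem_C.1 (h.sq_cent hA h2 hy) x (mem_O2 hx ho)
  refine odd_step ho (h.W_le hA h2) (fun u hu => ?_) (odd_step ho (h.V_le_U hA h2)
    (fun u hu => h.comm_KU hA h2 (commutator_mem_commutator hx hu)) (mem_Zo.2 ⟨h1.1, h1.2, h3⟩)
    h3) h3
  rw [WW, commC]; exact commutator_mem_commutator (mem_O2 hx ho) hu
theorem Ess.V_eq : VV A Q = WW A Q ⊔ Zo A := by
  have hle : WW A Q ⊔ Zo A ≤ VV A Q := sup_le (h.W_le hA h2) (le_ncl _ _)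
  refine le_antisymm (ncl_le le_sup_right ?_) hle
  refine (h.prod hA h2).sup_eq.ge.trans (sup_le ?_ ?_)
  · exact norm_sup (inf_le_left.trans (h.W_nml hA h2).norm) (norm_Zo inf_le_right)
  · exact norm_of_comm_le_left ((comm_mono_left hle).trans le_sup_left)
theorem Ess.cent_W : A ⊓ C[WW A Q] = Q := by
  refine le_antisymm ?_ (le_inf h.lt.le (cents_symm (((h.W_le hA h2).trans (h.V_le hA h2)).trans
    inf_le_right)))
  refine le_trans ?_ (h.cent_V hA h2).le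
  rw [h.V_eq hA h2]
  exact le_inf inf_le_left (cents_sup inf_le_right
    (inf_le_left.trans (cents_symm ((Zo_le A).trans inf_le_right))))
theorem Ess.normC : N[Q] ≤ N[N[Q] ⊓ C[VV A Q]] :=
  norm_inf (norm_self _) (norm_C (h.V_nml hA h2).norm)
theorem Ess.sup_le : (N[Q] ⊓ C[VV A Q]) ⊔ A ≤ Gam A Q := by
  set M := (N[Q] ⊓ C[VV A Q]) ⊔ A with hM
  have hMN : M ≤ N[Q] := _root_.sup_le inf_le_left (h.le_norm hA h2)
  have hs : SCl M A := hA.mono le_top le_sup_right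
  have hG := le_Gam h.lt le_rfl
  have hO : O2 M ≤ N[Q] ⊓ C[VV A Q] := O2_le_of_idx ⟨le_sup_left, hMN.trans (h.normC hA h2)⟩ (by
    rw [hM, relIndex_sup_of_norm ((h.le_norm hA h2).trans (h.normC hA h2))]
    exact hA.two.relIndex _)
  rw [← hs.frattini'.sup_eq, hs.ncl_eq]
  refine _root_.sup_le (_root_.sup_le (O2_le_of fun x hx ho => C_le_Gam A Q ?_)
    (le_trans (le_inf (h.le_norm hA h2) (norm_self _)) hG)) ((inf_le_inf_right _ hMN).trans hG)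
  exact h.odd_cent hA h2 (ncl_mono hMN le_rfl hx)
    (hO (mem_O2 ((ncl_nml hs.le).le hx) ho)).2 ho
theorem Ess.cV_le : N[Q] ⊓ C[VV A Q] ≤ Gam A Q := le_sup_left.trans (h.sup_le hA h2)
theorem Ess.gam_of (hg : g ∈ N[Q]) (hx : x ∈ A) (hxQ : x ∉ Q) (hy : y ∈ A)
    (hc : (g * x * g⁻¹)⁻¹ * y ∈ C[VV A Q]) : g ∈ Gam A Q := by
  set M := (N[Q] ⊓ C[VV A Q]) ⊔ A with hM
  have hN := h.le_norm hA h2
  have hMN : M ≤ N[Q] := _root_.sup_le inf_le_left hN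
  have hRA : Q ⊔ zpowers x ≤ A := _root_.sup_le h.lt.le (zpowers_le.2 hx)
  have hlt : Q < Q ⊔ zpowers x := lt_of_le_of_ne le_sup_left fun e =>
    hxQ (e ▸ mem_sup_right (mem_zpowers x))
  set R := Q ⊔ zpowers x with hR
  have h1 : cj g R ≤ M := by
    rw [hR, cj_sup, cj_of_mem_N hg, cj_zpowers]
    refine _root_.sup_le (h.lt.le.trans le_sup_right) (zpowers_le.2 ?_)
    have e : g * x * g⁻¹ = y * ((g * x * g⁻¹)⁻¹ * y)⁻¹ := by group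
    rw [e]
    exact mul_mem (mem_sup_right hy) (inv_mem (mem_sup_left
      (mem_inf.2 ⟨mul_mem (inv_mem (mul_mem (mul_mem hg (hN hx)) (inv_mem hg))) (hN hy), hc⟩)))
  obtain ⟨l, hl, h3⟩ := Mx.conj_le hA le_top (hA.mx_self (L := M) le_top le_sup_right) h1
    ((hA.two.of_le hRA).cj g) fun x hx => by
      obtain ⟨y, hy, rfl⟩ := mem_cj'.1 hx; exact mem_hc (hRA hy) (mem_top _)
  have hlM : l ∈ M := (ncl_nml le_sup_right).le hl
  rw [← cj_mul] at h3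
  have hlg : l * g ∈ N[Q] := mul_mem (hMN hlM) hg
  have hlt' : Q < cj (l * g) R := by
    have := cj_lt_cj (g := l * g).2 hlt
    rwa [cj_of_mem_N hlg] at this
  have hd : ⁅A, A⁆ ≤ Q := (h.derA hA h2).trans inf_le_left
  have n1 : A ≤ N[Q] ⊓ N[cj (l * g) R] := le_inf hN (norm_of_der1_le (hd.trans hlt'.le) h3)
  have n2 : cj (l * g) A ≤ N[Q] ⊓ N[cj (l * g) R] :=
    le_inf (cj_le_of_mem hN hlg) (norm_cj (norm_of_der1_le (hd.trans hlt.le) hRA) _)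
  obtain ⟨l', hl', e⟩ := Mx.exists_conj' le_top (hA.mx_self le_top n1)
    (hA.mx_conj le_top (mem_top _) n2)
  have h4 : l'⁻¹ * (l * g) ∈ Gam A Q :=
    le_Gam h.lt le_rfl (mem_inf.2 ⟨mul_mem (inv_mem (mem_inf.1 hl').1) hlg, cj_eq_cj_iff.1 e⟩)
  exact (mul_mem_cancel_left (h.sup_le hA h2 hlM)).1
    ((mul_mem_cancel_left (inv_mem (le_Gam hlt' h3 hl'))).1 h4)
theorem Ess.odd_mod (hg : g ∈ N[Q]) (hΓ : g ∉ Gam A Q) (hx : x ∈ A) (hxQ : x ∉ Q) (hy : y ∈ A)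
    (hyQ : y ∉ Q) : ∃ m, Odd m ∧ (x * (g * y * g⁻¹)) ^ m ∈ C[VV A Q] := by
  have hN := h.le_norm hA h2
  obtain ⟨X, _, _, f, hf⟩ := H8.PC.exists_quo (R := N[Q] ⊓ C[VV A Q]) (H := N[Q])
    ⟨inf_le_left, h.normC hA h2⟩
  have ker : ∀ u ∈ N[Q], ap f u = 1 ↔ u ∈ C[VV A Q] := fun u hu => by
    have := mem_pre_bot (f := f) (x := u)
    rw [hf.ker] at this
    exact ⟨fun e => (this.2 ⟨hu, e⟩).2, fun e => (this.1 ⟨hu, e⟩).2⟩
  have hs := (h.scl hA h2).quo hf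
  have hea : EA (img f A) := ea_of_sq fun a ha => by
    obtain ⟨u, hu, rfl⟩ := (mem_img_of_le hN).1 ha
    rw [← ap_mul f (hN hu) (hN hu), ker _ (mul_mem (hN hu) (hN hu))]
    exact cents_symm ((h.V_le hA h2).trans inf_le_right) (h.sq_mem hA h2 hu)
  obtain ⟨S, hS, hAS⟩ := hs.exists_syl
  have hD := sc_DC hS hea (hs.sc hS.pi hAS)
  have ne : ∀ u ∈ A, u ∉ Q → ap f u ≠ 1 := fun u hu huQ e =>
    huQ (h.cent_V hA h2 ▸ ⟨hu, (ker u (hN hu)).1 e⟩)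
  have gam : ∀ u ∈ A, u ∉ Q → ∀ k ∈ N[Q], ap f k * ap f u * (ap f k)⁻¹ ∈ img f A →
      k ∈ Gam A Q := fun u hu huQ k hk e => by
    obtain ⟨w, hw, e1⟩ := (mem_img_of_le hN).1 e
    have hm : k * u * k⁻¹ ∈ N[Q] := mul_mem (mul_mem hk (hN hu)) (inv_mem hk)
    refine h.gam_of hA h2 hk hu huQ hw ((ker _ (mul_mem (inv_mem hm) (hN hw))).1 ?_)
    rw [ap_mul f (inv_mem hm) (hN hw), ap_inv f hm, ap_conj f hk (hN hu), e1, inv_mul_cancel]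
  have hb : g * y * g⁻¹ ∈ N[Q] := mul_mem (mul_mem hg (hN hy)) (inv_mem hg)
  have hxb := mul_mem (hN hx) hb
  by_cases ho : OddE (ap f x * ap f (g * y * g⁻¹))
  · refine ⟨_, oddE_iff.1 ho, (ker _ (pow_mem hxb _)).1 ?_⟩
    rw [ap_pow f hxb, ap_mul f (hN hx) hb, pow_orderOf_eq_one]
  exfalso
  have d1 : ap f x ∈ DC (img f A) := DC.self (ap_mem_img f hx (hN hx)) (ne x hx hxQ)
  have d2 : ap f (g * y * g⁻¹) ∈ DC (img f A) := by
    rw [ap_conj f hg (hN hy)]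
    exact hD.conj _ (DC.self (ap_mem_img f hy (hN hy)) (ne y hy hyQ)) _
  obtain ⟨m, -, -, hz, c1, c2⟩ := hD.even d1 d2 ho
  set ζ := (ap f x * ap f (g * y * g⁻¹)) ^ m
  have into : ∀ d ∈ DC (img f A), ζ * d = d * ζ → ∃ k ∈ N[Q],
      ap f k * d * (ap f k)⁻¹ ∈ img f A ∧ ap f k * ζ * (ap f k)⁻¹ ∈ img f A := fun d hd c => by
    have hP : TwoG (zpowers ζ ⊔ zpowers d) := (hD.two hz).isPi.sup (hD.two hd).isPi
      (norm_zpowers_of_cent (zpowers_le.2 (mem_C1.2 c.symm)))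
    obtain ⟨γ, -, hγ⟩ := hs.conj_into hP le_top
    obtain ⟨k, rfl⟩ := hf.surj γ
    have hm : ∀ e ∈ DC (img f A), e ∈ hc ⊤ (img f A) := by
      rintro _ ⟨a, ha, -, l, rfl⟩; exact mem_hc ha (mem_top _)
    refine ⟨k, k.2, ?_, ?_⟩
    · rw [ap_coe]; exact hγ d (mem_sup_right (mem_zpowers _)) (hm d hd)
    · rw [ap_coe]; exact hγ ζ (mem_sup_left (mem_zpowers _)) (hm ζ hz)
  obtain ⟨k, hk, e1, e2⟩ := into _ d1 c1
  obtain ⟨l, hl, e3, e4⟩ := into _ d2 c2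
  have g1 := gam x hx hxQ k hk e1
  have g2 : l * g ∈ Gam A Q := gam y hy hyQ _ (mul_mem hl hg) (by
    rw [ap_conj f hg (hN hy)] at e3
    rw [ap_mul f hl hg]; simpa [mul_assoc] using e3)
  obtain ⟨w, hw, e5⟩ := (mem_img_of_le hN).1 e2
  have hwQ : w ∉ Q := fun e => hD.ne _ (hD.conj _ hz (ap f k)) (by
    rw [← e5, ker w (hN hw)]; exact cents_symm ((h.V_le hA h2).trans inf_le_right) e)
  have g3 : l * k⁻¹ ∈ Gam A Q := gam w hw hwQ _ (mul_mem hl (inv_mem hk)) (by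
    rw [ap_mul f hl (inv_mem hk), ap_inv f hk, e5]; simpa [mul_assoc] using e4)
  exact hΓ ((mul_mem_cancel_left ((mul_mem_cancel_right (inv_mem g1)).1 g3)).1 g2)
/-- a conjugate of `A` generating a `2`-group with `A` modulo `C(V)` -/
theorem Ess.cj_le (hg : g ∈ N[Q]) (hZ : cj g (Zo A) = Zo A) : cj g A ≤ A ⊔ (N[Q] ⊓ C[VV A Q]) := by
  have hN := h.le_norm hA h2
  have hn : VV A Q ≤ N[Zo A] := (h.V_ea hA h2).abl.norm le_rfl (le_ncl _ _)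
  set P := N[Q] ⊓ (C[Zo A] ⊓ centQ (VV A Q) (Zo A)) with hP
  have h1 : A ≤ P := le_inf hN (le_inf (cents_symm ((Zo_le A).trans inf_le_right))
    ((le_centQ hn).2 ⟨norm_Zo (norm_self A), by rw [commC]; exact h.comm_V hA h2⟩))
  have hgZ := zpowers_le.2 (mem_N_iff_cj.2 hZ)
  have hgP : g ∈ N[P] := norm_inf (norm_of_le (zpowers_le.2 hg)) (norm_inf (norm_C hgZ)
    (norm_centQ ((zpowers_le.2 hg).trans (h.V_nml hA h2).norm) hgZ)) (mem_zpowers g)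
  obtain ⟨l, hl, e⟩ := Mx.exists_conj hA le_top (hA.mx_self le_top h1)
    (hA.mx_conj le_top (mem_top g) (cj_le_of_mem_N h1 hgP))
  rw [e]
  refine cj_le_of_mem le_sup_left ?_
  rw [(hA.mono le_top h1).ncl_eq] at hl
  refine _root_.sup_le (O2_le_of fun x hx ho => mem_sup_right ?_) le_sup_left hl
  have hxP := (ncl_nml h1).le hx
  refine ⟨hxP.1, ?_⟩
  obtain ⟨y, hy, rfl⟩ := exists_sq_of_odd ho
  have hyP : y ∈ P := zpowers_le.2 hxP hy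
  refine mem_C'.2 fun v hv => ?_
  have h3 := ((mem_centQ hn).1 hyP.2.2).2 v hv
  rw [← commutatorElement_eq_one_iff_mul_comm, comm_sq_left (mem_C1_comm.1 (C_le_C1 h3 hyP.2.1)),
    (ea_Zo A).sq h3]
end

end H2.C2
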