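import Mathlib
import Cfsg.Agent.H2.CDefs
import Cfsg.Agent.H2.CT1
import Cfsg.Agent.H2.CF1
import Cfsg.Agent.H2.CF2
import Cfsg.Agent.H23.F3a

set_option autoImplicit false
set_option linter.unusedVariables false
set_option linter.unusedSectionVars false

namespace H2.C2

open Cfsg H24 H26 H26.Gold Subgroup
open scoped commutatorElement

universe u

variable {G : Type u} [Group G] [Finite G]
  {A B D E H K L M N0 P P' Q Q' R R' S T T' U W X a a' b b' b'' v : Subgroup G}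
  {g k n o s t x y z : G} {q : ℕ}

/-! ### CF3 -/

open H23.F3

section
variable (hA : SCl ⊤ A) (h2 : Cl2 A) (h : Ess A Q)
include hA h2 h

theorem Ess.Z_le_V : Zo A ≤ VV A Q := le_ncl _ _

theorem Ess.Z_le_Q : Zo A ≤ Q := ((Zo_le A).trans (h.cz hA h2)).trans inf_le_left

theorem Ess.V_le_A : VV A Q ≤ A := ((h.V_le hA h2).trans inf_le_left).trans h.lt.le

theorem Ess.W_le_A : WW A Q ≤ A := (h.W_le hA h2).trans (h.V_le_A hA h2)

theorem Ess.A_le_K : A ≤ KK A Q := le_ncl _ _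

theorem Ess.st : H23.F3.St (VV A Q) Q A (Zo A) where
  ea := h.V_ea hA h2
  VQ := (h.V_le hA h2).trans inf_le_left
  QC := cents_symm ((h.V_le hA h2).trans inf_le_right)
  QA := h.lt.le
  norm := (h.le_norm hA h2).trans (h.V_nml hA h2).norm
  sq := fun x hx => h.sq_mem hA h2 hx
  cm := fun a ha v hv => by
    have := h.comm_V hA h2
    rw [commC] at this
    exact this (commutator_mem_commutator ha hv)
  ZV := h.Z_le_V hA h2
  ZC := (Zo_le A).trans inf_le_right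
  ex := SetLike.exists_of_lt h.lt

theorem Ess.pr (hg : g ∈ N[Q]) (hΓ : g ∉ Gam A Q) : Pr (VV A Q) Q A (cj g A) := by
  intro a ha haQ b hb hbQ
  obtain ⟨y, hy, rfl⟩ := mem_cj'.1 hb
  have hyQ : y ∉ Q := fun e => hbQ (conj_mem hg e)
  refine ⟨h.odd_mod hA h2 hg hΓ ha haQ hy hyQ, fun e => hΓ ?_⟩
  refine h.gam_of hA h2 hg hy hyQ (inv_mem ha) ?_
  rw [← mul_inv_rev]; exact inv_mem e

theorem Ess.idx1 (hx : x ∈ A) (hxQ : x ∉ Q) : Q.relIndex A ≤ C{x}.relIndex (VV A Q) := by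
  obtain ⟨g, hg, hΓ⟩ := SetLike.not_le_iff_exists.1 h.ne
  have hV := (h.V_nml hA h2).norm hg
  have := H23.F3.idx1 (h.st hA h2) ((h.st hA h2).conj hV hg) (h.pr hA h2 hg hΓ) hx hxQ
  rwa [← cj_of_mem_N hg, relIndex_cj, cj_of_mem_N hg] at this

theorem Ess.exO : ∃ o ∈ KK A Q, o ∈ N[Q] ∧ o ∉ Gam A Q := by
  by_contra hc
  push Not at hc
  refine h.ne fun g hg => ?_
  obtain ⟨n, hn, o, ho, rfl⟩ := (h.prod hA h2).mul g hg
  exact mul_mem (le_Gam h.lt le_rfl hn)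
    (hc o (O2_le _ ho) ((h.O_nml hA h2).le ho))

end

section
variable (hA : SCl ⊤ A) (h2 : Cl2 A) (h : Mt A Q P)
include hA h2 h

theorem Mt.chain : Q.relIndex A ≤ P.relIndex (VV A Q) := by
  obtain ⟨x, hx, hxc⟩ := SetLike.not_le_iff_exists.1 h.symm.nc
  have hxA := h.r.V_le_A hA h2 hx
  have hxQ : x ∉ Q := fun e => hxc ((h.l.st hA h2).QC e)
  refine (h.l.idx1 hA h2 hxA hxQ).trans ?_
  rw [← inf_relIndex_right P]
  refine relIndex_le_of_le_left (fun v hv => ?_) (relIndex_ne_zero' _ _)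
  exact mem_C1_comm.1 (C_le_C1 hv.1 (((h.r.V_le hA h2).trans inf_le_right) hx))

theorem Mt.chain2 : P.relIndex (VV A Q) ≤ P.relIndex A :=
  relIndex_le_of_le_right (h.l.V_le_A hA h2) (relIndex_ne_zero' _ _)

theorem Mt.idx : P.relIndex A = Q.relIndex A :=
  le_antisymm ((h.symm.chain hA h2).trans (h.symm.chain2 hA h2))
    ((h.chain hA h2).trans (h.chain2 hA h2))

theorem Mt.prodV : IsProd (VV A P) Q A := by
  refine ⟨h.r.V_le_A hA h2, h.l.lt.le, fun m hm => ?_⟩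
  obtain ⟨b, hb, e⟩ := idx_surj (A := VV A P) (V := A) (Q := Q) (C := Q) id
    (fun b hb => h.r.V_le_A hA h2 hb) (fun b _ b' _ e => e)
    ((h.idx hA h2).symm.le.trans (h.symm.chain hA h2)) hm
  exact ⟨b, hb, _, e, by simp⟩

theorem Mt.sup : VV A P ⊔ Q = A := (h.prodV hA h2).sup_eq

theorem Mt.inf : VV A Q ⊓ P = Zo A := by
  refine le_antisymm ?_ (le_inf (h.l.Z_le_V hA h2) (h.r.Z_le_Q hA h2))
  rw [← h.l.V_inf hA h2]
  refine le_inf inf_le_left ?_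
  have := cents_sup (X := VV A Q ⊓ P) (inf_le_right.trans (h.r.st hA h2).QC)
    (inf_le_left.trans ((h.l.V_le hA h2).trans inf_le_right))
  rwa [h.sup hA h2] at this

theorem Mt.iV : (Zo A).relIndex (VV A Q) = Q.relIndex A := by
  rw [← h.inf hA h2, inf_relIndex_left]
  exact le_antisymm ((h.chain2 hA h2).trans (h.idx hA h2).le) (h.chain hA h2)

theorem Mt.sn : Sn (VV A Q) Q A (Zo A) (Q.relIndex A) where
  toSt := h.l.st hA h2
  nd := fun a ha haQ v hv hc => by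
    refine le_of_idx (C := C{a}) (fun z hz => mem_C1_comm.1 ((h.l.st hA h2).fix ha hz)) ?_ hv hc
    rw [h.iV hA h2]; exact h.l.idx1 hA h2 ha haQ
  iA := rfl
  iV := h.iV hA h2

theorem Mt.gam_le : Gam A Q ≤ N[Zo A] := by
  refine sup_le ((C_anti (h.l.Z_le_Q hA h2)).trans (C_le_N _)) (iSup_le ?_)
  rintro ⟨R, hQR, hRA⟩ n hn
  obtain ⟨a, ha, haQ⟩ := SetLike.exists_of_lt hQR
  refine mem_N_of_finite fun z hz => (h.sn hA h2).nd a (hRA ha) haQ _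
    (conj_mem ((h.l.V_nml hA h2).norm hn.1) (h.l.Z_le_V hA h2 hz)) ?_
  rw [mem_C1_comm, ← cj_C1, mem_cj]
  exact (h.l.st hA h2).fix (hRA (conj_mem' hn.2 ha)) hz

theorem Mt.gam_of (hg : g ∈ N[Q]) (hZ : cj g (Zo A) = Zo A) : g ∈ Gam A Q := by
  obtain ⟨x, hx, hxQ⟩ := SetLike.exists_of_lt h.l.lt
  have h1 := h.l.cj_le hA h2 hg hZ (conj_mem_cj g hx)
  have hn : A ≤ N[N[Q] ⊓ C[VV A Q]] :=
    norm_inf (norm_N (h.l.le_norm hA h2)) (norm_C (h.l.st hA h2).norm)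
  obtain ⟨y, hy, c, hc, e⟩ := (mem_sup_of_norm' hn).1 h1
  refine h.l.gam_of hA h2 hg hx hxQ hy ?_
  rw [e]; simpa using hc.2

theorem Mt.fm : Fm N[Q] (VV A Q) Q A (Zo A) (Q.relIndex A) where
  toSn := h.sn hA h2
  NV := (h.l.V_nml hA h2).norm
  NQ := le_rfl
  AN := h.l.le_norm hA h2
  pr := fun g hg hne => h.l.pr hA h2 hg fun e => hne (cj_of_mem_N (h.gam_le hA h2 e))

theorem Mt.exO : ∃ o ∈ KK A Q, o ∈ N[Q] ∧ cj o (Zo A) ≠ Zo A := by
  obtain ⟨o, h1, h3, h4⟩ := h.l.exO hA h2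
  exact ⟨o, h1, h3, fun e => h4 (h.gam_of hA h2 h3 e)⟩

theorem Mt.inf_Z (hg : g ∈ N[Q]) (hne : cj g (Zo A) ≠ Zo A) :
    Zo A ⊓ cj g (Zo A) = VV A Q ⊓ C[KK A Q] := by
  refine le_antisymm (le_inf (inf_le_left.trans (h.l.Z_le_V hA h2)) (cents_symm (ncl_le' ?_))) ?_
  · exact fun k hk => cents_symm ((h.fm hA h2).inf_le hg hne hk)
  · have e1 : VV A Q ⊓ C[KK A Q] ≤ Zo A := by
      rw [← h.l.V_inf hA h2]; exact inf_le_inf_left _ (C_anti (h.l.A_le_K hA h2))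
    refine le_inf e1 ?_
    have := cj_mono g e1
    rwa [cj_of_mem_N (norm_inf (h.l.V_nml hA h2).norm (norm_C (h.l.K_nml hA h2).norm) hg)] at this

theorem Mt.nd (hx : x ∈ VV A Q) (hy : y ∈ A) (hc : ⁅x, y⁆ ∈ C[KK A Q]) : x ∈ Zo A ∨ y ∈ Q := by
  obtain ⟨o, -, ho, hne⟩ := h.exO hA h2
  have H := h.fm hA h2
  have h1 : ⁅y, x⁆ ∈ VV A Q ⊓ C[KK A Q] :=
    ⟨H.ZV (H.cm y hy x hx), by rw [← commutatorElement_inv]; exact Subgroup.inv_mem _ hc⟩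
  rw [← h.inf_Z hA h2 ho hne] at h1
  exact (dis H.toSn (H.sn ho) (H.pr o ho hne) hy hx h1.2).symm

theorem Mt.prodW : IsProd (WW A P) Q A := by
  refine ⟨h.r.W_le_A hA h2, h.l.lt.le, fun m hm => ?_⟩
  obtain ⟨v, hv, y, hy, rfl⟩ := (h.prodV hA h2).mul m hm
  rw [h.r.V_eq hA h2] at hv
  obtain ⟨w, hw, z, hz, rfl⟩ := (mem_sup_of_norm
    (((h.r.Z_le_Q hA h2).trans (norm_self P)).trans (h.r.W_nml hA h2).norm)).1 hv
  exact ⟨w, hw, z * y, mul_mem (h.l.Z_le_Q hA h2 hz) hy, by group⟩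

theorem Mt.comm_eq : ⁅A, VV A Q⁆ = ⁅WW A Q, WW A P⁆ := by
  rw [(h.prodW hA h2).comm_left_of_cent (h.l.st hA h2).QC]
  have hp : IsProd (WW A Q) (Zo A) (VV A Q) := by
    rw [h.l.V_eq hA h2]
    exact isProd_sup (((h.l.Z_le_Q hA h2).trans (norm_self Q)).trans (h.l.W_nml hA h2).norm)
  rw [hp.comm_right_of_cent ((h.l.st hA h2).ZC.trans (C_anti (h.r.W_le_A hA h2))), commC]

theorem Mt.comm_le : ⁅A, VV A Q⁆ ≤ WW A Q ⊓ WW A P := by
  rw [h.comm_eq hA h2]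
  exact le_inf (comm_le_left (((h.r.W_le_A hA h2).trans (h.l.le_norm hA h2)).trans
      (h.l.W_nml hA h2).norm))
    (comm_le_right (((h.l.W_le_A hA h2).trans (h.r.le_norm hA h2)).trans (h.r.W_nml hA h2).norm))

theorem Mt.comm_Z : ⁅A, VV A Q⁆ ≤ Zo A := by rw [commC]; exact h.l.comm_V hA h2

theorem Mt.W_le_sup (hg : g ∈ N[Q]) (hne : cj g (Zo A) ≠ Zo A) :
    WW A Q ≤ ⁅A, VV A Q⁆ ⊔ cj g ⁅A, VV A Q⁆ := by
  have H := h.fm hA h2
  set V := VV A Q with hV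
  set W1 := ⁅A, V⁆ ⊔ cj g ⁅A, V⁆ with hW1
  have hgV := H.NV hg
  have hY : ⁅A, V⁆ ≤ V := comm_le_right H.norm
  have hW : W1 ≤ V := sup_le hY (cj_le_of_mem_N hY hgV)
  have hn : V ≤ N[W1] := H.ea.abl.norm le_rfl hW
  have key : ∀ B : Subgroup G, ⁅B, V⁆ ≤ W1 → B ≤ centQ V W1 := fun B hB =>
    (le_centQ hn).2 ⟨norm_of_comm_le_right ((comm_mono_right hW).trans hB), hB⟩
  have k1 : A ≤ centQ V W1 := key _ le_sup_left
  have k2 : cj g A ≤ centQ V W1 := key _ (by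
    rw [hW1, cj_comm, cj_of_mem_N hgV]; exact le_sup_right)
  have k3 : N[Q] ⊓ C[V] ≤ centQ V W1 := key _ (by
    rw [comm_eq_bot.2 inf_le_right]; exact bot_le)
  have k4 : KK A Q ≤ centQ V W1 := by
    refine ncl_le' fun k hk => ?_
    rcases H.third hg hne hk with e | ⟨a, ha, e⟩
    · exact (h.l.cj_le hA h2 hk e).trans (sup_le k1 k3)
    · have hag : a * g ∈ N[Q] := mul_mem (H.AN ha) hg
      have e1 : cj ((a * g)⁻¹ * k) (Zo A) = Zo A := by rw [cj_mul, e, cj_inv_cj]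
      have e2 := cj_mono (a * g) (h.l.cj_le hA h2 (mul_mem (inv_mem hag) hk) e1)
      rw [← cj_mul, mul_inv_cancel_left, cj_sup, cj_of_mem_N
        (norm_inf (norm_self _) (norm_C H.NV) hag), cj_mul] at e2
      exact e2.trans (sup_le (cj_le_of_mem k2 (k1 ha)) k3)
  have := ((le_centQ hn).1 ((O2_le _).trans k4)).2
  rwa [commC] at this

theorem Mt.WZ : WW A Q ⊓ Zo A = ⁅A, VV A Q⁆ := by
  refine le_antisymm ?_ (le_inf ((h.comm_le hA h2).trans inf_le_left) (h.comm_Z hA h2))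
  obtain ⟨o, hoK, ho, hne⟩ := h.exO hA h2
  have H := h.fm hA h2
  have hY : ⁅A, VV A Q⁆ ≤ VV A Q := comm_le_right H.norm
  rintro w ⟨hw, hz⟩
  obtain ⟨y, hy, y', hy', rfl⟩ := (mem_sup_of_norm
    (H.ea.abl.norm (cj_le_of_mem_N hY (H.NV ho)) hY)).1 (h.W_le_sup hA h2 ho hne hw)
  refine mul_mem hy ?_
  have h1 : y' ∈ Zo A ⊓ cj o (Zo A) :=
    ⟨(mul_mem_cancel_left (h.comm_Z hA h2 hy)).1 hz, cj_mono o (h.comm_Z hA h2) hy'⟩
  rw [h.inf_Z hA h2 ho hne] at h1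
  have h3 := mem_cj.1 hy'
  rwa [mul_assoc, ← mem_C.1 h1.2 o hoK, inv_mul_cancel_left] at h3

theorem Mt.inf_W : WW A Q ⊓ WW A P = WW A Q ⊓ Zo A := by
  refine le_antisymm (le_inf inf_le_left ?_) (by rw [h.WZ hA h2]; exact h.comm_le hA h2)
  rw [← h.inf hA h2]
  exact inf_le_inf (h.l.W_le hA h2)
    ((h.r.W_le hA h2).trans ((h.r.V_le hA h2).trans inf_le_left))

theorem Mt.idxW : (Zo A).relIndex (WW A Q) = Q.relIndex A := by
  rw [← h.iV hA h2, h.l.V_eq hA h2, sup_comm, relIndex_sup_of_norm]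
  exact (h.l.W_le_A hA h2).trans (norm_of_cent (cents_symm (h.l.st hA h2).ZC))

theorem Mt.Z_dec (hz : z ∈ Zo A) : ∃ y ∈ WW A Q ⊓ Zo A, ∃ r ∈ VV A Q ⊓ C[KK A Q], z = y * r := by
  obtain ⟨o, hoK, ho, hne⟩ := h.exO hA h2
  have H := h.fm hA h2
  obtain ⟨w, hw, hwZ⟩ := H.toSn.exV
  obtain ⟨a, ha, e⟩ := surjZ H.toSn (H.sn ho) (H.pr o ho hne) hw hwZ hz
  refine ⟨⁅a, w⁆, ?_, ⁅a, w⁆⁻¹ * z, ?_, by group⟩
  · rw [h.WZ hA h2]; exact commutator_mem_commutator ha hw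
  · rw [← h.inf_Z hA h2 ho hne]
    exact ⟨(Zo A).mul_mem ((Zo A).inv_mem (H.cm a ha w hw)) hz, e⟩

theorem Mt.normR : N[Q] ≤ N[VV A Q ⊓ C[KK A Q]] :=
  norm_inf (h.l.V_nml hA h2).norm (norm_C (h.l.K_nml hA h2).norm)

theorem Mt.R_le : VV A Q ⊓ C[KK A Q] ≤ Zo A := by
  rw [← h.l.V_inf hA h2]; exact inf_le_inf_left _ (C_anti (h.l.A_le_K hA h2))

theorem Mt.fixZ (hg : g ∈ N[Q]) (e : cj g (WW A Q ⊓ Zo A) = WW A Q ⊓ Zo A) :
    cj g (Zo A) = Zo A := by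
  refine cj_of_mem_N (mem_N_of_finite fun z hz => ?_)
  obtain ⟨y, hy, r, hr, rfl⟩ := h.Z_dec hA h2 hz
  have : g * (y * r) * g⁻¹ = g * y * g⁻¹ * (g * r * g⁻¹) := by group
  rw [this]
  exact mul_mem (conj_mem (mem_N_iff_cj.2 e) hy).2
    (h.R_le hA h2 (conj_mem (h.normR hA h2 hg) hr))

theorem Mt.half : Half N[Q] (WW A Q) (WW A P) (WW A Q ⊓ C[KK A Q]) (Q.relIndex A) := by
  have H := h.fm hA h2
  have hWV := h.l.W_le hA h2
  have hI := h.inf_W hA h2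
  have hR : WW A Q ⊓ C[KK A Q] ≤ Zo A := (inf_le_inf_right _ hWV).trans (h.R_le hA h2)
  have hcj : ∀ g ∈ N[Q], cj g (WW A Q ⊓ Zo A) = WW A Q ⊓ cj g (Zo A) := fun g hg => by
    rw [cj_inf, cj_of_mem_N ((h.l.W_nml hA h2).norm hg)]
  refine
    { ea := (h.l.V_ea hA h2).of_le hWV
      eaX := (h.r.V_ea hA h2).of_le (h.r.W_le hA h2)
      leK := sup_le ((h.l.W_le_A hA h2).trans H.AN) ((h.r.W_le_A hA h2).trans H.AN)
      norm := (h.l.W_nml hA h2).norm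
      normR := norm_inf (h.l.W_nml hA h2).norm (norm_C (h.l.K_nml hA h2).norm)
      leR := by rw [hI]; exact le_inf inf_le_left hR
      two_le := ?_
      idxW := by rw [hI, inf_relIndex_left, h.idxW hA h2]
      idxX := by
        rw [inf_comm, h.symm.inf_W hA h2, inf_relIndex_left, h.symm.idxW hA h2, h.idx hA h2]
      idxR := ?_
      comm := by rw [hI, h.WZ hA h2, h.comm_eq hA h2]
      nd := ?_
      fix := ?_
      mov := ?_
      ex := ?_ }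
  · have h0 := relIndex_pos Q A
    have h1 : Q.relIndex A ≠ 1 := fun e => h.l.lt.not_ge (relIndex_eq_one.1 e)
    omega
  · obtain ⟨o, hoK, ho, hne⟩ := h.exO hA h2
    obtain ⟨w, hw, hwZ⟩ := H.toSn.exV
    have hZ := h.inf_Z hA h2 ho hne
    rw [hI]
    refine le_antisymm (le_trans (idx_le (C := cj o (Zo A)) (V := Zo A) id (fun b hb => hb.2) ?_)
      (idxZ H.toSn (H.sn ho) (H.pr o ho hne))) (idx_le (fun a => ⁅a, w⁆) (fun a ha => ?_) ?_)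
    · intro b hb b' hb' e
      have h1 : b⁻¹ * b' ∈ Zo A ⊓ cj o (Zo A) := ⟨(Zo A).mul_mem ((Zo A).inv_mem hb.2) hb'.2, e⟩
      rw [hZ] at h1
      exact ⟨(WW A Q).mul_mem ((WW A Q).inv_mem hb.1) hb'.1, h1.2⟩
    · rw [h.WZ hA h2]; exact commutator_mem_commutator ha hw
    · intro a ha a' ha' e
      refine injZ H.toSn (H.sn ho) (H.pr o ho hne) hw hwZ a ha a' ha' ?_
      have h1 : ⁅a, w⁆⁻¹ * ⁅a', w⁆ ∈ VV A Q ⊓ C[KK A Q] := ⟨hWV e.1, e.2⟩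
      rw [← hZ] at h1
      exact h1.2
  · intro w hw x hx hc
    rcases h.nd hA h2 (hWV hw) (h.r.W_le_A hA h2 hx) hc.2 with h1 | h1
    · left
      have : w ∈ WW A Q ⊓ WW A P := by rw [hI]; exact ⟨hw, h1⟩
      exact this.2
    · right
      have h3 : x ∈ VV A P ⊓ Q := ⟨h.r.W_le hA h2 hx, h1⟩
      rw [h.symm.inf hA h2] at h3
      have : x ∈ WW A P ⊓ WW A Q := by rw [h.symm.inf_W hA h2]; exact ⟨hx, h3⟩
      exact this.2
  · intro g hg e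
    rw [hI] at e
    refine ((cj_mono g (h.r.W_le_A hA h2)).trans (h.l.cj_le hA h2 hg (h.fixZ hA h2 hg e))).trans
      (sup_le ?_ (le_sup_of_le_right (inf_le_right.trans (C_anti hWV))))
    exact (h.prodW hA h2).sup_eq.ge.trans (sup_le_sup_left (H.QC.trans (C_anti hWV)) _)
  · intro g hg e
    rw [hI] at e ⊢
    have hne : cj g (Zo A) ≠ Zo A := fun e1 => e (by rw [hcj g hg, e1])
    have hZ := h.inf_Z hA h2 hg hne
    constructor
    · rw [hcj g hg]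
      ext w
      constructor
      · rintro ⟨⟨h1, h3⟩, -, h4⟩
        have : w ∈ Zo A ⊓ cj g (Zo A) := ⟨h4, h3⟩
        rw [hZ] at this
        exact ⟨h1, this.2⟩
      · rintro ⟨h1, h3⟩
        have : w ∈ VV A Q ⊓ C[KK A Q] := ⟨hWV h1, h3⟩
        rw [← hZ] at this
        exact ⟨⟨h1, this.2⟩, h1, this.1⟩
    · refine le_antisymm (sup_le ?_ inf_le_left) ?_
      · rw [hcj g hg]; exact inf_le_left
      · rw [h.WZ hA h2, sup_comm]; exact h.W_le_sup hA h2 hg hne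
  · obtain ⟨o, hoK, ho, hne⟩ := h.exO hA h2
    exact ⟨o, ho, fun e => hne (h.fixZ hA h2 ho (by rwa [hI] at e))⟩

theorem Mt.decQ (hy : y ∈ Q) : ∃ v ∈ VV A Q, ∃ y0 ∈ P ⊓ Q, y = v * y0 :=
  ((h.symm.prodV hA h2).inf_left (h.l.st hA h2).VQ h.l.lt.le).mul y hy

theorem Mt.V_le_of (h' : Mt A Q P') : VV A P' ≤ P := by
  intro x' hx'
  by_cases hQ : x' ∈ Q
  · have : x' ∈ VV A P' ⊓ Q := ⟨hx', hQ⟩
    rw [h'.symm.inf hA h2] at this
    exact h.r.Z_le_Q hA h2 this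
  obtain ⟨x, hx, y, hy, e⟩ := (h.prodV hA h2).mul x' (h'.r.V_le_A hA h2 hx')
  obtain ⟨v, hv, y0, hy0, rfl⟩ := h.decQ hA h2 hy
  have hxQ : x ∉ Q := fun e1 => hQ (e ▸ mul_mem e1 hy)
  have hxA := h.r.V_le_A hA h2 hx
  have c1 : x * y0 = y0 * x := mem_C.1 ((h.r.st hA h2).QC hy0.1) x hx
  have c2 : v * y0 = y0 * v := mem_C.1 ((h.l.st hA h2).QC hy0.2) v hv
  have s1 := (h'.r.V_ea hA h2).sq hx'
  have ix := (h.r.V_ea hA h2).inv hx
  have iv := (h.l.V_ea hA h2).inv hv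
  have e1 : ⁅x, v⁆ * (y0 * y0) = 1 := by
    rw [← s1, e, commutatorElement_def, ix, iv]
    calc x * v * x * v * (y0 * y0) = x * v * (x * (v * y0) * y0) := by group
      _ = x * v * ((x * y0) * v * y0) := by rw [c2]; group
      _ = x * (v * y0) * (x * (v * y0)) := by rw [c1]; group
  have e2 : ⁅v, x⁆ = y0 * y0 := by
    rw [← commutatorElement_inv]; exact (eq_inv_of_mul_eq_one_right e1).symm
  have hc : ⁅v, x⁆ ∈ C[KK A Q] := by
    rw [h.l.K_eq hA h2, C_sup]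
    refine ⟨e2 ▸ h.l.sq_cent hA h2 hy0.2, (h.l.st hA h2).ZC ?_⟩
    exact h.l.comm_V hA h2 (commutator_mem_commutator hv hxA)
  have hvZ := (h.nd hA h2 hv hxA hc).resolve_right hxQ
  rw [e]
  exact mul_mem ((h.r.st hA h2).VQ hx) (mul_mem (h.r.Z_le_Q hA h2 hvZ) hy0.1)

theorem Mt.le_of (h' : Mt A Q P') : P ≤ P' := by
  have h1 : P ⊓ Q ≤ P' := by
    intro y hy
    obtain ⟨v, hv, y1, hy1, e⟩ := h'.decQ hA h2 hy.2
    obtain ⟨x', hx', hxc⟩ := SetLike.not_le_iff_exists.1 h'.symm.nc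
    have hxQ : x' ∉ Q := fun e => hxc ((h.l.st hA h2).QC e)
    have hxA := h'.r.V_le_A hA h2 hx'
    obtain ⟨x, hx, y0, hy0, e0⟩ := (h.prodV hA h2).mul x' hxA
    have c1 : x * y = y * x := mem_C.1 ((h.r.st hA h2).QC hy.1) x hx
    have c2 : x' * y1 = y1 * x' := mem_C.1 ((h'.r.st hA h2).QC hy1.1) x' hx'
    have hd : ⁅y, y0⁆ ∈ C[KK A Q] := h.l.der_le hA h2 (commutator_mem_commutator hy.2 hy0)
    have e1 : ⁅y, x'⁆ = ⁅y, y0⁆ := by
      have : ⁅y, x'⁆ = (y * x) * y⁻¹ * ⁅y, y0⁆ * x⁻¹ := by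
        rw [e0]; simp only [commutatorElement_def]; group
      rw [this, ← c1, mul_inv_cancel_right,
        mem_C.1 hd x (h.l.A_le_K hA h2 (h.r.V_le_A hA h2 hx)), mul_inv_cancel_right]
    have e2 : ⁅y, x'⁆ = ⁅v, x'⁆ := by
      have : ⁅y, x'⁆ = v * (y1 * x') * y1⁻¹ * v⁻¹ * x'⁻¹ := by
        rw [e]; simp only [commutatorElement_def]; group
      rw [this, ← c2, commutatorElement_def]; group
    have hvZ := (h.nd hA h2 hv hxA (by rw [← e2, e1]; exact hd)).resolve_right hxQ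
    rw [e]; exact mul_mem (h'.r.Z_le_Q hA h2 hvZ) hy1.1
  intro y hy
  obtain ⟨v, hv, y0, hy0, rfl⟩ := h.symm.decQ hA h2 hy
  exact mul_mem (h'.V_le_of hA h2 h hv) (h1 ⟨hy0.2, hy0.1⟩)

theorem Mt.uniq (h' : Mt A Q P') : P' = P := le_antisymm (h'.le_of hA h2 h) (h.le_of hA h2 h')
end

end H2.C2
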