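import Mathlib
import Cfsg.Agent.H2.CF3
import Cfsg.Agent.H2.CF2
import Cfsg.Agent.H2.CF1
import Cfsg.Agent.H2.CT2
import Cfsg.Agent.H2.CT3
import Cfsg.Agent.H6.BaerSuzuki

set_option autoImplicit false
set_option linter.unusedVariables false
set_option linter.unusedSectionVars false

namespace H2.C2

open Cfsg H24 H26 H26.Gold Subgroup
open scoped commutatorElement

universe u

variable {G : Type u} [Group G] [Finite G]
  {A B D E H K L M N0 P P' Q Q' R R' S T T' U W X a a' b b' b'' v : Subgroup G}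
  {g k n o s t x y z : G} {q : ℕ}

/-! ### CF4 -/

theorem cf4_fus (h : SCl ⊤ A) (hab : Abl A) (hX : X ≤ A) (hn : N[A] ≤ N[X]) (hx : x ∈ X)
    (hg : g * x * g⁻¹ ∈ A) : g * x * g⁻¹ ∈ X := by
  obtain ⟨n, hn', c, hc, rfl⟩ := h.burnside hab (zpowers_le.2 (hX hx)) (mem_top g)
    (by rw [cj_zpowers]; exact zpowers_le.2 hg)
  rw [show n * c * x * (n * c)⁻¹ = n * (c * x * c⁻¹) * n⁻¹ by group,
    conj_eq_of_mem_C hc (mem_zpowers x)]
  exact conj_mem (hn hn'.2) hx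

theorem cf4_dih (h : SCl ⊤ A) (hab : Abl A) (hX : X ≤ A) (hW : W ≤ A) (nX : N[A] ≤ N[X])
    (nW : N[A] ≤ N[W]) (eX : EA X) (eW : EA W)
    (key : ∀ x ∈ X, ∀ y ∈ W, ∀ r, OddE r → x * r * x⁻¹ = r⁻¹ → y * r * y⁻¹ = r⁻¹ → r = 1) :
    ncl ⊤ X ≤ C[ncl ⊤ W] := by
  refine ncl_le' fun g _ => cents_symm (ncl_le' fun k _ => cents_symm fun s hs => mem_C'.2 fun t ht => ?_)
  obtain ⟨x, hx, e1⟩ := mem_cj'.1 hs
  obtain ⟨y, hy, e2⟩ := mem_cj'.1 ht
  have s2 : s * s = 1 := by rw [e1, ← sq, conj_pow, sq, eX.sq hx]; simp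
  have t2 : t * t = 1 := by rw [e2, ← sq, conj_pow, sq, eW.sq hy]; simp
  obtain ⟨m, r, ⟨i, rfl⟩, e⟩ := Nat.exists_eq_two_pow_mul_odd (orderOf_pos (s * t)).ne'
  have is : s * (s * t) * s⁻¹ = (s * t)⁻¹ := by
    rw [← mul_assoc, s2, one_mul, mul_inv_rev, inv_eq_of_mul_eq_one_right t2]
  have it : t * (s * t) * t⁻¹ = (s * t)⁻¹ := by
    rw [mul_inv_rev, inv_eq_of_mul_eq_one_right s2, inv_eq_of_mul_eq_one_right t2, mul_assoc, mul_assoc,
      t2, mul_one]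
  have pw : ∀ {u : G}, u * (s * t) * u⁻¹ = (s * t)⁻¹ → ∀ j : ℕ,
      u * (s * t) ^ j * u⁻¹ = ((s * t) ^ j)⁻¹ := fun h j => by rw [← conj_pow, h, inv_pow]
  obtain ⟨t', e3⟩ : ∃ t', t' = ((s * t) ^ i)⁻¹ * t * ((s * t) ^ i)⁻¹⁻¹ := ⟨_, rfl⟩
  have e4 : s * t' = (s * t) ^ (2 * i + 1) := by
    have h1 := pw is i
    have h2 := pw it i
    generalize hu : (s * t) ^ i = u at *
    rw [two_mul, pow_succ, pow_add, hu, e3]
    calc _ = (s * u * s⁻¹)⁻¹ * (s * (t * u * t⁻¹) * s⁻¹) * (s * t) := by group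
      _ = _ := by rw [h2, show s * u⁻¹ * s⁻¹ = (s * u * s⁻¹)⁻¹ by group, h1, inv_inv]
  have t2' : t' * t' = 1 := by rw [e3, ← sq, conj_pow, sq, t2]; simp
  have h2 := isPi_of_isPGroup Nat.prime_two (H6.isPGroup_closure_pair s2 t2' (k := m)
    (by rw [e4, ← pow_mul, mul_comm, ← e, pow_orderOf_eq_one]))
  obtain ⟨l, -, hl⟩ := h.conj_into h2 le_top
  have h3 := hl s (subset_closure (by simp)) (e1 ▸ mem_hc (hX hx) (mem_top _))
  have h4 := hl t' (subset_closure (by simp)) (e3 ▸ hc_conj (e2 ▸ mem_hc (hW hy) (mem_top _)) (mem_top _))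
  have h5 : l * s * l⁻¹ ∈ X := by
    rw [e1, show l * (g * x * g⁻¹) * l⁻¹ = l * g * x * (l * g)⁻¹ by group] at h3 ⊢
    exact cf4_fus h hab hX nX hx h3
  have h6 : l * t' * l⁻¹ ∈ W := by
    rw [e3, e2, show ∀ u : G, l * (u * (k * y * k⁻¹) * u⁻¹) * l⁻¹ = l * u * k * y * (l * u * k)⁻¹ by
      intro; group] at h4 ⊢
    exact cf4_fus h hab hW nW hy h4
  have cv : ∀ {u w : G}, u * w * u⁻¹ = w⁻¹ →
      l * u * l⁻¹ * (l * w * l⁻¹) * (l * u * l⁻¹)⁻¹ = (l * w * l⁻¹)⁻¹ := fun {u w} h => by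
    rw [show l * u * l⁻¹ * (l * w * l⁻¹) * (l * u * l⁻¹)⁻¹ = l * (u * w * u⁻¹) * l⁻¹ by group, h]; group
  have h7 := key _ h5 _ h6 (l * (s * t) ^ 2 ^ m * l⁻¹) (PiElt.conj (oddE_iff.2 (Odd.of_dvd_nat
    (odd_two_mul_add_one i) (orderOf_dvd_of_pow_eq_one (by rw [← pow_mul, ← e, pow_orderOf_eq_one])))) l)
    (cv (pw is _)) (cv (pw (by
      rw [e3, show ∀ u : G, u⁻¹ * t * u⁻¹⁻¹ * (s * t) * (u⁻¹ * t * u⁻¹⁻¹)⁻¹ =
        u⁻¹ * (t * (u * (s * t) * u⁻¹) * t⁻¹) * u by intro; group, ((Commute.refl _).pow_left i).eq,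
        mul_inv_cancel_right, it, mul_assoc, ← ((Commute.refl _).pow_left i).inv_right.eq,
        inv_mul_cancel_left]) _))
  have h8 := Nat.le_of_dvd (by positivity) (e ▸ orderOf_dvd_of_pow_eq_one (conj_eq_one_iff.1 h7))
  obtain rfl : i = 0 := by have := Nat.two_pow_pos m; nlinarith
  have h9 := hab.comm h3 h4
  rw [e3] at h9
  exact conj_injective' l (by simpa [mul_assoc] using h9)

/-- an odd element inverted modulo `C(U)` by `x` and commuting with `k` -/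
theorem cf4_odd (hU : EA U) (ho : OddE o) (hn : o ∈ N[U]) (h1 : U ⊓ C{k} ≤ C{x})
    (h2 : ∀ u ∈ U, k * u * k⁻¹ * u⁻¹ ∈ U ⊓ C{k}) (h3 : x * o * x⁻¹ * o ∈ C[U])
    (h4 : o⁻¹ * (k * o * k⁻¹) ∈ C[U]) : o ∈ C[U] := by
  have kU : ∀ u ∈ U, k * u * k⁻¹ ∈ U := fun u hu => (mul_mem_cancel_right (inv_mem hu)).1 (h2 u hu).1
  have ko : ∀ u ∈ U, k * (o * u * o⁻¹) * k⁻¹ = o * (k * u * k⁻¹) * o⁻¹ := fun u hu => by
    rw [← conj_eq_of_mem_C h4 (kU u hu)]; group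
  have o0 : ∀ u ∈ U ⊓ C{k}, o * u * o⁻¹ ∈ U ⊓ C{k} := fun u hu => mem_inf.2 ⟨conj_mem hn hu.1,
    mem_C1_comm.1 (mem_C1_iff_conj.2 (by rw [ko u hu.1, mem_C1_iff_conj.1 (mem_C1_comm.1 hu.2)]))⟩
  have o1 : ∀ u ∈ U ⊓ C{k}, o * u * o⁻¹ = u := fun u hu => by
    have e := conj_eq_of_mem_C h3 hu.1
    have e1 := mem_C1_iff_conj.1 (inv_mem (mem_C1_comm.1 (h1 (o0 u hu))))
    have e2 := mem_C1_iff_conj.1 (mem_C1_comm.1 (h1 (o0 _ (o0 u hu))))
    obtain ⟨y, hy, e3⟩ := exists_sq_of_odd ho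
    have e4 : o * o ∈ C{u} := mem_C1_iff_conj.2 (by
      calc _ = o * (o * u * o⁻¹) * o⁻¹ := by group
        _ = x * (o * (x⁻¹ * (o * u * o⁻¹) * x⁻¹⁻¹) * o⁻¹) * x⁻¹ := by rw [e1, e2]
        _ = _ := Eq.trans (by group) e)
    obtain ⟨j, rfl⟩ := hy
    refine mem_C1_iff_conj.1 ?_
    rw [e3, ← (Commute.refl o).mul_zpow]
    exact zpow_mem e4 j
  refine mem_C'.2 fun u hu => odd_fix ho (u := o * u * o⁻¹ * u⁻¹)
    (hU.two.piElt (mul_mem (conj_mem hn hu) (inv_mem hu))) (by group) (mul_inv_eq_iff_eq_mul.1 (o1 _ ?_))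
  refine mem_inf.2 ⟨mul_mem (conj_mem hn hu) (inv_mem hu), mem_C1_comm.1 (mem_C1_iff_conj.2 ?_)⟩
  have e := o1 _ (h2 u hu)
  have c := hU.comm (h2 u hu).1 (mul_mem (conj_mem hn hu) (inv_mem hu))
  calc _ = k * (o * u * o⁻¹) * k⁻¹ * (k * u * k⁻¹)⁻¹ := by group
    _ = o * (k * u * k⁻¹ * u⁻¹) * o⁻¹ * (o * u * o⁻¹ * u⁻¹) * (k * u * k⁻¹ * u⁻¹)⁻¹ := by
      rw [ko u hu]; group
    _ = _ := by rw [e, c, mul_inv_cancel_right]

theorem cf4_le (hA : SCl ⊤ A) (h2 : Cl2 A) (hQ : Mt A Q Q') (hP : Ess A P) (h : P ≠ Q') :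
    VV A Q ≤ P ⊓ C[VV A P] := by
  have : VV A Q ≤ C[VV A P] := by_contra fun e => h (hQ.uniq hA h2 ⟨hQ.l, hP, e⟩)
  exact le_inf ((le_inf (((hQ.l.V_le hA h2).trans inf_le_left).trans hQ.l.lt.le) this).trans
    (hP.cent_V hA h2).le) this

theorem Mt.cent (hA : SCl ⊤ A) (h2 : Cl2 A) (hQ : Mt A Q Q') (hP : Mt A P P') (h1 : P ≠ Q)
    (h1' : P ≠ Q') : O2 (KK A P) ≤ C[WW A Q] := by
  have n1 : P' ≠ Q := by rintro rfl; exact h1' (hQ.uniq hA h2 hP.symm)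
  have n2 : P' ≠ Q' := by rintro rfl; exact h1 (hQ.symm.uniq hA h2 hP.symm)
  have QP := cf4_le hA h2 hQ hP.l h1'
  have QP' := cf4_le hA h2 hQ hP.r n2
  have Q'P := cf4_le hA h2 hQ.symm hP.l h1
  have Q'P' := cf4_le hA h2 hQ.symm hP.r n1
  have PQ := cf4_le hA h2 hP hQ.l n1.symm
  have PQ' := cf4_le hA h2 hP hQ.r n2.symm
  have P'Q := cf4_le hA h2 hP.symm hQ.l h1.symm
  have VA : ∀ {T}, Ess A T → VV A T ≤ A := fun h => ((h.V_le hA h2).trans inf_le_left).trans h.lt.le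
  have AK : ∀ T, A ≤ KK A T := fun T => le_ncl _ _
  obtain ⟨U, hU⟩ : ∃ U, U = VV A P ⊔ VV A Q := ⟨_, rfl⟩
  have PU : VV A P ≤ U := hU ▸ le_sup_left
  have QU : VV A Q ≤ U := hU ▸ le_sup_right
  have dU : ∀ u ∈ U, ∃ p ∈ VV A P, ∃ q ∈ VV A Q, u = p * q := fun u hu =>
    (mem_sup_of_norm ((QP.trans inf_le_right).trans (C_le_N _))).1 (hU ▸ hu)
  have UP : U ≤ P := hU ▸ sup_le ((hP.l.V_le hA h2).trans inf_le_left) (QP.trans inf_le_left)
  have UQ : U ≤ Q := hU ▸ sup_le (PQ.trans inf_le_left) ((hQ.l.V_le hA h2).trans inf_le_left)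
  have DC : P ⊓ Q ≤ C[U] := by
    rw [hU, C_sup]
    exact inf_le_inf (cents_symm ((hP.l.V_le hA h2).trans inf_le_right))
      (cents_symm ((hQ.l.V_le hA h2).trans inf_le_right))
  have eU : EA U := ea_of_sq fun u hu => by
    obtain ⟨p, hp, q, hq, rfl⟩ := dU u hu
    rw [mul_assoc, ← mul_assoc q, comm_of_cent (QP.trans inf_le_right) hq hp, mul_assoc,
      (hQ.l.V_ea hA h2).sq hq, mul_one, (hP.l.V_ea hA h2).sq hp]
  have AU : A ≤ N[U] := hU ▸ norm_sup ((hP.l.le_norm hA h2).trans (hP.l.V_nml hA h2).norm)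
    ((hQ.l.le_norm hA h2).trans (hQ.l.V_nml hA h2).norm)
  have KU : ∀ {T}, Ess A T → U ≤ T → VV A T ≤ U → KK A T ≤ N[U] := fun h e e' => by
    rw [h.K_eq hA h2]
    exact sup_le (norm_of_comm_le_left (((commutator_mono e le_rfl).trans (h.comm_Q hA h2).le).trans
      ((h.W_le hA h2).trans e'))) AU
  obtain ⟨L, hL⟩ : ∃ L, L = KK A P ⊔ KK A Q := ⟨_, rfl⟩
  have PL : KK A P ≤ L := hL ▸ le_sup_left
  have QL : KK A Q ≤ L := hL ▸ le_sup_right
  have AL := (AK P).trans PL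
  have LU : L ≤ N[U] := hL ▸ sup_le (KU hP.l UP PU) (KU hQ.l UQ QU)
  have sL := hA.mono le_top AL
  have nK : ∀ {T}, Ess A T → ncl (KK A T) A = KK A T := fun h =>
    (hA.mono le_top (h.le_norm hA h2)).ncl_ncl
  have nL : ncl L A = L := le_antisymm (ncl_nml AL).le (by
    nth_rewrite 1 [hL, ← nK hP.l, ← nK hQ.l]
    exact sup_le (ncl_mono PL le_rfl) (ncl_mono QL le_rfl))
  have dA : A = VV A P' ⊔ VV A Q' ⊔ (P ⊓ Q) := by
    refine le_antisymm (fun a ha => ?_) (sup_le (sup_le (VA hP.r) (VA hQ.r)) (inf_le_left.trans hP.l.lt.le))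
    obtain ⟨x, hx, p, hp, rfl⟩ := (mem_sup_of_norm' ((VA hP.r).trans (hP.l.le_norm hA h2))).1
      ((hP.sup hA h2).ge ha)
    obtain ⟨y, hy, q, hq, rfl⟩ := (mem_sup_of_norm' ((VA hQ.r).trans (hQ.l.le_norm hA h2))).1
      ((hQ.sup hA h2).ge (hP.l.lt.le hp))
    exact mul_mem (mem_sup_left (mem_sup_left hx)) (mul_mem (mem_sup_left (mem_sup_right hy))
      (mem_sup_right (mem_inf.2 ⟨(P.mul_mem_cancel_left (Q'P hy).1).1 hp, hq⟩)))
  have pm : ∀ n ∈ L ⊓ N[A], ∀ {T}, Ess A T → VV A T ≤ U → cj n T = P ∨ cj n T = Q := fun n hn T h e => by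
    have eA := cj_of_mem_N hn.2
    have h' : Ess A (cj n T) := eA ▸ h.conj n
    by_contra! hne
    refine h'.not_le hA h2 (le_trans ?_ (C_anti dA.le))
    rw [C_sup, C_sup]
    refine le_inf (le_inf (cents_symm ((cf4_le hA h2 hP.symm h' hne.1).trans inf_le_right))
      (cents_symm ((cf4_le hA h2 hQ.symm h' hne.2).trans inf_le_right))) (le_trans ?_ (cents_symm DC))
    nth_rewrite 1 [← eA]
    rw [← cj_VV, ← cj_of_mem_N (LU hn.1)]
    exact cj_mono n e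
  have NP : L ⊓ N[A] ≤ N[P] := le_trans (sL.tr (N0 := L ⊓ N[A] ⊓ N[P]) nL
    (le_inf (le_inf AL (norm_self A)) (hP.l.le_norm hA h2)) inf_le_left fun a ha b hb a1 b1 => by
      have e1 := (pm a ha hP.l PU).resolve_left fun e => a1 ⟨ha, mem_N_iff_cj.2 e⟩
      have e2 := (pm b hb hP.l PU).resolve_left fun e => b1 ⟨hb, mem_N_iff_cj.2 e⟩
      have e3 := (pm a ha hQ.l QU).resolve_right fun e => h1 (cj_inj.1 (e1.trans e.symm))
      exact ⟨mul_mem ha hb, mem_N_iff_cj.2 (by rw [cj_mul, e2, e3])⟩) inf_le_right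
  have NQ : L ⊓ N[A] ≤ N[Q] := fun n hn => mem_N_iff_cj.2 ((pm n hn hQ.l QU).resolve_left fun e =>
    h1 (cj_inj.1 ((cj_of_mem_N (NP hn)).trans e.symm)))
  have NV : ∀ {T T'}, Mt A T T' → L ⊓ N[A] ≤ N[T] → L ⊓ N[A] ≤ N[VV A T'] := fun h e n hn => by
    have := h.conj n
    rw [cj_of_mem_N hn.2, cj_of_mem_N (e hn)] at this
    rw [mem_N_iff_cj, cj_VV, cj_of_mem_N hn.2, h.uniq hA h2 this]
  have nC : L ⊓ C[U] ⊴ L := nml_inf_of_norm (norm_C LU)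
  obtain ⟨X, _, _, f, hf⟩ := H8.PC.exists_quo nC
  have NA : ∀ {V}, L ⊓ N[A] ≤ N[V] → N[img f A] ≤ N[img f V] := fun h γ hγ => by
    obtain ⟨g, hg, rfl⟩ := hf.exists_ap γ
    have hK : A ⊔ (L ⊓ C[U]) ⊴ pre f N[img f A] := ⟨sup_le (img_le_iff AL |>.1 (norm_self _))
      (hf.le_pre _), hf.pre_img AL ▸ norm_pre (pre_le _ _) (img_pre_le _ _)⟩
    obtain ⟨c, hc, n, hn, rfl⟩ := ((sL.mono (pre_le _ _) (le_sup_left.trans hK.le)).frattini hK).mul g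
      (mem_pre.2 ⟨hg, hγ⟩)
    rw [inf_eq_left.2 (le_sup_left (a := A))] at hn
    have hn' := pre_le _ _ hn.1
    have c1 := pre_le _ _ (hK.le hc)
    rw [ap_mul f c1 hn']
    refine mul_mem (img_norm f ((le_inf AL (norm_self A)).trans h) ((hf.mem_iff c1 AL).2 hc))
      (ap_mem_N f (h ⟨hn', hn.2⟩) hn')
  have PL' := (VA hP.r).trans AL
  have QL' := (VA hQ.r).trans AL
  have eA : img f A = img f (VV A P') ⊔ img f (VV A Q') := by
    nth_rewrite 1 [dA]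
    rw [img_sup f (sup_le PL' QL') (inf_le_left.trans (hP.l.lt.le.trans AL)), img_sup f PL' QL',
      (hf.eq_bot (inf_le_left.trans (hP.l.lt.le.trans AL))).2
        (le_inf (inf_le_left.trans (hP.l.lt.le.trans AL)) DC), sup_bot_eq]
  have ei : ∀ {V}, V ≤ L → EA V → EA (img f V) := fun h e => ea_of_sq fun b hb => by
    obtain ⟨q, hq, rfl⟩ := (mem_img_of_le h).1 hb
    rw [← ap_mul f (h hq) (h hq), e.sq hq, H8.PC.ap_one']
  have eP := ei PL' (hP.r.V_ea hA h2)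
  have eQ := ei QL' (hQ.r.V_ea hA h2)
  have main := cf4_dih (sL.quo hf) (eA ▸ eP.abl.sup eQ.abl (img_cent f (cents_symm (Q'P'.trans inf_le_right))))
    (img_mono f (VA hP.r)) (img_mono f (VA hQ.r)) (NA (NV hP NP)) (NA (NV hQ NQ)) eP eQ
    fun _ hx' _ hy' r ho e1 e2 => by
      obtain ⟨x, hx, rfl⟩ := (mem_img_of_le PL').1 hx'
      obtain ⟨y, hy, rfl⟩ := (mem_img_of_le QL').1 hy'
      obtain ⟨m, hm, rfl⟩ := hf.exists_ap r
      have rL := constt_mem ({2}ᶜ : Set ℕ) hm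
      have er : ap f (constt {2}ᶜ m) = ap f m := by rw [constt_ap f _ hm, constt_eq_self ho]
      rw [← er] at e1 e2 ⊢
      have ro : OddE (constt {2}ᶜ m) := piElt_constt _ m
      generalize constt {2}ᶜ m = r at *
      have xL := PL' hx
      have yL := QL' hy
      have kA := mul_mem (VA hP.r hx) (VA hQ.r hy)
      refine hf.ap_ker ⟨rL, cf4_odd (k := x * y) (x := x) eU ro (LU rL) (fun u hu => ?_)
        (fun u hu => mem_inf.2 ⟨mul_mem (conj_mem (AU kA) hu) (inv_mem hu), C_le_C1 kA (h2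
          (commutator_mem_commutator kA (hP.l.lt.le (UP hu))))⟩)
        ((hf.eq_one (mul_mem (mul_mem (mul_mem xL rL) (inv_mem xL)) rL)).1 ?_).2
        ((hf.eq_iff rL (mul_mem (mul_mem (mul_mem xL yL) rL) (inv_mem (mul_mem xL yL)))).1 ?_).2⟩
      · obtain ⟨p, hp, q, hq, rfl⟩ := dU u hu.1
        have c1 := comm_of_cent (P'Q.trans inf_le_right) hx hq
        have c2 := comm_of_cent (Q'P.trans inf_le_right) hy hp
        have c3 := mem_C1.1 hu.2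
        have c4 : ⁅q, y⁆ = ⁅x⁻¹, p⁻¹⁆ := by
          have : q * y = x⁻¹ * p⁻¹ * x * p * y * q := by
            rw [mul_assoc _ p, ← c2, show x⁻¹ * p⁻¹ * x * (y * p) * q = x⁻¹ * p⁻¹ * (x * y * (p * q)) by
              group, ← c3, show x⁻¹ * p⁻¹ * (p * q * (x * y)) = x⁻¹ * (q * x) * y by group, ← c1]
            group
          rw [commutatorElement_def, this, commutatorElement_def]; group
        have c5 : q * y = y * q := by
          rcases hQ.nd hA h2 hq (VA hQ.r hy) (c4 ▸ hQ.l.der_le hA h2 (commutator_mem_commutator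
            (Q.inv_mem (P'Q hx).1) (Q.inv_mem (PQ hp).1))) with e | e
          · exact mem_C'.1 (Zo_le A e).2 y (VA hQ.r hy)
          · exact mem_C'.1 (hQ.l.V_le hA h2 hq).2 y e
        refine mem_C1.2 (mul_right_cancel (b := y) ?_)
        rw [mul_assoc, c3, mul_assoc x, ← mul_assoc y, c2, mul_assoc p, ← c5]; group
      · rw [ap_mul f (mul_mem (mul_mem xL rL) (inv_mem xL)) rL, ap_conj f xL rL, e1, inv_mul_cancel]
      · rw [ap_conj f (mul_mem xL yL) rL, ap_mul f xL yL, show ∀ a b c : X,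
          a * b * c * (a * b)⁻¹ = a * (b * c * b⁻¹) * a⁻¹ by intros; group, e2,
          show ∀ a c : X, a * c⁻¹ * a⁻¹ = (a * c * a⁻¹)⁻¹ by intros; group, e1, inv_inv]
  have OH : ∀ {T T'}, Mt A T T' → KK A T ≤ L → img f (O2 (KK A T)) ≤ ncl ⊤ (img f (VV A T')) := by
    intro T T' h e
    have VK := (VA h.r).trans (AK T)
    have hH := ncl_nml VK
    have TK := h.l.lt.le.trans (AK T)
    have : KK A T = ncl (KK A T) (VV A T') ⊔ T := by
      have := ncl_sup (KK A T) (VV A T') T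
      rwa [h.sup hA h2, nK h.l, le_antisymm (ncl_le le_rfl (h.l.K_nml hA h2).le) (le_ncl (KK A T) T)] at this
    refine (img_mono f (O2_le_of_idx hH ?_)).trans ((img_ncl e (VK.trans e)).le.trans (ncl_mono le_top le_rfl))
    nth_rewrite 2 [this]
    rw [relIndex_sup_of_norm (TK.trans hH.norm)]
    exact (hA.two.of_le h.l.lt.le).relIndex _
  have OO : ∀ x ∈ O2 (KK A P), ∀ o ∈ O2 (KK A Q), o⁻¹ * (x * o * x⁻¹) ∈ C[U] := fun x hx o ho => by
    have xL := PL (O2_le _ hx)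
    have oL := QL (O2_le _ ho)
    refine ((hf.eq_iff oL (mul_mem (mul_mem xL oL) (inv_mem xL))).1 ?_).2
    rw [ap_conj f xL oL, conj_eq_of_mem_C (main (OH hP PL (ap_mem_img f hx xL)))
      (OH hQ QL (ap_mem_img f ho oL))]
  have NW : O2 (KK A P) ≤ N[WW A Q] := fun x hx => mem_N_of_cj_le (by
    nth_rewrite 1 [WW]
    rw [cj_comm, commutator_le]
    intro u hu _ ho'
    obtain ⟨o, ho, rfl⟩ := mem_cj'.1 ho'
    have hu : u ∈ U := (cj_of_mem_N (LU (PL (O2_le _ hx)))).le (cj_mono x QU hu)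
    have c := mem_C'.1 (OO x hx o ho) _ (inv_mem hu)
    rw [show ⁅u, x * o * x⁻¹⁆ = u * o * (o⁻¹ * (x * o * x⁻¹) * u⁻¹) * (x * o * x⁻¹)⁻¹ by
      rw [commutatorElement_def]; group, c, show u * o * (u⁻¹ * (o⁻¹ * (x * o * x⁻¹))) * (x * o * x⁻¹)⁻¹ =
      ⁅u, o⁆ by rw [commutatorElement_def]; group]
    exact (hQ.l.comm_Q hA h2).le (commutator_mem_commutator (UQ hu) ho))
  have WP := (hQ.l.W_le hA h2).trans (QU.trans UP)
  have YC : WW A Q ⊓ WW A P ≤ C[KK A P] := by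
    refine le_trans (le_inf inf_le_left (le_trans ?_ (hP.inf hA h2).le)) ?_
    · exact le_inf (inf_le_right.trans (hP.l.W_le hA h2))
        (inf_le_left.trans ((hQ.l.W_le hA h2).trans (QP'.trans inf_le_left)))
    · rw [← hQ.inf_W hA h2, ← (hQ.half hA h2).comm]
      exact (commutator_mono WP ((hQ.r.W_le hA h2).trans (Q'P.trans inf_le_left))).trans (hP.l.der_le hA h2)
  refine O2_le_of fun x hx ho => odd_cent_of_chain (hA.two.of_le (WP.trans hP.l.lt.le)) inf_le_left ho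
    (le_inf (comm_le_left (zpowers_le.2 (NW (mem_O2 hx ho)))) ((commutator_mono WP
      (zpowers_le.2 (mem_O2 hx ho))).trans (hP.l.comm_Q hA h2).le)) (cents_symm YC hx)

end H2.C2
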