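import Mathlib
import Cfsg.Agent.H2.CF4
import Cfsg.Agent.H2.CHB

set_option autoImplicit false
set_option linter.unusedVariables false
set_option linter.unusedSectionVars false

namespace H2.C2

open Cfsg H24 H26 H26.Gold Subgroup
open scoped commutatorElement

universe u

variable {G : Type u} [Group G] [Finite G]
  {A B D E H K L M N0 P P' Q Q' R R' S T T' U W X a a' b b' b'' v : Subgroup G}
  {g k n o s t x y z : G} {q : ℕ}

/-! ### CF5 -/

theorem cf5_scl (hA : SCl ⊤ A) (h2 : Cl2 A) (hB : B ≤ A) (hn : N[A] ≤ N[B])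
    (h : ∀ Q, Ess A Q → ∀ x ∈ B, x ∈ Q → ∀ o ∈ O2 (KK A Q), o * x * o⁻¹ ∈ B) : SCl ⊤ B :=
  hA.sub hB fun x hx g _ hg => (hA.alp (zpowers_le.2 (hB hx)) (by
    rw [cj_zpowers]; exact zpowers_le.2 hg)).stable (Z := B) (by
      rintro _ (rfl | ⟨Q, hQ, rfl⟩) y hy k hk hy'
      · exact conj_mem (hn hk) hy'
      · obtain ⟨n, hn', o, ho, rfl⟩ := (hQ.prod hA h2).mul k hk
        rw [show n * o * y * (n * o)⁻¹ = n * (o * y * o⁻¹) * n⁻¹ by group]
        exact conj_mem (hn hn'.2) (h Q hQ y hy' hy o ho)) (mem_zpowers x) hx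

theorem cf5_ess (h : Ess A Q) (hn : n ∈ N[A]) : Ess A (cj n Q) := cj_of_mem_N hn ▸ h.conj n

theorem cf5_idx (hA : SCl ⊤ A) (h2 : Cl2 A) (hm : ∀ Q, Ess A Q → ∃ P, Mt A Q P) :
    ∃ (ι : Type u) (_ : Finite ι) (e : ι → Bool → Subgroup G), (∀ i b, Mt A (e i b) (e i (!b))) ∧
      (∀ Q, Ess A Q → ∃ i b, e i b = Q) ∧ ∀ i j b c, e i b = e j c → i = j := by
  choose! pt hp using hm
  have pp : ∀ Q, Ess A Q → pt (pt Q) = Q := fun Q h => (hp Q h).symm.uniq hA h2 (hp _ (hp Q h).r)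
  refine ⟨{Q // Ess A Q ∧ WellOrderingRel Q (pt Q)}, inferInstance, fun i b => cond b i.1 (pt i.1),
    fun i b => ?_, fun Q h => ?_, fun i j b c e => Subtype.ext ?_⟩
  · cases b
    exacts [(hp _ i.2.1).symm, hp _ i.2.1]
  · rcases trichotomous_of WellOrderingRel Q (pt Q) with e | e | e
    · exact ⟨⟨Q, h, e⟩, true, rfl⟩
    · exact absurd (e ▸ (h.V_ea hA h2).le_C) (hp Q h).nc
    · exact ⟨⟨pt Q, (hp Q h).r, by rwa [pp Q h]⟩, false, pp Q h⟩
  · have k : ∀ i j : {Q // Ess A Q ∧ WellOrderingRel Q (pt Q)}, i.1 ≠ pt j.1 := fun i j e =>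
      asymm_of WellOrderingRel j.2.2 (by have := i.2.2; rwa [e, pp _ j.2.1] at this)
    cases b <;> cases c
    · rw [← pp _ i.2.1, ← pp _ j.2.1]; exact congrArg pt e
    · exact absurd e.symm (k j i)
    · exact absurd e (k i j)
    · exact e

theorem exists_fam (hA : SCl ⊤ A) (h2 : Cl2 A) (hna : ¬ Abl A)
    (hmin : ∀ B ≤ A, SCl ⊤ B → B = ⊥ ∨ B = A) : Nonempty (Fam A) := by
  obtain ⟨Q0, h0⟩ : ∃ Q, Ess A Q := by
    by_contra! hn
    rcases hmin _ inf_le_left (cf5_scl (B := A ⊓ C[A]) hA h2 inf_le_left (norm_inf le_rfl (N_le_NC A))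
      fun Q h => absurd h (hn Q)) with e | e
    · exact hA.two.inf_C_ne_bot Nat.prime_two hA.two (norm_self A) (fun e => hna (e ▸ abl_bot)) e
    · exact hna (abl_iff.2 (e.ge.trans inf_le_right))
  have A0 : ⨆ Q : {Q // Ess A Q}, WW A Q = A := by
    have le : ∀ Q, Ess A Q → WW A Q ≤ ⨆ Q : {Q // Ess A Q}, WW A Q := fun Q h =>
      le_iSup (fun Q : {Q // Ess A Q} => WW A Q) ⟨Q, h⟩
    have hl : ⨆ Q : {Q // Ess A Q}, WW A Q ≤ A := iSup_le fun Q => Q.2.W_le_A hA h2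
    refine (hmin _ hl (cf5_scl hA h2 hl (fun n hn => mem_N_of_cj_le (cj_le_iff.2 (iSup_le fun Q =>
      cj_le_iff.1 ?_))) fun Q h x hx hq o ho => ?_)).resolve_left fun e => h0.not_le hA h2 ?_
    · rw [cj_WW, cj_of_mem_N hn]; exact le _ (cf5_ess Q.2 hn)
    · rw [show o * x * o⁻¹ = ⁅x, o⁆⁻¹ * x by rw [commutatorElement_def]; group]
      exact mul_mem (inv_mem (le Q h ((h.comm_Q hA h2).le (commutator_mem_commutator hq ho)))) hx
    · rw [h0.V_eq hA h2, le_bot_iff.1 ((le Q0 h0).trans e.le), bot_sup_eq]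
      exact (Zo_le A).trans inf_le_right
  obtain ⟨ι, _, e, mt, sj, ij⟩ := cf5_idx hA h2 fun Q h => by
    by_contra! hn
    refine h.not_le hA h2 (cents_symm (A0.ge.trans (iSup_le fun P => (P.2.W_le hA h2).trans
      (cents_symm (by_contra fun e => hn P ⟨h, P.2, e⟩)))))
  have ne : ∀ {i j}, i ≠ j → ∀ b c, e i b ≠ e j c := fun h b c e => h (ij _ _ b c e)
  have ct : ∀ {i j}, j ≠ i → ∀ b c, O2 (KK A (e j c)) ≤ C[WW A (e i b)] := fun h b c =>
    Mt.cent hA h2 (mt _ b) (mt _ c) (ne h _ _) (ne h _ _)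
  have cm : ∀ i j, i ≠ j → WW A (e i true) ⊔ WW A (e i false) ≤ C[WW A (e j true) ⊔ WW A (e j false)] :=
    fun i j h => by
      have : ∀ b c, WW A (e i b) ≤ C[WW A (e j c)] := fun b c => ((mt i b).l.W_le hA h2).trans
        (((cf4_le hA h2 (mt i b) (mt j c).l (ne h.symm _ _)).trans inf_le_right).trans
          (C_anti ((mt j c).l.W_le hA h2)))
      rw [C_sup]
      exact sup_le (le_inf (this _ _) (this _ _)) (le_inf (this _ _) (this _ _))
  have EA' : ∀ i, WW A (e i true) ⊔ WW A (e i false) ≤ A := fun i =>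
    sup_le ((mt i _).l.W_le_A hA h2) ((mt i _).l.W_le_A hA h2)
  have C0 : A ⊓ ⨅ Q : {Q // Ess A Q}, (Q.1 ⊓ C[O2 (KK A Q)]) = ⊥ := by
    refine (hmin _ inf_le_left (cf5_scl hA h2 inf_le_left (fun n hn => mem_N_of_finite fun x hx =>
      ⟨conj_mem hn hx.1, mem_iInf.2 fun Q => ?_⟩) fun Q h x hx _ o ho => ?_)).resolve_right fun e =>
        h0.lt.not_ge (e.ge.trans (inf_le_right.trans ((iInf_le _ ⟨Q0, h0⟩).trans inf_le_left)))
    · have : x ∈ cj n⁻¹ Q.1 ⊓ C[O2 (KK A (cj n⁻¹ Q.1))] := mem_iInf.1 hx.2 ⟨_, cf5_ess Q.2 (inv_mem hn)⟩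
      have e := cj_KK n⁻¹ A Q.1
      rw [cj_of_mem_N (inv_mem hn)] at e
      rwa [← e, ← cj_O2, ← cj_C, ← cj_inf, ← conj_mem_cj_iff (g := n), cj_cj_inv] at this
    · rwa [conj_eq_of_mem_C (cents_symm (zpowers_le.2 (mem_iInf.1 hx.2 ⟨Q, h⟩).2) ho) (mem_zpowers x)]
  have RR : ∀ i, WW A (e i true) ⊓ C[KK A (e i true)] ⊓ (WW A (e i false) ⊓ C[KK A (e i false)]) = ⊥ :=
    fun i => le_bot_iff.1 (le_trans (fun y hy => by
      have yA := (mt i _).l.W_le_A hA h2 hy.1.1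
      refine mem_inf.2 ⟨yA, mem_iInf.2 fun ⟨Q, h⟩ => mem_inf.2
        ⟨(h.cz hA h2 ⟨yA, C_anti (le_ncl _ _) hy.1.2⟩).1, ?_⟩⟩
      obtain ⟨j, c, rfl⟩ := sj Q h
      by_cases e : j = i
      · subst e
        cases c
        exacts [C_anti (O2_le _) hy.2.2, C_anti (O2_le _) hy.1.2]
      · exact cents_symm (ct e true c) hy.1.1) C0.le)
  have hf : ∀ i b, Half N[e i b] (WW A (e i b)) (WW A (e i (!b))) (WW A (e i b) ⊓ C[KK A (e i b)])
      ((e i true).relIndex A) := fun i b => by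
    have := (mt i b).half hA h2
    cases b
    · rwa [← (mt i false).idx hA h2] at this
    · exact this
  refine ⟨⟨ι, inferInstance, (sj Q0 h0).nonempty, fun i b => WW A (e i b),
    fun i b => WW A (e i b) ⊓ C[KK A (e i b)],
    fun i b => O2 (KK A (e i b)) ⊔ (WW A (e i true) ⊔ WW A (e i false)), fun i => (e i true).relIndex A,
    hA, le_antisymm (A0.ge.trans (iSup_le fun ⟨Q, h⟩ => ?_)) (iSup_le EA'), cm, fun i => ?_,
    fun i b => ((mt i b).l.cent_W hA h2).symm ▸ hf i b, fun i b => ?_, fun i b j h => ?_, RR,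
    fun n hn i => ?_, fun D g hD hg => ?_⟩⟩
  · obtain ⟨i, b, rfl⟩ := sj Q h
    refine le_trans ?_ (le_iSup _ i)
    cases b
    exacts [le_sup_right, le_sup_left]
  · refine le_bot_iff.1 (le_trans (fun y hy => ?_) (RR i).le)
    have h1 := ((hf i true).center).le ⟨hy.1, (iSup₂_le fun j hj => cm j i hj :
      _ ≤ C[WW A (e i true) ⊔ WW A (e i false)]) hy.2⟩
    have h3 : ∀ b, y ∈ C[KK A (e i b)] := fun b => by
      rw [(mt i b).l.K_eq hA h2, C_sup]
      exact ⟨(iSup₂_le fun j hj => sup_le (cents_symm (ct (Ne.symm hj) _ b))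
        (cents_symm (ct (Ne.symm hj) _ b)) : _ ≤ C[O2 (KK A (e i b))]) hy.2,
        (Zo_le A (((mt i true).inf_W hA h2).le h1).2).2⟩
    exact ⟨⟨h1.1, h3 _⟩, h1.2, h3 _⟩
  · have h := (mt i b).l
    refine (hf i b).sub (sup_le (h.O_nml hA h2).le ((EA' i).trans (h.le_norm hA h2)))
      (le_trans (by cases b; exacts [(sup_comm _ _).le, le_rfl]) le_sup_right) ?_
    obtain ⟨g, hg, hne⟩ := (hf i b).ex
    obtain ⟨n, hn, o, ho, rfl⟩ := (h.prod hA h2).mul g hg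
    refine ⟨o, mem_sup_left ho, fun e => hne ?_⟩
    rw [cj_mul, e, (mt i b).inf_W hA h2, cj_inf, cj_Zo, cj_of_mem_N hn.2,
      cj_of_mem_N ((h.W_nml hA h2).norm hn.1)]
  · refine sup_le ?_ (cm i j h.symm)
    rw [C_sup]
    exact le_inf (ct h.symm _ _) (ct h.symm _ _)
  · obtain ⟨j, c, e1⟩ := sj _ (cf5_ess (mt i true).l hn)
    have := (mt i true).conj n
    rw [cj_of_mem_N hn, ← e1] at this
    have e2 := (mt j c).uniq hA h2 this
    refine ⟨j, !c, fun b => ?_⟩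
    rw [cj_WW, cj_of_mem_N hn]
    cases b
    · exact congrArg _ (e2.trans (by simp))
    · exact congrArg _ (e1.symm.trans (by simp))
  · have := hA.alp hD hg
    clear hD hg
    induction this with
    | cent hc => exact .cent hc
    | step hp hD hk _ ih =>
      rcases hp with hp | ⟨Q, h, hp⟩
      · exact .step (Or.inl hp) hD hk ih
      cases hp
      obtain ⟨i, b, rfl⟩ := sj _ h
      obtain ⟨n, hn, o, ho, rfl⟩ := (h.prod hA h2).mul _ hk
      rw [← mul_assoc]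
      refine .step (Or.inr ⟨i, b, rfl⟩) ((h.cent_W hA h2).symm ▸ hD) (mem_sup_left ho)
        (.step (Or.inl rfl) (((cj_mono o hD).trans (cj_of_mem_N ((h.O_nml hA h2).le ho)).le).trans h.lt.le)
          hn.2 (cj_mul n o _ ▸ ih))

end H2.C2
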