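import Mathlib
import Cfsg.Agent.H2.CHC
import Cfsg.Agent.H2.CT2
import Cfsg.Agent.H2.CT3

set_option autoImplicit false
set_option linter.unusedVariables false
set_option linter.unusedSectionVars false

namespace H2.C2

open Cfsg H24 H26 H26.Gold Subgroup
open scoped commutatorElement

universe u

variable {G : Type u} [Group G] [Finite G]
  {A B D E H K L M N0 P P' Q Q' R R' S T T' U W X a a' b b' b'' v : Subgroup G}
  {g k n o s t x y z : G} {q : ℕ}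

/-! ### CH1 -/

theorem ch_centQ_symm (hA : A ≤ N[U]) (hB : B ≤ N[U]) (h : A ≤ centQ B U) : B ≤ centQ A U :=
  (le_centQ hA).2 ⟨hB, commC A B ▸ ((le_centQ hB).1 h).2⟩

theorem ch_comm_zpowers (hA : A ≤ N[U]) (h : x ∈ centQ A U) : ⁅A, zpowers x⁆ ≤ U :=
  commC (zpowers x) A ▸ ((le_centQ hA).1 (zpowers_le.2 h)).2

theorem ch_C_le_centQ (hA : A ≤ N[U]) (hx : x ∈ N[U]) (h : x ∈ C[A]) : x ∈ centQ A U :=
  (mem_centQ hA).2 ⟨hx, fun u hu => by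
    rw [commutatorElement_eq_one_iff_mul_comm.2 (mem_C'.1 h u hu)]; exact one_mem U⟩

theorem ch_split (hE : TwoG E) (hn : E ≤ N[M]) (hD : ∀ x ∈ M, OddE x → x ∈ D) (ho : o ∈ M) :
    ∃ P, TwoG P ∧ E ≤ P ∧ P ≤ M ⊔ E ∧ ∃ c ∈ M ⊓ D, ∃ s ∈ P, o = c * s := by
  obtain ⟨P, hP, h1⟩ := Sylow_superset Nat.prime_two hE (le_sup_right : E ≤ M ⊔ E)
  have k : O2 (M ⊔ E) ≤ M :=
    O2_le_of_idx (nml_sup_left hn) (by rw [relIndex_sup_of_norm hn]; exact hE.relIndex M)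
  obtain ⟨c, hc, s, hs, e⟩ := (mem_sup_of_norm (hP.le.trans (O2_nml _).norm)).1
    ((O2_sup_syl hP).ge (mem_sup_left ho))
  exact ⟨P, hP.pi, h1, hP.le, c, ⟨k hc, O2_le_of (fun x hx ho => hD x (k (mem_O2 hx ho)) ho) hc⟩,
    s, hs, e⟩

theorem ch_cent_Y (h : Half K W X R q) (h1 : ∀ w ∈ W, ⁅s, w⁆ ∈ W ⊓ X)
    (h2 : ∀ x ∈ X, ⁅s, x⁆ ∈ W ⊓ X) : s ∈ C[W ⊓ X] := by
  have cY := h.center.ge.trans inf_le_right
  rw [mem_C_iff_le_C1, ← h.comm, commutator_le]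
  intro w hw x hx
  have k1 := cY (h1 w hw)
  have k2 := cY (h2 x hx)
  have m := mul_mem (mem_sup_left (h2 x hx).1) (mem_sup_right hx)
  rw [mem_C1_comm, mem_C1_iff_conj, conjugate_commutatorElement,
    show s * w * s⁻¹ = ⁅s, w⁆ * w by group, show s * x * s⁻¹ = ⁅s, x⁆ * x by group]
  generalize ⁅s, w⁆ = c at *
  generalize ⁅s, x⁆ = d at *
  calc ⁅c * w, d * x⁆ = c * (w * (d * x) * w⁻¹) * c⁻¹ * (d * x)⁻¹ := by group
    _ = w * d * x * w⁻¹ * x⁻¹ * d⁻¹ := by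
      rw [conj_eq_of_mem_C k1 (conj_mem (norm_self _ (mem_sup_left hw)) m)]; group
    _ = d * ⁅w, x⁆ * d⁻¹ := by rw [mem_C.1 k2 w (mem_sup_left hw)]; group
    _ = _ := conj_eq_of_mem_C k2 (der1_le _ (commutator_mem_commutator (mem_sup_left hw)
      (mem_sup_right hx)))

theorem ch_cent_of (h : Half K W X R q) (hs : SCl K (W ⊔ X)) (ho : o ∈ K)
    (h1 : ∀ w ∈ W, ⁅o, w⁆ ∈ R) (h2 : o ∈ C[R]) : o ∈ C[W] := by
  have nR : W ≤ N[R] := le_sup_left.trans (h.leK.trans h.normR)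
  have hn : K ≤ N[K ⊓ centQ W R ⊓ C[R]] :=
    norm_inf (norm_inf (norm_self K) (norm_centQ h.norm h.normR)) (norm_C h.normR)
  have key : ∀ {X}, Half K W X R q → SCl K (W ⊔ X) → W ⊓ X ≤ C{o} := by
    intro X h hs
    obtain ⟨P, hP, e1, e2, c, hc, s, hs', rfl⟩ := ch_split (D := C[W]) h.two (h.leK.trans hn)
      (fun x hx hod => odd_cent_of_chain h.ea.two (h.leR.trans inf_le_left) hod
        (ch_comm_zpowers nR hx.1.2) hx.2) ⟨⟨ho, (mem_centQ nR).2 ⟨h.normR ho, h1⟩⟩, h2⟩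
    have PK : P ≤ K := e2.trans (sup_le (inf_le_left.trans inf_le_left) h.leK)
    have sO : s ∈ K ⊓ centQ W R ⊓ C[R] := (mul_mem_cancel_left (mem_inf.1 hc).1).1
      ⟨⟨ho, (mem_centQ nR).2 ⟨h.normR ho, h1⟩⟩, h2⟩
    have sX : s ∈ N[X] := by
      rcases h.norm_cases (hs.le_norm hP e1 PK hs') with e | e
      · exact mem_N_iff_cj.2 e.2
      · exact absurd ((cj_of_mem_N (h.norm (PK hs'))).symm.trans e.1).le h.not_le
    have k : s ∈ C[W ⊓ X] := ch_cent_Y h (fun w hw => h.leR (((mem_centQ nR).1 sO.1.2).2 w hw))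
      fun x hx => by
        have m : ⁅s, x⁆ ∈ X := mul_mem (conj_mem sX hx) (inv_mem hx)
        have m' : ⁅s, x⁆ ∈ K ⊓ centQ W R ⊓ C[R] := by
          rw [show ⁅s, x⁆ = s * (x * s⁻¹ * x⁻¹) by group]
          exact mul_mem sO (conj_mem (hn (h.leK (mem_sup_right hx))) (inv_mem sO))
        obtain ⟨w, w1, w2⟩ := SetLike.not_le_iff_exists.1 h.not_le
        refine ⟨(h.nd w w1 _ m ?_).resolve_left w2, m⟩
        rw [← commutatorElement_inv]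
        exact inv_mem (((mem_centQ nR).1 m'.1.2).2 w w1)
    exact mem_C_iff_le_C1.1 (mul_mem (C_anti inf_le_left hc.2) k)
  obtain ⟨g, hg, hY⟩ := h.ex
  have h' := h.conj g
  have hs' := hs.conj g
  rw [cj_of_mem hg, cj_of_mem_N (h.norm hg), cj_of_mem_N (h.normR hg)] at h'
  rw [cj_of_mem hg, cj_sup, cj_of_mem_N (h.norm hg)] at hs'
  rw [mem_C_iff_le_C1, ← (h.mov g hg hY).2, cj_inf, cj_of_mem_N (h.norm hg)]
  exact sup_le (key h' hs') (key h hs)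

theorem Half.cent_of (h : Half K W X R q) (hs : SCl K (W ⊔ X)) (ho : o ∈ K)
    (h1 : ⁅W, zpowers o⁆ ≤ R) (h2 : o ∈ C[R]) : o ∈ C[W] :=
  ch_cent_of h hs ho
    (fun w hw => h1 (commC _ W ▸ commutator_mem_commutator (mem_zpowers o) hw)) h2
theorem Hl.symm (h : Hl W X R R' q) : Hl X W R' R q :=
  ⟨sup_comm W X ▸ h.scl, h.h', h.h, inf_comm R R' ▸ h.RR, sup_comm W X ▸ h.gen⟩
theorem Hl.norm (h : Hl W X R R' q) : N[W ⊔ X] ≤ N[W] ⊓ N[X] := by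
  refine (le_inf le_top le_rfl).trans (h.scl.tr h.gen (le_inf h.h.normW h.h.normX)
    (le_inf le_top (norm_sup inf_le_left inf_le_right)) fun a ha b hb h1 h2 => ?_)
  rw [mem_inf, mem_N_iff_cj, mem_N_iff_cj] at h1 h2 ⊢
  obtain ⟨a1, a2⟩ := (h.h.norm_cases ha.2).resolve_left h1
  obtain ⟨b1, b2⟩ := (h.h.norm_cases hb.2).resolve_left h2
  rw [cj_mul, cj_mul, b1, b2, a1, a2]
  exact ⟨rfl, rfl⟩
theorem Hl.not_conj (h : Hl W X R R' q) (g : G) : cj g W ≠ X := fun e => by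
  obtain ⟨l, hl, e1⟩ := Mx.exists_conj' le_top (h.scl.mx_self le_top h.h.normX)
    (h.scl.mx_conj le_top (mem_top g) (e ▸ norm_cj h.h.normW g))
  have h2 := cj_eq_cj_iff.2 (h.norm (cj_eq_cj_iff.1 e1)).1
  rw [e, ← cj_of_mem_N hl, cj_inj] at h2
  exact h.h.not_le h2.ge

theorem ch_comm (h : Hl W X R R' q) (hP : TwoG P) (hE : W ⊔ X ≤ P) (hs : s ∈ P) :
    ∀ w ∈ W, ⁅s, w⁆ ∈ W ⊓ X := fun w hw => by
  have hn := h.scl.le_norm hP hE le_top hs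
  refine mem_inf.2 ⟨mul_mem (conj_mem (h.norm hn).1 hw) (inv_mem hw), ?_⟩
  refine h.h.semi (T := N[W ⊔ X]) (le_inf h.norm (h.norm.trans (inf_le_left.trans h.h.normR)))
    (fun N0 h1 h2 h3 => (le_inf le_top le_rfl).trans (h.scl.tr h.gen
      ((le_inf le_rfl (norm_self _)).trans h2) (le_inf le_top h1)
      fun a ha b hb => h3 a ha.2 b hb.2)) hn (hP.piElt hs) ?_
  exact commC _ W ▸ commutator_mem_commutator (mem_zpowers s) hw

theorem ch_cent (h : Hl W X R R' q) (hP : TwoG P) (hE : W ⊔ X ≤ P) (hs : s ∈ P) :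
    s ∈ C[W ⊓ X] :=
  ch_cent_Y h.h (ch_comm h hP hE hs) (inf_comm X W ▸ ch_comm h.symm hP (sup_comm W X ▸ hE) hs)

private theorem step (h : Hl W X R R' q) (hP : TwoG P) (hE : W ⊔ X ≤ P) (hs : s ∈ P) :
    ∃ x ∈ X, ∀ w ∈ W, ⁅x * s, w⁆ ∈ R := by
  obtain ⟨g, hg, hY⟩ := h.h.ex
  have hn := h.norm (h.scl.le_norm hP hE le_top hs)
  obtain ⟨x, hx, e⟩ := h.h.trans hg hY (mul_mem hn.1 hg) fun e => hY (by
    rwa [cj_mul, cj_eq_iff, cj_of_mem_C (inv_mem (ch_cent h hP hE hs))] at e)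
  have m := mul_mem (hE (mem_sup_right hx)) hs
  have k : x * s ∈ N[cj g (W ⊓ X)] := by
    rw [mem_N_iff_cj, cj_mul, ← cj_mul s, e, ← cj_mul, ← mul_assoc, h.h.eaX.sq hx, one_mul]
  obtain ⟨e1, e2⟩ := h.h.mov g hg hY
  refine ⟨x, hx, fun w hw => ?_⟩
  obtain ⟨y', hy', y, hy, rfl⟩ := (mem_sup_of_norm (h.h.ea.abl.norm inf_le_left
    (cj_le_of_mem_N inf_le_left hg))).1 (e2.ge hw)
  rw [show ⁅x * s, y' * y⁆ = x * s * y' * (x * s)⁻¹ * (x * s * y * (x * s)⁻¹ * y⁻¹) * y'⁻¹ by group,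
    conj_eq_of_mem_C (ch_cent h hP hE m) hy, mul_inv_cancel, mul_one]
  exact e1.le (mem_inf.2 ⟨mul_mem (conj_mem k hy') (inv_mem hy'),
    ch_comm h hP hE m y' (cj_le_of_mem_N inf_le_left hg hy')⟩)

theorem Hl.prod (h : Hl W X R R' q) (hP : TwoG P) (hE : W ⊔ X ≤ P) :
    IsProd (W ⊔ X) (P ⊓ C[W ⊔ X]) P := by
  refine ⟨hE, inf_le_left, fun s hs => ?_⟩
  obtain ⟨x, hx, k1⟩ := step h hP hE hs
  have m := mul_mem (hE (mem_sup_right hx)) hs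
  obtain ⟨w, hw, k2⟩ := step h.symm hP (sup_comm W X ▸ hE) m
  have m' := mul_mem (hE (mem_sup_left hw)) m
  have hn := h.norm (h.scl.le_norm hP hE le_top m')
  have c := ch_cent h hP hE m'
  refine ⟨x * w, mul_mem (mem_sup_right hx) (mem_sup_left hw), w * (x * s), ⟨m', ?_⟩, by
    rw [mul_assoc, ← mul_assoc w, h.h.ea.sq hw, one_mul, ← mul_assoc, h.h.eaX.sq hx, one_mul]⟩
  rw [C_sup]
  refine ⟨ch_cent_of h.h (h.scl.mono le_top h.h.normW) hn.1 (fun v hv => ?_) (C_anti h.h.leR c),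
    ch_cent_of h.h' (h.symm.scl.mono le_top h.h'.normW) hn.2 k2
      (C_anti (h.h'.leR.trans (inf_comm X W).le) c)⟩
  rw [show ⁅w * (x * s), v⁆ = w * (⁅x * s, v⁆ * v) * w⁻¹ * v⁻¹ by group,
    h.h.ea.comm hw (mul_mem (h.h.leR (k1 v hv)).1 hv), mul_inv_cancel_right, mul_inv_cancel_right]
  exact k1 v hv

theorem ch_Q (h : Hl W X R R' q) (hP : TwoG P) (hE : W ⊔ X ≤ P) (hx : x ∈ P ⊓ C[W]) :
    ∃ w ∈ W, ∃ s ∈ P ⊓ C[W ⊔ X], x = w * s := by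
  obtain ⟨e, he, s, hs, rfl⟩ := (h.prod hP hE).mul x hx.1
  exact ⟨e, h.h.centW.le ⟨he, (mul_mem_cancel_right (C_anti le_sup_left hs.2)).1 hx.2⟩, s, hs, rfl⟩

theorem ch_normW (h : Hl W X R R' q) (hP : TwoG P) (hE : W ⊔ X ≤ P) : P ≤ N[W] :=
  (h.scl.le_norm hP hE le_top).trans (h.norm.trans inf_le_left)

theorem ch_syl (h : Hl W X R R' q) (hS : Syl 2 ⊤ S) (hE : W ⊔ X ≤ S) : Syl 2 C[W] (S ⊓ C[W]) :=
  hS.inf_norm le_top (norm_C (ch_normW h hS.pi hE))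

theorem Hl.tor (h : Hl W X R R' q) (hS : Syl 2 ⊤ S) (hE : W ⊔ X ≤ S) (hx : x ∈ W ⊓ X)
    (hx' : x ∉ R) (hy : y ∈ W ⊓ X) (hy' : y ∉ R) : ∃ k ∈ N[S] ⊓ N[W ⊔ X] ⊓ C[R],
      ⁅S ⊓ C[W ⊔ X], zpowers k⁆ ≤ W ⊓ X ∧ k * x * k⁻¹ * y ∈ R := by
  have hQ := ch_syl h hS hE
  have SW := ch_normW h hS.pi hE
  set Q := S ⊓ C[W] with eQ
  have SQ : S ≤ N[Q] := norm_inf (norm_self S) (norm_C SW)
  have QW : Q ≤ N[W] := inf_le_left.trans SW
  have WQ : W ≤ Q := le_inf (le_sup_left.trans hE) h.h.ea.le_C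
  obtain ⟨g0, hg0, hY⟩ := h.h.ex
  obtain ⟨c0, hc0, g, hg, rfl⟩ := (Frattini_arg Nat.prime_two (C_nml_N W) hQ).mul g0 hg0
  rw [cj_mul, cj_of_mem_C (C_anti (cj_le_of_mem_N inf_le_left hg.1) hc0)] at hY
  have XM : X ≤ N[Q] ⊓ centQ Q W := fun x hx => ⟨SQ (hE (mem_sup_right hx)),
    (mem_centQ QW).2 ⟨h.h.normW (mem_sup_right hx), fun u hu => by
      obtain ⟨w, hw, s, hs, rfl⟩ := ch_Q h hS.pi hE hu
      rw [show ⁅x, w * s⁆ = x * w * (s * x⁻¹ * s⁻¹) * w⁻¹ by group,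
        conj_eq_of_mem_C hs.2 (mem_sup_right (inv_mem hx))]
      exact mul_mem (conj_mem (h.h.normW (mem_sup_right hx)) hw) (inv_mem hw)⟩⟩
  have nM : N[W] ⊓ N[Q] ≤ N[N[Q] ⊓ centQ Q W] :=
    norm_inf (norm_N inf_le_right) (norm_centQ inf_le_right inf_le_left)
  have LM : X ⊔ cj g X ≤ N[Q] ⊓ centQ Q W := sup_le XM (cj_le_of_mem_N XM (nM hg))
  obtain ⟨l, hl, e1, e2⟩ := h.h.tor hg.1 hY hx hx' hy hy'
  have lW := centQ_le_N _ _ (LM hl).2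
  have k1 : cj l (W ⊔ X) ≤ C[Q] ⊔ S := by
    rw [cj_sup, cj_of_mem_N lW]
    refine sup_le (le_sup_left.trans (hE.trans le_sup_right)) fun u hu => ?_
    obtain ⟨x1, h1, c, hc, rfl⟩ := (mem_sup_of_norm' (le_sup_right.trans (norm_C h.h.normW))).1
      (h.h.fix l lW e1 hu)
    obtain ⟨P, hP, e3, e4, c1, h2, s, h3, rfl⟩ := ch_split (M := C[W] ⊓ (N[Q] ⊓ centQ Q W))
      (D := C[Q]) hQ.pi (norm_inf (norm_C QW) ((le_inf QW (norm_self Q)).trans nM))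
      (fun x hx hod => odd_cent_of_chain hQ.pi WQ hod (ch_comm_zpowers QW hx.2.2) hx.1)
      ⟨hc, (mul_mem_cancel_left (XM h1)).1 (LM (cj_le_of_mem le_sup_left hl hu))⟩
    rw [hQ.eq_of_le hP e3 (e4.trans (sup_le inf_le_left inf_le_right))] at h3
    exact mul_mem (mem_sup_right (hE (mem_sup_right h1)))
      (mul_mem (mem_sup_left h2.2) (mem_sup_right h3.1))
  obtain ⟨m, hm, e3⟩ := Mx.exists_conj' le_top (h.scl.mx_self le_top (hE.trans le_sup_right))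
    (h.scl.mx_conj le_top (mem_top l) k1)
  obtain ⟨c, hc, s, hs, rfl⟩ := (mem_sup_of_norm (norm_C SQ)).1 hm
  rw [cj_mul, cj_of_mem_N (h.scl.le_norm hS.pi hE le_top hs)] at e3
  have kE := cj_eq_cj_iff.1 e3
  have cW := C_anti WQ hc
  have kM : c⁻¹ * l ∈ N[Q] ⊓ centQ Q W :=
    mul_mem (inv_mem ⟨C_le_N Q hc, ch_C_le_centQ QW (C_le_N W cW) hc⟩) (LM hl)
  have kS : c⁻¹ * l ∈ N[S] := by
    have : S = (W ⊔ X) ⊔ Q := le_antisymm ((h.prod hS.pi hE).sup_eq.ge.trans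
      (sup_le_sup_left (inf_le_inf_left S (C_anti le_sup_left)) _)) (sup_le hE inf_le_left)
    rw [this]
    exact norm_sup inf_le_left inf_le_right (⟨kE, kM.1⟩ : _ ∈ N[W ⊔ X] ⊓ N[Q])
  refine ⟨c⁻¹ * l, mem_inf.2 ⟨⟨kS, kE⟩, mul_mem (inv_mem (C_anti (h.h.leR.trans inf_le_left) cW))
    (h.h.cent_R (sup_le (le_sup_right.trans (le_ncl _ _))
      ((cj_mono g le_sup_right).trans (cj_le_ncl hg.1)) hl))⟩, ?_, ?_⟩
  · rw [← h.h.center]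
    refine le_inf ((comm_mono_left (inf_le_inf_left S (C_anti le_sup_left))).trans
      ((ch_comm_zpowers QW kM.2).trans le_sup_left)) ((comm_le_left (zpowers_le.2 ?_)).trans inf_le_right)
    exact norm_inf inf_le_left (norm_C inf_le_right) (⟨kS, kE⟩ : _ ∈ N[S] ⊓ N[W ⊔ X])
  · rwa [show c⁻¹ * l * x * (c⁻¹ * l)⁻¹ = c⁻¹ * (l * x * l⁻¹) * c⁻¹⁻¹ by group,
      conj_eq_of_mem_C (inv_mem cW) (conj_mem lW hx.1)]
theorem Hl.typ (h : Hl W X R R' q) : (R = ⊥ ∧ R' = ⊥) ∨ R ⊔ R' = W ⊓ X := by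
  have l' : R' ≤ W ⊓ X := h.h'.leR.trans (inf_comm X W).le
  by_cases e : R' ≤ R
  · have e1 : R' = ⊥ := by rw [← h.RR, inf_eq_right.2 e]
    have h1 := h.h.cardY
    have h2 := h.h'.cardY
    rw [inf_comm, h1, e1, card_bot] at h2
    exact Or.inl ⟨card_eq_one'.1
      (Nat.eq_of_mul_eq_mul_left (zero_lt_two.trans_le h.h.two_le) h2), e1⟩
  refine Or.inr (le_antisymm (sup_le h.h.leR l') fun y hy => ?_)
  by_cases e1 : y ∈ R
  · exact mem_sup_left e1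
  obtain ⟨x, x1, x2⟩ := SetLike.not_le_iff_exists.1 e
  obtain ⟨S, hS, hE⟩ := h.scl.exists_syl
  obtain ⟨k, hk, -, e2⟩ := h.tor hS hE (l' x1) x2 hy e1
  exact (mul_mem_cancel_left (mem_sup_right (conj_mem (h.h'.normR (h.norm hk.1.2).2) x1))).1
    (mem_sup_left e2)

end H2.C2
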