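import Mathlib
import Cfsg.Agent.H2.CH1

set_option autoImplicit false
set_option linter.unusedVariables false
set_option linter.unusedSectionVars false

namespace H2.C2

open Cfsg H24 H26 H26.Gold Subgroup
open scoped commutatorElement

universe u

variable {G : Type u} [Group G] [Finite G]
  {A B D E H K L M N0 P P' Q Q' R R' S T T' U W X a a' b b' b'' v : Subgroup G}
  {g k n o s t x y z : G} {q : ℕ}

/-! ### CH2 -/

private theorem norm_star (h : M ≤ N[H]) : M ≤ N[⁅H, H⁆ ⊔ O2 H] :=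
  norm_sup (norm_der1 h) (norm_O2 h)

private theorem self_star (hx : x ∈ H) : x ∈ centQ H (⁅H, H⁆ ⊔ O2 H) :=
  (mem_centQ (norm_star (norm_self H))).2 ⟨norm_star (norm_self H) hx,
    fun u hu => mem_sup_left (commutator_mem_commutator hx hu)⟩

private theorem mem_centQ_of (hA : A ≤ N[U]) (hB : B ≤ N[U]) (hM : M ≤ A ⊔ B) (ha : x ∈ centQ A U)
    (hb : x ∈ centQ B U) : x ∈ centQ M U := by
  have n := zpowers_le.2 (centQ_le_N _ _ ha)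
  exact zpowers_le.1 (ch_centQ_symm (hM.trans (sup_le hA hB)) n (hM.trans (sup_le
    (ch_centQ_symm n hA (zpowers_le.2 ha)) (ch_centQ_symm n hB (zpowers_le.2 hb)))))

private theorem centQ_sup' (hA : A ≤ N[U]) (hB : B ≤ N[U]) (ha : x ∈ centQ A U)
    (hb : x ∈ centQ B U) : x ∈ centQ (A ⊔ B) U := mem_centQ_of hA hB le_rfl ha hb

private theorem der_le_of (hA : Abl A) (hc : B ≤ C[A]) (h : Q ≤ A ⊔ B) : ⁅Q, Q⁆ ≤ ⁅B, B⁆ := by
  have := der1_mono h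
  rwa [der1_sup_of_cent hc, der1_eq_bot.2 hA, bot_sup_eq] at this

theorem Hl.exD (h : Hl W X R R' q) (hS : Syl 2 ⊤ S) (hE : W ⊔ X ≤ S) :
    ∃ D ≤ S ⊓ C[W ⊔ X], D ⊓ (W ⊔ X) = R ∧ S ⊓ C[W ⊔ X] ≤ (W ⊓ X) ⊔ D ∧
      ∀ k ∈ N[W], ∀ x ∈ D, k * x * k⁻¹ ∈ S → k * x * k⁻¹ ∈ D := by
  have hQ := ch_syl h hS hE
  have cY := h.h.center.ge.trans inf_le_right
  have nC : N[W] ≤ N[⁅C[W], C[W]⁆ ⊔ O2 C[W]] := norm_star (N_le_NC W)
  set Z := ⁅C[W], C[W]⁆ ⊔ O2 C[W] with eZ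
  have MW : ncl N[W] (W ⊔ X) ≤ N[W] := (ncl_nml h.h.normW).le
  set M := ncl N[W] (W ⊔ X) with eM
  have nD : N[W] ≤ N[C[W] ⊓ centQ M Z] :=
    norm_inf (N_le_NC W) (norm_centQ (le_norm_ncl _ _) nC)
  obtain ⟨g, hg, hY⟩ := h.h.ex
  have XN := le_sup_right.trans h.h.normW
  have XN' := cj_le_of_mem XN hg
  have irr : ∀ U ≤ W, N[W] ≤ N[U] → U ≤ C[W ⊔ X] → U ≤ R := fun U h1 h2 h3 =>
    (h.h.irr hg hY h1 ((sup_le XN XN').trans h2)).resolve_right fun e => h.h.not_le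
      ((le_inf le_sup_left (e ▸ h3)).trans (h.h.center.le.trans inf_le_right))
  have k1 : W ⊓ Z ≤ R := by
    refine irr _ inf_le_left (norm_inf le_rfl nC) ((le_inf (inf_le_left.trans (le_inf (le_inf
      (le_sup_left.trans hE) h.h.ea.le_C) (le_CC W))) inf_le_right).trans
      ((transfer_center hQ).trans ((der_le_of (B := S ⊓ C[W ⊔ X]) h.h.ea.abl
        (inf_le_right.trans (C_anti le_sup_left)) fun u hu => ?_).trans
          ((der1_le _).trans inf_le_right))))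
    obtain ⟨w, hw, s, hs, rfl⟩ := ch_Q h hS.pi hE hu
    exact mul_mem (mem_sup_left hw) (mem_sup_right hs)
  have k2 : S ⊓ (C[W] ⊓ centQ M Z) ≤ S ⊓ C[W ⊔ X] := fun d hd => by
    obtain ⟨w, hw, s, hs, rfl⟩ := ch_Q h hS.pi hE ⟨hd.1, hd.2.1⟩
    obtain ⟨x, x1, x2⟩ := SetLike.not_le_iff_exists.1 h.h.not_ge
    have k := ((mem_centQ (MW.trans nC)).1 hd.2.2).2 x (le_ncl _ _ (mem_sup_right x1))
    rw [show ⁅w * s, x⁆ = w * (s * x * s⁻¹) * w⁻¹ * x⁻¹ by group,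
      conj_eq_of_mem_C hs.2 (mem_sup_right x1), ← commutatorElement_def] at k
    have m := (h.h.nd w hw x x1 (k1 ⟨(h.h.comm.le (commutator_mem_commutator hw x1)).1, k⟩)).resolve_right
      x2
    exact ⟨hd.1, mul_mem (cY ⟨hw, m⟩) hs.2⟩
  refine ⟨S ⊓ (C[W] ⊓ centQ M Z), k2, le_antisymm (fun d hd => ?_) fun r hr => ?_, fun s hs => ?_,
    fun k hk x hx e => ⟨e, conj_mem (nD hk) hx.2⟩⟩
  · refine irr (W ⊓ (C[W] ⊓ centQ M Z)) inf_le_left (norm_inf le_rfl nD)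
      ((inf_le_inf_right _ (le_sup_left.trans hE)).trans (k2.trans inf_le_right))
      ⟨(h.h.center.le ⟨hd.2, (k2 hd.1).2⟩).1, hd.1.2⟩
  · have m := (h.h.leR hr).1
    exact ⟨⟨hE (mem_sup_left m), h.h.ea.le_C m, ch_C_le_centQ (MW.trans nC) (nC (norm_self W m))
      (cents_symm h.h.cent_R hr)⟩, mem_sup_left m⟩
  have sC := C_anti le_sup_left hs.2
  obtain ⟨c, hc, u, hu, e⟩ := (mem_sup_of_norm (hQ.le.trans (O2_nml _).norm)).1
    ((O2_sup_syl hQ).ge (conj_mem' (N_le_NC W hg) sC))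
  obtain ⟨w, hw, s1, h1, rfl⟩ := ch_Q h hS.pi hE hu
  obtain ⟨y', hy', y, hy, e1⟩ := (mem_sup_of_norm (h.h.ea.abl.norm inf_le_left
    (cj_le_of_mem_N inf_le_left hg))).1 ((h.h.mov g hg hY).2.ge (conj_mem hg hw))
  have e2 : s * y = g * c * g⁻¹ * (y' * (g * s1 * g⁻¹)) := by
    have k := mem_C'.1 (conj_mem (N_le_NC W hg) (C_anti le_sup_left h1.2)) y hy.1
    calc s * y = g * (g⁻¹ * s * g) * g⁻¹ * y := by group
      _ = g * c * g⁻¹ * (g * w * g⁻¹) * (g * s1 * g⁻¹ * y) := by rw [e]; group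
      _ = g * c * g⁻¹ * (y' * (y * y) * (g * s1 * g⁻¹)) := by rw [e1, k]; group
      _ = _ := by rw [h.h.ea.sq hy.1, mul_one]
  have m : s * y ∈ C[W] := mul_mem sC (h.h.ea.le_C hy.1)
  have k3 : s * y ∈ centQ (cj g X) Z := by
    have cZ : g * c * g⁻¹ ∈ Z := conj_mem (nC hg) (mem_sup_right hc)
    rw [e2]
    refine mul_mem ((mem_centQ (XN'.trans nC)).2 ⟨norm_self Z cZ, fun u hu => ?_⟩)
      (ch_C_le_centQ (XN'.trans nC) (nC (mul_mem (norm_self W (cj_le_of_mem_N inf_le_left hg hy'))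
        (conj_mem (norm_self _ hg) (C_le_N W (C_anti le_sup_left h1.2))))) ?_)
    · rw [commutatorElement_def, mul_assoc, mul_assoc, ← mul_assoc u]
      exact mul_mem cZ (conj_mem (nC (XN' hu)) (inv_mem cZ))
    · rw [← cj_C]
      exact mul_mem (cj_mono g (inf_le_right.trans h.h.eaX.le_C) hy')
        (conj_mem_cj g (C_anti le_sup_right h1.2))
  have k4 : M ≤ (X ⊔ cj g X) ⊔ C[W] := ncl_le' fun k hk => by
    obtain ⟨l, hl, e⟩ := h.h.conj_le hg hY hk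
    rw [cj_sup, cj_of_mem_N hk]
    exact sup_le (h.h.ea.le_C.trans le_sup_right)
      (e.trans (sup_le_sup (cj_le_of_mem le_sup_left hl) inf_le_right))
  rw [← mul_mem_cancel_right (mem_sup_left hy)]
  exact mem_sup_right ⟨mul_mem hs.1 (hE (mem_sup_left hy.1)), m, mem_centQ_of
    ((sup_le XN XN').trans nC) ((C_le_N W).trans nC) k4 (centQ_sup' (XN.trans nC) (XN'.trans nC)
      (ch_C_le_centQ (XN.trans nC) (nC (C_le_N W m)) (C_anti le_sup_right (mul_mem hs.2 (cY hy)))) k3)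
    (self_star m)⟩

theorem ch_omega (h : Half K W X R q) (hy : y ∈ W ⊔ X) (h4 : y * y ≠ 1)
    (hx : x ∈ (W ⊔ X) ⊓ C{y}) (h2 : x * x = 1) : x ∈ W ⊓ X := by
  have m := mem_C1_comm.1 hx.2
  rcases h.inv_mem hx.1 h2 with e | e
  · exact ⟨e, by_contra fun e1 => h4 (h.ea.sq ((h.cent1W e e1).le ⟨hy, m⟩))⟩
  · exact ⟨by_contra fun e1 => h4 (h.eaX.sq ((h.cent1X e e1).le ⟨hy, m⟩)), e⟩

theorem ch_Y_le (h : Half K W X R q) (hy : y ∈ W ⊔ X) : W ⊓ X ≤ (W ⊔ X) ⊓ C{y} :=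
  h.center.ge.trans (inf_le_inf_left _ (C_le_C1 hy))

theorem Hl.ord4 (h : Hl W X R R' q) (hS : Syl 2 ⊤ S) (hE : W ⊔ X ≤ S) (hy : y ∈ W ⊔ X)
    (h4 : y * y ≠ 1) (hx : x ∈ S ⊓ C[W ⊔ X]) (hg : g ∈ N[(W ⊔ X) ⊓ C{y}])
    (hgx : g * x * g⁻¹ ∈ S) : g * x * g⁻¹ ∈ C[W ⊔ X] := by
  have YU := ch_Y_le h.h hy
  have om := fun x => ch_omega (x := x) h.h hy h4
  have yU : y ∈ (W ⊔ X) ⊓ C{y} := ⟨hy, self_mem_C1 y⟩
  have UE : (W ⊔ X) ⊓ C{y} ≤ W ⊔ X := inf_le_left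
  have cen : (W ⊔ X) ⊓ C[(W ⊔ X) ⊓ C{y}] ≤ (W ⊔ X) ⊓ C{y} := inf_le_inf_left _ (C_le_C1 yU)
  generalize (W ⊔ X) ⊓ C{y} = U at *
  have cY := h.h.center.ge.trans inf_le_right
  have pr := h.prod hS.pi hE
  have EU : W ⊔ X ≤ N[U] := norm_of_der1_le (h.h.der.le.trans YU) UE
  have SU : S ≤ N[U] := pr.sup_eq.ge.trans (sup_le EU (norm_of_cent (inf_le_right.trans (C_anti UE))))
  have UY : N[U] ≤ N[W ⊓ X] := fun k hk => mem_N_of_finite fun u hu =>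
    om _ (conj_mem hk (YU hu)) (by rw [conj_mul, h.h.ea.sq hu.1]; simp)
  have nY : U ≤ N[W ⊓ X] := (norm_self U).trans UY
  have k1 : ncl N[U] (W ⊔ X) ≤ C[W ⊓ X] ⊓ centQ U (W ⊓ X) :=
    ncl_le (le_inf (cents_symm cY) ((le_centQ nY).2 ⟨EU.trans UY,
      (comm_mono_right UE).trans h.h.der.le⟩)) (norm_inf (norm_C UY) (norm_centQ le_rfl UY))
  have k2 : ncl N[U] (W ⊔ X) ≤ C[U] ⊔ (W ⊔ X) := by
    rw [(h.scl.mono le_top EU).ncl_eq]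
    exact sup_le_sup_right (O2_le_of fun x hx ho => odd_cent_of_chain (h.h.two.of_le UE) YU ho
      (ch_comm_zpowers nY (k1 hx).2) (k1 hx).1) _
  have nC : N[U] ≤ N[⁅C[U], C[U]⁆ ⊔ O2 C[U]] := norm_star (N_le_NC U)
  have MU := (ncl_nml EU).le
  have k3 := conj_mem (norm_centQ (le_norm_ncl N[U] (W ⊔ X)) nC hg) (mem_centQ_of
    ((C_le_N U).trans nC) (EU.trans nC) k2 (self_star (C_anti UE hx.2))
    (ch_C_le_centQ (EU.trans nC) (nC (SU hx.1)) hx.2))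
  have hQ : Syl 2 C[U] (S ⊓ C[U]) := hS.inf_norm le_top (norm_C SU)
  have k4 : ⁅S ⊓ C[U], S ⊓ C[U]⁆ ≤ ⁅S ⊓ C[W ⊔ X], S ⊓ C[W ⊔ X]⁆ :=
    der_le_of (A := (W ⊔ X) ⊓ C[U]) (abl_iff.2 (inf_le_right.trans (C_anti cen)))
      (inf_le_right.trans (C_anti inf_le_left)) fun u hu => by
        obtain ⟨e, he, s, hs, rfl⟩ := pr.mul u hu.1
        exact mul_mem (mem_sup_left ⟨he, (mul_mem_cancel_right (C_anti UE hs.2)).1 hu.2⟩)
          (mem_sup_right hs)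
  have k5 : ∀ {W X R R'}, Hl W X R R' q → W ⊔ X ≤ S →
      (W ⊔ X) ⊓ ⁅S ⊓ C[W ⊔ X], S ⊓ C[W ⊔ X]⁆ ≤ R := fun h hE => by
    obtain ⟨D, d1, d2, d3, -⟩ := h.exD hS hE
    rw [← d2, inf_comm]
    exact inf_le_inf_right _ ((der_le_of (h.h.ea.abl.of_le inf_le_left) (d1.trans (inf_le_right.trans
      (C_anti (inf_le_left.trans le_sup_left)))) d3).trans (der1_le D))
  have k6 := k5 h.symm (sup_comm W X ▸ hE)
  rw [sup_comm X W] at k6
  obtain ⟨e, he, s, hs, e1⟩ := pr.mul _ hgx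
  rw [e1] at k3 ⊢
  refine mul_mem (mem_C'.2 fun u hu => commutatorElement_eq_one_iff_mul_comm.1 ?_) hs.2
  have k := ((mem_centQ (MU.trans nC)).1 k3).2 u (le_ncl _ _ hu)
  rw [show ⁅e * s, u⁆ = e * (s * u * s⁻¹) * e⁻¹ * u⁻¹ by group, conj_eq_of_mem_C hs.2 hu,
    ← commutatorElement_def] at k
  have m := h.h.der.le (commutator_mem_commutator he hu)
  have m' := k4 (transfer_center hQ ⟨⟨⟨hE (mem_sup_left m.1), C_anti UE (cY m)⟩, le_CC U (YU m)⟩, k⟩)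
  exact mem_bot.1 (h.RR.le ⟨k5 h hE ⟨mem_sup_left m.1, m'⟩, k6 ⟨mem_sup_left m.1, m'⟩⟩)

end H2.C2
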