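import Mathlib
import Cfsg.Agent.H2.CH2

set_option autoImplicit false
set_option linter.unusedVariables false
set_option linter.unusedSectionVars false

namespace H2.C2

open Cfsg H24 H26 H26.Gold Subgroup
open scoped commutatorElement

universe u

variable {G : Type u} [Group G] [Finite G]
  {A B D E H K L M N0 P P' Q Q' R R' S T T' U W X a a' b b' b'' v : Subgroup G}
  {g k n o s t x y z : G} {q : ℕ}

/-! ### CH3 -/

private theorem side (h : Hl W X R R' q) (hE : W ⊔ X ≤ S) (d1 : D ≤ S ⊓ C[W ⊔ X])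
    (d4 : ∀ k ∈ N[W], ∀ x ∈ D, k * x * k⁻¹ ∈ S → k * x * k⁻¹ ∈ D) (hx : x ∈ D)
    (hy : g * x * g⁻¹ ∈ S) (hg : cj g⁻¹ W ≤ W ⊔ X) : g * x * g⁻¹ ∈ C[W ⊔ X] := by
  rcases h.h.eq_or (H8.PC.ea_cj h.h.ea g⁻¹) hg (card_cj _ _) with e | e
  · exact (d1 (d4 g (by simpa using inv_mem (mem_N_iff_cj.2 e)) x hx hy)).2
  · exact absurd e (h.not_conj _)

private theorem fourth (h : Hl W X R R' q) (hS : Syl 2 ⊤ S) (hE : W ⊔ X ≤ S)
    (hx : x ∈ S ⊓ C[W ⊔ X]) (hgx : g * x * g⁻¹ ∈ S) (hy : y ∈ W ⊔ X) (h4 : y * y ≠ 1)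
    (hg : cj g⁻¹ ((W ⊔ X) ⊓ C{y}) ≤ W ⊔ X) : g * x * g⁻¹ ∈ C[W ⊔ X] := by
  have YU := ch_Y_le h.h hy
  have m := conj_mem_cj g⁻¹ (mem_inf.2 ⟨hy, self_mem_C1 y⟩)
  have k1 : cj g⁻¹ (W ⊓ X) = W ⊓ X := eq_of_card_eq (fun u hu => by
    have m1 := cj_mono g⁻¹ YU hu
    refine ch_omega h.h (hg m) (fun e => h4 (by rwa [conj_mul, conj_eq_one_iff] at e)) ⟨hg m1, ?_⟩
      ((H8.PC.ea_cj (h.h.ea.of_le inf_le_left) g⁻¹).sq hu)
    rw [← cj_C1]
    exact cj_mono g⁻¹ inf_le_right m1) (card_cj _ _)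
  have k2 : cj g (W ⊔ X) ≤ N[(W ⊔ X) ⊓ C{y}] := by
    rw [cj_le_iff, cj_N]
    exact norm_of_der1_le (h.h.der.le.trans (k1.ge.trans (cj_mono _ YU))) hg
  obtain ⟨l, hl, e⟩ := Mx.exists_conj' le_top
    (h.scl.mx_self le_top (norm_of_der1_le (h.h.der.le.trans YU) inf_le_left))
    (h.scl.mx_conj le_top (mem_top g) k2)
  have hQ : Syl 2 C[W ⊔ X] (S ⊓ C[W ⊔ X]) :=
    hS.inf_norm le_top (norm_C (h.scl.le_norm hS.pi hE le_top))
  obtain ⟨c, hc, e1⟩ := Sylow_Jsub Nat.prime_two hQ ((hS.pi.piElt hx.1).conj (l⁻¹ * g)).isPi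
    (zpowers_le.2 (conj_mem (N_le_NC _ (cj_eq_cj_iff.1 e)) hx.2))
  have e2 : g * x * g⁻¹ = l * c⁻¹ * (c * (l⁻¹ * g * x * (l⁻¹ * g)⁻¹) * c⁻¹) * (l * c⁻¹)⁻¹ := by group
  rw [e2] at hgx ⊢
  exact h.ord4 hS hE hy h4 (e1 (conj_mem_cj c (mem_zpowers _)))
    (mul_mem hl (inv_mem (C_le_N _ (C_anti inf_le_left hc)))) hgx

theorem Hl.amal [IsSimpleGroup G] (h : Hl W X R R' q) : Amal W X R R' q := by
  obtain ⟨S, hS, hE⟩ := h.scl.exists_syl
  have pr := h.prod hS.pi hE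
  have hE' : X ⊔ W ≤ S := sup_comm W X ▸ hE
  obtain ⟨D, d1, d2, d3, d4⟩ := h.exD hS hE
  obtain ⟨D', d1', d2', d3', d4'⟩ := h.symm.exD hS hE'
  have sd := fun {g x} => side (g := g) (x := x) h.symm hE' d1' d4'
  rw [sup_comm X W] at d1' d2' d3' sd
  rw [inf_comm X W] at d3'
  have cY := h.h.center.ge.trans inf_le_right
  have SN := (h.scl.le_norm hS.pi hE le_top).trans h.norm
  have sc : SCl ⊤ (D ⊓ D') := by
    refine SCl.of_syl hS (inf_le_left.trans (d1.trans inf_le_left)) fun x hx g _ hy => ?_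
    have xC := d1 hx.1
    obtain ⟨l, hl, e⟩ := Mx.conj_le h.scl le_top (h.scl.mx_self le_top (mem_C_iff_le_C1.1 xC.2))
      (D := cj g⁻¹ ((W ⊔ X) ⊓ C{g * x * g⁻¹}))
      (by rw [cj_le_iff, inv_inv, cj_C1]; exact inf_le_right) ((h.h.two.inf_left _).cj _)
      fun u hu => by
        obtain ⟨w, hw, rfl⟩ := mem_cj'.1 hu
        exact mem_hc hw.1 (mem_top _)
    have lC := (ncl_nml (mem_C_iff_le_C1.1 xC.2)).le hl
    obtain ⟨k, rfl⟩ : ∃ k, g = k * l := ⟨g * l⁻¹, by group⟩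
    rw [show k * l * x * (k * l)⁻¹ = k * (l * x * l⁻¹) * k⁻¹ by group, mem_C1_iff_conj.1 lC]
      at hy e ⊢
    rw [← cj_mul, mul_inv_rev, mul_inv_cancel_left] at e
    have key : k * x * k⁻¹ ∈ C[W ⊔ X] := by
      obtain ⟨u, hu, s, hs, e1⟩ := pr.mul _ hy
      have e2 : (W ⊔ X) ⊓ C{k * x * k⁻¹} = (W ⊔ X) ⊓ C{u} := by
        ext w
        refine and_congr_right fun hw => ?_
        change w ∈ C{_} ↔ w ∈ C{u}
        rw [mem_C1_comm, e1, mul_mem_cancel_right (C_le_C1 hw hs.2), mem_C1_comm]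
      rw [e2] at e
      by_cases h4 : u * u = 1
      swap
      · exact fourth h hS hE xC hy hu h4 e
      by_cases e3 : u ∈ W ⊓ X
      · rw [e1]; exact mul_mem (cY e3) hs.2
      rcases h.h.inv_mem hu h4 with e4 | e4
      · rw [h.h.cent1W e4 fun e5 => e3 ⟨e4, e5⟩] at e
        exact side h hE d1 d4 hx.1 hy e
      · rw [h.h.cent1X e4 fun e5 => e3 ⟨e5, e4⟩] at e
        exact sd hx.2 hy e
    rw [inf_eq_left.2 (mem_C_iff_le_C1.1 key)] at e
    have kN := h.norm (by simpa using inv_mem (mem_N_of_cj_le e) : k ∈ N[W ⊔ X])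
    exact ⟨d4 k kN.1 x hx.1 hy, d4' k kN.2 x hx.2 hy⟩
  have DD : D ⊓ D' = ⊥ := by
    by_contra e
    have k := h.scl.prod sc (cents_symm (inf_le_left.trans (d1.trans inf_le_right))) (by
      rw [inf_comm, inf_inf_distrib_right, d2, d2', h.RR])
    rw [h.gen, ncl_top e] at k
    refine h.h.not_le_R (((h.h.ea.two.inf_left X).eq_bot
      ((Od_odd ⊤).of_le (h.h.der.ge.trans ((der1_mono le_top).trans k)))).le.trans bot_le)
  have l' : R' ≤ D' := d2'.ge.trans inf_le_left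
  have nD : S ⊓ C[W ⊔ X] ≤ N[D'] := fun k hk => mem_N_of_finite fun x hx =>
    d4' k (SN hk.1).2 x hx (conj_mem (norm_self S hk.1) (d1' hx).1)
  have cnt : ∀ A ≤ S ⊓ C[W ⊔ X], S ⊓ C[W ⊔ X] ≤ D' ⊔ A → ♯D ≤ ♯A := fun A h1 h2 => by
    have k1 := card_le ((sup_le d1' d1).trans h2)
    rw [card_sup_of_inf (d1.trans nD) (inf_comm D D' ▸ DD)] at k1
    have k2 := card_sup (h1.trans nD)
    exact Nat.le_of_mul_le_mul_left (k1.trans (k2 ▸ Nat.le_mul_of_pos_right _ (card_pos _)))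
      (card_pos D')
  have YS : W ⊓ X ≤ S ⊓ C[W ⊔ X] := le_inf (inf_le_left.trans (le_sup_left.trans hE)) cY
  have k : D ≤ W ⊔ X := by
    rcases h.typ with ⟨rfl, rfl⟩ | e
    swap
    · rw [← eq_of_card_ge (d2.ge.trans inf_le_left) (cnt R (h.h.leR.trans YS) (d3'.trans (sup_le
        (e.ge.trans (sup_le le_sup_right (l'.trans le_sup_left))) le_sup_left)))]
      exact h.h.leR.trans (inf_le_left.trans le_sup_left)
    have cd := h.h.cardY
    rw [card_bot, mul_one] at cd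
    rcases h.h.two_cases with rfl | h4
    · have k1 := cnt _ YS (d3'.trans (sup_comm _ _).le)
      have k2 := h.scl.not_index_two h.gen hS hE
      have k3 : S = (W ⊔ X) ⊔ D := le_antisymm (pr.sup_eq.ge.trans (sup_le le_sup_left
        (d3.trans (sup_le_sup_right (inf_le_left.trans le_sup_left) D))))
        (sup_le hE (d1.trans inf_le_left))
      have k4 := card_inf_mul_relIndex (W ⊔ X) D
      rw [k3, relIndex_sup_of_norm (norm_of_cent (d1.trans inf_le_right))] at k2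
      rw [inf_comm, d2, card_bot, one_mul] at k4
      have := card_pos D
      rw [card_eq_one'.1 (show ♯D = 1 by omega)]
      exact bot_le
    intro d hd
    obtain ⟨y, hy, d', hd', rfl⟩ := (mem_sup_of_norm' (YS.trans nD)).1 (d3' (d1 hd))
    by_cases y1 : y = 1
    · rw [mem_bot.1 (DD.le ⟨hd, by rwa [y1, one_mul]⟩)]; exact one_mem _
    obtain ⟨y', hy', y2⟩ := SetLike.not_le_iff_exists.1 (show ¬ W ⊓ X ≤ zpowers y from fun e => by
      have := card_le e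
      rw [cd, Nat.card_zpowers, orderOf_eq_prime ((sq y).trans (h.h.ea.sq hy.1)) y1] at this
      omega)
    obtain ⟨k, hk, e1, e2⟩ := h.tor hS hE hy y1 hy' fun e => y2 (mem_bot.1 e ▸ one_mem _)
    have kN := h.norm hk.1.2
    have fx : ∀ {D}, D ⊓ (W ⊔ X) = ⊥ → D ≤ S ⊓ C[W ⊔ X] → ∀ x ∈ D, k * x * k⁻¹ ∈ D →
        k * x * k⁻¹ = x := fun {D} h1 h2 x hx h3 => by
      refine mul_inv_eq_one.1 (mem_bot.1 (h1.le (mem_inf.2 ⟨mul_mem h3 (inv_mem hx), mem_sup_left ?_⟩)))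
      exact (e1 (commC (zpowers k) _ ▸ commutator_mem_commutator (mem_zpowers k) (h2 hx))).1
    have f1 := fx d2 d1 _ hd (d4 k kN.1 _ hd (conj_mem hk.1.1 (d1 hd).1))
    have f2 := fx d2' d1' _ hd' (d4' k kN.2 _ hd' (conj_mem hk.1.1 (d1' hd').1))
    rw [← conj_mul, f2, mul_left_inj] at f1
    rw [f1, mem_bot, mul_eq_one_iff_inv_eq] at e2
    exact absurd (e2 ▸ inv_mem (mem_zpowers y)) y2
  have e : S = W ⊔ X := le_antisymm (pr.sup_eq.ge.trans (sup_le le_rfl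
    (d3.trans (sup_le (inf_le_left.trans le_sup_left) k)))) hE
  exact ⟨e ▸ hS, h.h, h.h', h.RR, h.typ⟩

end H2.C2
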