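import Mathlib
import Cfsg.Agent.H2.CT1
import Cfsg.Agent.H2.CHB

set_option autoImplicit false
set_option linter.unusedVariables false
set_option linter.unusedSectionVars false

namespace H2.C2

open Cfsg H24 H26 H26.Gold Subgroup
open scoped commutatorElement

universe u

variable {G : Type u} [Group G] [Finite G]
  {A B D E H K L M N0 P P' Q Q' R R' S T T' U W X a a' b b' b'' v : Subgroup G}
  {g k n o s t x y z : G} {q : ℕ}

/-! ### CP0 -/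

namespace Fam
variable (F : Fam E) {i j l : F.ι} {I J : Set F.ι} {c : Bool}
theorem Ei_eq (i : F.ι) (c : Bool) : F.Ei i = F.W i c ⊔ F.W i (!c) := by
  cases c
  · exact sup_comm _ _
  · rfl
theorem Y_eq (i : F.ι) (c : Bool) : F.Y i = F.W i c ⊓ F.W i (!c) := by
  cases c
  · exact inf_comm _ _
  · rfl
theorem W_le (i : F.ι) (c : Bool) : F.W i c ≤ F.Ei i := le_sup_left.trans (F.Ei_eq i c).ge
theorem Y_le_W (i : F.ι) (c : Bool) : F.Y i ≤ F.W i c := (F.Y_eq i c).le.trans inf_le_left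
theorem Ei_le (i : F.ι) : F.Ei i ≤ E :=
  (le_iSup (fun i => F.W i true ⊔ F.W i false) i).trans F.sup.ge
theorem Ei_le_EI (h : i ∈ I) : F.Ei i ≤ F.EI I := le_iSup₂_of_le (f := fun j _ => F.Ei j) i h le_rfl
theorem EI_le_of (h : ∀ i ∈ I, F.Ei i ≤ M) : F.EI I ≤ M := iSup₂_le h
theorem EI_le (I : Set F.ι) : F.EI I ≤ E := F.EI_le_of fun j _ => F.Ei_le j
theorem EI_univ : F.EI Set.univ = E :=
  le_antisymm (F.EI_le _) (F.sup.le.trans (iSup_le fun j => F.Ei_le_EI (Set.mem_univ j)))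
theorem EI_empty : F.EI ∅ = ⊥ := eq_bot_iff.2 (F.EI_le_of fun j h => h.elim)
theorem EI_single (i : F.ι) : F.EI {i} = F.Ei i :=
  le_antisymm (F.EI_le_of fun j h => by rw [Set.mem_singleton_iff.1 h]) (F.Ei_le_EI rfl)
theorem EI_mono (h : I ⊆ J) : F.EI I ≤ F.EI J := F.EI_le_of fun j hj => F.Ei_le_EI (h hj)
theorem EI_union (I J : Set F.ι) : F.EI (I ∪ J) = F.EI I ⊔ F.EI J :=
  le_antisymm (F.EI_le_of fun j hj => hj.elim (fun h => (F.Ei_le_EI h).trans le_sup_left)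
    fun h => (F.Ei_le_EI h).trans le_sup_right)
    (sup_le (F.EI_mono Set.subset_union_left) (F.EI_mono Set.subset_union_right))
theorem Ei_cent (h : i ≠ j) : F.Ei i ≤ C[F.Ei j] := F.comm i j h
theorem EI_cent (h : Disjoint I J) : F.EI I ≤ C[F.EI J] :=
  F.EI_le_of fun i hi => cents_symm (F.EI_le_of fun j hj => F.Ei_cent fun e =>
    Set.disjoint_left.1 h hi (e ▸ hj))
theorem EI_sup_compl (I : Set F.ι) : F.EI I ⊔ F.EI Iᶜ = E := by
  rw [← F.EI_union, Set.union_compl_self, F.EI_univ]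
theorem EI_norm (I : Set F.ι) : E ≤ N[F.EI I] :=
  (F.EI_sup_compl I).ge.trans (sup_le (norm_self _) (norm_of_cent (F.EI_cent disjoint_compl_left)))
theorem Ei_norm (i : F.ι) : E ≤ N[F.Ei i] := F.EI_single i ▸ F.EI_norm {i}
theorem Ei_cent' (i : F.ι) : F.Ei i ≤ C[F.EI {i}ᶜ] :=
  F.EI_single i ▸ F.EI_cent disjoint_compl_right
theorem exists_dec (hx : x ∈ E) (I : Set F.ι) : ∃ y ∈ F.EI I, ∃ z ∈ F.EI Iᶜ, x = y * z :=
  (mem_sup_of_norm ((F.EI_le _).trans (F.EI_norm I))).1 ((F.EI_sup_compl I).ge hx)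
theorem exists_dec' (hx : x ∈ E) (i : F.ι) : ∃ y ∈ F.Ei i, ∃ z ∈ F.EI {i}ᶜ, x = y * z :=
  F.EI_single i ▸ F.exists_dec hx {i}
theorem Ei_inf (i : F.ι) : F.Ei i ⊓ F.EI {i}ᶜ = ⊥ := F.indep i
theorem EI_le_compl (hi : i ∉ I) : F.EI I ≤ F.EI {i}ᶜ :=
  F.EI_mono fun j hj (e : j = i) => hi (e ▸ hj)
theorem mem_diff1 (hx : x ∈ F.EI I) (hi : x ∈ F.EI {i}ᶜ) : x ∈ F.EI (I \ {i}) := by
  have h1 : F.EI I ≤ F.Ei i ⊔ F.EI (I \ {i}) := F.EI_le_of fun j hj => by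
    by_cases e : j = i
    · exact e ▸ le_sup_left
    · exact (F.Ei_le_EI (I := I \ {i}) ⟨hj, e⟩).trans le_sup_right
  obtain ⟨y, hy, z, hz, rfl⟩ := (mem_sup_of_norm ((F.EI_le _).trans (F.Ei_norm i))).1 (h1 hx)
  have hz' : z ∈ F.EI {i}ᶜ := F.EI_mono (fun j hj => hj.2) hz
  have : y = 1 := mem_bot.1 ((F.Ei_inf i).le ⟨hy, (Subgroup.mul_mem_cancel_right _ hz').1 hi⟩)
  rw [this, one_mul]; exact hz
theorem mem_EI_iff (hx : x ∈ E) : x ∈ F.EI I ↔ F.supp x ⊆ I := by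
  refine ⟨fun h i hi => by_contra fun hI => hi (F.EI_le_compl hI h), fun h => ?_⟩
  have key : ∀ T : Set F.ι, T.Finite → (∀ i ∈ T, x ∈ F.EI {i}ᶜ) → x ∈ F.EI Tᶜ := by
    intro T hT
    induction T, hT using Set.Finite.induction_on with
    | empty => intro _; rw [Set.compl_empty, F.EI_univ]; exact hx
    | @insert i T _ _ ih =>
      intro h
      have := F.mem_diff1 (ih fun j hj => h j (Or.inr hj)) (h i (Or.inl rfl))
      refine F.EI_mono ?_ this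
      rintro j hj (e | e)
      · exact hj.2 e
      · exact hj.1 e
  have := key Iᶜ (Set.toFinite _) fun i hi => by_contra fun h' => hi (h h')
  rwa [compl_compl] at this
theorem EI_inf (I J : Set F.ι) : F.EI I ⊓ F.EI J = F.EI (I ∩ J) :=
  le_antisymm (fun x hx => (F.mem_EI_iff (F.EI_le _ hx.1)).2 (Set.subset_inter
    ((F.mem_EI_iff (F.EI_le _ hx.1)).1 hx.1) ((F.mem_EI_iff (F.EI_le _ hx.1)).1 hx.2)))
    (le_inf (F.EI_mono Set.inter_subset_left) (F.EI_mono Set.inter_subset_right))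
theorem EI_disj (h : Disjoint I J) : F.EI I ⊓ F.EI J = ⊥ := by
  rw [F.EI_inf, Set.disjoint_iff_inter_eq_empty.1 h, F.EI_empty]
theorem mem_supp (hx : x ∈ E) : x ∈ F.EI (F.supp x) := (F.mem_EI_iff hx).2 le_rfl
theorem supp_eq_empty (hx : x ∈ E) : F.supp x = ∅ ↔ x = 1 := by
  rw [← Set.subset_empty_iff, ← F.mem_EI_iff hx, F.EI_empty, mem_bot]
theorem supp_one : F.supp (1 : G) = ∅ := (F.supp_eq_empty (one_mem _)).2 rfl
theorem supp_Ei (hx : x ∈ F.Ei i) (h1 : x ≠ 1) : F.supp x = {i} := by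
  have hE := F.Ei_le i hx
  rcases Set.subset_singleton_iff_eq.1 ((F.mem_EI_iff hE).1 ((F.EI_single i).ge hx)) with h | h
  · exact absurd ((F.supp_eq_empty hE).1 h) h1
  · exact h
theorem mem_Ei_iff (hx : x ∈ E) : x ∈ F.Ei i ↔ F.supp x ⊆ {i} := by
  rw [← F.mem_EI_iff hx, F.EI_single]
theorem supp_mul (h : Disjoint I J) (hx : x ∈ F.EI I) (hy : y ∈ F.EI J) :
    F.supp (x * y) = F.supp x ∪ F.supp y := by
  ext i
  simp only [supp, Set.mem_union, Set.mem_ofPred_eq]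
  by_cases hi : i ∈ I
  · have : y ∈ F.EI {i}ᶜ := F.EI_le_compl (Set.disjoint_left.1 h hi) hy
    rw [Subgroup.mul_mem_cancel_right _ this]; tauto
  · have : x ∈ F.EI {i}ᶜ := F.EI_le_compl hi hx
    rw [Subgroup.mul_mem_cancel_left _ this]; tauto
theorem center (i : F.ι) : F.Ei i ⊓ C[F.Ei i] = F.Y i := (F.half i true).center
theorem der (i : F.ι) : ⁅F.Ei i, F.Ei i⁆ = F.Y i := (F.half i true).der
theorem not_abl (i : F.ι) : ¬ Abl (F.Ei i) := (F.half i true).not_abl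
theorem Y_le (i : F.ι) : F.Y i ≤ F.Ei i ⊓ C[E] := by
  refine le_inf ((F.center i).ge.trans inf_le_left) ?_
  refine cents_of_le (cents_sup ((F.center i).ge.trans inf_le_right)
    (((F.center i).ge.trans inf_le_left).trans (F.Ei_cent' i))) ?_
  rw [← F.EI_single, F.EI_sup_compl]
theorem isProd (i : F.ι) : IsProd (F.Ei i) (F.EI {i}ᶜ) E :=
  ⟨F.Ei_le i, F.EI_le _, fun _ hx => F.exists_dec' hx i⟩
theorem comm_E (i : F.ι) : ⁅F.Ei i, E⁆ = F.Y i := by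
  rw [(F.isProd i).comm_right_of_cent (cents_symm (F.Ei_cent' i)), F.der]
include F in
theorem cl2 : Cl2 E := by
  have : E ≤ ucn 2 E := (F.EI_univ).ge.trans (F.EI_le_of fun i _ => le_ucn_two.2 ⟨F.Ei_le i,
    (F.comm_E i).le.trans ((F.Y_le i).trans (inf_le_inf_right _ (F.Ei_le i)))⟩)
  exact (le_ucn_two.1 this).2.trans inf_le_right
theorem Y_ne (i : F.ι) : F.Y i ≠ ⊥ := fun e => (F.half i true).not_le_R (e.le.trans bot_le)
theorem Y_sq (hy : y ∈ F.Y i) : y * y = 1 := (F.half i true).ea.sq hy.1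
theorem W_sq (hy : y ∈ F.W i c) : y * y = 1 := (F.half i c).ea.sq hy
theorem cent_W (i : F.ι) (c : Bool) : E ⊓ C[F.W i c] = F.W i c ⊔ F.EI {i}ᶜ := by
  have h1 : F.EI {i}ᶜ ≤ C[F.W i c] := cents_symm ((F.W_le i c).trans (F.Ei_cent' i))
  refine le_antisymm (fun x hx => ?_) (sup_le (le_inf ((F.W_le i c).trans (F.Ei_le i))
    (F.half i c).ea.le_C) (le_inf (F.EI_le _) h1))
  obtain ⟨y, hy, z, hz, rfl⟩ := F.exists_dec' hx.1 i
  refine mul_mem_sup ((F.half i c).centW.le ⟨F.Ei_eq i c ▸ hy, ?_⟩) hz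
  exact (Subgroup.mul_mem_cancel_right _ (h1 hz)).1 hx.2
theorem J_cent (i : F.ι) (c : Bool) : F.J i c ≤ C[F.EI {i}ᶜ] :=
  cents_symm (F.EI_le_of fun j hj => cents_symm (F.JC i c j hj))
theorem J_norm (i : F.ι) (c : Bool) : F.J i c ≤ N[E ⊓ C[F.W i c]] := by
  rw [F.cent_W]
  exact norm_sup (F.halfJ i c).norm (norm_of_cent (F.J_cent i c))
theorem Ei_le_J (i : F.ι) (c : Bool) : F.Ei i ≤ F.J i c := F.Ei_eq i c ▸ (F.halfJ i c).leK
theorem inv_mem (ht : t ∈ F.Ei i) (h2 : t * t = 1) : ∃ c, t ∈ F.W i c :=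
  ((F.half i true).inv_mem ht h2).elim (fun h => ⟨_, h⟩) fun h => ⟨_, h⟩
theorem conj_Y (ht : t ∈ F.W i c) : ∃ k ∈ F.J i c, k * t * k⁻¹ ∈ F.Y i := by
  obtain ⟨g, hg, hY⟩ := (F.halfJ i c).ex
  rw [F.Y_eq i c]
  rcases (F.halfJ i c).cover hg hY ht with h | ⟨x, hx, h⟩
  · exact ⟨1, one_mem _, by simpa using ⟨ht, h⟩⟩
  · refine ⟨(x * g)⁻¹, Subgroup.inv_mem _ (mul_mem ((F.halfJ i c).leK (mem_sup_right hx)) hg), ?_⟩
    rw [inv_inv]; exact mem_cj.1 h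
theorem Ei_inj (h : F.Ei i = F.Ei j) : i = j := by_contra fun e =>
  F.not_abl j (abl_iff.2 (h.ge.trans (F.Ei_cent e)))
theorem perm' (hn : n ∈ N[E]) : ∃ σ : Equiv.Perm F.ι, (∀ i, cj n (F.Ei i) = F.Ei (σ i)) ∧
    (∀ i, cj n (F.Y i) = F.Y (σ i)) ∧ ∀ I, cj n (F.EI I) = F.EI (σ '' I) := by
  choose σ c h using F.perm n hn
  have h1 : ∀ i, cj n (F.Ei i) = F.Ei (σ i) := fun i => by
    rw [F.Ei_eq i false, cj_sup, h, h, F.Ei_eq (σ i) (c i)]; simp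
  have h2 : ∀ i, cj n (F.Y i) = F.Y (σ i) := fun i => by
    rw [F.Y_eq i false, cj_inf, h, h, F.Y_eq (σ i) (c i)]; simp
  have h3 : Function.Injective σ := fun i j e => F.Ei_inj (cj_inj.1 (by rw [h1, h1, e]))
  refine ⟨Equiv.ofBijective σ (Finite.injective_iff_bijective.1 h3), h1, h2, fun I => ?_⟩
  refine le_antisymm (cj_le_iff.2 (F.EI_le_of fun i hi => cj_le_iff.1 ?_)) (F.EI_le_of ?_)
  · rw [h1]; exact F.Ei_le_EI ⟨i, hi, rfl⟩
  · rintro _ ⟨i, hi, rfl⟩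
    exact (h1 i).ge.trans (cj_mono n (F.Ei_le_EI hi))
theorem supp_perm {σ : Equiv.Perm F.ι} (h : ∀ I, cj n (F.EI I) = F.EI (σ '' I)) (x : G) :
    F.supp (n * x * n⁻¹) = σ '' F.supp x := by
  ext j
  obtain ⟨i, rfl⟩ := σ.surjective j
  rw [σ.injective.mem_set_image]
  simp only [supp, Set.mem_ofPred_eq]
  rw [← Set.image_singleton, ← σ.image_compl, ← h, conj_mem_cj_iff]
theorem supp_J (hk : k ∈ F.J i c) (hx : x ∈ E ⊓ C[F.W i c]) : F.supp (k * x * k⁻¹) = F.supp x := by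
  rw [F.cent_W] at hx
  obtain ⟨w, hw, e, he, rfl⟩ := (mem_sup_of_norm' (norm_of_cent
    ((F.W_le i c).trans (F.Ei_cent' i)))).1 hx
  have h1 : k * (w * e) * k⁻¹ = k * w * k⁻¹ * e := by
    conv_rhs => rw [← conj_eq_of_mem_C (F.J_cent i c hk) he]
    group
  have hw' := conj_mem ((F.halfJ i c).norm hk) hw
  rw [h1, F.supp_mul disjoint_compl_right ((F.EI_single i).ge (F.W_le i c hw')) he,
    F.supp_mul disjoint_compl_right ((F.EI_single i).ge (F.W_le i c hw)) he]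
  by_cases e1 : w = 1
  · simp [e1]
  · rw [F.supp_Ei (F.W_le i c hw) e1, F.supp_Ei (F.W_le i c hw') (mt conj_eq_one_iff'.1 e1)]
/-- coherence -/
theorem coh (hD : D ≤ E) (hg : cj g D ≤ E) :
    ∃ σ : Equiv.Perm F.ι, ∀ d ∈ D, F.supp (g * d * g⁻¹) = σ '' F.supp d := by
  have h := F.mv D g hD hg
  clear hD hg
  induction h with
  | cent hc => exact ⟨1, fun d hd => by rw [conj_eq_of_mem_C hc hd]; simp⟩
  | @step D Q K k g hQ hD hk _ ih =>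
    obtain ⟨σ, hσ⟩ := ih
    have : ∃ τ : Equiv.Perm F.ι, ∀ d ∈ D, F.supp (k * d * k⁻¹) = τ '' F.supp d := by
      rcases hQ with hQ | ⟨i, c, hQ⟩
      · obtain ⟨rfl, rfl⟩ := Prod.mk.inj (Set.mem_singleton_iff.1 hQ)
        obtain ⟨τ, -, -, h⟩ := F.perm' hk
        exact ⟨τ, fun d _ => F.supp_perm h d⟩
      · obtain ⟨rfl, rfl⟩ := Prod.mk.inj hQ
        exact ⟨1, fun d hd => by rw [F.supp_J hk (hD hd)]; simp⟩
    obtain ⟨τ, hτ⟩ := this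
    refine ⟨σ * τ, fun d hd => ?_⟩
    rw [show g * k * d * (g * k)⁻¹ = g * (k * d * k⁻¹) * g⁻¹ by group, hσ _ (conj_mem_cj k hd),
      hτ d hd, ← Set.image_comp]
    rfl
theorem ncard_supp (hx : x ∈ E) (hg : g * x * g⁻¹ ∈ E) :
    (F.supp (g * x * g⁻¹)).ncard = (F.supp x).ncard := by
  obtain ⟨σ, h⟩ := F.coh (D := zpowers x) (g := g) (zpowers_le.2 hx)
    (by rw [cj_zpowers]; exact zpowers_le.2 hg)
  rw [h x (mem_zpowers x), Set.ncard_image_of_injective _ σ.injective]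
theorem ctl' (hM : N[E] ≤ M) (hJ : ∀ i c, F.J i c ≤ M) (hD : D ≤ E) (hg : cj g D ≤ E) :
    ∃ m ∈ M, ∃ c ∈ C[D], g = m * c := by
  refine (F.mv D g hD hg).ctl ?_
  rintro p (hp | ⟨i, c, rfl⟩)
  · rw [Set.mem_singleton_iff.1 hp]; exact hM
  · exact hJ i c
theorem ctl (hM : N[E] ≤ M) (hJ : ∀ i c, F.J i c ≤ M) (hx : x ∈ E) (hg : g * x * g⁻¹ ∈ E) :
    ∃ m ∈ M, g * x * g⁻¹ = m * x * m⁻¹ := by
  obtain ⟨m, hm, c, hc, rfl⟩ := F.ctl' hM hJ (D := zpowers x) (g := g) (zpowers_le.2 hx)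
    (by rw [cj_zpowers]; exact zpowers_le.2 hg)
  refine ⟨m, hm, ?_⟩
  conv_rhs => rw [← conj_eq_of_mem_C hc (mem_zpowers x)]
  group
theorem W_le_of (hN : ncl (F.J i c) (F.Ei i) ≤ N[K]) (hy : y ∈ K) (hW : y ∈ F.W i c)
    (hR : y ∉ F.R i c) : F.W i c ≤ K := by
  have h := F.halfJ i c
  obtain ⟨g, hg, hY⟩ := h.ex
  have hX : F.W i (!c) ≤ F.J i c := le_sup_right.trans h.leK
  rcases h.irr hg hY (U := K ⊓ F.W i c) inf_le_right (norm_inf ((sup_le ((F.W_le i _).trans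
    (le_ncl _ _)) ((cj_mono g (F.W_le i _)).trans (cj_le_ncl hg))).trans hN)
    ((sup_le hX (cj_le_of_mem hX hg)).trans h.norm)) with e | e
  · exact absurd (e ⟨hy, hW⟩) hR
  · exact e.ge.trans inf_le_left
theorem exists_not_R (hy : y ≠ 1) : ∃ c, y ∉ F.R i c := by
  by_contra h
  push Not at h
  exact hy (mem_bot.1 ((F.RR i).le ⟨h _, h _⟩))
theorem ni (hN : ∀ c, ncl (F.J i c) (F.Ei i) ≤ N[K]) : K ⊓ F.Ei i = ⊥ ∨ F.Ei i ≤ K := by
  refine or_iff_not_imp_left.2 fun h => ?_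
  obtain ⟨⟨t, ht⟩, ht1⟩ := ne_bot_iff_exists_ne_one.1 h
  have ht1 : t ≠ 1 := fun e => ht1 (Subtype.ext e)
  obtain ⟨y, hK, hy, hy1⟩ : ∃ y ∈ K, y ∈ F.Y i ∧ y ≠ 1 := by
    by_cases hc : t ∈ C[F.Ei i]
    · exact ⟨t, ht.1, (F.center i).le ⟨ht.2, hc⟩, ht1⟩
    · rw [mem_C] at hc
      push Not at hc
      obtain ⟨e, he, hne⟩ := hc
      refine ⟨⁅e, t⁆, mul_mem (conj_mem (hN true (le_ncl _ _ he)) ht.1) (K.inv_mem ht.1),
        (F.der i).le (commutator_mem_commutator he ht.2), fun h => hne ?_⟩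
      exact commutatorElement_eq_one_iff_mul_comm.1 h
  obtain ⟨c, hc⟩ := F.exists_not_R (i := i) hy1
  have h1 := F.W_le_of (hN c) hK (F.Y_le_W i c hy) hc
  obtain ⟨y', hy', hR⟩ := SetLike.not_le_iff_exists.1 (F.half i (!c)).not_le_R
  rw [F.Ei_eq i c]
  exact sup_le h1 (F.W_le_of (hN _) (h1 (by simpa using hy'.2)) hy'.1 hR)
theorem mem_R (hy : y ∈ F.Y i) (hc : ncl (F.J i c) (F.Ei i) ≤ C{y}) : y ∈ F.R i c := by
  have h := F.halfJ i c
  obtain ⟨g, hg, hY⟩ := h.ex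
  rw [F.Y_eq i c] at hy
  refine (h.mov g hg hY).1.le ⟨?_, hy⟩
  have hW := cj_of_mem_N (h.norm hg)
  rw [cj_inf, hW]
  refine ⟨hy.1, (h.conj g).centX.le ⟨mem_sup_left (hW.ge hy.1), mem_C_iff_le_C1.2 ?_⟩⟩
  exact ((cj_mono g (F.W_le i _)).trans (cj_le_ncl hg)).trans hc
theorem ncl_J_le (i : F.ι) (c : Bool) : ncl (F.J i c) (F.Ei i) ≤ F.J i c :=
  (ncl_nml (F.Ei_le_J i c)).le
theorem nt (hN : ∀ c, ncl (F.J i c) (F.Ei i) ≤ N[K]) (hK : K ⊓ F.Ei i = ⊥) :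
    E ⊓ K ≤ F.EI {i}ᶜ := by
  rintro t ⟨hE, ht⟩
  obtain ⟨y, hy, z, hz, rfl⟩ := F.exists_dec' hE i
  have key : ∀ c, ∀ m ∈ ncl (F.J i c) (F.Ei i), m * y * m⁻¹ ∈ F.Ei i → m ∈ C{y} := by
    intro c m hm h
    have h1 : m * y * m⁻¹ * y⁻¹ = m * (y * z) * m⁻¹ * (y * z)⁻¹ := by
      conv_rhs => rw [show m * (y * z) * m⁻¹ = m * y * m⁻¹ * (m * z * m⁻¹) by group,
        conj_eq_of_mem_C (F.J_cent i c (F.ncl_J_le i c hm)) hz]
      group
    have h2 : m * y * m⁻¹ * y⁻¹ = 1 := mem_bot.1 (hK.le ⟨h1 ▸ mul_mem (conj_mem (hN c hm) ht)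
      (K.inv_mem ht), mul_mem h ((F.Ei i).inv_mem hy)⟩)
    exact mem_C1_iff_conj.2 (mul_inv_eq_one.1 h2)
  have hY : y ∈ F.Y i := (F.center i).le ⟨hy, mem_C_iff_le_C1.2 fun m hm =>
    key true m (le_ncl _ _ hm) (conj_mem (norm_self _ hm) hy)⟩
  have hR : ∀ c, y ∈ F.R i c := fun c => F.mem_R hY fun m hm => key c m hm (F.W_le i c
    (conj_mem ((F.halfJ i c).norm (F.ncl_J_le i c hm)) (F.Y_le_W i c hY)))
  have : y = 1 := mem_bot.1 ((F.RR i).le ⟨hR _, hR _⟩)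
  rw [this, one_mul]; exact hz
theorem hl [IsSimpleGroup G] (h : ∀ j, j = i) :
    E = F.W i true ⊔ F.W i false ∧
      Hl (F.W i true) (F.W i false) (F.R i true) (F.R i false) (F.q i) := by
  have h0 : F.EI {i}ᶜ = ⊥ := eq_bot_iff.2 (F.EI_le_of fun j hj => absurd (h j) hj)
  have h1 : E = F.W i true ⊔ F.W i false := by
    have := F.EI_sup_compl {i}
    rw [h0, sup_bot_eq, F.EI_single] at this
    exact this.symm
  have h2 : ∀ c, E ⊓ C[F.W i c] = F.W i c := fun c => by rw [F.cent_W, h0, sup_bot_eq]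
  refine ⟨h1, h1 ▸ F.scl, ?_, ?_, F.RR i, ncl_top fun e => F.not_abl i ?_⟩
  · have := F.half i true
    rwa [h2] at this
  · have := F.half i false
    rwa [h2] at this
  · rw [show F.Ei i = ⊥ from e]; exact abl_bot
end Fam

end H2.C2
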