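import Mathlib
import Cfsg.Agent.H2.CT2
import Cfsg.Agent.H2.CT3
import Cfsg.Agent.H2.CP0

set_option autoImplicit false
set_option linter.unusedVariables false
set_option linter.unusedSectionVars false

namespace H2.C2

open Cfsg H24 H26 H26.Gold Subgroup
open scoped commutatorElement

universe u

variable {G : Type u} [Group G] [Finite G]
  {A B D E H K L M N0 P P' Q Q' R R' S T T' U W X a a' b b' b'' v : Subgroup G}
  {g k n o s t x y z : G} {q : ℕ}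

/-! ### CP0b -/

namespace Fam
variable (F : Fam E) {i j l : F.ι} {I J : Set F.ι} {c : Bool}
theorem le_C1 (hy : y ∈ F.Y i) : E ≤ C{y} := mem_C_iff_le_C1.1 (F.Y_le i hy).2
theorem Y_le_E (i : F.ι) : F.Y i ≤ E := ((F.Y_le i).trans inf_le_left).trans (F.Ei_le i)
theorem Y_le_Ei (i : F.ι) : F.Y i ≤ F.Ei i := (F.Y_le i).trans inf_le_left
theorem Ei_disj (hij : i ≠ j) : F.Ei i ⊓ F.Ei j = ⊥ :=
  eq_bot_iff.2 ((inf_le_inf_left _ (F.Ei_le_EI hij.symm)).trans (F.Ei_inf i).le)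
theorem scl_supp (hz : z ∈ E ⊓ C[E]) : SCl C{z} (F.EI (F.supp z)) ∧ SCl C{z} (F.EI (F.supp z)ᶜ) := by
  have hE : SCl C{z} E := F.scl.mono le_top (mem_C_iff_le_C1.1 hz.2)
  have key : ∀ x ∈ E, ∀ g ∈ C{z}, g * x * g⁻¹ ∈ E → ∃ σ : Equiv.Perm F.ι,
      σ '' F.supp z = F.supp z ∧ F.supp (g * x * g⁻¹) = σ '' F.supp x := by
    intro x hx g hg hy
    obtain ⟨σ, h⟩ := F.coh (D := zpowers x ⊔ zpowers z) (g := g)
      (sup_le (zpowers_le.2 hx) (zpowers_le.2 hz.1)) (by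
        rw [cj_sup, cj_zpowers, cj_zpowers, mem_C1_iff_conj.1 hg]
        exact sup_le (zpowers_le.2 hy) (zpowers_le.2 hz.1))
    refine ⟨σ, ?_, h x (mem_sup_left (mem_zpowers x))⟩
    rw [← h z (mem_sup_right (mem_zpowers z)), mem_C1_iff_conj.1 hg]
  refine ⟨hE.sub (F.EI_le _) fun x hx g hg hy => ?_, hE.sub (F.EI_le _) fun x hx g hg hy => ?_⟩
  · obtain ⟨σ, h1, h2⟩ := key x (F.EI_le _ hx) g hg hy
    rw [F.mem_EI_iff hy, h2, ← h1]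
    exact Set.image_mono ((F.mem_EI_iff (F.EI_le _ hx)).1 hx)
  · obtain ⟨σ, h1, h2⟩ := key x (F.EI_le _ hx) g hg hy
    rw [F.mem_EI_iff hy, h2, ← h1, ← σ.image_compl]
    exact Set.image_mono ((F.mem_EI_iff (F.EI_le _ hx)).1 hx)
theorem scl_Y (hz : z ∈ F.Y i) (h1 : z ≠ 1) : SCl C{z} (F.Ei i) ∧ SCl C{z} (F.EI {i}ᶜ) := by
  have := F.scl_supp (z := z) ⟨F.Y_le_E i hz, (F.Y_le i hz).2⟩
  rwa [F.supp_Ei (F.Y_le_Ei i hz) h1, F.EI_single] at this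
theorem supp_pair (hij : i ≠ j) (hx : x ∈ F.Ei i) (hx1 : x ≠ 1) (hy : y ∈ F.Ei j) (hy1 : y ≠ 1) :
    F.supp (x * y) = {i, j} := by
  rw [F.supp_mul (Set.disjoint_singleton.2 hij) ((F.EI_single i).ge hx) ((F.EI_single j).ge hy),
    F.supp_Ei hx hx1, F.supp_Ei hy hy1]
  rfl
/-- a permutation stabilising `{i, j}` -/
theorem pair_cases {σ : Equiv.Perm F.ι} (hij : i ≠ j) (h : σ '' {i, j} = {i, j}) :
    σ i = i ∨ (σ i = j ∧ σ j = i) := by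
  have h1 : σ i ∈ ({i, j} : Set F.ι) := h ▸ ⟨i, Or.inl rfl, rfl⟩
  have h2 : σ j ∈ ({i, j} : Set F.ι) := h ▸ ⟨j, Or.inr rfl, rfl⟩
  rcases h1 with h1 | h1
  · exact Or.inl h1
  · rcases h2 with h2 | h2
    · exact Or.inr ⟨h1, h2⟩
    · exact absurd (σ.injective (h1.trans h2.symm)) hij
/-- if `H ⊓ N(E)` permutes `{i, j}` it fixes `i` -/
theorem norm_Ei (hE : SCl H E) (hg : ncl H E = H) (hij : i ≠ j)
    (h : ∀ n ∈ H ⊓ N[E], ∀ σ : Equiv.Perm F.ι, (∀ I, cj n (F.EI I) = F.EI (σ '' I)) →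
      σ '' {i, j} = {i, j}) : H ⊓ N[E] ≤ N[F.Ei i] := by
  refine (hE.tr (N0 := H ⊓ N[E] ⊓ N[F.Ei i]) hg (le_inf (le_inf hE.le (norm_self _)) (F.Ei_norm i))
    inf_le_left fun a ha b hb ha' hb' => ⟨mul_mem ha hb, ?_⟩).trans inf_le_right
  have key : ∀ a ∈ H ⊓ N[E], a ∉ H ⊓ N[E] ⊓ N[F.Ei i] →
      cj a (F.Ei i) = F.Ei j ∧ cj a (F.Ei j) = F.Ei i := by
    intro a ha ha'
    obtain ⟨σ, h1, -, h3⟩ := F.perm' ha.2
    rcases F.pair_cases hij (h a ha σ h3) with e | ⟨e, e'⟩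
    · exact absurd ⟨ha, mem_N_iff_cj.2 (by rw [h1, e])⟩ ha'
    · exact ⟨by rw [h1, e], by rw [h1, e']⟩
  exact mem_N_iff_cj.2 (by rw [cj_mul, (key b hb hb').1, (key a ha ha').2])
theorem scl_pair (hij : i ≠ j) (hx : x ∈ F.Y i) (hx1 : x ≠ 1) (hy : y ∈ F.Y j) (hy1 : y ≠ 1) :
    SCl (ncl C{x * y} E) (F.Ei i) ∧ SCl (ncl C{x * y} E) (F.EI {i}ᶜ) := by
  have hEC : E ≤ C{x * y} := mem_C_iff_le_C1.1 (mul_mem (F.Y_le i hx).2 (F.Y_le j hy).2)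
  have hH : SCl C{x * y} E := F.scl.mono le_top hEC
  have hKH : ncl C{x * y} E ≤ C{x * y} := (ncl_nml hEC).le
  have hg := hH.ncl_ncl
  have hK : SCl (ncl C{x * y} E) E := hH.mono hKH (le_ncl _ _)
  generalize ncl C{x * y} E = K at hKH hg hK
  have hxE := F.Y_le_E i hx
  have hyE := F.Y_le_E j hy
  have hs := F.supp_pair hij (F.Y_le_Ei i hx) hx1 (F.Y_le_Ei j hy) hy1
  have hN : K ⊓ N[E] ≤ N[F.Ei i] := F.norm_Ei hK hg hij fun n hn σ hσ => by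
    rw [← hs, ← F.supp_perm hσ, mem_C1_iff_conj.1 (hKH hn.1)]
  have k1 : ∀ D ≤ E, x ∈ D → y ∈ D → ∀ w ∈ K, cj w D ≤ E → ∃ σ : Equiv.Perm F.ι, σ i = i ∧
      ∀ d ∈ D, F.supp (w * d * w⁻¹) = σ '' F.supp d := by
    intro D hD hxD hyD w hw hle
    obtain ⟨σ, hσ⟩ := F.coh hD hle
    refine ⟨σ, ?_, hσ⟩
    have h0 := hσ _ (mul_mem hxD hyD)
    rw [mem_C1_iff_conj.1 (hKH hw), hs] at h0
    rcases F.pair_cases hij h0.symm with e | ⟨e, e'⟩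
    · exact e
    exfalso
    have hx' : w * x * w⁻¹ ∈ F.Ei j := (F.mem_Ei_iff (hle (conj_mem_cj w hxD))).2 (by
      rw [hσ x hxD, F.supp_Ei (F.Y_le_Ei i hx) hx1, Set.image_singleton, e])
    have hy' : w * y * w⁻¹ ∈ F.Ei i := (F.mem_Ei_iff (hle (conj_mem_cj w hyD))).2 (by
      rw [hσ y hyD, F.supp_Ei (F.Y_le_Ei j hy) hy1, Set.image_singleton, e'])
    have h1 : w * x * w⁻¹ * (w * y * w⁻¹) = y * x := by
      rw [← mem_C1.1 (F.le_C1 hy hxE), ← mem_C1_iff_conj.1 (hKH hw)]; group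
    have h2 : y⁻¹ * (w * x * w⁻¹) = 1 := mem_bot.1 ((F.Ei_disj hij).le ⟨by
      rw [show y⁻¹ * (w * x * w⁻¹) = x * (w * y * w⁻¹)⁻¹ by
        rw [eq_mul_inv_iff_mul_eq, mul_assoc, h1, inv_mul_cancel_left]]
      exact mul_mem (F.Y_le_Ei i hx) (Subgroup.inv_mem _ hy'),
      mul_mem (Subgroup.inv_mem _ (F.Y_le_Ei j hy)) hx'⟩)
    have h3 : w * x * w⁻¹ = y := (inv_mul_eq_one.1 h2).symm
    have h4 : cj w E ≤ K ⊓ C{y} := le_inf (cj_le_of_mem hK.le hw)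
      (by rw [← h3, ← cj_C1]; exact cj_mono w (F.le_C1 hx))
    have h5 : E ≤ K ⊓ C{y} := le_inf hK.le (F.le_C1 hy)
    obtain ⟨m, hm, e1⟩ := Mx.exists_conj hK inf_le_left (hK.mx_self inf_le_left h5)
      (hK.mx_conj inf_le_left hw h4)
    have hm := (ncl_nml h5).le hm
    have h6 := conj_mem (hN ⟨mul_mem (K.inv_mem hm.1) hw, cj_eq_cj_iff.1 e1⟩) (F.Y_le_Ei i hx)
    rw [show m⁻¹ * w * x * (m⁻¹ * w)⁻¹ = m⁻¹ * (w * x * w⁻¹) * m⁻¹⁻¹ by group, h3,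
      mem_C1_iff_conj.1 (Subgroup.inv_mem _ hm.2)] at h6
    exact hy1 (mem_bot.1 ((F.Ei_disj hij).le ⟨h6, F.Y_le_Ei j hy⟩))
  have k2 : ∀ e ∈ E, ∀ g ∈ K, g * e * g⁻¹ ∈ E → ∃ σ : Equiv.Perm F.ι, σ i = i ∧
      F.supp (g * e * g⁻¹) = σ '' F.supp e := by
    intro e he g hg he'
    obtain ⟨w, hw, w', hw', h1, h2, h3⟩ := hK.exists_full he hg he'
    have k3 : ∀ e ∈ E, x ∈ E ⊓ C{e} ∧ y ∈ E ⊓ C{e} := fun e he =>
      ⟨⟨hxE, mem_C1_comm.1 (F.le_C1 hx he)⟩, hyE, mem_C1_comm.1 (F.le_C1 hy he)⟩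
    obtain ⟨σ, s1, s2⟩ := k1 _ inf_le_left (k3 e he).1 (k3 e he).2 w hw h1
    obtain ⟨τ, t1, t2⟩ := k1 _ inf_le_left (k3 _ he').1 (k3 _ he').2 w' hw' h2
    refine ⟨τ⁻¹ * σ, by rw [Equiv.Perm.mul_apply, s1, Equiv.Perm.inv_eq_iff_eq, t1], ?_⟩
    have := t2 _ ⟨he', self_mem_C1 _⟩
    rw [← h3, s2 e ⟨he, self_mem_C1 _⟩] at this
    rw [Equiv.Perm.coe_mul, Set.image_comp, this, ← Set.image_comp]
    simp
  refine ⟨hK.sub (F.Ei_le _) fun e he g hg h => ?_, hK.sub (F.EI_le _) fun e he g hg h => ?_⟩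
  · obtain ⟨σ, h1, h2⟩ := k2 e (F.Ei_le _ he) g hg h
    rw [F.mem_Ei_iff h, h2, ← h1, ← Set.image_singleton]
    exact Set.image_mono ((F.mem_Ei_iff (F.Ei_le _ he)).1 he)
  · obtain ⟨σ, h1, h2⟩ := k2 e (F.EI_le _ he) g hg h
    rw [F.mem_EI_iff h, h2, ← h1, ← Set.image_singleton, ← σ.image_compl]
    exact Set.image_mono ((F.mem_EI_iff (F.EI_le _ he)).1 he)
theorem prod (h : SCl K (F.Ei i) ∧ SCl K (F.EI {i}ᶜ)) :
    ⁅ncl K (F.Ei i), ncl K (F.EI {i}ᶜ)⁆ ≤ Od[K] :=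
  h.1.prod h.2 (F.Ei_cent' i) (F.Ei_inf i)
/-- separation of `E_i` and `E_j` in the centraliser of `x y` -/
theorem sep (hij : i ≠ j) (hx : x ∈ F.Y i) (hy : y ∈ F.Y j) (h1 : x * y ≠ 1) :
    ∃ K K1 K2 : Subgroup G, K ⊴ C{x * y} ∧ K1 ⊴ K ∧ K2 ⊴ K ∧ F.Ei i ≤ K1 ∧ F.Ei j ≤ K2 ∧
      ⁅K1, K2⁆ ≤ Od[C{x * y}] := by
  by_cases hx1 : x = 1
  · rw [hx1, one_mul] at h1 ⊢
    have h := F.scl_Y hy h1
    exact ⟨_, _, _, Nml.refl _, ncl_nml h.2.le, ncl_nml h.1.le,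
      (F.Ei_le_EI (I := {j}ᶜ) hij).trans (le_ncl _ _), le_ncl _ _, (commC _ _).le.trans (F.prod h)⟩
  by_cases hy1 : y = 1
  · rw [hy1, mul_one] at h1 ⊢
    have h := F.scl_Y hx h1
    exact ⟨_, _, _, Nml.refl _, ncl_nml h.1.le, ncl_nml h.2.le, le_ncl _ _,
      (F.Ei_le_EI (I := {i}ᶜ) hij.symm).trans (le_ncl _ _), F.prod h⟩
  have h := F.scl_pair hij hx hx1 hy hy1
  have hK : ncl C{x * y} E ⊴ C{x * y} :=
    ncl_nml (mem_C_iff_le_C1.1 (mul_mem (F.Y_le i hx).2 (F.Y_le j hy).2))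
  exact ⟨_, _, _, hK, ncl_nml h.1.le, ncl_nml h.2.le, le_ncl _ _,
    (F.Ei_le_EI (I := {i}ᶜ) hij.symm).trans (le_ncl _ _), (F.prod h).trans (hK.pcore_le _)⟩
theorem Ei_ne (i : F.ι) : F.Ei i ≠ ⊥ := fun e => F.not_abl i (e ▸ abl_bot)
theorem three [IsSimpleGroup G] (hmin : ∀ B ≤ E, SCl ⊤ B → B = ⊥ ∨ B = E) (hij : i ≠ j) :
    ∃ k, k ≠ i ∧ k ≠ j := by
  by_contra hk
  have h0 : ({i, j} : Set F.ι) = Set.univ := Set.eq_univ_of_forall fun k => by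
    by_contra h
    exact hk ⟨k, fun e => h (Or.inl e), fun e => h (Or.inr e)⟩
  have hN := F.norm_Ei F.scl (ncl_top fun e => F.Ei_ne i (eq_bot_iff.2 ((F.Ei_le i).trans e.le)))
    hij fun n _ σ _ => by rw [h0, Set.image_univ, σ.surjective.range_eq]
  have hS : SCl ⊤ (F.Ei i) := F.scl.sub (F.Ei_le i) fun x hx g _ hy => by
    refine (F.mv (zpowers x) g (zpowers_le.2 (F.Ei_le i hx))
      (by rw [cj_zpowers]; exact zpowers_le.2 hy)).stable (Z := F.Ei i) ?_ (mem_zpowers x) hx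
    rintro p (hp | ⟨m, c, rfl⟩) e he k hk h
    · rw [Set.mem_singleton_iff.1 hp] at hk
      exact conj_mem (hN ⟨mem_top k, hk⟩) h
    · refine (F.mem_Ei_iff (conj_mem (F.J_norm m c hk) he).1).2 ?_
      rw [F.supp_J hk he]
      exact (F.mem_Ei_iff he.1).1 h
  rcases hmin _ (F.Ei_le i) hS with e | e
  · exact F.Ei_ne i e
  · exact F.not_abl j (abl_iff.2 (((F.Ei_le j).trans e.ge).trans (F.Ei_cent hij)))
end Fam

end H2.C2
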