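import Mathlib
import Cfsg.Agent.H2.CP0b

set_option autoImplicit false
set_option linter.unusedVariables false
set_option linter.unusedSectionVars false

namespace H2.C2

open Cfsg H24 H26 H26.Gold Subgroup
open scoped commutatorElement

universe u

variable {G : Type u} [Group G] [Finite G]
  {A B D E H K L M N0 P P' Q Q' R R' S T T' U W X a a' b b' b'' v : Subgroup G}
  {g k n o s t x y z : G} {q : ℕ}

theorem simple_of_quo (hL : IsComponent L) {Y : Type u} [Group Y] [Finite Y] {π : L →* Y}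
    (hπ : H8.PC.Quo π Z[L]) : IsSimpleGroup Y := by
  have hna : ¬ L ≤ Z[L] := fun h => H23.IsQuasisimple.comm_ne_bot hL.2
    (comm_eq_bot.2 (h.trans inf_le_right))
  have : Nontrivial Y := by
    obtain ⟨x, hx, hx'⟩ := SetLike.not_le_iff_exists.1 hna
    exact ⟨⟨ap π x, 1, mt (hπ.eq_one hx).1 hx'⟩⟩
  refine ⟨fun N hN => ?_⟩
  have h1 := hπ.pre_nml_top (E := N) (norm_of_normal ⊤ N)
  rcases H23.IsQuasisimple.eq_or_comm hL.2 h1.le h1.norm with e | e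
  · right; rw [← hπ.img_pre N, e, hπ.img_top]
  · left
    rw [← hπ.img_pre N, hπ.eq_bot h1.le]
    exact le_inf h1.le (comm_eq_bot.1 e)

theorem fitting_two (hO : Od[(⊤ : Subgroup G)] = ⊥) : fittingSubgroup G = O[{2}, (⊤ : Subgroup G)] := by
  rw [← Fitting_top, Fitting_eq_pcore Nat.prime_two hO]

theorem C1_ne_top [IsSimpleGroup G] (hA : ¬ Abl A) (hz : z ≠ 1) : C{z} ≠ ⊤ := fun e => by
  have h1 : z ∈ center G := mem_center_iff.2 fun g => mem_C1.1 (e.ge (mem_top g))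
  rcases IsSimpleGroup.eq_bot_or_eq_top_of_normal (center G) inferInstance with h | h
  · exact hz (mem_bot.1 (h.le h1))
  · exact hA (abl_iff.2 (le_C_iff.2 fun a _ b _ => mem_center_iff.1 (h.ge (mem_top b)) a))

namespace Fam
variable (F : Fam E) {i j l : F.ι} {I J : Set F.ι} {c : Bool}

theorem inf_eq (hN : ∀ i ≠ l, ∀ c, ncl (F.J i c) (F.Ei i) ≤ N[K]) :
    F.EI {l}ᶜ ⊓ K = F.EI {i | i ≠ l ∧ F.Ei i ≤ K} := by
  refine le_antisymm (fun x hx => ?_) (F.EI_le_of fun i hi => le_inf (F.Ei_le_EI hi.1) hi.2)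
  have hE := F.EI_le _ hx.1
  refine (F.mem_EI_iff hE).2 fun i hi => ?_
  have h1 : i ≠ l := (F.mem_EI_iff hE).1 hx.1 hi
  exact ⟨h1, (F.ni (hN i h1)).resolve_left fun e => hi (F.nt (hN i h1) e ⟨hE, hx.2⟩)⟩

theorem J_le_C1 (hz : z ∈ F.Y l) (hi : i ≠ l) (c : Bool) : F.J i c ≤ C{z} :=
  (F.J_cent i c).trans (C_le_C1 (F.Ei_le_EI (I := {i}ᶜ) hi.symm (F.Y_le_Ei l hz)))

theorem ncl_le_C1 (hz : z ∈ F.Y l) (hi : i ≠ l) (c : Bool) : ncl (F.J i c) (F.Ei i) ≤ C{z} :=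
  (F.ncl_J_le i c).trans (F.J_le_C1 hz hi c)

section
variable {Y : Type u} [Group Y] [Finite Y] {f : C{z} →* Y} (hz : z ∈ F.Y l) (hz1 : z ≠ 1)
  (hf : H8.PC.Quo f Od[C{z}])
include hz hz1 hf

theorem inf_O : E ⊓ Od[C{z}] = ⊥ := F.scl.two.inf_eq_bot (Od_odd _)

theorem ap_inj (hx : x ∈ E) (hy : y ∈ E) (h : ap f x = ap f y) : x = y :=
  inv_mul_eq_one.1 (mem_bot.1 ((F.inf_O hz hz1 hf).le ⟨mul_mem (E.inv_mem hx) hy,
    (hf.eq_iff (F.le_C1 hz hx) (F.le_C1 hz hy)).1 h⟩))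

theorem cent_of_img (hA : A ≤ E) (hB : B ≤ E) (h : img f A ≤ C[img f B]) : A ≤ C[B] :=
  comm_eq_bot.1 (eq_bot_of_le (F.inf_O hz hz1 hf) (le_inf (comm_le_of_le hA hB)
    ((hf.comm_le (hA.trans (F.le_C1 hz)) (hB.trans (F.le_C1 hz))).2 h)))

theorem img_nab (i : F.ι) : ¬ img f (F.Ei i) ≤ C[img f (F.Ei i)] := fun h =>
  F.not_abl i (abl_iff.2 (F.cent_of_img hz hz1 hf (F.Ei_le i) (F.Ei_le i) h))

theorem pre_inf_E (hA : A ≤ E) : E ⊓ pre f (img f A) = A := by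
  refine le_antisymm (fun x hx => ?_) (le_inf hA (le_pre_img f (hA.trans (F.le_C1 hz))))
  obtain ⟨y, hy, e⟩ := (mem_img_of_le (hA.trans (F.le_C1 hz))).1 (mem_pre.1 hx.2).2
  rw [← F.ap_inj hz hz1 hf (hA hy) hx.1 e]; exact hy

theorem sclA : SCl ⊤ (img f (F.EI {l}ᶜ)) := (F.scl_Y hz hz1).2.quo hf

theorem inf_O2 : F.EI {l}ᶜ ⊓ pre f O[{2}, (⊤ : Subgroup Y)] = ⊥ := by
  have hQ := pcore_nml {2} (⊤ : Subgroup Y)
  have hQ2 : TwoG O[{2}, (⊤ : Subgroup Y)] := pcore_pi _ _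
  generalize O[{2}, (⊤ : Subgroup Y)] = Q at hQ hQ2
  have hA := F.sclA hz hz1 hf
  have hK := hf.pre_nml_top hQ.norm
  have e := F.inf_eq (l := l) (K := pre f Q) fun i hi c => (F.ncl_le_C1 hz hi c).trans hK.norm
  rw [e]
  refine eq_bot_iff.2 (F.EI_le_of fun i hi => False.elim ?_)
  have hDE : F.EI {l}ᶜ ⊓ pre f Q ≤ E := inf_le_left.trans (F.EI_le _)
  have hi' : F.Ei i ≤ F.EI {l}ᶜ ⊓ pre f Q := le_inf (F.Ei_le_EI hi.1) hi.2
  have h1 : ⊤ ≤ N[img f (F.EI {l}ᶜ ⊓ pre f Q)] := by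
    rw [img_inf_pre]
    refine le_N_iff.2 fun γ _ x hx => ⟨?_, hQ.conj_mem (mem_top γ) hx.2⟩
    exact hA.max _ (hA.two.sup' hQ2 (le_top.trans hQ.norm)) le_sup_left le_top x hx.1 γ
      (mem_top γ) (mem_sup_right (hQ.conj_mem (mem_top γ) hx.2))
  generalize F.EI {l}ᶜ ⊓ pre f Q = D at hDE hi' h1
  have hD' : ⁅D, D⁆ ≤ E := comm_le_of_le hDE hDE
  have h2 := hf.pre_nml_top (norm_der1 h1)
  rw [← img_comm f (hDE.trans (F.le_C1 hz)) (hDE.trans (F.le_C1 hz))] at h2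
  rcases F.ni (i := i) fun c => (F.ncl_le_C1 hz hi.1 c).trans h2.norm with h | h
  · refine F.Y_ne i (eq_bot_of_le h (le_inf ?_ (F.Y_le_Ei i)))
    exact ((F.der i).ge.trans (der1_mono hi')).trans (le_pre_img f (hD'.trans (F.le_C1 hz)))
  · have := (le_inf (F.Ei_le i) h).trans (F.pre_inf_E hz hz1 hf hD').le
    exact F.not_abl i (abl_iff.2 (cents_of_le ((this.trans (der1_mono hDE)).trans F.cl2)
      (F.Ei_le i)))

theorem cent_O2 : img f (F.EI {l}ᶜ) ≤ C[O[{2}, (⊤ : Subgroup Y)]] := by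
  have hQ := pcore_nml {2} (⊤ : Subgroup Y)
  have hA := F.sclA hz hz1 hf
  refine cents_of_inf_eq_bot (le_top.trans hQ.norm) (le_sup_right.trans (hA.le_norm
    (hA.two.sup' (pcore_pi _ _) (le_top.trans hQ.norm)) le_sup_left le_top)) ?_
  rw [← img_inf_pre, F.inf_O2 hz hz1 hf, img_bot]

/-- the factors outside `N` centralise `N` -/
theorem cent_N {N : Subgroup Y} (hO : Od[N] = ⊥) (hA : img f (F.EI {l}ᶜ) ≤ N[N])
    (hN : ∀ i ≠ l, ∀ c, img f (ncl (F.J i c) (F.Ei i)) ≤ N[N]) (hi : i ≠ l)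
    (h : ¬ img f (F.Ei i) ≤ N) : img f (F.Ei i) ≤ C[N] := by
  have hEC := F.le_C1 hz
  have e := F.inf_eq (l := l) (K := pre f N) fun i hi c => norm_pre (F.ncl_le_C1 hz hi c) (hN i hi c)
  generalize hI : {i | i ≠ l ∧ F.Ei i ≤ pre f N} = I at e
  have hiI : i ∉ I := fun h' => h (img_le_of_le_pre (hI ▸ h').2)
  have hle : F.EI ({l}ᶜ \ I) ≤ F.EI {l}ᶜ := F.EI_mono Set.sdiff_subset
  have hS : SCl (img f (F.EI {l}ᶜ) ⊔ N) (img f (F.EI ({l}ᶜ \ I))) := by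
    refine ((F.sclA hz hz1 hf).mono le_top le_sup_left).sub (img_mono f hle) fun ξ hξ γ hγ hy => ?_
    obtain ⟨α, hα, ν, hν, rfl⟩ := (mem_sup_of_norm' hA).1 hγ
    rw [show α * ν * ξ * (α * ν)⁻¹ = α * (ν * ξ * ν⁻¹) * α⁻¹ by group] at hy ⊢
    refine conj_mem (img_norm f ((F.EI_le _).trans (F.EI_norm _)) hα) ?_
    replace hy := (conj_mem_iff (norm_self _ hα)).1 hy
    obtain ⟨x, hx, rfl⟩ := (mem_img_of_le ((F.EI_le _).trans hEC)).1 hξ
    obtain ⟨y, hy', e1⟩ := (mem_img_of_le ((F.EI_le _).trans hEC)).1 hy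
    have hxE := F.EI_le _ hx
    have hyE := F.EI_le _ hy'
    have h1 : x⁻¹ * y ∈ F.EI I := by
      refine e.le ⟨mul_mem (Subgroup.inv_mem _ (hle hx)) hy', mem_pre.2 ⟨hEC (mul_mem
        (E.inv_mem hxE) hyE), ?_⟩⟩
      rw [ap_mul f (hEC (E.inv_mem hxE)) (hEC hyE), e1, ap_inv f (hEC hxE),
        show (ap f x)⁻¹ * (ν * ap f x * ν⁻¹) = (ap f x)⁻¹ * ν * ap f x * ν⁻¹ by group]
      exact mul_mem (conj_mem' (hA (img_mono f hle hξ)) hν) (N.inv_mem hν)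
    obtain ⟨g, hg, e2, h2⟩ := conj_lift hf (Od_odd _) (F.scl.two.piElt hxE).isPi F.scl.two
      (zpowers_le.2 (hEC hxE)) hEC (γ := ν) (by
        rw [img_zpowers f (hEC hxE), cj_zpowers, ← e1]
        exact zpowers_le.2 (ap_mem_img f hyE (hEC hyE)))
    have h3 := h2 (conj_mem_cj g (mem_zpowers x))
    have h4 : g * x * g⁻¹ = y := F.ap_inj hz hz1 hf h3 hyE (by rw [ap_conj f hg (hEC hxE), e2, e1])
    have h5 := F.ncard_supp hxE h3
    have h6 := F.supp_mul (Set.disjoint_sdiff_left (s := I) (t := {l}ᶜ)) hx h1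
    rw [mul_inv_cancel_left, ← h4] at h6
    have h7 := Set.eq_of_subset_of_ncard_le (h6.ge.trans' Set.subset_union_left) h5.le
    rw [← e1]
    refine ap_mem_img f ((F.mem_EI_iff hyE).2 ?_) (hEC hyE)
    rw [← h4, ← h7]
    exact (F.mem_EI_iff hxE).1 hx
  have h8 := hS.zl le_sup_right ((img_mono f hle).trans hA) (by
    rw [← img_inf_pre, ← inf_eq_left.2 hle, inf_assoc, e, F.EI_disj Set.disjoint_sdiff_left,
      img_bot])
  rw [hO, le_bot_iff, comm_eq_bot] at h8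
  exact (img_mono f (F.Ei_le_EI (I := {l}ᶜ \ I) ⟨hi, hiI⟩)).trans h8

theorem le_layer (hi : i ≠ l) : img f (F.Ei i) ≤ layer Y := by
  by_contra h
  have hO := hf.Od_eq_bot
  have h1 := F.cent_N hz hz1 hf (N := layer Y) (H8.PC.Od_nml_eq_bot hO (nml_top _))
    (norm_of_normal _ _) (fun _ _ _ => norm_of_normal _ _) hi h
  have h2 := H23.le_fitting_of_comm (comm_eq_bot.2 h1) (comm_eq_bot.2 (by
    rw [fitting_two hO]; exact (img_mono f (F.Ei_le_EI hi)).trans (F.cent_O2 hz hz1 hf)))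
  rw [fitting_two hO, img_le_iff ((F.Ei_le i).trans (F.le_C1 hz))] at h2
  exact F.Ei_ne i (eq_bot_of_le (F.inf_O2 hz hz1 hf) (le_inf (F.Ei_le_EI hi) h2))

theorem A_le_layer : img f (F.EI {l}ᶜ) ≤ layer Y :=
  img_le_of_le_pre (F.EI_le_of fun i hi => (img_le_iff ((F.Ei_le i).trans (F.le_C1 hz))).1
    (F.le_layer hz hz1 hf hi))

theorem le_or_cent {L : Subgroup Y} (hL : IsComponent L) (hi : i ≠ l) :
    img f (F.Ei i) ≤ L ∨ img f (F.Ei i) ≤ C[L] := by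
  have hn := H23.layer_le_normalizer_of_isSubnormal hL.1
  refine or_iff_not_imp_left.2 (F.cent_N hz hz1 hf (comp_Od hf.Od_eq_bot hL)
    ((F.A_le_layer hz hz1 hf).trans hn) (fun j hj c => le_trans ?_ hn) hi)
  rw [img_ncl (F.J_le_C1 hz hj c) ((F.Ei_le j).trans (F.le_C1 hz))]
  exact ncl_le (F.le_layer hz hz1 hf hj) (norm_of_normal _ _)

theorem exists_comp (hi : i ≠ l) : ∃ L : Subgroup Y, IsComponent L ∧ img f (F.Ei i) ≤ L := by
  by_contra h
  push Not at h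
  refine F.img_nab hz hz1 hf i (cents_symm ((F.le_layer hz hz1 hf hi).trans (H23.layer_le
    fun L hL => cents_symm ((F.le_or_cent hz hz1 hf hL hi).resolve_left (h L hL)))))

theorem not_both [IsSimpleGroup G]
    (ih : ∀ (X : Type u) [Group X] [Finite X], Nat.card X < Nat.card G → IsSimpleGroup X → CI X)
    {L : Subgroup Y} (hL : IsComponent L) (hi : i ≠ l) (hj : j ≠ l) (hij : i ≠ j)
    (h1 : img f (F.Ei i) ≤ L) (h2 : img f (F.Ei j) ≤ L) : False := by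
  have hEC := F.le_C1 hz
  have hO := hf.Od_eq_bot
  obtain ⟨V, _, _, π, hπ⟩ := H8.PC.exists_quo (center_nml L)
  have hc : Nat.card V < Nat.card G := by
    refine lt_of_le_of_lt ?_ (hf.card_lt (Or.inl (C1_ne_top (F.not_abl i) hz1)))
    exact (Nat.card_le_card_of_surjective π hπ.surj).trans (card_le_card_group L)
  have hn := (F.A_le_layer hz hz1 hf).trans (H23.layer_le_normalizer_of_isSubnormal hL.1)
  have hS : SCl L (img f (F.EI {l}ᶜ) ⊓ L) :=
    (((F.sclA hz hz1 hf).mono le_top hn).inf_nml le_rfl).mono (norm_self L) inf_le_right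
  have key : ∀ B1 ≤ F.EI {l}ᶜ, ∀ B2 ≤ F.EI {l}ᶜ, img f B1 ≤ L → img f B2 ≤ L →
      img π (img f B1) ≤ C[img π (img f B2)] → B1 ≤ C[B2] := by
    intro B1 a1 B2 a2 b1 b2 h
    have h3 := ((hπ.comm_le b1 b2).2 h).trans (H23.center_le_fitting_of_isSubnormal hL.1)
    have a1' := (a1.trans (F.EI_le _)).trans hEC
    have a2' := (a2.trans (F.EI_le _)).trans hEC
    rw [fitting_two hO, ← img_comm f a1' a2', img_le_iff (comm_le_of_le a1' a2')] at h3
    exact comm_eq_bot.1 (eq_bot_of_le (F.inf_O2 hz hz1 hf) (le_inf (comm_le_of_le a1 a2) h3))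
  have hcl : Cl2 (img π (img f (F.EI {l}ᶜ) ⊓ L)) := by
    unfold Cl2
    rw [← img_comm π inf_le_right inf_le_right]
    refine img_cent π (cents_of_le ((der1_mono inf_le_left).trans ?_) inf_le_left)
    rw [← img_comm f ((F.EI_le _).trans hEC) ((F.EI_le _).trans hEC)]
    exact img_cent f (cents_of_le ((der1_mono (F.EI_le _)).trans F.cl2) (F.EI_le _))
  obtain ⟨w, hw, hw'⟩ := SetLike.not_le_iff_exists.1 (F.half i true).not_le
  have hwi := F.W_le i true hw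
  have hwC := hEC (F.Ei_le i hwi)
  have hwL : ap f w ∈ L := h1 (ap_mem_img f hwi hwC)
  have hiA : F.Ei i ≤ F.EI {l}ᶜ := F.Ei_le_EI hi
  have hjA : F.Ei j ≤ F.EI {l}ᶜ := F.Ei_le_EI hj
  rcases ih V hc (simple_of_quo hL hπ) _ (hS.quo hπ) hcl (ap π (ap f w))
    (ap_mem_img π ⟨ap_mem_img f (hiA hwi) hwC, hwL⟩ hwL)
    (by rw [← ap_mul π hwL hwL, ← ap_mul f hwC hwC, F.W_sq hw, ap_one, ap_one]) with h | h
  · have h3 := key _ hiA (zpowers w) (zpowers_le.2 (hiA hwi)) h1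
      (by rw [img_zpowers f hwC]; exact zpowers_le.2 hwL) (by
        rw [img_zpowers f hwC, img_zpowers π hwL, C_zpowers]
        exact (img_mono π (le_inf (img_mono f hiA) h1)).trans h)
    rw [C_zpowers] at h3
    exact (F.half i true).not_ge ((le_inf le_sup_right ((F.W_le i _).trans h3)).trans
      ((F.half i true).cent1W hw hw').le)
  · refine F.not_abl j (abl_iff.2 (key _ hjA _ hjA h2 h2 (abl_iff.1 (h.of_le (le_inf
      (img_mono π (le_inf (img_mono f hjA) h2)) ?_)))))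
    exact img_cent1 π (img_cent1 f ((F.Ei_cent hij.symm).trans (C_le_C1 hwi)) hwC) hwL

theorem cent_l {L : Subgroup Y} (hL : IsComponent L) (hi : i ≠ l) (h1 : img f (F.Ei i) ≤ L) :
    img f (F.Ei l) ≤ C[L] := by
  have h := F.scl_Y hz hz1
  have h2 := (hf.comm_le (ncl_nml h.1.le).le (ncl_nml h.2.le).le).1 (F.prod h)
  have h3 := (ncl_nml h.2.le).img f
  rw [hf.img_top] at h3
  refine cents_of_le ((img_mono f (le_ncl _ _)).trans h2) ?_
  refine (H23.IsComponent.le_or_comm_of_le_normalizer hL (le_top.trans h3.norm)).resolve_right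
    fun e => F.img_nab hz hz1 hf i (cents_of_le (h1.trans (comm_eq_bot.1 e)) ?_)
  exact img_mono f ((F.Ei_le_EI hi).trans (le_ncl _ _))

end
end Fam

/-! ### CP1 -/

theorem Fam.allLoc [IsSimpleGroup G] (F : Fam E)
    (ih : ∀ (X : Type u) [Group X] [Finite X], Nat.card X < Nat.card G → IsSimpleGroup X → CI X) :
    F.AllLoc := by
  intro l z hz hz1
  obtain ⟨Y, _, _, f, hf⟩ := H8.PC.exists_quo (pcore_nml {2}ᶜ C{z})
  have : ∀ i, ∃ L : Subgroup Y, i ≠ l → IsComponent L ∧ img f (F.Ei i) ≤ L := fun i => by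
    by_cases hi : i = l
    · exact ⟨⊥, fun h => absurd hi h⟩
    · obtain ⟨L, h⟩ := F.exists_comp hz hz1 hf hi
      exact ⟨L, fun _ => h⟩
  choose L hL using this
  refine ⟨Y, _, inferInstance, f, L, hz, hz1, hf, fun i hi => (hL i hi).1, fun i hi => (hL i hi).2,
    fun i hi j hj => ?_⟩
  by_cases e : j = l
  · rw [e]; exact F.cent_l hz hz1 hf (hL i hi).1 hi (hL i hi).2
  · exact (F.le_or_cent hz hz1 hf (hL i hi).1 e).resolve_left fun h =>
      F.not_both hz hz1 hf ih (hL i hi).1 hi e (Ne.symm hj) (hL i hi).2 h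

end H2.C2
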