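import Mathlib
import Cfsg.Agent.H2.CP1

set_option autoImplicit false
set_option linter.unusedVariables false
set_option linter.unusedSectionVars false

namespace H2.C2

open Cfsg H24 H26 H26.Gold Subgroup
open scoped commutatorElement

universe u

variable {G : Type u} [Group G] [Finite G]
  {A B D E H K L M N0 P P' Q Q' R R' S T T' U W X a a' b b' b'' v : Subgroup G}
  {g k n o s t x y z : G} {q : ℕ}

theorem exists_mul_C {O : Subgroup G} (hO : OddG O) (hP : TwoG P)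
    (hPO : P ≤ N[O]) (h : ⁅K, P⁆ ≤ O) (hk : k ∈ K) : ∃ o ∈ O, o * k ∈ C[P] := by
  have hS : Syl 2 (O ⊔ P) P := (isProd_sup hPO).hall_right hO hP
  have h1 : cj k P ≤ O ⊔ P := fun x hx => by
    obtain ⟨y, hy, rfl⟩ := mem_cj'.1 hx
    have := mul_mem (mem_sup_left (T := P) (h (commutator_mem_commutator hk hy))) (mem_sup_right hy)
    simpa [commutatorElement_def] using this
  obtain ⟨g, hg, h2⟩ := Sylow_Jsub Nat.prime_two hS (hP.cj k) h1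
  obtain ⟨y, hy, o, ho, rfl⟩ := (isProd_sup hPO).symm.mul g hg
  rw [cj_mul, cj_le_iff, cj_of_mem (inv_mem hy), ← cj_mul] at h2
  refine ⟨o, ho, mem_C'.2 fun x hx => ?_⟩
  have a1 : ⁅o * k, x⁆ ∈ P := mul_mem (h2 (conj_mem_cj _ hx)) (inv_mem hx)
  have a2 : ⁅o * k, x⁆ ∈ O := by
    have := mul_mem (mul_mem ho (h (commutator_mem_commutator hk hx)))
      (conj_mem (hPO hx) (inv_mem ho))
    convert this using 1
    simp only [commutatorElement_def]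
    group
  exact commutatorElement_eq_one_iff_mul_comm.1 (mem_bot.1 ((hP.inf_eq_bot hO).le ⟨a1, a2⟩))

/-- `K ≤ O(H) C_H(y)` if `[K, y] ≤ O(H)` -/
theorem le_of_comm (hK : K ≤ H) (hy : y ∈ H) (h2 : y * y = 1) (h : ⁅K, zpowers y⁆ ≤ Od[H])
    (hO : Od[H] ≤ M) (hM : H ⊓ C{y} ≤ M) : K ≤ M := fun k hk => by
  obtain ⟨o, ho, h1⟩ := exists_mul_C (Od_odd H) (twoE_of_sq h2).isPi
    ((zpowers_le.2 hy).trans (pcore_nml _ _).norm) h hk
  rw [C_zpowers] at h1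
  exact (M.mul_mem_cancel_left (hO ho)).1 (hM ⟨mul_mem (pcore_le _ _ ho) (hK hk), h1⟩)

theorem img_C1_eq {Y : Type u} [Group Y] [Finite Y] {f : H →* Y} (hf : H8.PC.Quo f R)
    (hR : OddG R) (hx : x ∈ H) (h2 : x * x = 1) : img f (H ⊓ C{x}) = C{ap f x} := by
  refine le_antisymm (img_cent1 f inf_le_right hx) fun γ hγ => ?_
  have h := (twoE_of_sq h2).isPi
  obtain ⟨g, hg, e, h1⟩ := conj_lift hf hR h h (zpowers_le.2 hx) (zpowers_le.2 hx) (γ := γ) (by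
    rw [img_zpowers f hx, cj_zpowers, mem_C1_iff_conj.1 hγ])
  have h3 := h1 (conj_mem_cj g (mem_zpowers x))
  have h4 : (g * x * g⁻¹)⁻¹ * x ∈ R := (hf.eq_iff (zpowers_le.2 hx h3) hx).1 (by
    rw [ap_conj f hg hx, e, mem_C1_iff_conj.1 hγ])
  have h5 := mem_bot.1 ((h.inf_eq_bot hR).le ⟨mul_mem (Subgroup.inv_mem _ h3) (mem_zpowers x), h4⟩)
  exact e ▸ ap_mem_img f ⟨hg, mem_C1_iff_conj.2 (inv_mul_eq_one.1 h5)⟩ hg

theorem img_Od_le {Y : Type u} [Group Y] [Finite Y] {f : H →* Y} (hf : H8.PC.Quo f R)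
    (hR : OddG R) (hx : x ∈ H) (h2 : x * x = 1) : img f Od[C{x}] ≤ Od[C{ap f x}] := by
  rw [← img_C1_eq hf hR hx h2, ← hf.Od_img hR inf_le_left, ← img_inf_dom]
  refine img_mono f (le_trans ?_ (pcore_inf_le _ (inf_le_right : H ⊓ C{x} ≤ C{x})))
  exact le_inf inf_le_left (le_inf inf_le_right (inf_le_left.trans (pcore_le _ _)))

/-! ### CP1b -/

namespace Fam
variable (F : Fam E) {i j l : F.ι}

theorem move (hz : z ∈ F.Ei l) (hz2 : z * z = 1) :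
    ∃ k ∈ C[F.EI {l}ᶜ], k * z * k⁻¹ ∈ F.Y l := by
  obtain ⟨c, hc⟩ := F.inv_mem hz hz2
  obtain ⟨k, hk, h⟩ := F.conj_Y hc
  exact ⟨k, F.J_cent l c hk, h⟩

theorem Loc.comm {Y : Type u} [Group Y] [Finite Y] {f : C{z} →* Y} {L : F.ι → Subgroup Y}
    (h : F.Loc l z f L) (hil : i ≠ l) {L' : Subgroup Y} (hL : IsComponent L') :
    L' = L i ∨ img f (F.Ei i) ≤ C[L'] :=
  (H23.IsComponent.eq_or_comm hL (h.comp i hil)).imp_right fun e =>
    (h.le i hil).trans (comm_eq_bot'.1 e)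

theorem c1a (hL : F.AllLoc) (hij : i ≠ j) (hil : i ≠ l) (hjl : j ≠ l) (hx : x ∈ F.Ei i)
    (hx1 : x ≠ 1) (hx2 : x * x = 1) (hy : y ∈ F.Ei j) (hz : z ∈ F.Ei l) (hz1 : z ≠ 1)
    (hz2 : z * z = 1) (hy2 : y * y = 1) : ⁅Od[C{x}] ⊓ C{z}, zpowers y⁆ ≤ Od[C{z}] := by
  have := Fact.mk Nat.prime_two
  obtain ⟨k, hk, hz'⟩ := F.move hz hz2
  rw [← cj_le_cj (g := k), cj_comm, cj_inf, ← pcore_cj, ← pcore_cj, cj_C1, cj_C1, cj_zpowers,
    conj_eq_of_mem_C hk (F.Ei_le_EI hil hx), conj_eq_of_mem_C hk (F.Ei_le_EI hjl hy)]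
  have hz1' : k * z * k⁻¹ ≠ 1 := mt conj_eq_one_iff'.1 hz1
  generalize k * z * k⁻¹ = z at hz' hz1'
  obtain ⟨Y, _, _, f, L, h⟩ := hL l z hz' hz1'
  have hxC := F.le_C1 hz' (F.Ei_le i hx)
  have hyC := F.le_C1 hz' (F.Ei_le j hy)
  rw [h.quo.comm_le inf_le_right (zpowers_le.2 hyC), ← comm_eq_bot]
  refine H25.Sg.comm_eq_bot_of_components (p := 2) (x := ap f x)
    (by rw [← pcore_compl_singleton_top Nat.prime_two]; exact h.quo.Od_eq_bot)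
    (by rw [sq, ← ap_mul f hxC hxC, hx2, ap_one]) ?_ ?_ fun L' hL' => ?_
  · exact ((img_mono f inf_le_left).trans (img_Od_le h.quo (Od_odd _) hxC hx2)).trans
      (pcore_compl_singleton Nat.prime_two _).le
  · refine comm_le_left (img_norm f (norm_inf (H8.PC.norm_Od1 (zpowers_le.2 ?_))
      (norm_of_le (zpowers_le.2 hyC))))
    exact C_le_C1 hx (F.Ei_cent hij.symm hy)
  · rcases Loc.comm F h hil hL' with e | e
    · exact Or.inl (((img_mono f (zpowers_le.2 hy)).trans (e ▸ h.cent i hil j hij.symm)).trans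
        le_sup_right)
    · exact Or.inr (comm_eq_bot'.2 (zpowers_le.2 (e (ap_mem_img f hx hxC))))
theorem c1b (hL : F.AllLoc) (hij : i ≠ j) (hil : i ≠ l) (hjl : j ≠ l) (hx : x ∈ F.Ei i)
    (hx1 : x ≠ 1) (hx2 : x * x = 1) (hy : y ∈ F.Ei j) (hy1 : y ≠ 1) (hy2 : y * y = 1)
    (hz : z ∈ F.Ei l) (hz1 : z ≠ 1) (hz2 : z * z = 1) :
    Od[C{x}] ⊓ Od[C{y}] ⊓ C{z} ≤ Od[C{z}] := by
  have := Fact.mk Nat.prime_two
  obtain ⟨k, hk, hz'⟩ := F.move hz hz2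
  rw [← cj_le_cj (g := k), cj_inf, cj_inf, ← pcore_cj, ← pcore_cj, ← pcore_cj, cj_C1, cj_C1, cj_C1,
    conj_eq_of_mem_C hk (F.Ei_le_EI hil hx), conj_eq_of_mem_C hk (F.Ei_le_EI hjl hy)]
  have hz1' : k * z * k⁻¹ ≠ 1 := mt conj_eq_one_iff'.1 hz1
  generalize k * z * k⁻¹ = z at hz' hz1'
  obtain ⟨Y, _, _, f, L, h⟩ := hL l z hz' hz1'
  have hxC := F.le_C1 hz' (F.Ei_le i hx)
  have hyC := F.le_C1 hz' (F.Ei_le j hy)
  have h1 := (img_mono f (inf_le_left.trans inf_le_left :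
    Od[C{x}] ⊓ Od[C{y}] ⊓ C{z} ≤ _)).trans (img_Od_le h.quo (Od_odd _) hxC hx2)
  have h2 := (img_mono f (inf_le_left.trans inf_le_right :
    Od[C{x}] ⊓ Od[C{y}] ⊓ C{z} ≤ _)).trans (img_Od_le h.quo (Od_odd _) hyC hy2)
  rw [← h.quo.eq_bot inf_le_right]
  refine H25.Sg.eq_bot_of_components (p := 2) (x := ap f x)
    (by rw [← pcore_compl_singleton_top Nat.prime_two]; exact h.quo.Od_eq_bot)
    (by rw [sq, ← ap_mul f hxC hxC, hx2, ap_one])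
    (h1.trans (pcore_compl_singleton Nat.prime_two _).le) fun L' hL' => ?_
  rcases Loc.comm F h hil hL' with e | e
  · refine ⟨zpowers (ap f y), comm_eq_bot'.2 (zpowers_le.2 ((e ▸ h.cent i hil j hij.symm)
      (ap_mem_img f hy hyC))), le_trans ?_ le_sup_right⟩
    rw [C_zpowers]
    exact h2.trans (pcore_compl_singleton Nat.prime_two _).le
  · refine ⟨zpowers (ap f x), comm_eq_bot'.2 (zpowers_le.2 (e (ap_mem_img f hx hxC))),
      le_trans ?_ le_sup_right⟩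
    rw [C_zpowers]
    exact h1.trans (pcore_compl_singleton Nat.prime_two _).le
theorem exists_Y (j : F.ι) : ∃ y ∈ F.Y j, y ≠ 1 := by
  obtain ⟨⟨y, hy⟩, h⟩ := ne_bot_iff_exists_ne_one.1 (F.Y_ne j)
  exact ⟨y, hy, fun e => h (Subtype.ext e)⟩
theorem c2 (hL : F.AllLoc) (h3 : ∀ i j : F.ι, ∃ k, k ≠ i ∧ k ≠ j) (hz : z ∈ F.Y l) (hz1 : z ≠ 1)
    (h1 : N[E] ⊓ C{z} ≤ M) (h2 : Od[C{z}] ≤ M)
    (h4 : ∀ j, j ≠ l → ∀ y ∈ F.Y j, y ≠ 1 → C{z} ⊓ C{y} ≤ M) : C{z} ≤ M := by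
  have hEC := F.le_C1 hz
  have hE : SCl C{z} E := F.scl.mono le_top hEC
  have hs := F.scl_Y hz hz1
  obtain ⟨Y, _, _, f, L, h⟩ := hL l z hz hz1
  have key : ∀ j ≠ l, ∀ K ≤ C{z}, ⁅K, F.Ei j⁆ ≤ Od[C{z}] → K ≤ M := fun j hj K hK hc => by
    obtain ⟨y, hy, hy1⟩ := F.exists_Y j
    exact le_of_comm hK (hEC (F.Y_le_E j hy)) (F.Y_sq hy)
      ((comm_mono_right (zpowers_le.2 (F.Y_le_Ei j hy))).trans hc) h2 (h4 j hj y hy hy1)
  have a1 : ncl C{z} (F.Ei l) ≤ M := by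
    obtain ⟨j, hj, -⟩ := h3 l l
    exact key j hj _ (ncl_nml hs.1.le).le ((comm_mono_right ((F.Ei_le_EI (I := {l}ᶜ) hj).trans
      (le_ncl _ _))).trans (F.prod hs))
  have a2 : layer Y ≤ img f (M ⊓ C{z}) := H23.layer_le fun L' hL' => by
    obtain ⟨j, hj, hc⟩ : ∃ j ≠ l, img f (F.Ei j) ≤ C[L'] := by
      obtain ⟨i, hi, -⟩ := h3 l l
      rcases Loc.comm F h hi hL' with e | e
      · obtain ⟨j, hj, hj'⟩ := h3 l i
        exact ⟨j, hj, e ▸ h.cent i hi j hj'⟩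
      · exact ⟨i, hi, e⟩
    rw [← h.quo.img_pre L']
    refine img_mono f (le_inf (key j hj _ (pre_le f _) ?_) (pre_le f _))
    rw [h.quo.comm_le (pre_le f _) ((F.Ei_le j).trans hEC), h.quo.img_pre]
    exact cents_symm hc
  have a3 : ncl C{z} (F.EI {l}ᶜ) ≤ M := by
    refine (ncl_le (M := pre f (layer Y)) (F.EI_le_of fun i hi => (img_le_iff ((F.Ei_le i).trans
      hEC)).1 ((h.le i hi).trans (H23.le_layer (h.comp i hi))))
      (h.quo.pre_nml_top (norm_of_normal _ _)).norm).trans ((pre_mono f a2).trans ?_)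
    rw [h.quo.pre_img inf_le_right]
    exact sup_le inf_le_left h2
  rw [← hE.frattini'.sup_eq]
  refine sup_le ?_ ((inf_comm _ _).le.trans h1)
  refine (ncl_mono le_rfl (F.isProd l).sup_eq.ge).trans ?_
  rw [ncl_sup]
  exact sup_le a1 a3
end Fam

end H2.C2
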