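import Mathlib
import Cfsg.Agent.H2.CP0
import Cfsg.Agent.H2.CP0b
import Cfsg.Agent.H2.CP1b
import Cfsg.Agent.H2.CHB
import Cfsg.Agent.H2.CT2
import Cfsg.Agent.H2.CT3

set_option autoImplicit false
set_option linter.unusedVariables false
set_option linter.unusedSectionVars false

namespace H2.C2

open Cfsg H24 H26 H26.Gold Subgroup
open scoped commutatorElement

universe u

variable {G : Type u} [Group G] [Finite G]
  {A B D E H K L M N0 P P' Q Q' R R' S T T' U W X a a' b b' b'' v : Subgroup G}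
  {g k n o s t x y z : G} {q : ℕ}

/-! ### CP2 -/

open H8.PC

theorem cp2_cs (hF : Fr Set.univ Set.univ A B) (hd : A ⊓ B = ⊥)
    (h : ∀ e ∈ A ⊔ B, e ≠ 1 → ∃ K1 K2, Sbn K1 C{e} ∧ A ≤ K1 ∧ B ≤ K2 ∧ ⁅K1, K2⁆ ≤ Od[C{e}]) :
    IsCoreSeparated A B := by
  refine ⟨hF.eA, hF.eB, hF.cA, hF.cB, fun e => ?_, hd, le_C_iff.1 hF.cent, fun e he he1 E hE => ?_⟩
  · rw [← e, inf_idem] at hd
    have := hF.cA
    rw [hd, card_bot] at this
    omega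
  obtain ⟨K1, K2, h0, hA, hB, h1⟩ := h e he he1
  have e1 : centralizerPPrimeCore 2 e = Od[C{e}] := (pcore_compl_singleton Nat.prime_two _).symm
  rw [e1]
  rcases H23.IsPComponent.le_or_comm_le hE h0.2 with h2 | h2
  · exact Or.inr ((commutator_mono ((map_mono h2).trans (map_subgroupOf' h0.le).le) hB).trans h1)
  · refine Or.inl ((comm_mono_right hA).trans ?_)
    have := map_mono (f := C{e}.subtype) h2
    rwa [map_commutator, map_subgroupOf' h0.le, ← pcore_compl_singleton Nat.prime_two] at this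

theorem cp2_W (hF : Fr Set.univ Set.univ A B) (hcs : IsCoreSeparated A B) : ∃ W, OddG W ∧
    ∀ a ∈ A, a ≠ 1 → ∀ b ∈ B, b ≠ 1 → W ⊓ C{a} = th a b ∧ W = Wf A b ∧ W = Wf B a := by
  obtain ⟨f1, f2, f3, f4⟩ := H25.Sg.cs_functor hcs
  have hea : EA (A ⊔ B) := H25.Sg.cs_ea hcs
  have hc : ♯(A ⊔ B) = 16 := by
    rw [card_sup_of_inf (norm_of_cent (cents_symm hF.cent)) hcs.2.2.2.2.2.1, hF.cA, hF.cB]
  obtain ⟨h1, h2⟩ := Cfsg.Agent.S0217.result (p := 2) (A ⊔ B) (fun a ha b hb => hea.comm ha hb)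
    hea.2 (by rw [hc]; norm_num) _ f1 f2 f3
    (fun a ha h1 => OddG.sol ((isPi_compl_iff Nat.prime_two).2 (f2 a ha h1))) f4
  set W := ⨆ b : {a : G // a ∈ A ⊔ B ∧ a ≠ 1},
    H25.Sg.csTheta A (b : G) ⊓ H25.Sg.csTheta B (b : G) with hWd
  have hW : OddG W := (isPi_compl_iff Nat.prime_two).2 h1
  have hn : A ⊔ B ≤ N[W] := norm_iSup fun e => le_N_iff.2 fun b hb x hx => f3 e e.2.1 e.2.2 b hb x hx
  have k1 : ∀ a ∈ A, a ≠ 1 → ∀ b ∈ B, b ≠ 1 → W ⊓ C{a} = th a b := fun a ha ha1 b hb hb1 =>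
    hF.inf_eq hW (le_sup_right.trans hn) h2 ha ha1 hb hb1
  have k2 : ∀ a ∈ A, a ≠ 1 → ∀ b ∈ B, b ≠ 1 → W ⊓ C{b} = th b a := fun a ha ha1 b hb hb1 =>
    hF.symm.inf_eq hW (le_sup_left.trans hn)
      (fun e he he1 => by rw [inf_comm (H25.Sg.csTheta B e)]; exact h2 e (sup_comm B A ▸ he) he1)
      hb hb1 ha ha1
  exact ⟨W, hW, fun a ha ha1 b hb hb1 => ⟨k1 a ha ha1 b hb hb1,
    hF.eq_Wf hW (le_sup_left.trans hn) fun a ha ha1 => k1 a ha ha1 b hb hb1,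
    hF.symm.eq_Wf hW (le_sup_right.trans hn) fun b hb hb1 => k2 a ha ha1 b hb hb1⟩⟩

theorem cp2_cent {O : Subgroup G} (hO : OddG O) (hP : TwoG P) (hPO : P ≤ N[O]) (h : ⁅K, P⁆ ≤ O)
    (hk : k ∈ K) : ∃ o ∈ O, o * k ∈ C[P] := by
  have hS : Syl 2 (O ⊔ P) P := (isProd_sup hPO).hall_right hO hP
  have h1 : cj k P ≤ O ⊔ P := fun x hx => by
    obtain ⟨y, hy, rfl⟩ := mem_cj'.1 hx
    have := mul_mem (mem_sup_left (T := P) (h (commutator_mem_commutator hk hy))) (mem_sup_right hy)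
    simpa [commutatorElement_def] using this
  obtain ⟨g, hg, h2⟩ := Sylow_Jsub Nat.prime_two hS (hP.cj k) h1
  obtain ⟨y, hy, o, ho, rfl⟩ := (isProd_sup hPO).symm.mul g hg
  rw [cj_mul, cj_le_iff, cj_of_mem (inv_mem hy), ← cj_mul] at h2
  refine ⟨o, ho, mem_C'.2 fun x hx => ?_⟩
  have a1 : ⁅o * k, x⁆ ∈ P := mul_mem (h2 (conj_mem_cj _ hx)) (inv_mem hx)
  have a2 : ⁅o * k, x⁆ ∈ O := by
    have := mul_mem (mul_mem ho (h (commutator_mem_commutator hk hx)))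
      (conj_mem (hPO hx) (inv_mem ho))
    convert this using 1
    simp only [commutatorElement_def]
    group
  exact commutatorElement_eq_one_iff_mul_comm.1 (mem_bot.1 ((hP.inf_eq_bot hO).le ⟨a1, a2⟩))

namespace Fam

variable (F : Fam E) {i j l : F.ι} {c : Bool}

/-- four-groups of `E_i` -/
structure Fq (i : F.ι) (A : Subgroup G) : Prop where
  le : A ≤ F.Ei i
  ea : EA A
  card : ♯A = 4

/-- `W` is the signalizer group of all frames in `E_i × E_j` -/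
def All (i j : F.ι) (W : Subgroup G) : Prop :=
  ∀ A B, F.Fq i A → F.Fq j B → ∀ b ∈ B, b ≠ 1 → Wf A b = W

variable {F}

theorem Fq.le_W (h : F.Fq i A) : ∃ c, A ≤ F.W i c := by
  by_contra! hn
  obtain ⟨x, hx, x1⟩ := SetLike.not_le_iff_exists.1 (hn true)
  obtain ⟨y, hy, y1⟩ := SetLike.not_le_iff_exists.1 (hn false)
  have k := fun z (hz : z ∈ A) => Bool.exists_bool.1 (F.inv_mem (h.le hz) (h.ea.sq hz))
  rcases k _ (mul_mem hx hy) with e | e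
  · exact y1 ((mul_mem_cancel_left ((k x hx).resolve_right x1)).1 e)
  · exact x1 ((mul_mem_cancel_right ((k y hy).resolve_left y1)).1 e)

theorem Fq.ne (h : F.Fq i A) : ∃ a ∈ A, a ≠ 1 := exists_ne_one fun e => by
  have := h.card
  rw [e, card_bot] at this
  omega

theorem fq_of (hx : x ∈ F.Ei i) (x1 : x ≠ 1) (x2 : x * x = 1) (hy : y ∈ F.Y i) (y1 : y ≠ 1) :
    ∃ A, F.Fq i A ∧ x ∈ A ∧ y ∈ A := by
  have k : ∀ x ∈ F.Ei i, x ≠ 1 → x * x = 1 → y ≠ x → ∃ A, F.Fq i A ∧ x ∈ A ∧ y ∈ A := fun x hx x1 x2 ne =>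
    have c := (mem_C'.1 (F.Y_le i hy).2 x (F.Ei_le i hx)).symm
    ⟨H25.Sg.four x y, ⟨H25.Sg.four_le hx (F.Y_le i hy).1, H25.Sg.ea_four x2 (F.Y_sq hy) c,
      le_antisymm (H25.Sg.card_four_le x2 (F.Y_sq hy) c) (H25.Sg.four_le_card
        (H6.orderOf_eq_two_of x2 x1) (H6.orderOf_eq_two_of (F.Y_sq hy) y1) c ne)⟩,
      H25.Sg.left_mem_four x y, H25.Sg.right_mem_four x y⟩
  by_cases e : y = x
  · obtain ⟨w, hw, w1⟩ := SetLike.not_le_iff_exists.1 (F.half i true).not_le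
    obtain ⟨A, h1, -, h2⟩ := k w (F.W_le i true hw) (fun e => w1 (e ▸ one_mem _))
      ((F.half i true).ea.sq hw) fun e => w1 (e ▸ hy.2)
    exact ⟨A, h1, e ▸ h2, h2⟩
  · exact k x hx x1 x2 e

theorem exY (i : F.ι) : ∃ y ∈ F.Y i, y ≠ 1 := exists_ne_one (F.Y_ne i)

theorem fq_of' (hx : x ∈ F.Ei i) (x1 : x ≠ 1) (x2 : x * x = 1) : ∃ A, F.Fq i A ∧ x ∈ A := by
  obtain ⟨y, hy, y1⟩ := exY i
  obtain ⟨A, h1, h2, -⟩ := fq_of hx x1 x2 hy y1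
  exact ⟨A, h1, h2⟩

theorem Fq.conj (h : F.Fq i A) (hg : cj g A ≤ F.Ei j) : F.Fq j (cj g A) :=
  ⟨hg, ea_cj h.ea g, (card_cj g A).trans h.card⟩

theorem Fq.fr (hA : F.Fq i A) (hB : F.Fq j B) (hij : i ≠ j) : Fr Set.univ Set.univ A B :=
  ⟨hA.ea, hA.card, fun _ _ => trivial, hB.ea, hB.card, fun _ _ => trivial,
    hA.le.trans ((F.comm i j hij).trans (C_anti hB.le))⟩

theorem Fq.exW (hA : F.Fq i A) (hB : F.Fq j B) (hij : i ≠ j) : ∃ W, OddG W ∧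
    ∀ a ∈ A, a ≠ 1 → ∀ b ∈ B, b ≠ 1 → W ⊓ C{a} = th a b ∧ W = Wf A b ∧ W = Wf B a := by
  have hF := hA.fr hB hij
  refine cp2_W hF (cp2_cs hF (le_bot_iff.1 ((inf_le_inf hA.le (hB.le.trans (F.Ei_le_EI
    (I := {i}ᶜ) hij.symm))).trans (F.indep i).le)) fun e he e1 => ?_)
  obtain ⟨a, ha, b, hb, rfl⟩ := (mem_sup_of_norm (norm_of_cent (cents_symm hF.cent))).1 he
  obtain ⟨c, hc⟩ := hA.le_W
  obtain ⟨d, hd⟩ := hB.le_W
  obtain ⟨k, hk, hx⟩ := F.conj_Y (hc ha)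
  obtain ⟨m, hm, hy⟩ := F.conj_Y (hd hb)
  have kC : k ∈ C[F.Ei j] := F.JC i c j hij.symm hk
  have mC : m ∈ C[F.Ei i] := F.JC j d i hij hm
  have kW := (F.halfJ i c).norm hk
  have mW := (F.halfJ j d).norm hm
  have e : m * k * (a * b) * (m * k)⁻¹ = k * a * k⁻¹ * (m * b * m⁻¹) := by
    rw [← conj_eq_of_mem_C mC (F.Y_le i hx).1]
    nth_rewrite 2 [← conj_eq_of_mem_C kC (hB.le hb)]
    group
  obtain ⟨K, K1, K2, h1, h2, -, h3, h4, h5⟩ := F.sep hij hx hy (by rwa [← e, Ne, conj_eq_one_iff'])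
  rw [← e, ← cj_C1] at h1 h5
  refine ⟨cj (m * k)⁻¹ K1, cj (m * k)⁻¹ K2, cj_inv_cj (m * k) C{a * b} ▸ (h2.sbn.nml_trans h1).cj (m * k)⁻¹,
    cj_le_iff.1 (le_trans ?_ h3), cj_le_iff.1 (le_trans ?_ h4), ?_⟩
  · rw [cj_mul, ← cj_of_mem_N (C_le_N _ mC)]
    exact cj_mono m ((cj_mono k hc).trans ((cj_of_mem_N kW).le.trans (F.W_le i c)))
  · rw [cj_mul, cj_of_mem_N (C_le_N _ (C_anti hB.le kC))]
    exact (cj_mono m hd).trans ((cj_of_mem_N mW).le.trans (F.W_le j d))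
  · rw [← cj_comm, cj_le_iff, inv_inv, ← pcore_cj]
    exact h5

theorem Fq.symm (hA : F.Fq i A) (hB : F.Fq j B) (hij : i ≠ j) (hx : x ∈ A) (x1 : x ≠ 1) (hy : y ∈ B)
    (y1 : y ≠ 1) : Wf A y = Wf B x := by
  obtain ⟨W, -, h⟩ := hA.exW hB hij
  exact (h x hx x1 y hy y1).2.1.symm.trans (h x hx x1 y hy y1).2.2

theorem Fq.to_Y (hA : F.Fq i A) (hB : F.Fq j B) (hij : i ≠ j) (hx : x ∈ F.Y i) (x1 : x ≠ 1)
    (hy : y ∈ B) (y1 : y ≠ 1) : Wf A y = Wf B x := by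
  obtain ⟨a, ha, a1⟩ := hA.ne
  obtain ⟨A', h1, h2, h3⟩ := fq_of (hA.le ha) a1 (hA.ea.sq ha) hx x1
  rw [hA.symm hB hij ha a1 hy y1, ← h1.symm hB hij h2 a1 hy y1, h1.symm hB hij h3 x1 hy y1]

theorem exAll (hij : i ≠ j) : ∃ W, F.All i j W := by
  obtain ⟨x, hx, x1⟩ := exY i
  obtain ⟨y, hy, y1⟩ := exY j
  obtain ⟨A0, h1, h2⟩ := fq_of' (F.Y_le i hx).1 x1 (F.Y_sq hx)
  exact ⟨Wf A0 y, fun A B hA hB b hb b1 =>
    (hA.to_Y hB hij hx x1 hb b1).trans (hB.to_Y h1 hij.symm hy y1 h2 x1)⟩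

theorem All.symm (h : F.All i j W) (hij : i ≠ j) : F.All j i W := fun B A hB hA a ha a1 => by
  obtain ⟨b, hb, b1⟩ := hB.ne
  rw [hB.symm hA hij.symm hb b1 ha a1, h A B hA hB b hb b1]

theorem All.spec (h : F.All i j W) (hij : i ≠ j) (hx : x ∈ F.Ei i) (x1 : x ≠ 1) (x2 : x * x = 1)
    (hy : y ∈ F.Ei j) (y1 : y ≠ 1) (y2 : y * y = 1) : OddG W ∧ W ⊓ C{x} = th x y := by
  obtain ⟨A, hA, h1⟩ := fq_of' hx x1 x2
  obtain ⟨B, hB, h2⟩ := fq_of' hy y1 y2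
  obtain ⟨W', h3, h4⟩ := hA.exW hB hij
  obtain rfl := (h4 x h1 x1 y h2 y1).2.1.trans (h A B hA hB y h2 y1)
  exact ⟨h3, (h4 x h1 x1 y h2 y1).1⟩

theorem All.norm {i' j' : F.ι} (h : F.All i j W) (h' : F.All i' j' W) (hA : F.Fq i A) (hB : F.Fq j B)
    (h1 : cj g A ≤ F.Ei i') (hy : y ∈ B) (y1 : y ≠ 1) (h2 : g * y * g⁻¹ ∈ F.Ei j') : g ∈ N[W] := by
  have y1' : g * y * g⁻¹ ≠ 1 := by rwa [Ne, conj_eq_one_iff']
  obtain ⟨B', h3, h4⟩ := fq_of' h2 y1' (conj_sq (hB.ea.sq hy) g)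
  have := h' _ _ (hA.conj h1) h3 _ h4 y1'
  rwa [← cj_Wf, h A B hA hB y hy y1, ← mem_N_iff_cj] at this

theorem All.J (h : F.All i j W) (hij : i ≠ j) : F.J i c ≤ N[W] := fun k hk => by
  obtain ⟨y, hy, y1⟩ := exY j
  obtain ⟨B, hB, h1⟩ := fq_of' (F.Y_le j hy).1 y1 (F.Y_sq hy)
  obtain ⟨x, hx, x1⟩ := exY i
  obtain ⟨w, hw, w1⟩ := SetLike.not_le_iff_exists.1 (F.half i c).not_le
  obtain ⟨A, hA, h2⟩ := fq_of' (F.W_le i c hw) (fun e => w1 (e ▸ one_mem _)) ((F.half i c).ea.sq hw)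
  obtain ⟨d, hd⟩ := hA.le_W
  obtain rfl : c = d := by_contra fun e => w1 (Bool.eq_not.2 (Ne.symm e) ▸ hd h2)
  refine h.norm h hA hB ((cj_mono k hd).trans ((cj_of_mem_N ((F.halfJ i c).norm hk)).le.trans
    (F.W_le i c))) h1 y1 ?_
  rw [conj_eq_of_mem_C (F.JC i c j hij.symm hk) (F.Y_le j hy).1]
  exact (F.Y_le j hy).1

theorem All.Od (h : F.All i j W) (hij : i ≠ j) (hx : x ∈ F.Y i) (x1 : x ≠ 1) (hy : y ∈ F.Y j)
    (y1 : y ≠ 1) : Od[C{x} ⊓ C{y}] ≤ N[W] := by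
  obtain ⟨A, hA, ha⟩ := fq_of' (F.Y_le i hx).1 x1 (F.Y_sq hx)
  obtain ⟨B, hB, hb⟩ := fq_of' (F.Y_le j hy).1 y1 (F.Y_sq hy)
  have hF := hA.fr hB hij
  set O := Od[C{x} ⊓ C{y}] with hO
  have hOo : OddG O := Od_odd _
  have hOle : O ≤ C{x} ⊓ C{y} := pcore_le _ _
  have hnO : C{x} ⊓ C{y} ≤ N[O] := (pcore_nml _ _).norm
  have nA : A ≤ N[O] := (le_inf (hF.AC ha) (hF.symm.BC hb)).trans hnO
  have nB : B ≤ N[O] := (le_inf (hF.BC ha) (hF.symm.AC hb)).trans hnO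
  refine (odd_le_sup hOo hF.eA.two nA).trans (sup_le ?_ (h A B hA hB y hb y1 ▸
    norm_Wf (norm_of_cent inf_le_right) (inf_le_left.trans (hOle.trans inf_le_right))))
  have hY : ⁅O, A⁆ ≤ O := comm_le_left nA
  have hYo : OddG ⁅O, A⁆ := hOo.of_le hY
  have hBY : B ≤ N[⁅O, A⁆] := norm_comm nB (norm_of_cent (cents_symm hF.cent))
  refine (odd_le_sup hYo hF.eB.two hBY).trans (sup_le ?_ (h.symm hij B A hB hA x ha x1 ▸
    norm_Wf (norm_of_cent inf_le_right) (inf_le_left.trans (hY.trans (hOle.trans inf_le_left)))))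
  obtain ⟨s1, s2⟩ := F.scl_Y hx x1
  have h1 : ⁅⁅O, A⁆, B⁆ ≤ Od[C{x}] := by
    refine le_trans (commutator_mono ?_ (hB.le.trans ((F.Ei_le_EI (I := {i}ᶜ) hij.symm).trans
      (le_ncl _ _)))) (s1.prod s2 (cents_symm ((F.EI_cent disjoint_compl_left).trans
        (C_anti (F.EI_single i).ge))) (F.indep i))
    exact (comm_mono_right (hA.le.trans (le_ncl _ _))).trans
      (comm_le_right ((hOle.trans inf_le_left).trans (ncl_nml s1.le).norm))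
  refine le_trans ?_ (norm_self _)
  rw [← coprime_commGid hBY (cop hYo hF.eB.two) hYo.sol]
  refine (comm_mono_left h1).trans (commutator_le.2 fun u hu v hv => ?_)
  by_cases v1 : v = 1
  · simp [v1]
  exact h A B hA hB v hv v1 ▸ th_le_Wf ha x1 v (mem_sup_left (commutator_mem_commutator hu (mem_zpowers v)))

theorem All.cent (h : F.All i j W) (hij : i ≠ j) (hx : x ∈ F.Y i) (x1 : x ≠ 1) (hy : y ∈ F.Y j)
    (y1 : y ≠ 1) : C{x} ⊓ C{y} ≤ N[W] := fun g hg => by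
  obtain ⟨A, hA, ha⟩ := fq_of' (F.Y_le i hx).1 x1 (F.Y_sq hx)
  obtain ⟨B, hB, hb⟩ := fq_of' (F.Y_le j hy).1 y1 (F.Y_sq hy)
  have ED : E ≤ C{x} ⊓ C{y} := le_inf (mem_C_iff_le_C1.1 (F.Y_le i hx).2) (mem_C_iff_le_C1.1 (F.Y_le j hy).2)
  have s1 := (F.scl_Y hx x1).1.mono inf_le_left ((F.Ei_le i).trans ED)
  have s2 := (F.scl_Y hy y1).1.mono inf_le_right ((F.Ei_le j).trans ED)
  obtain ⟨k, hk, n, hn, rfl⟩ := s2.frattini'.mul g hg
  have h1 := s2.prod s1 (F.comm j i hij.symm) (le_bot_iff.1 ((inf_le_inf_left _ (F.Ei_le_EI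
    (I := {j}ᶜ) hij)).trans (F.indep j).le))
  obtain ⟨o, ho, h2⟩ := cp2_cent (Od_odd _) hA.ea.two (hA.le.trans (s1.le.trans (pcore_nml _ _).norm))
    ((comm_mono_right (hA.le.trans (le_ncl _ _))).trans h1) hk
  refine mul_mem ((mul_mem_cancel_left (h.Od hij hx x1 hy y1 ho)).1 ?_) ((h.symm hij).norm (h.symm hij)
    hB hA ((cj_mono n hB.le).trans (cj_of_mem_N hn.2).le) ha x1 ?_)
  · exact h A B hA hB y hb y1 ▸ norm_Wf (X := C[A] ⊓ C{y}) (norm_of_cent inf_le_left) inf_le_right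
      ⟨h2, (mul_mem (pcore_le _ _ ho) ((ncl_nml s2.le).le hk)).2⟩
  · rw [mem_C1_iff_conj.1 hn.1.1]; exact (F.Y_le i hx).1

theorem All.le (hL : F.AllLoc) (h : F.All i j W) (h' : F.All l j X) (hij : i ≠ j) (hil : i ≠ l)
    (hjl : j ≠ l) : W ≤ X := by
  obtain ⟨x, hx, x1⟩ := exY i
  obtain ⟨y, hy, y1⟩ := exY j
  obtain ⟨z, hz, z1⟩ := exY l
  obtain ⟨A, hA, -⟩ := fq_of' (F.Y_le i hx).1 x1 (F.Y_sq hx)
  obtain ⟨B, hB, hb⟩ := fq_of' (F.Y_le j hy).1 y1 (F.Y_sq hy)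
  obtain ⟨U, hU, -⟩ := fq_of' (F.Y_le l hz).1 z1 (F.Y_sq hz)
  have yE := (F.Y_le j hy).1
  have y2 := F.Y_sq hy
  rw [← h A B hA hB y hb y1, ← h' U B hU hB y hb y1]
  refine Wf_le fun a ha a1 => ?_
  obtain ⟨o1, e1⟩ := h.spec hij (hA.le ha) a1 (hA.ea.sq ha) yE y1 y2
  obtain ⟨-, e2⟩ := (h.symm hij).spec hij.symm yE y1 y2 (hA.le ha) a1 (hA.ea.sq ha)
  have ya : y ∈ C{a} := (hA.fr hB hij).BC ha hb
  have nt : ∀ g ∈ C{a} ⊓ C{y}, g ∈ N[th a y] := fun g hg => by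
    rw [mem_N_iff_cj, cj_th, mem_C1_iff_conj.1 hg.1, mem_C1_iff_conj.1 hg.2]
  have o2 : OddG (th a y) := e1 ▸ o1.inf_left _
  refine coprime_abelian_gen_cent1 hU.ea.abl (hU.fr hB hjl.symm).ncyc (fun u hu => nt u
    ⟨(hA.fr hU hil).BC ha hu, (hB.fr hU hjl).BC hb hu⟩) (cop o2 hU.ea.two) fun u hu u1 => ?_
  have o3 : OddG _ := o2.inf_left C{u}
  have n3 : zpowers y ≤ N[th a y ⊓ C{u}] := norm_inf (zpowers_le.2 (nt y ⟨ya, mem_C1.2 rfl⟩))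
    (norm_of_le (zpowers_le.2 ((hU.fr hB hjl.symm).BC hu hb)))
  have t2 := (twoE_of_sq y2).isPi
  have l1 : th a y ⊓ C{u} ≤ Od[C{a}] ⊓ C{u} := inf_le_inf_right _ (th_le ya)
  refine ((odd_le_sup o3 t2 n3).trans (sup_le_sup ?_ ?_)).trans (th_le_Wf hu u1 y)
  · rw [← coprime_commGid n3 (cop o3 t2) o3.sol]
    exact comm_mono_left ((comm_mono_left l1).trans (F.c1a hL hij hil hjl (hA.le ha) a1 (hA.ea.sq ha)
      yE (hU.le hu) u1 (hU.ea.sq hu) y2))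
  · have l2 : th a y ⊓ C{u} ⊓ C[zpowers y] ≤ Od[C{y}] := by
      rw [C_zpowers]
      exact (inf_le_inf_right _ (inf_le_left.trans (e1.ge.trans inf_le_left))).trans
        (e2.le.trans (th_le (mem_C1_comm.1 ya)))
    exact le_inf ((le_inf (le_inf (inf_le_left.trans (l1.trans inf_le_left)) l2)
      (inf_le_left.trans inf_le_right)).trans (F.c1b hL hij hil hjl (hA.le ha) a1 (hA.ea.sq ha) yE y1 y2
        (hU.le hu) u1 (hU.ea.sq hu))) l2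

theorem All.left (hL : F.AllLoc) (h : F.All i j W) (hij : i ≠ j) (hlj : l ≠ j) : F.All l j W := by
  by_cases e : i = l
  · exact e ▸ h
  obtain ⟨X, h'⟩ := exAll hlj
  exact le_antisymm (h'.le hL h hlj (Ne.symm e) hij.symm) (h.le hL h' hij e hlj.symm) ▸ h'

theorem All.all (hL : F.AllLoc) (h : F.All i j W) (hij : i ≠ j) (i' j' : F.ι) (h' : i' ≠ j') :
    F.All i' j' W := by
  by_cases e : i' = j
  · subst e
    exact (h.left hL hij h'.symm).symm h'.symm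
  · exact (((h.left hL hij e).symm e).left hL (Ne.symm e) h'.symm).symm h'.symm

end Fam

open Fam in
theorem Fam.p2 [IsSimpleGroup G] (F : Fam E) (hL : F.AllLoc)
    (h3 : ∀ i j : F.ι, ∃ k, k ≠ i ∧ k ≠ j) :
    (∃ M, F.Big M) ∨ ∀ i j, i ≠ j → ∀ x ∈ F.Y i, x ≠ 1 → Od[C{x}] ≤ C[F.Ei j] := by
  obtain ⟨j⟩ := F.ne
  obtain ⟨i, hij, -⟩ := h3 j j
  obtain ⟨W, h⟩ := exAll hij
  have h := h.all hL hij
  obtain ⟨x, hx, x1⟩ := exY i
  obtain ⟨y, hy, y1⟩ := exY j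
  by_cases e : W = ⊥
  · refine Or.inr fun i j hij x hx x1 => ?_
    have k : ∀ c, Od[C{x}] ≤ C[F.W j c] := fun c => cents_symm fun w hw => by
      by_cases w1 : w = 1
      · exact w1 ▸ one_mem _
      have := ((h i j hij).spec hij (F.Y_le i hx).1 x1 (F.Y_sq hx) (F.W_le j c hw) w1
        ((F.half j c).ea.sq hw)).2
      rw [e, bot_inf_eq, eq_comm, th, sup_eq_bot_iff, comm_eq_bot] at this
      exact cents_symm this.1 (mem_zpowers w)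
    rw [Ei, C_sup]
    exact le_inf (k true) (k false)
  have hE : N[E] ≤ N[W] := fun n hn => by
    obtain ⟨σ, h1, -⟩ := F.perm' hn
    obtain ⟨A, hA, -⟩ := fq_of' (F.Y_le i hx).1 x1 (F.Y_sq hx)
    obtain ⟨B, hB, hb⟩ := fq_of' (F.Y_le j hy).1 y1 (F.Y_sq hy)
    exact (h i j hij).norm (h _ _ (σ.injective.ne hij)) hA hB ((cj_mono n hA.le).trans (h1 i).le) hb y1
      (h1 j ▸ conj_mem_cj n (hB.le hb))
  refine Or.inl ⟨N[W], fun e' => ?_, hE, fun l z hz z1 => F.c2 hL h3 hz z1 (inf_le_left.trans hE) ?_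
    fun j hj y hy y1 => (h l j hj.symm).cent hj.symm hz z1 hy y1⟩
  · have := (nml_top_iff.1 ⟨le_top, e'.ge⟩).eq_bot_or_eq_top.resolve_left e
    exact x1 (eq_one_of_odd_sq (((h i j hij).spec hij (F.Y_le i hx).1 x1 (F.Y_sq hx) (F.Y_le j hy).1 y1
      (F.Y_sq hy)).1.piElt (this ▸ mem_top x)) (F.Y_sq hx))
  · obtain ⟨m, hm, -⟩ := h3 l l
    obtain ⟨w, hw, w1⟩ := exY m
    obtain ⟨U, hU, -⟩ := fq_of' (F.Y_le m hw).1 w1 (F.Y_sq hw)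
    obtain ⟨B, hB, hb⟩ := fq_of' (F.Y_le l hz).1 z1 (F.Y_sq hz)
    obtain ⟨c, hc⟩ := hU.le_W
    refine coprime_abelian_gen_cent1 hU.ea.abl (hU.fr hB hm).ncyc (norm_Od1 ((hB.fr hU hm.symm).BC hb))
      (cop (Od_odd _) hU.ea.two) fun u hu u1 g hg => ?_
    obtain ⟨k, hk, h1⟩ := F.conj_Y (hc hu)
    have h2 : k * g * k⁻¹ ∈ N[W] := (h m l hm).cent hm h1 (by rwa [Ne, conj_eq_one_iff']) hz z1 ⟨by
      rw [← cj_C1]; exact conj_mem_cj k hg.2, by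
      rw [← conj_eq_of_mem_C (F.JC m c l hm.symm hk) (F.Y_le l hz).1, ← cj_C1]
      exact conj_mem_cj k (pcore_le _ _ hg.1)⟩
    exact (conj_mem_iff (norm_self _ ((h m l hm).J hm hk))).1 h2

end H2.C2
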