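import Mathlib
import Cfsg.Agent.H2.CT1
import Cfsg.Agent.H2.CT2
import Cfsg.Agent.H2.CT3
import Cfsg.Agent.H2.CHB
import Cfsg.Agent.H2.CP0
import Cfsg.Agent.H2.CP0b

set_option autoImplicit false
set_option linter.unusedVariables false
set_option linter.unusedSectionVars false

namespace H2.C2

open Cfsg H24 H26 H26.Gold Subgroup
open scoped commutatorElement

universe u

variable {G : Type u} [Group G] [Finite G]
  {A B D E H K L M N0 P P' Q Q' R R' S T T' U W X a a' b b' b'' v : Subgroup G}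
  {g k n o s t x y z : G} {q : ℕ}

/-! ### CP3 -/

namespace Fam.Loc

variable {F : Fam E} {i j l : F.ι} {Γ : Type u} [Group Γ] [Finite Γ] {f : C{z} →* Γ}
  {Λ : F.ι → Subgroup Γ} (h : F.Loc l z f Λ)
include h

theorem p3_zE : E ≤ C{z} := mem_C_iff_le_C1.1 (F.Y_le l h.mem).2

theorem p3_Ez (i : F.ι) : F.Ei i ≤ C{z} := (F.Ei_le i).trans h.p3_zE

theorem p3_zI (hi : i ≠ l) : C[F.EI {i}ᶜ] ≤ C{z} :=
  C_le_C1 (F.Ei_le_EI (I := {i}ᶜ) hi.symm (F.Y_le l h.mem).1)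

theorem p3_nab (i : F.ι) : ¬ img f (F.Ei i) ≤ C[img f (F.Ei i)] := fun e =>
  (F.half i true).not_abl (abl_of_img (h.p3_Ez i) (by
    rw [h.quo.ker]; exact (Od_odd _).inf_eq_bot' (F.scl.two.of_le (F.Ei_le i))) (abl_iff.2 e))

theorem p3_not_le (hi : i ≠ l) (hj : j ≠ i) : ¬ img f (F.Ei j) ≤ Λ i := fun e =>
  h.p3_nab j ((h.cent i hi j hj).trans (C_anti e))

theorem p3_LL (hi : i ≠ l) (hj : j ≠ l) (hij : i ≠ j) : Λ i ≤ C[Λ j] :=
  comm_eq_bot.1 ((H23.IsComponent.eq_or_comm (h.comp i hi) (h.comp j hj)).resolve_left fun e =>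
    h.p3_not_le hj hij (e ▸ h.le i hi))

theorem p3_perm (hi : i ≠ l) (γ : Γ) : ∃ j, j ≠ l ∧ cj γ (Λ i) = Λ j := by
  by_contra hn
  push Not at hn
  have c : cj γ (Λ i) ≤ C[img f (F.EI {l}ᶜ)] :=
    cents_symm ((img_le_iff ((F.EI_le _).trans h.p3_zE)).2 (iSup₂_le fun j hj =>
      (img_le_iff (h.p3_Ez j)).1 ((h.le j hj).trans (comm_eq_bot'.1 ((H23.IsComponent.eq_or_comm
        (H23.IsComponent.conj (h.comp i hi) γ) (h.comp j hj)).resolve_left (hn j hj))))))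
  have s := SCl.quo h.quo (F.scl_Y h.mem h.ne).2
  have c' := (cj_mono γ (h.le i hi)).trans c
  have m := img_mono f (F.Ei_le_EI (I := {l}ᶜ) hi)
  have k : cj γ (img f (F.Ei i)) ≤ img f (F.EI {l}ᶜ) := fun x hx => by
    obtain ⟨a, ha, rfl⟩ := mem_cj'.1 hx
    exact s.max _ (s.two.sup ((s.two.of_le m).cj γ) (norm_of_cent c')) le_sup_left le_top a (m ha) γ
      (mem_top _) (mem_sup_right hx)
  exact h.p3_nab i (abl_iff.1 (abl_cj.1 (abl_iff.2 (c'.trans (C_anti k)))))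

theorem p3_fix (hi : i ≠ l) (hc : g ∈ C[F.EI {i}ᶜ]) : cj (ap f g) (Λ i) = Λ i := by
  obtain ⟨j, hj, e⟩ := h.p3_perm hi (ap f g)
  by_cases hji : j = i
  · rwa [hji] at e
  refine absurd ((cj_le_cj (g := ap f g)).1 ?_) (h.p3_not_le hi hji)
  rw [cj_of_mem_C (ap_mem_C f (C_anti (F.Ei_le_EI (I := {i}ᶜ) hji) hc) (h.p3_zI hi hc)), e]
  exact h.le j hj

theorem p3_cj (hi : i ≠ l) (hg : g ∈ C{z}) (e : cj (ap f g) (Λ i) = Λ j) :
    cj g (F.Ei i) ≤ pre f (Λ j) :=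
  (img_le_iff (cj_le_of_mem (h.p3_Ez i) hg)).1 (by
    rw [img_cj f hg, ← e]; exact cj_mono _ (h.le i hi))

theorem p3_T (hj : j ≠ l) : F.EI {l}ᶜ ⊓ pre f (Λ j) = F.Ei j := by
  refine le_antisymm (fun x hx => ?_)
    (le_inf (F.Ei_le_EI (I := {l}ᶜ) hj) ((img_le_iff (h.p3_Ez j)).1 (h.le j hj)))
  have xE := F.EI_le _ hx.1
  rw [← F.EI_single, F.mem_EI_iff xE]
  intro m hm
  by_contra hmj
  by_cases hml : m = l
  · exact hm (hml ▸ hx.1)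
  have hN : ∀ c, ncl (F.J m c) (F.Ei m) ≤ N[pre f (Λ j)] := fun c =>
    (ncl_le' fun g hg => h.p3_cj hml (h.p3_zI hml (F.J_cent m c hg))
      (h.p3_fix hml (F.J_cent m c hg))).trans (pre_norm f (norm_of_cent (h.p3_LL hml hj hmj)))
  exact hm (F.nt hN ((F.ni hN).resolve_right fun e => h.p3_not_le hj hmj (img_le_of_le_pre e))
    (mem_inf.2 ⟨xE, hx.2⟩))

theorem p3_cjK (hi : i ≠ l) (hj : j ≠ l) (hg : g ∈ C{z}) (e : cj (ap f g) (Λ i) = Λ j) :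
    ∃ k ∈ ncl (pre f (Λ j)) (F.Ei j), cj g (F.Ei i) ≤ cj k (F.Ei j) := by
  have s := (F.scl_Y h.mem h.ne).2
  have mx := s.mx_inf (pre_le f (Λ j)) (iSup₂_le fun m _ => norm_pre (h.p3_Ez m) (by
    by_cases hm : m = j
    · exact norm_of_le (hm ▸ h.le j hj)
    · exact norm_of_cent (h.cent j hj m hm)))
  rw [h.p3_T hj] at mx
  obtain ⟨k, hk, e1⟩ := Mx.conj_le s (pre_le f _) mx (h.p3_cj hi hg e)
    ((F.scl.two.of_le (F.Ei_le i)).cj g) fun x hx => by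
      obtain ⟨a, ha, rfl⟩ := mem_cj'.1 hx
      exact mem_hc (F.Ei_le_EI (I := {l}ᶜ) hi ha) hg
  exact ⟨k⁻¹, Subgroup.inv_mem _ hk, cj_le_iff.1 e1⟩

theorem p3_cen (hO : Od[C{z}] ≤ C[F.Ei i]) (hx : x ∈ C{z}) (h1 : ap f x ∈ C[Λ i])
    (h2 : x ∈ C[F.Ei i]) : x ∈ C[ncl (pre f (Λ i)) (F.Ei i)] :=
  mem_C_iff_le_C1.2 (ncl_le' fun g hg y hy => by
    obtain ⟨a, ha, rfl⟩ := mem_cj'.1 hy
    obtain ⟨g1, g2⟩ := mem_pre.1 hg
    have ho := (h.quo.eq_iff g1 (mul_mem (mul_mem hx g1) (Subgroup.inv_mem _ hx))).1 (by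
      rw [ap_conj f hx g1, conj_eq_of_mem_C h1 g2])
    rw [mem_C1_comm, mem_C1_iff_conj]
    calc _ = g * (g⁻¹ * (x * g * x⁻¹) * (x * a * x⁻¹) * (g⁻¹ * (x * g * x⁻¹))⁻¹) * g⁻¹ := by group
      _ = _ := by rw [conj_eq_of_mem_C h2 ha, conj_eq_of_mem_C (hO ho) ha])

theorem p3_K (hi : i ≠ l) (hO : Od[C{z}] ≤ C[F.Ei i]) :
    ncl (pre f (Λ i)) (F.Ei i) ≤ C[F.EI {i}ᶜ] :=
  cents_symm (iSup₂_le fun j hj e he => h.p3_cen hO (h.p3_Ez j he)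
    (h.cent i hi j hj (ap_mem_img f he (h.p3_Ez j he))) (F.comm j i hj he))

theorem p3_KL (hi : i ≠ l) : ncl (pre f (Λ i)) (F.Ei i) ≤ pre f (Λ i) :=
  (ncl_nml ((img_le_iff (h.p3_Ez i)).1 (h.le i hi))).le

theorem p3_Lam (hi : i ≠ l) : F.Lam i ≤ ncl (pre f (Λ i)) (F.Ei i) :=
  ncl_le' fun g hg => by
    obtain ⟨k, hk, e⟩ := h.p3_cjK hi hi (h.p3_zI hi hg) (h.p3_fix hi hg)
    exact e.trans (cj_le_ncl (h.p3_KL hi hk))

end Fam.Loc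

theorem Fam.p3 [IsSimpleGroup G] (F : Fam E) (hL : F.AllLoc)
    (h3 : ∀ i j : F.ι, ∃ k, k ≠ i ∧ k ≠ j)
    (h : ∀ i j, i ≠ j → ∀ x ∈ F.Y i, x ≠ 1 → Od[C{x}] ≤ C[F.Ei j]) : ∃ M, F.Big M := by
  have EC : ∀ i, F.Ei i ≤ C[F.EI {i}ᶜ] := fun i =>
    F.EI_single i ▸ F.EI_cent disjoint_compl_right
  have LN : ∀ i, F.Lam i ⊴ C[F.EI {i}ᶜ] := fun i => ncl_nml (EC i)
  have LC : ∀ i j, i ≠ j → F.Lam j ≤ C[F.Lam i] := fun i j hij e he => by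
    obtain ⟨k, ki, kj⟩ := h3 i j
    obtain ⟨z, hz, z1⟩ := exists_ne_one (F.Y_ne k)
    obtain ⟨Γ, _, _, f, Λ, hl⟩ := hL k z hz z1
    obtain ⟨e1, e2⟩ := mem_pre.1 (hl.p3_KL kj.symm (hl.p3_Lam kj.symm he))
    exact C_anti (hl.p3_Lam ki.symm) (hl.p3_cen (h k i ki z hz z1) e1
      (hl.p3_LL kj.symm ki.symm hij.symm e2) (C_anti (F.Ei_le_EI (I := {j}ᶜ) hij) ((LN j).le he)))
  have NE : N[E] ≤ N[⨆ i, F.Lam i] := fun n hn => by
    obtain ⟨σ, h1, -, h2⟩ := F.perm' hn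
    refine mem_N_of_cj_le (cj_le_iff.2 (iSup_le fun i => cj_le_iff.1 ?_))
    rw [Fam.Lam, cj_ncl, cj_C, h1, h2, Equiv.image_compl, Set.image_singleton]
    exact le_iSup F.Lam (σ i)
  refine ⟨N[⨆ i, F.Lam i], fun e => ?_, NE, fun k z hz z1 => ?_⟩
  · obtain ⟨i⟩ := F.ne
    obtain ⟨j, hj, -⟩ := h3 i i
    have n1 : F.Lam i ≠ ⊥ :=
      ne_bot_of_le (F.Y_ne i) (((F.Y_le i).trans inf_le_left).trans (le_ncl _ _))
    have e1 := (normalizer_eq_top_iff.1 e).eq_bot_or_eq_top.resolve_left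
      (ne_bot_of_le n1 (le_iSup F.Lam i))
    have e2 := (normalizer_eq_top_iff.1 (top_le_iff.1 (e1.ge.trans (iSup_le fun m => by
      by_cases hm : m = i
      · exact hm ▸ norm_self _
      · exact norm_of_cent (LC i m (Ne.symm hm)))))).eq_bot_or_eq_top.resolve_left n1
    exact (F.half j true).not_abl (abl_iff.2 (le_top.trans (e2.ge.trans
      ((LN i).le.trans (C_anti (F.Ei_le_EI (I := {i}ᶜ) hj))))))
  obtain ⟨Γ, _, _, f, Λ, hl⟩ := hL k z hz z1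
  obtain ⟨s1, s2⟩ := F.scl_Y hz z1
  have e1 : (⨆ i, F.Lam i) = F.Lam k ⊔ ncl C{z} (F.EI {k}ᶜ) := by
    refine le_antisymm (iSup_le fun j => ?_) (sup_le (le_iSup F.Lam k) (ncl_le' fun g hg =>
      cj_le_iff.2 (iSup₂_le fun i hi => cj_le_iff.1 ?_)))
    · by_cases hj : j = k
      · exact hj ▸ le_sup_left
      · exact le_sup_of_le_right (ncl_mono (hl.p3_zI hj) (F.Ei_le_EI (I := {k}ᶜ) hj))
    obtain ⟨j, hj, e⟩ := hl.p3_perm hi (ap f g)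
    obtain ⟨m, hm, e'⟩ := hl.p3_cjK hi hj hg e
    exact e'.trans ((cj_le_ncl (hl.p3_K hj (h k j hj.symm z hz z1) hm)).trans (le_iSup F.Lam j))
  have e2 : ncl C{z} (F.Ei k) ≤ C[F.EI {k}ᶜ] :=
    (le_sup_C_of_comm (Od_odd C{z}) s2.two ((ncl_nml s1.le).le.trans (pcore_nml _ _).norm)
      (s2.le.trans (pcore_nml _ _).norm) ((comm_mono_right (le_ncl _ _)).trans
        (s1.prod s2 (EC k) (F.indep k)))).trans (sup_le (cents_symm (iSup₂_le fun j hj =>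
          cents_symm (h k j (Ne.symm hj) z hz z1))) le_rfl)
  refine (F.scl.mono le_top hl.p3_zE).frattini'.sup_eq.ge.trans
    (sup_le ?_ (inf_le_right.trans NE))
  have e3 : E = F.Ei k ⊔ F.EI {k}ᶜ := by
    rw [← F.EI_single, ← F.EI_union, Set.union_compl_self, F.EI_univ]
  refine (ncl_mono le_rfl e3.le).trans ?_
  rw [ncl_sup, e1]
  exact sup_le (norm_sup (e2.trans (LN k).norm) ((ncl_nml s1.le).le.trans (ncl_nml s2.le).norm))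
    (norm_of_le le_sup_right)

end H2.C2
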