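import Mathlib
import Cfsg.Agent.H2.CT1
import Cfsg.Agent.H2.CT2
import Cfsg.Agent.H2.CT3
import Cfsg.Agent.H2.CHB
import Cfsg.Agent.H2.CP0
import Cfsg.Agent.H2.CP0b
import Cfsg.Agent.H6.ZMain
import Cfsg.Agent.H7.SyG

set_option autoImplicit false
set_option linter.unusedVariables false
set_option linter.unusedSectionVars false

namespace H2.C2

open Cfsg H24 H26 H26.Gold Subgroup
open scoped commutatorElement

universe u

variable {G : Type u} [Group G] [Finite G]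
  {A B D E H K L M N0 P P' Q Q' R R' S T T' U W X a a' b b' b'' v : Subgroup G}
  {g k n o s t x y z : G} {q : ℕ}

/-! ### CP4 -/

namespace Fam.Big

variable {F : Fam E} {i j : F.ι} (hM : F.Big M) (h2 : ∀ i : F.ι, ∃ j, j ≠ i)
include hM h2

theorem p4_J (i : F.ι) (c : Bool) : F.J i c ≤ M := by
  obtain ⟨j, hj⟩ := h2 i
  obtain ⟨y, hy, y1⟩ := exists_ne_one (F.Y_ne j)
  exact (F.J_cent i c).trans ((C_le_C1 (F.Ei_le_EI (I := {i}ᶜ) hj (F.Y_le j hy).1)).trans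
    (hM.2.2 j y hy y1))

theorem p4_fix (ht : t ∈ E) (hc : C{t} ≤ M) (hg : g * t * g⁻¹ ∈ M) : g ∈ M := by
  have EM := (norm_self E).trans hM.2.1
  obtain ⟨l, hl, e⟩ := Mx.conj_le F.scl le_top (F.scl.mx_self le_top EM)
    (D := cj g (zpowers t)) (by rw [cj_zpowers]; exact zpowers_le.2 hg)
    ((F.scl.two.of_le (zpowers_le.2 ht)).cj g) fun x hx => by
      obtain ⟨a, ha, rfl⟩ := mem_cj'.1 hx
      exact mem_hc (zpowers_le.2 ht ha) (mem_top g)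
  obtain ⟨m, hm, e1⟩ := F.ctl (g := l * g) hM.2.1 (hM.p4_J h2) ht (by
    rw [← cj_mul] at e
    exact e (conj_mem_cj _ (mem_zpowers t)))
  have := hc (mem_C1_iff_conj.2 (show m⁻¹ * (l * g) * t * (m⁻¹ * (l * g))⁻¹ = t by
    rw [show m⁻¹ * (l * g) * t * (m⁻¹ * (l * g))⁻¹ = m⁻¹ * (l * g * t * (l * g)⁻¹) * m by group, e1]
    group))
  exact (mul_mem_cancel_left ((ncl_nml EM).le hl)).1 ((mul_mem_cancel_left (Subgroup.inv_mem _ hm)).1 this)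

omit hM h2 in
theorem p4_cj (hk : k ∈ M) (h : C{k * t * k⁻¹} ≤ M) : C{t} ≤ M := by
  rw [← cj_C1, cj_le_iff] at h
  exact h.trans (cj_le_of_mem le_rfl (Subgroup.inv_mem _ hk))

theorem p4_one (ht : t ∈ F.Ei i) (t1 : t ≠ 1) (t2 : t * t = 1) : C{t} ≤ M := by
  obtain ⟨c, hc⟩ := F.inv_mem ht t2
  obtain ⟨k, hk, e⟩ := F.conj_Y hc
  exact p4_cj (hM.p4_J h2 i c hk) (hM.2.2 i _ e (mt conj_eq_one_iff'.1 t1))

theorem p4_pair (hij : i ≠ j) (hx : x ∈ F.Y i) (x1 : x ≠ 1) (hy : y ∈ F.Y j) (y1 : y ≠ 1) :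
    C{x * y} ≤ M := by
  have s : SCl C{x * y} E := F.scl.mono le_top
    (mem_C_iff_le_C1.1 (mul_mem (F.Y_le i hx).2 (F.Y_le j hy).2))
  obtain ⟨s1, s2⟩ := F.scl_pair hij hx x1 hy y1
  refine s.frattini'.sup_eq.ge.trans (sup_le ?_ (inf_le_right.trans hM.2.1))
  have e3 : E = F.Ei i ⊔ F.EI {i}ᶜ := by
    rw [← F.EI_single, ← F.EI_union, Set.union_compl_self, F.EI_univ]
  have e4 := s.ncl_ncl
  generalize ncl C{x * y} E = K at s1 s2 e4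
  have n := (pcore_nml ({2}ᶜ : Set ℕ) K).norm
  have hW := F.half i true
  have OM : Od[K] ≤ M := H7.SJ.gen1 hW.ea (by
      have := hW.two_le
      have := card_pos (F.R i true)
      rw [hW.cardW]; nlinarith) (Od_odd K) (((F.W_le i true).trans s1.le).trans n)
    fun w hw w1 => inf_le_right.trans (hM.p4_one h2 (F.W_le i true hw) w1 (hW.ea.sq hw))
  have pr := s1.prod s2 (F.EI_single i ▸ F.EI_cent disjoint_compl_right) (F.indep i)
  have x' := zpowers_le.2 (F.Y_le i hx).1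
  have y' := zpowers_le.2 (F.Ei_le_EI (I := {i}ᶜ) hij.symm (F.Y_le j hy).1)
  refine e4.ge.trans ((ncl_mono le_rfl e3.le).trans ?_)
  rw [ncl_sup]
  refine sup_le ((le_sup_C_of_comm (Od_odd K) (s2.two.of_le y') ((ncl_nml s1.le).le.trans n)
    ((y'.trans s2.le).trans n) ((comm_mono_right (y'.trans (le_ncl _ _))).trans pr)).trans
      (sup_le OM ?_)) ((le_sup_C_of_comm (Od_odd K) (s1.two.of_le x') ((ncl_nml s2.le).le.trans n)
    ((x'.trans s1.le).trans n) ((comm_mono_right (x'.trans (le_ncl _ _))).trans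
      ((commC _ _).le.trans pr))).trans (sup_le OM ?_)) <;> rw [C_zpowers]
  exacts [hM.2.2 j y hy y1, hM.2.2 i x hx x1]

theorem p4_two (hij : i ≠ j) (hx : x ∈ F.Ei i) (x1 : x ≠ 1) (x2 : x * x = 1) (hy : y ∈ F.Ei j)
    (y1 : y ≠ 1) (y2 : y * y = 1) : C{x * y} ≤ M := by
  obtain ⟨c, hc⟩ := F.inv_mem hx x2
  obtain ⟨k, hk, e⟩ := F.conj_Y hc
  obtain ⟨c', hc'⟩ := F.inv_mem hy y2
  obtain ⟨k', hk', e'⟩ := F.conj_Y hc'
  refine p4_cj (mul_mem (hM.p4_J h2 j c' hk') (hM.p4_J h2 i c hk)) ?_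
  rw [show k' * k * (x * y) * (k' * k)⁻¹ =
      k' * (k * x * k⁻¹) * k'⁻¹ * (k' * (k * y * k⁻¹) * k'⁻¹) by group,
    conj_eq_of_mem_C (F.J_cent i c hk) (F.Ei_le_EI (I := {i}ᶜ) hij.symm hy),
    conj_eq_of_mem_C (F.J_cent j c' hk') (F.Ei_le_EI (I := {j}ᶜ) hij (F.Y_le i e).1)]
  exact hM.p4_pair h2 hij e (mt conj_eq_one_iff'.1 x1) e' (mt conj_eq_one_iff'.1 y1)

theorem p4_nar (ht : t ∈ E) (hc : C{t} ≤ M) : H6.ZD.Nar (G ⧸ M) t := by
  suffices ∀ c : G ⧸ M, t • c = c → c = ((1 : G) : G ⧸ M) from fun a b ha hb => by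
    rw [this a ha, this b hb]
  intro c hc'
  obtain ⟨x, rfl⟩ := QuotientGroup.mk_surjective c
  exact QuotientGroup.eq.2 (by
    simpa using hM.p4_fix h2 (g := x⁻¹) ht hc (by simpa using (H6.smul_coe_eq_iff M _ _).1 hc'))

end Fam.Big

theorem Fam.p4 [IsSimpleGroup G] (F : Fam E) {i j : F.ι} (hij : i ≠ j) (hM : F.Big M) : False := by
  have h2 : ∀ k : F.ι, ∃ l, l ≠ k := fun k => by
    by_cases e : i = k
    exacts [⟨j, e ▸ hij.symm⟩, ⟨i, e⟩]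
  have EM := (norm_self E).trans hM.2.1
  have YE : ∀ {k y}, y ∈ F.Y k → y ∈ E := fun hy => F.Ei_le _ (F.Y_le _ hy).1
  have fx : ∀ y ∈ E, ∀ g : G, (g * y * g⁻¹) • (g : G ⧸ M) = (g : G ⧸ M) := fun y hy g =>
    (H6.smul_coe_eq_iff M _ _).2 (by simpa [mul_assoc] using EM hy)
  have one : ∀ {k y g}, y ∈ F.Y k → y ≠ 1 → g * y * g⁻¹ ∈ E → ∃ l, g * y * g⁻¹ ∈ F.Ei l :=
    fun {k y g} hy y1 e => by
      have := F.ncard_supp (YE hy) e
      rw [F.supp_Ei (F.Y_le _ hy).1 y1, Set.ncard_singleton, Set.ncard_eq_one] at this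
      obtain ⟨l, hl⟩ := this
      exact ⟨l, F.EI_single l ▸ (F.mem_EI_iff e).2 hl.le⟩
  have sm : H6.ZD.Sm (G ⧸ M) {x | ∃ k, ∃ y ∈ F.Y k, y ≠ 1 ∧ ∃ g : G, g * y * g⁻¹ = x} := by
    refine ⟨⟨?_, ?_, ?_, ?_, fun a => ?_, ?_⟩, inferInstance, H26.BR.nontrivial_cosets hM.1⟩
    · rintro _ ⟨k, y, hy, y1, g, rfl⟩
      exact ⟨mt conj_eq_one_iff'.1 y1, conj_sq (F.Y_sq hy) g⟩
    · rintro _ ⟨k, y, hy, y1, g, rfl⟩ x
      exact ⟨k, y, hy, y1, x * g, by group⟩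
    · rintro _ ⟨k, y, hy, y1, g, rfl⟩
      exact ⟨_, fx y (YE hy) g⟩
    · rintro _ ⟨k, y, hy, y1, g, rfl⟩
      exact (hM.p4_nar h2 (YE hy) (hM.2.2 k y hy y1)).conj g
    · obtain ⟨x, rfl⟩ := QuotientGroup.mk_surjective a
      obtain ⟨y, hy, y1⟩ := exists_ne_one (F.Y_ne i)
      exact ⟨_, ⟨i, y, hy, y1, x, rfl⟩, fx y (YE hy) x⟩
    rintro _ ⟨k, y, hy, y1, g, rfl⟩ _ ⟨k', y', hy', y1', g', rfl⟩ hne hc
    obtain ⟨γ, -, hγ⟩ := F.scl.conj_into (H8.PC.two_of_comm (twoE_of_sq (conj_sq (F.Y_sq hy) g))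
      (twoE_of_sq (conj_sq (F.Y_sq hy') g')) hc) le_top
    have m := hγ _ (mem_sup_left (mem_zpowers _)) (mem_hc (YE hy) (mem_top g))
    have m' := hγ _ (mem_sup_right (mem_zpowers _)) (mem_hc (YE hy') (mem_top g'))
    have e : ∀ g y : G, γ * (g * y * g⁻¹) * γ⁻¹ = γ * g * y * (γ * g)⁻¹ := fun g y => by group
    obtain ⟨l, hl⟩ := one hy y1 (e g y ▸ m)
    obtain ⟨l', hl'⟩ := one hy' y1' (e g' y' ▸ m')
    have u1 : γ * g * y * (γ * g)⁻¹ ≠ 1 := mt conj_eq_one_iff'.1 y1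
    have u2 := conj_sq (F.Y_sq hy) (γ * g)
    have v1 : γ * g' * y' * (γ * g')⁻¹ ≠ 1 := mt conj_eq_one_iff'.1 y1'
    have v2 := conj_sq (F.Y_sq hy') (γ * g')
    rw [← e] at hl hl' u1 u2 v1 v2
    have s1 := conj_sq (F.Y_sq hy) g
    have s2 := conj_sq (F.Y_sq hy') g'
    generalize g * y * g⁻¹ = u at *
    generalize g' * y' * g'⁻¹ = w at *
    rw [show u * w = γ⁻¹ * (γ * u * γ⁻¹ * (γ * w * γ⁻¹)) * γ⁻¹⁻¹ by group]
    refine (hM.p4_nar h2 (mul_mem m m') ?_).conj _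
    by_cases ll : l = l'
    · subst ll
      refine hM.p4_one h2 (mul_mem hl hl') ?_ ?_ <;>
        rw [show γ * u * γ⁻¹ * (γ * w * γ⁻¹) = γ * (u * w) * γ⁻¹ by group]
      · exact mt conj_eq_one_iff'.1 fun e => hne (by
          rw [← inv_eq_of_mul_eq_one_right e, inv_eq_of_mul_eq_one_right s1])
      · exact conj_sq (by rw [mul_assoc, ← mul_assoc w, ← hc, mul_assoc, s2, mul_one, s1]) γ
    · exact hM.p4_two h2 ll hl u1 u2 hl' v1 v2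
  obtain ⟨H, hH⟩ := F.scl.bender (ne_bot_of_le (F.Y_ne i) fun _ => YE) hM.1 fun t ht t1 t2 g hg => by
    have := sm.nar ⟨t1, t2⟩ ((g⁻¹ : G) : G ⧸ M) ((1 : G) : G ⧸ M)
      ((H6.smul_coe_eq_iff M _ _).2 (by rw [inv_inv, mem_C1_iff_conj.1 hg]; exact EM ht))
      ((H6.smul_coe_eq_iff M _ _).2 (by simpa using EM ht))
    simpa using QuotientGroup.eq.1 this
  have k : ∀ c, F.W i c ≤ C[E] := fun c w hw =>
    se_central hH F.scl.two (F.Ei_le i (F.W_le i c hw)) ((F.half i c).ea.sq hw)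
  exact (F.half i true).not_abl (abl_iff.2 ((sup_le (k _) (k _)).trans (C_anti (F.Ei_le i))))

end H2.C2
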