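import Mathlib
import Cfsg.Agent.H2.CF5
import Cfsg.Agent.H2.CH3
import Cfsg.Agent.H2.CP2
import Cfsg.Agent.H2.CP3
import Cfsg.Agent.H2.CP4
import Cfsg.Agent.H2.CP1b

set_option autoImplicit false
set_option linter.unusedVariables false
set_option linter.unusedSectionVars false

namespace H2.C2

open Cfsg H24 H26 H26.Gold Subgroup
open scoped commutatorElement

universe u

variable {G : Type u} [Group G] [Finite G]
  {A B D E H K L M N0 P P' Q Q' R R' S T T' U W X a a' b b' b'' v : Subgroup G}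
  {g k n o s t x y z : G} {q : ℕ}

theorem Cl2.of_le (h : Cl2 A) (hB : B ≤ A) : Cl2 B :=
  cents_of_le ((der1_mono hB).trans h) hB

theorem exists_min_scl (h : SCl ⊤ A) (h1 : A ≠ ⊥) :
    ∃ B ≤ A, SCl ⊤ B ∧ B ≠ ⊥ ∧ ∀ D ≤ B, SCl ⊤ D → D = ⊥ ∨ D = B := by
  obtain ⟨B, hB, hm⟩ := WellFounded.has_min (wellFounded_lt (α := Subgroup G))
    {B | B ≤ A ∧ SCl ⊤ B ∧ B ≠ ⊥} ⟨A, le_rfl, h, h1⟩
  exact ⟨B, hB.1, hB.2.1, hB.2.2, fun D hD hs => or_iff_not_imp_left.2 fun h0 =>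
    hD.eq_of_not_lt (hm D ⟨hD.trans hB.1, hs, h0⟩)⟩

theorem main_of [IsSimpleGroup G]
    (ih : ∀ (X : Type u) [Group X] [Finite X], Nat.card X < Nat.card G → IsSimpleGroup X → CI X)
    (h : SCl ⊤ A) (h2 : Cl2 A) (hna : ¬ Abl A) :
    (∃ M : Subgroup G, IsStronglyEmbedded M) ∨ ∃ W X R R' q, Amal W X R R' q ∧ A = W ⊔ X := by
  obtain ⟨B, hB, hs, h1, hmin⟩ := exists_min_scl h fun e => hna (e ▸ abl_bot)
  by_cases hab : Abl B
  · exact Or.inl ((hs.gold h1 hab).resolve_left fun h' => hna (h' A h.two))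
  obtain ⟨F⟩ := exists_fam hs (h2.of_le hB) hab hmin
  obtain ⟨i⟩ := F.ne
  by_cases hi : ∀ j, j = i
  · obtain ⟨e, hl⟩ := F.hl hi
    have ha := hl.amal
    exact Or.inr ⟨_, _, _, _, _, ha, (ha.syl.eq_of_le h.two (e ▸ hB) le_top)⟩
  push Not at hi
  obtain ⟨j, hj⟩ := hi
  have h3 : ∀ i j : F.ι, ∃ k, k ≠ i ∧ k ≠ j := fun a b => by
    by_cases e : a = b
    · by_cases e' : a = i
      · exact ⟨j, e' ▸ hj, e ▸ e' ▸ hj⟩
      · exact ⟨i, Ne.symm e', e ▸ Ne.symm e'⟩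
    · exact F.three hmin e
  have hL := F.allLoc ih
  obtain ⟨M, hM⟩ := (F.p2 hL h3).elim id (F.p3 hL h3)
  exact (F.p4 hj hM).elim

theorem ci_all (n : ℕ) : ∀ (X : Type u) [Group X] [Finite X], Nat.card X < n → IsSimpleGroup X →
    CI X := by
  induction n with
  | zero => intro X _ _ h; omega
  | succ n ih =>
    intro X _ _ hX _ A h h2 a ha ha2
    by_cases hna : Abl A
    · exact Or.inr (hna.of_le inf_le_left)
    rcases main_of (fun Y _ _ hY => ih Y (by omega)) h h2 hna with ⟨M, hM⟩ | ⟨W, V, R, R', q, hA, rfl⟩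
    · exact Or.inl (mem_C_iff_le_C1.1 (se_central hM h.two ha ha2))
    by_cases h1 : a ∈ W <;> by_cases h3 : a ∈ V
    · exact Or.inl (mem_C_iff_le_C1.1 (hA.h.center.ge ⟨h1, h3⟩).2)
    · exact Or.inr ((hA.h.cent1W h1 h3).symm ▸ hA.h.ea.abl)
    · exact Or.inr ((hA.h.cent1X h3 h1).symm ▸ hA.h.eaX.abl)
    · exact ((hA.h.inv_mem ha ha2).elim h1 h3).elim

/-- a nonabelian strongly closed `2`-subgroup of class two in a simple group -/
theorem main [IsSimpleGroup G] (h : SCl ⊤ A) (h2 : Cl2 A) (hna : ¬ Abl A) :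
    (∃ M : Subgroup G, IsStronglyEmbedded M) ∨ ∃ W X R R' q, Amal W X R R' q ∧ A = W ⊔ X :=
  main_of (ci_all _) h h2 hna

end H2.C2
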