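import Mathlib
import Cfsg.Agent.H2.QPG
import Cfsg.Agent.H1.QP3

/-! General lemmas for the quasi-dihedral case. -/

set_option autoImplicit false
set_option linter.unusedVariables false

namespace H2.QD

open H24 Cfsg Subgroup
open H13.Dih (Four V4 Inv CD UU PP FC res)
open scoped MatrixGroups

universe u

variable {G : Type u} [Group G] [Finite G]

theorem gwc {Ω : Subgroup G} {t s : G} (hΩ : Odd ♯Ω) (hf : Four t s) (hV : V4 t s ≤ N[Ω])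
    (h : Ω ⊓ C{t * s} ≤ C{t}) :
    ⁅Ω, zpowers t⁆ ≤ C{s} ∧ ⁅Ω, zpowers t⁆ ≤ C[⁅Ω, zpowers s⁆] := H1.QP.gwc hΩ hf hV h

theorem lemB_cd {L X : Subgroup G} {t : G} {p : ℕ} (hL : CD L) (ht : orderOf t = 2) (htL : t ∈ L)
    (hp : p.Prime) (hp2 : p ≠ 2) (hX : IsPi {p} X) (hXL : X ≤ L) (hXt : X ≤ ⁅X, zpowers t⁆)
    (hN : L ⊓ C{t} ≤ N[X]) : X ≤ O[{p}, L] := H1.QP.lemB_cd hL ht htL hp hp2 hX hXL hXt hN

theorem le_pcore_of_odd {L X : Subgroup G} {t : G} {p : ℕ} (ht : orderOf t = 2) (htL : t ∈ L)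
    (hp : p.Prime) (hX : IsPi {p} X) (hXL : X ≤ 𝒪[L]) (htX : t ∈ N[X])
    (hXt : X ≤ ⁅X, zpowers t⁆) (hN : 𝒪[L] ⊓ C{t} ≤ N[X]) : X ≤ O[{p}, L] :=
  H1.QP.le_pcore_of_odd ht htL hp hX hXL htX hXt hN

/-- K3: `y` acts semiregularly modulo `C(P)` on `P / Φ(P)`, `k` = order of `y` modulo `C(P)` -/
theorem k3 {P : Subgroup G} {p k : ℕ} {y : G} (hp : p.Prime) (h2 : p ≠ 2) (hP : IsPi {p} P)
    (hy : y ∈ N[P]) (hy' : ¬ p ∣ orderOf y)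
    (hk : ∀ j : ℕ, ¬ k ∣ j → ∀ x ∈ P, y ^ j * x * (y ^ j)⁻¹ * x⁻¹ ∈ Phi P → x ∈ Phi P)
    {θ : ↥(P ⊔ zpowers y) → ℂ} (hθ : IsCharacter (P ⊔ zpowers y : Subgroup G) θ) {d : ℕ} (hd : θ 1 = d)
    (hne : ∃ x : ↥(P ⊔ zpowers y), (x : G) ∈ P ∧ θ x ≠ θ 1) :
    3 * k ≤ 4 * d ∧ (Odd k → k ≤ d) := H1.QP.k3 hp h2 hP hy hk hθ hd hne

/-- BC: minimal cover of a Borel subgroup -/
theorem Mod.borel_cover {c : QC G} (M : Mod c) {Y : Subgroup G} {X : Subgroup M.Γ} {z : M.Γ}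
    (hX : M.Root X) (hz : z ∈ N[X]) (hz' : ¬ M.N.p ∣ orderOf z) (h1 : X ≤ img M.κ Y)
    (h2 : z ∈ img M.κ Y) : ∃ P ≤ Y ⊓ c.H, ∃ y ∈ Y ⊓ c.H, IsPi {M.N.p} P ∧ img M.κ P = X ∧
      P ⊓ c.U = Phi P ∧ y ∈ N[P] ∧ ap M.κ y = z ∧
      ∀ r, r.Prime → r ∣ orderOf y → r ∣ orderOf z := by
  obtain ⟨P, a, y, b, d, e, f, g⟩ := H1.QP.cover M.κ M.N.hp hX.elem hz hz' h1 h2
  refine ⟨P, a, y, b, d, e, ?_, g⟩
  rw [← f]
  have hU : c.U ⊴ c.H := pcore_nml _ _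
  have ht : orderOf c.t = 2 := by
    rw [QC.t, orderOf_pow' _ (by positivity), c.ord_ω, Nat.gcd_eq_right (pow_dvd_pow 2 (by omega)),
      Nat.pow_div (by omega) two_pos, show c.a - (c.a - 1) = 1 by have := c.ha; omega, pow_one]
  refine le_antisymm (fun x hx => ⟨hx.1, mem_pre_bot.2 ⟨hU.le hx.2, ?_⟩⟩) fun x hx => ⟨hx.1, ?_⟩
  · obtain ⟨xH, e⟩ := mem_pre_bot.1 hx.2
    rw [ap_of_mem _ xH, M.ker] at e
    exact zpowers_le.1 (le_of_idx_compl' (π := {2})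
      (nml_sup_left (zpowers_le.2 (hU.norm (self_mem_C1 _))))
      ((H13.Dih.isPi_zp ht).piNat.dvd
        (isProd_sup (zpowers_le.2 (hU.norm (self_mem_C1 _)))).relIndex_dvd)
      (H13.Dih.isPi_odd.2 (H13.Dih.odd_of_pi M.N.p_ne (d.of_le (zpowers_le.2 hx.1))))
      (zpowers_le.2 e))
  · rw [ap_of_mem _ (hU.le hx.2), M.ker]; exact mem_sup_left hx.2

end H2.QD
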