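import Mathlib
import Cfsg.Agent.H2.QDefs2

/-! Numerical computations for the quasi-dihedral case. -/

set_option autoImplicit false
set_option linter.unusedVariables false

namespace H2.QD

open H24 Cfsg Subgroup Finset
open scoped ComplexConjugate

section QNum
variable {a k l : ℕ} (ha : 3 ≤ a)

theorem bf_add (d d' e : Dat) : bf a (d + d') e = bf a d e + bf a d' e := by
  simp only [bf, Prod.fst_add, Prod.snd_add, Pi.add_apply, add_mul, sum_add_distrib]; ring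

theorem bf_smul (r : ℂ) (d e : Dat) : bf a (r • d) e = r * bf a d e := by
  simp only [bf, Prod.smul_fst, Prod.smul_snd, Pi.smul_apply, smul_eq_mul, mul_assoc, ← mul_sum]; ring

theorem bf_neg (d e : Dat) : bf a (-d) e = -bf a d e := by
  rw [← neg_one_smul ℂ d, bf_smul, neg_one_mul]

theorem bf_sub (d d' e : Dat) : bf a (d - d') e = bf a d e - bf a d' e := by
  rw [sub_eq_add_neg, bf_add, bf_neg, sub_eq_add_neg]

theorem bf_comm (d e : Dat) : bf a e d = conj (bf a d e) := by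
  simp [bf, mul_comm, map_ofNat]

/-- `ζ ^ m` -/
noncomputable def qn_ze (a : ℕ) (m : ℤ) : ℂ := Complex.exp (2 * Real.pi * Complex.I / 2 ^ a) ^ m

theorem qn_ze_prim : IsPrimitiveRoot (Complex.exp (2 * Real.pi * Complex.I / 2 ^ a)) (2 ^ a) := by
  simpa using Complex.isPrimitiveRoot_exp (2 ^ a) (by positivity)

theorem qn_ze_add (m n : ℤ) : qn_ze a (m + n) = qn_ze a m * qn_ze a n := zpow_add₀ (Complex.exp_ne_zero _) _ _

theorem qn_ze_one {m : ℤ} : qn_ze a m = 1 ↔ 2 ^ a ∣ m := by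
  simpa [qn_ze] using qn_ze_prim.zpow_eq_one_iff_dvd m

theorem qn_ze_congr {m n : ℤ} (h : 2 ^ a ∣ m - n) : qn_ze a m = qn_ze a n := by
  rw [← sub_add_cancel m n, qn_ze_add, qn_ze_one.2 h, one_mul]

theorem qn_ze_mul (m : ℤ) (j : ℕ) : qn_ze a (m * j) = qn_ze a m ^ j := by rw [qn_ze, zpow_mul, zpow_natCast, qn_ze]

theorem qn_conj_ze (m : ℤ) : conj (qn_ze a m) = qn_ze a (-m) := by
  rw [qn_ze, qn_ze, map_zpow₀, ← Complex.exp_conj, zpow_neg, ← inv_zpow, ← Complex.exp_neg]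
  simp [map_ofNat, neg_div]

theorem qn_sum_ze (m : ℤ) : ∑ j ∈ range (2 ^ a), qn_ze a (m * j) = if 2 ^ a ∣ m then 2 ^ a else 0 := by
  simp only [qn_ze_mul]
  split_ifs with h
  · simp [qn_ze_one.2 h]
  · rw [geom_sum_eq (mt qn_ze_one.1 h), ← qn_ze_mul, qn_ze_one.2 (by simp), sub_self, zero_div]

theorem qn_sym_eq (j : ℕ) : sym a k j = qn_ze a (k * j) + qn_ze a (k * (2 ^ (a - 1) - 1) * j) := by
  rw [sym, qn_ze, qn_ze, ← zpow_natCast _ (k * j), ← zpow_natCast _ (k * j * _)]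
  push_cast [Nat.one_le_two_pow]
  rw [mul_right_comm (k : ℤ)]

theorem qn_sym_zero : sym a k 0 = 2 := by simp [sym]; norm_num

include ha

theorem qn_two_pow_eq : ∃ w : ℤ, 0 < w ∧ 2 ^ (a - 1) = 4 * w ∧ 2 ^ a = 8 * w := by
  obtain ⟨b, rfl⟩ := Nat.exists_eq_add_of_le ha
  exact ⟨2 ^ b, by positivity, by rw [show 3 + b - 1 = b + 2 by omega]; ring, by ring⟩

theorem qn_ze_half (j : ℕ) : qn_ze a (2 ^ (a - 1) * j) = (-1) ^ j := by
  obtain ⟨w, h0, h1, h2⟩ := qn_two_pow_eq ha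
  rw [qn_ze_mul]; congr 1
  have : qn_ze a (2 ^ (a - 1)) ^ 2 = 1 ^ 2 := by
    rw [← qn_ze_mul, one_pow, qn_ze_one, h1, h2]; exact ⟨1, by push_cast; ring⟩
  refine (sq_eq_sq_iff_eq_or_eq_neg.1 this).resolve_left fun e => ?_
  have := Int.le_of_dvd (by positivity) (qn_ze_one.1 e)
  omega

theorem qn_odd_r : Odd (2 ^ (a - 1) - 1 : ℤ) := by
  obtain ⟨w, -, h1, -⟩ := qn_two_pow_eq ha
  exact ⟨2 * w - 1, by omega⟩

theorem qn_sym_h (j : ℕ) {m : ℤ} (hk : (k : ℤ) = 2 ^ (a - 1) * m) :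
    sym a k j = 2 * qn_ze a (k * j) := by
  obtain ⟨w, -, h1, h2⟩ := qn_two_pow_eq ha
  rw [qn_sym_eq, two_mul, qn_ze_congr (m := k * _ * j) (n := k * j)]
  rw [hk, h1, h2]; exact ⟨m * (2 * w - 1) * j, by ring⟩

theorem sym_half : sym a k (2 ^ (a - 1)) = 2 * (-1) ^ k := by
  obtain ⟨w, -, h1, h2⟩ := qn_two_pow_eq ha
  rw [qn_sym_eq, two_mul, ← qn_ze_half ha]
  push_cast
  rw [mul_comm (k : ℤ), qn_ze_congr (m := k * _ * _) (n := 2 ^ (a - 1) * k)]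
  rw [h1, h2]; exact ⟨k * (2 * w - 1), by ring⟩

theorem qn_rel_iff : Rel a k l ↔ (2 ^ a : ℤ) ∣ l - k ∨ (2 ^ a : ℤ) ∣ l * (2 ^ (a - 1) - 1) - k := by
  rw [Rel, Nat.modEq_iff_dvd, Nat.modEq_iff_dvd]; push_cast [Nat.one_le_two_pow]; rfl

theorem qn_dvd_r {m : ℤ} : 2 ^ a ∣ m * (2 ^ (a - 1) - 1) ↔ 2 ^ a ∣ m :=
  ⟨fun h => ((Int.isCoprime_two_left.2 (qn_odd_r ha)).pow_left).dvd_of_dvd_mul_right h, fun h => h.mul_right _⟩

theorem qn_dvd_swap {m n : ℤ} : 2 ^ a ∣ m * (2 ^ (a - 1) - 1) - n ↔ 2 ^ a ∣ m - n * (2 ^ (a - 1) - 1) := by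
  obtain ⟨w, -, h1, h2⟩ := qn_two_pow_eq ha
  rw [← qn_dvd_r ha, h1, h2, show (m * (4 * w - 1) - n) * (4 * w - 1) =
    8 * w * (m * (2 * w - 1)) + (m - n * (4 * w - 1)) by ring, dvd_add_right (dvd_mul_right _ _)]

theorem sym_rel (h : Rel a k l) : sym a k = sym a l := by
  funext j
  rw [qn_sym_eq, qn_sym_eq]
  rcases (qn_rel_iff ha).1 h with h | h
  · congr 1 <;> refine (qn_ze_congr ?_).symm
    · rw [← sub_mul]; exact h.mul_right _
    · rw [← sub_mul, ← sub_mul]; exact (h.mul_right _).mul_right _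
  · rw [add_comm]
    congr 1 <;> refine (qn_ze_congr ?_).symm <;> rw [← sub_mul]
    exacts [((qn_dvd_swap ha).1 h).mul_right _, h.mul_right _]

theorem conj_sym (j : ℕ) : conj (sym a k j) = sym a (k * (2 ^ a - 1)) j := by
  rw [qn_sym_eq, qn_sym_eq, map_add, qn_conj_ze, qn_conj_ze]
  push_cast [Nat.one_le_two_pow]
  congr 1 <;> refine (qn_ze_congr ?_).symm
  exacts [⟨k * j, by ring⟩, ⟨k * (2 ^ (a - 1) - 1) * j, by ring⟩]

theorem Rel.equiv : Equivalence (Rel a) := by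
  refine ⟨fun _ => Or.inl rfl, fun h => ?_, fun h h' => ?_⟩
  · rw [qn_rel_iff ha] at *
    exact h.imp dvd_sub_comm.1 fun h => dvd_sub_comm.1 ((qn_dvd_swap ha).1 h)
  · rw [qn_rel_iff ha] at *
    rcases h with h | h <;> rcases h' with h' | h'
    · left; simpa using h'.add h
    · right; simpa using h'.add h
    · right; simpa [sub_mul] using (h'.mul_right (2 ^ (a - 1) - 1)).add h
    · left; simpa using ((qn_dvd_swap ha).1 h').add h

theorem three_classes : ¬ 2 ^ (a - 1) ∣ 1 ∧ ¬ 2 ^ (a - 1) ∣ 2 ∧ ¬ 2 ^ (a - 1) ∣ 2 ^ a - 1 ∧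
    ¬ Rel a 1 2 ∧ ¬ Rel a 1 (2 ^ a - 1) ∧ ¬ Rel a 2 (2 ^ a - 1) := by
  obtain ⟨w, h0, h1, h2⟩ := qn_two_pow_eq ha
  simp only [qn_rel_iff ha, ← Int.natCast_dvd_natCast, not_or]
  push_cast [Nat.one_le_two_pow]
  rw [h1, h2]
  have k4 : ∀ m, 4 * w ∣ m → 4 ∣ m := fun m h => (dvd_mul_right _ _).trans h
  have k8 : ∀ m, 8 * w ∣ m → 8 ∣ m := fun m h => (dvd_mul_right _ _).trans h
  have e : (8 * w - 1) * (4 * w - 1) = 8 * w * (4 * w - 1) - 4 * w + 1 := by ring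
  refine ⟨fun h => ?_, fun h => ?_, fun h => ?_, ⟨fun h => ?_, fun h => ?_⟩, ⟨fun h => ?_, fun h => ?_⟩,
    fun h => ?_, fun h => ?_⟩
  iterate 3 have := k4 _ h; omega
  iterate 3 have := k8 _ h; omega
  · rw [e, show 8 * w * (4 * w - 1) - 4 * w + 1 - 1 = 8 * w * (4 * w - 1) - 4 * w by ring,
      dvd_sub_right (dvd_mul_right _ _)] at h
    have := Int.le_of_dvd (by omega) h
    omega
  · have := k8 _ h; omega
  · have := k8 _ h
    rw [e, mul_assoc] at this; omega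

theorem qn_not_dvd (hk : ¬ 2 ^ (a - 1) ∣ k) {m n : ℤ} (hm : Odd m) : ¬ 2 ^ a ∣ k * m + 2 ^ (a - 1) * n := by
  intro h
  have := (pow_dvd_pow 2 (Nat.sub_le a 1)).trans h
  rw [dvd_add_left (dvd_mul_right _ _)] at this
  exact hk (by exact_mod_cast (Int.isCoprime_two_left.2 hm).pow_left.dvd_of_dvd_mul_right this)

theorem qn_sum_sym (hk : ¬ 2 ^ (a - 1) ∣ k) : ∑ j ∈ range (2 ^ a), sym a k j = 0 ∧
    ∑ j ∈ range (2 ^ a), (-1) ^ j * sym a k j = 0 := by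
  have h1 := qn_not_dvd ha hk (n := 0) odd_one
  have h2 := qn_not_dvd ha hk (n := 0) (qn_odd_r ha)
  have h3 := qn_not_dvd ha hk (n := 1) odd_one
  have h4 := qn_not_dvd ha hk (n := 1) (qn_odd_r ha)
  simp only [mul_zero, mul_one, add_zero, add_comm _ (2 ^ (a - 1) : ℤ)] at h1 h2 h3 h4
  simp only [qn_sym_eq, ← qn_ze_half ha, mul_add, ← qn_ze_add, ← add_mul, sum_add_distrib, qn_sum_ze, h1, h2, h3, h4,
    if_false, add_zero, and_self]

theorem qn_sum_csym (hk : ¬ 2 ^ (a - 1) ∣ k) : ∑ j ∈ range (2 ^ a), conj (sym a k j) = 0 ∧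
    ∑ j ∈ range (2 ^ a), (-1) ^ j * conj (sym a k j) = 0 := by
  obtain ⟨h1, h2⟩ := qn_sum_sym ha hk
  constructor
  · rw [← map_sum, h1, map_zero]
  · simpa using congrArg conj h2

theorem qn_sum_sg : ∑ j ∈ range (2 ^ a), (-1 : ℂ) ^ j = 0 := by
  rw [neg_one_geom_sum, if_pos]
  exact (Nat.even_pow' (by omega)).2 even_two

open Classical in
theorem qn_sum_ss (hk : ¬ 2 ^ (a - 1) ∣ k) : ∑ j ∈ range (2 ^ a), sym a l j * conj (sym a k j) =
    if Rel a k l then 2 * 2 ^ a else 0 := by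
  simp only [qn_sym_eq, map_add, qn_conj_ze, add_mul, mul_add, ← qn_ze_add, ← sub_eq_add_neg, ← sub_mul,
    sum_add_distrib, qn_sum_ze, qn_dvd_r ha, ← qn_dvd_swap ha, qn_rel_iff ha]
  by_cases h1 : (2 ^ a : ℤ) ∣ l - k <;> by_cases h2 : (2 ^ a : ℤ) ∣ l * (2 ^ (a - 1) - 1) - k
  · obtain ⟨w, -, e1, e2⟩ := qn_two_pow_eq ha
    obtain ⟨b, rfl⟩ := Nat.exists_eq_add_of_le ha
    exfalso
    have := h2.sub (h1.mul_right (2 ^ (3 + b - 1) - 1))
    rw [show (l * (2 ^ (3 + b - 1) - 1) - k - (l - k) * (2 ^ (3 + b - 1) - 1) : ℤ) =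
      2 * (k * (2 ^ (b + 1) - 1)) by rw [show 3 + b - 1 = b + 2 by omega]; ring,
      show 3 + b = (3 + b - 1) + 1 by omega, pow_succ', mul_dvd_mul_iff_left two_ne_zero] at this
    exact hk (by exact_mod_cast (Int.isCoprime_two_left.2
      ⟨2 ^ b - 1, by ring⟩).pow_left.dvd_of_dvd_mul_right this)
  all_goals simp [h1, h2, two_mul]

omit ha in
theorem qn_bf_eq (d : Dat) {e : Dat} (h : e.2 0 = 0) : bf a d e = d.1 * conj e.1 / 2 +
    (4 * 2 ^ (a - 1) : ℂ)⁻¹ * ∑ j ∈ range (2 ^ a), d.2 j * conj (e.2 j) := by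
  rw [bf, sum_erase _ (by simp [h])]

omit ha in
theorem qn_dV_eq : dV a k = (0, fun j => 2 - sym a k j) := by
  ext j <;> simp [dV, d1, dS, dθ]; ring
omit ha in
theorem qn_dW_eq : dW = (0, fun j => 2 - 2 * (-1) ^ j) := by
  ext j <;> simp [dW, d1, dS, dsg, dSs]; ring
omit ha in
theorem qn_dX_eq : dX = (2, fun j => (-1) ^ j - 1) := by
  ext j <;> simp [dX, dS, dsg, dB] <;> ring

theorem qn_four_mul : (4 * 2 ^ (a - 1) : ℂ) = 2 * 2 ^ a := by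
  obtain ⟨b, rfl⟩ := Nat.exists_eq_add_of_le ha
  rw [show 3 + b - 1 = b + 2 by omega]; ring

omit ha in
theorem qn_sg_sq (j : ℕ) : (-1 : ℂ) ^ j * (-1) ^ j = 1 := by rw [← mul_pow]; simp

theorem bf_V (hk : ¬ 2 ^ (a - 1) ∣ k) : bf a d1 (dV a k) = 1 ∧ bf a dS (dV a k) = -1 ∧
    bf a dsg (dV a k) = 0 ∧ bf a dSs (dV a k) = 0 ∧ bf a dB (dV a k) = 0 := by
  have h0 : (dV a k).2 0 = 0 := by simp [qn_dV_eq, qn_sym_zero]
  simp only [qn_bf_eq _ h0, qn_four_mul ha]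
  simp [qn_dV_eq, d1, dS, dsg, dSs, dB, mul_sub, ← sum_mul, qn_sum_csym ha hk, qn_sum_sg ha, map_ofNat,
    sum_add_distrib, mul_add]
  field_simp

theorem bf_W : bf a d1 dW = 1 ∧ bf a dS dW = -1 ∧ bf a dsg dW = -1 ∧ bf a dSs dW = 1 ∧
    bf a dB dW = 0 := by
  have h0 : dW.2 0 = 0 := by simp [qn_dW_eq]
  simp only [qn_bf_eq _ h0, qn_four_mul ha]
  simp [qn_dW_eq, d1, dS, dsg, dSs, dB, mul_sub, ← sum_mul, ← mul_sum, qn_sum_sg ha, map_ofNat,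
    mul_left_comm _ (2 : ℂ), qn_sg_sq, sum_add_distrib]
  field_simp

theorem bf_X : bf a d1 dX = 0 ∧ bf a dS dX = 1 ∧ bf a dsg dX = 1 ∧ bf a dSs dX = 0 ∧
    bf a dB dX = 1 := by
  have h0 : dX.2 0 = 0 := by simp [qn_dX_eq]
  simp only [qn_bf_eq _ h0, qn_four_mul ha]
  simp [qn_dX_eq, d1, dS, dsg, dSs, dB, mul_sub, qn_sum_sg ha, map_ofNat, qn_sg_sq, sum_add_distrib]
  field_simp; norm_num

open Classical in
theorem bf_θ (hk : ¬ 2 ^ (a - 1) ∣ k) (hl : ¬ 2 ^ (a - 1) ∣ l) :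
    bf a (dθ a l) (dV a k) = (if Rel a k l then 1 else 0) ∧ bf a (dθ a l) dW = 0 ∧
      bf a (dθ a l) dX = 0 := by
  rw [qn_bf_eq _ (show (dV a k).2 0 = 0 by simp [qn_dV_eq, qn_sym_zero]),
    qn_bf_eq _ (show dW.2 0 = 0 by simp [qn_dW_eq]), qn_bf_eq _ (show dX.2 0 = 0 by simp [qn_dX_eq]), qn_four_mul ha]
  simp [qn_dV_eq, qn_dW_eq, qn_dX_eq, dθ, mul_sub, ← mul_sum, qn_sum_sym ha hl, qn_sum_ss ha hk, map_ofNat,
    mul_left_comm _ (2 : ℂ), mul_comm (sym a l _) ((-1) ^ _), mul_comm _ (2 : ℂ), sum_add_distrib]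
  split_ifs <;> field_simp

theorem bf_nondeg {d : Dat} (hs : ∀ j < 2 ^ a, d.2 (j * (2 ^ (a - 1) - 1) % 2 ^ a) = d.2 j)
    (hV : ∀ k, ¬ 2 ^ (a - 1) ∣ k → bf a d (dV a k) = 0) (hW : bf a d dW = 0) (hX : bf a d dX = 0) :
    d.1 = 0 ∧ ∀ j ∈ (range (2 ^ a)).erase 0, d.2 j = 0 := by
  have hall : ∀ k, ∑ j ∈ (range (2 ^ a)).erase 0, d.2 j * conj (2 - sym a k j) = 0 := fun k => by
    by_cases hk : 2 ^ (a - 1) ∣ k
    · obtain ⟨m, hm⟩ := hk
      have e : ∀ j : ℕ, sym a k j = 2 * ((-1) ^ m) ^ j := fun j => by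
        rw [qn_sym_h ha j (m := m) (by exact_mod_cast hm), ← pow_mul, ← qn_ze_half ha, hm]
        push_cast; rw [mul_assoc]
      rcases neg_one_pow_eq_or ℂ m with h | h
      · simp [e, h]
      · simpa [bf, qn_dW_eq, e, h] using hW
    · simpa [bf, qn_dV_eq] using hV k hk
  have key : ∀ j ∈ (range (2 ^ a)).erase 0, d.2 j = 0 := fun i hi => by
    have hN : ∀ j ∈ range (2 ^ a), ∀ j' ∈ range (2 ^ a), (2 ^ a : ℤ) ∣ j - j' ↔ j' = j := fun j hj j' hj' => by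
      refine ⟨fun h => ?_, fun h => by simp [h]⟩
      exact Nat.ModEq.eq_of_lt_of_lt (Nat.modEq_iff_dvd.2 (by exact_mod_cast h)) (mem_range.1 hj')
        (mem_range.1 hj)
    obtain ⟨hi0, hi1⟩ := mem_erase.1 hi
    have h0 : ¬ (2 ^ a : ℤ) ∣ i := fun h => hi0 ((hN i hi1 0 (by simp)).1 (by simpa using h)).symm
    set i' := i * (2 ^ (a - 1) - 1) % 2 ^ a with hi'
    have hi2 : i' ∈ range (2 ^ a) := mem_range.2 (Nat.mod_lt _ (by positivity))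
    have h1 : (2 ^ a : ℤ) ∣ i * (2 ^ (a - 1) - 1) - i' := by
      have := (Nat.mod_modEq (i * (2 ^ (a - 1) - 1)) (2 ^ a)).dvd
      push_cast [Nat.one_le_two_pow] at this
      simpa [hi', Nat.one_le_two_pow] using this
    have hi3 : i' ∈ (range (2 ^ a)).erase 0 := mem_erase.2 ⟨fun e => h0 ((qn_dvd_r ha).1 (by
      simpa [e] using h1)), hi2⟩
    have h2 : ∀ j ∈ (range (2 ^ a)).erase 0, ∑ k ∈ range (2 ^ a), qn_ze a (i * k) * (d.2 j *
        conj (2 - sym a k j)) = -(if j = i then 2 ^ a * d.2 j else 0) -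
          if j = i' then 2 ^ a * d.2 j else 0 := fun j hj => by
      have e : ∀ k : ℕ, qn_ze a (i * k) * (d.2 j * conj (2 - sym a k j)) = d.2 j * (2 * qn_ze a (i * k) -
          qn_ze a ((i - j) * k) - qn_ze a ((i - j * (2 ^ (a - 1) - 1)) * k)) := fun k => by
        rw [qn_sym_eq, map_sub, map_add, qn_conj_ze, qn_conj_ze, map_ofNat, sub_mul (i : ℤ), sub_mul (i : ℤ),
          sub_eq_add_neg (i * k : ℤ), sub_eq_add_neg (i * k : ℤ), qn_ze_add, qn_ze_add]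
        ring_nf
      have e' : (2 ^ a : ℤ) ∣ i - j * (2 ^ (a - 1) - 1) ↔ j = i' := by
        rw [← qn_dvd_swap ha, ← hN i' hi2 j (mem_erase.1 hj).2, ← dvd_add_right h1.neg_right]
        simp
      simp only [e, ← mul_sum, sum_sub_distrib, qn_sum_ze, h0, if_false, e', hN i hi1 j (mem_erase.1 hj).2]
      split_ifs <;> ring
    have h3 := sum_congr rfl h2
    rw [sum_comm] at h3
    simp only [← mul_sum, hall, mul_zero, sum_const_zero, sum_sub_distrib, sum_neg_distrib, sum_ite_eq',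
      hi, hi3, if_true] at h3
    rw [hi', hs i (mem_range.1 hi1)] at h3
    have h4 : (2 : ℂ) ^ a ≠ 0 := by simp
    apply mul_left_cancel₀ h4; linear_combination h3 / 2
  refine ⟨?_, key⟩
  rw [bf, sum_eq_zero fun j hj => by rw [key j hj, zero_mul]] at hX
  simpa [qn_dX_eq, map_ofNat] using hX

end QNum

/-- the two smallest degrees -/
theorem num_bud {q x y : ℤ} {a : ℕ} (ha : 3 ≤ a) (hq : Odd q) (hq3 : 3 ≤ q) (hx : Odd x) (hy : Odd y)
    (h : x * y = q ^ 2 * (x + y - 1)) (hz : -(x + y - 1) ≡ 1 + 2 ^ a [ZMOD 2 ^ (a + 1)]) :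
    (0 < x ∧ x + q + 1 ≤ 2 * q ^ 2) ∨ (0 < y ∧ y + q + 1 ≤ 2 * q ^ 2) := by
  wlog hxy : x ≤ y generalizing x y
  · exact (this hy hx (by linear_combination h) (by rwa [add_comm y]) (by omega)).symm
  have h8 : (x + y) % 8 = 0 := by
    obtain ⟨b, rfl⟩ := Nat.exists_eq_add_of_le ha
    have h1 := (hz.of_dvd (show (8 : ℤ) ∣ _ from ⟨2 ^ (b + 1), by ring⟩)).dvd
    rw [pow_add] at h1
    omega
  obtain ⟨r, hr⟩ : Odd (q ^ 2) := hq.pow
  have hr4 : q ^ 2 % 8 = 1 := by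
    obtain ⟨k, rfl⟩ := hq
    obtain ⟨l, hl⟩ := Int.even_mul_succ_self k
    have : (2 * k + 1) ^ 2 = 8 * l + 1 := by linear_combination 4 * hl
    omega
  have hp : (x - q ^ 2) * (y - q ^ 2) = q ^ 2 * (q ^ 2 - 1) := by linear_combination h
  have hq2 : 3 * q ≤ q ^ 2 := by nlinarith
  by_contra! H
  obtain ⟨H1, H2⟩ := H
  rcases le_or_gt y 0 with h0 | h0
  · nlinarith [mul_nonneg (sub_nonneg.2 h0) (sub_nonneg.2 (hxy.trans h0))]
  have h1 := H2 h0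
  have h2 : 0 < x := by
    by_contra! h2
    nlinarith
  have h3 := H1 h2
  obtain ⟨i, rfl⟩ : ∃ i, x = 2 * q ^ 2 - i := ⟨2 * q ^ 2 - x, by ring⟩
  obtain ⟨j, rfl⟩ : ∃ j, y = 2 * q ^ 2 + j := ⟨y - 2 * q ^ 2, by ring⟩
  have e : q ^ 2 * (j - i + 1) = i * j := by linear_combination hp
  have hi : i ≤ q := by omega
  have hi1 : 1 ≤ i := by
    by_contra! hi1
    nlinarith
  have hj : 0 ≤ j := by
    by_contra! hj
    nlinarith
  have hk : j - i + 1 ≤ 1 := by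
    by_contra! hk
    have : i * j ≤ q * j := by gcongr
    have : q * (j - i + 1) ≤ j := by nlinarith
    nlinarith
  have hk0 : 0 ≤ j - i + 1 := by
    by_contra! hk0
    nlinarith [mul_nonneg (zero_le_one.trans hi1) hj]
  obtain e0 | e0 : j = i - 1 ∨ j = i := by omega
  · obtain ⟨_, hx⟩ := hx
    obtain ⟨_, hy⟩ := hy
    omega
  · omega

theorem num_reg {Q x : ℤ} (hQ : Q % 4 = 3) (hQ1 : Q ≠ -1)
    (h : Q * (Q ^ 2 + Q + 1) * (x - Q) ^ 2 = (Q + 1) ^ 2 * (Q - 1) * (x * (x - 1))) : x = Q ^ 3 := by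
  have : (x - Q ^ 3) * ((2 * Q + 1) * x - (Q ^ 2 + Q + 1)) = 0 := by linear_combination h
  rcases mul_eq_zero.1 this with e | e
  · linear_combination e
  have h1 : 2 * Q + 1 ∣ 3 := ⟨4 * x - (2 * Q + 1), by linear_combination -4 * e⟩
  have := Int.le_of_dvd (by norm_num) h1
  have := Int.le_of_dvd (by norm_num) (neg_dvd.2 h1)
  omega

theorem num_nine {i u x y : ℤ} (hi : ¬ 3 ∣ i) (hu : 3 ∣ u) (h0 : u ≠ 0) (hx : x % 32 = 7)
    (h1 : i * (x + 9) ^ 2 = u ^ 2 * 9 * 64 * 10 * (x * (x - 1))) (h2 : x * y = 81 * (x + y - 1)) :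
    False := by
  have key : ∀ w : ℤ, 3 ∣ i * w ^ 2 → 3 ∣ w := fun w h =>
    Int.prime_three.dvd_of_dvd_pow ((Int.prime_three.dvd_or_dvd h).resolve_left hi)
  obtain ⟨v, rfl⟩ := hu
  obtain ⟨a, ha⟩ := key (x + 9) ⟨v ^ 2 * 27 * 640 * (x * (x - 1)), by linear_combination h1⟩
  obtain rfl : x = 3 * a - 9 := by omega
  obtain ⟨b, rfl⟩ := key a ⟨v ^ 2 * 3 * 640 * ((3 * a - 9) * (3 * a - 9 - 1)), by
    apply mul_left_cancel₀ (a := 9) (by norm_num); linear_combination h1⟩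
  obtain ⟨c, rfl⟩ := key b ⟨v ^ 2 * 3 * 640 * ((b - 1) * (9 * b - 10)), by
    apply mul_left_cancel₀ (a := 81) (by norm_num); linear_combination h1⟩
  have h3 : (3 * c - 10) * (y - 81) = 9 * 80 := by
    apply mul_left_cancel₀ (a := 9) (by norm_num); linear_combination h2
  have h4 : 3 * c - 10 ∣ 80 := by
    refine IsCoprime.dvd_of_dvd_mul_left (y := 9) ?_ ⟨_, h3.symm⟩
    exact (show IsCoprime (3 * c - 10) 3 from ⟨-1, c - 3, by ring⟩).pow_right (n := 2)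
  have := Int.le_of_dvd (by norm_num) h4
  have := Int.le_of_dvd (by norm_num) (neg_dvd.2 h4)
  obtain e | e | e | e | e : 3 * c - 10 = -58 ∨ 3 * c - 10 = -26 ∨ 3 * c - 10 = 6 ∨ 3 * c - 10 = 38 ∨
    3 * c - 10 = 70 := by omega
  all_goals rw [e] at h4; norm_num at h4

theorem num_kappa {Q x : ℤ} (hQ : 27 ≤ Q ∨ Q ≤ -125) (h0 : x ≠ 0) (h1 : x ≠ 1)
    (h : 0 < Q * x → 5 * |Q| - 3 ≤ 2 * |x|) : (7 / 20 : ℚ) ≤ (x - Q) ^ 2 / (x * (x - 1)) := by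
  have hp : 0 < x * (x - 1) := by
    rcases lt_or_gt_of_ne h0 with h0 | h0
    · nlinarith
    · exact mul_pos h0 (by omega)
  have : 7 * (x * (x - 1)) ≤ 20 * (x - Q) ^ 2 := by
    rcases hQ with hQ | hQ <;> rcases lt_or_gt_of_ne h0 with h0 | h0
    · nlinarith
    · have := h (by positivity)
      rw [abs_of_pos h0, abs_of_pos (by omega)] at this
      obtain ⟨s, hs⟩ : ∃ s, s = 2 * x - (5 * Q - 3) := ⟨_, rfl⟩
      nlinarith [mul_nonneg (sub_nonneg.2 this) (sub_nonneg.2 hQ), sq_nonneg (2 * x - (5 * Q - 3))]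
    · have := h (by nlinarith)
      rw [abs_of_neg h0, abs_of_neg (by omega)] at this
      nlinarith [mul_nonneg (sub_nonneg.2 this) (sub_nonneg.2 hQ), sq_nonneg (2 * x - (5 * Q + 3))]
    · nlinarith
  rw [div_le_div_iff₀ (by norm_num) (by exact_mod_cast hp)]
  exact_mod_cast (by linarith : 7 * (x * (x - 1)) ≤ (x - Q) ^ 2 * 20)

theorem num_elim {Q d z x y : ℤ} {κ : ℚ} (hQ : 27 ≤ |Q|) (hκ : 7 / 20 ≤ κ) (hd : d % 16 = 1)
    (hd1 : d ≠ 1) (hz : z % 8 = 7) (hz1 : z ≠ -1) (hdz : d ≠ -z) (hx : x ≠ 0) (hy : y ≠ 0)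
    (hf : x ≠ d) (e : d - x + z - y = 0)
    (e1 : (1 / d - Q ^ 2 / x + (Q - 1) ^ 2 / (x - d) : ℚ) = κ)
    (e2 : (1 / d - Q ^ 2 / x + 1 / z - Q ^ 2 / y : ℚ) = 0) : False := by
  have hd0 : (d : ℚ) ≠ 0 := by exact_mod_cast (by omega : d ≠ 0)
  have hz0 : (z : ℚ) ≠ 0 := by exact_mod_cast (by omega : z ≠ 0)
  have hx0 : (x : ℚ) ≠ 0 := by exact_mod_cast hx
  have hy0 : (y : ℚ) ≠ 0 := by exact_mod_cast hy
  have hf0 : (x - d : ℚ) ≠ 0 := by exact_mod_cast sub_ne_zero.2 hf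
  have hdz0 : (d + z : ℚ) ≠ 0 := by exact_mod_cast (by omega : d + z ≠ 0)
  have ey : (y : ℚ) = d - x + z := by exact_mod_cast (by omega : y = d - x + z)
  have e3 : (Q : ℚ) ^ 2 * d * z = x * y := by
    apply mul_left_cancel₀ hdz0
    field_simp at e2
    rw [ey] at e2 ⊢
    linear_combination -e2
  obtain ⟨u, hu⟩ : ∃ u : ℚ, u = 1 / d := ⟨_, rfl⟩
  obtain ⟨v, hv⟩ : ∃ v : ℚ, v = -1 / z := ⟨_, rfl⟩
  obtain ⟨w, hw⟩ : ∃ w : ℚ, w = 1 / (x - d) := ⟨_, rfl⟩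
  rw [ey] at e3
  have hs : u + v = κ + 2 * (Q - 1) * w := by
    rw [← e1, hu, hv, hw]; field_simp; linear_combination (-d) * e3
  have hp : u * v = ((Q - 1) * w) ^ 2 - κ * w := by
    rw [← e1, hu, hv, hw]; field_simp; linear_combination (d - x) * e3
  have hu' : -1 / 15 ≤ u ∧ u ≤ 1 / 17 := by
    rcases (by omega : 17 ≤ d ∨ d ≤ -15) with h | h
    · have h : (17 : ℚ) ≤ d := by exact_mod_cast h
      exact ⟨le_trans (by norm_num) (hu ▸ by positivity : 0 ≤ u),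
        hu ▸ one_div_le_one_div_of_le (by norm_num) h⟩
    · have h : (d : ℚ) ≤ -15 := by exact_mod_cast h
      have h' : (d : ℚ) < 0 := by linarith
      rw [hu, le_div_iff_of_neg h', div_le_iff_of_neg h']; constructor <;> linarith
  have hv' : -1 / 7 ≤ v ∧ v ≤ 1 / 9 := by
    rcases (by omega : 7 ≤ z ∨ z ≤ -9) with h | h
    · have h : (7 : ℚ) ≤ z := by exact_mod_cast h
      have h' : (0 : ℚ) < z := by linarith
      rw [hv, le_div_iff₀ h', div_le_iff₀ h']; constructor <;> linarith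
    · have h : (z : ℚ) ≤ -9 := by exact_mod_cast h
      have h' : (z : ℚ) < 0 := by linarith
      rw [hv, le_div_iff_of_neg h', div_le_iff_of_neg h']; constructor <;> linarith
  obtain ⟨τ, hτ⟩ : ∃ τ : ℚ, τ = -(2 * (Q - 1) * w) := ⟨_, rfl⟩
  have hτ0 : 0 < τ := by linarith
  have hw' : 56 * w ≤ τ := by
    rcases le_abs.1 hQ with h | h
    · have h : (27 : ℚ) ≤ Q := by exact_mod_cast h
      have : w ≤ 0 := by by_contra! hw0; nlinarith
      linarith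
    · have h : (27 : ℚ) ≤ -Q := by exact_mod_cast h
      have : 0 ≤ w := by by_contra! hw0; nlinarith
      nlinarith
  have h4 : τ * (τ - κ / 14) ≤ 4 * (u * v) := by
    have : 4 * (u * v) = τ ^ 2 - 4 * κ * w := by rw [hp, hτ]; ring
    nlinarith
  have h5 : (7 / 20 - (u + v)) * (13 / 40 - (u + v)) ≤ τ * (τ - κ / 14) := by
    apply mul_le_mul <;> linarith
  rcases le_total 0 u with h | h <;> rcases le_total 0 v with h' | h' <;> nlinarith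

theorem num_hiib {Q x y z : ℤ} {ρ : ℚ} (hQ : 3 ≤ |Q|) (hρ : 0 < ρ) (h0 : x ≠ 0) (h1 : x ≠ 1)
    (hz : z = x + y - 1) (hz0 : z ≠ 0) (hz1 : z ≠ 1) (h : x * y = Q ^ 2 * z)
    (e : ((x - Q) ^ 2 / (x * (x - 1)) : ℚ) = ρ * (1 - 1 / Q))
    (hle : 2 * ρ ≤ (z + 1) ^ 2 / (z * (z - 1))) : False := by
  have pos : ∀ x : ℤ, x ≠ 0 → x ≠ 1 → (0 : ℚ) < x * (x - 1) := fun x h0 h1 => by
    have : 0 < x * (x - 1) := by
      rcases lt_or_gt_of_ne h0 with h0 | h0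
      · nlinarith
      · exact mul_pos h0 (by omega)
    exact_mod_cast this
  have hx := pos x h0 h1
  have hz' := pos z hz0 hz1
  have hQ2 : (9 : ℚ) ≤ Q ^ 2 := by
    have : (9 : ℤ) ≤ Q ^ 2 := by rw [← sq_abs]; nlinarith
    exact_mod_cast this
  have hQ0 : (Q : ℚ) ≠ 0 := fun e => by rw [e] at hQ2; norm_num at hQ2
  have hQ1 : (Q : ℚ) - 1 ≠ 0 := fun e => by rw [sub_eq_zero.1 e] at hQ2; norm_num at hQ2
  have e1 : (z : ℚ) * (x - Q ^ 2) = x * (x - 1) := by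
    have : z * (x - Q ^ 2) = x * (x - 1) := by linear_combination h + x * hz
    exact_mod_cast this
  have hD : (x - Q ^ 2 : ℚ) ≠ 0 := fun e => by rw [e, mul_zero] at e1; exact hx.ne e1
  have e2 : ρ * ((Q - 1) * (x * (x - 1))) = Q * (x - Q) ^ 2 := by
    rw [div_eq_iff hx.ne'] at e; field_simp at e; linear_combination -e
  have hxQ : (x - Q : ℚ) ≠ 0 := fun e => by
    rw [e] at e2; simp [hρ.ne', hQ1, hx.ne'] at e2
  rw [le_div_iff₀ hz'] at hle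
  have e3 : ((z + 1) * (x - Q ^ 2) : ℚ) = (x - Q) * (x + Q) := by linear_combination e1
  have e4 : ((z - 1) * (x - Q ^ 2) : ℚ) = x ^ 2 - 2 * x + Q ^ 2 := by linear_combination e1
  have h2 := mul_le_mul_of_nonneg_right hle (sq_nonneg ((Q - 1 : ℚ) * (x - Q ^ 2)))
  have e5 : 2 * ρ * (z * (z - 1)) * ((Q - 1 : ℚ) * (x - Q ^ 2)) ^ 2 =
      (x - Q) ^ 2 * (2 * Q * (Q - 1) * (x ^ 2 - 2 * x + Q ^ 2)) := by
    calc _ = 2 * ρ * (Q - 1) ^ 2 * (z * (x - Q ^ 2)) * ((z - 1) * (x - Q ^ 2)) := by ring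
      _ = 2 * (Q - 1) * (ρ * ((Q - 1) * (x * (x - 1)))) * (x ^ 2 - 2 * x + Q ^ 2) := by
        rw [e1, e4]; ring
      _ = _ := by rw [e2]; ring
  have e6 : (z + 1 : ℚ) ^ 2 * ((Q - 1) * (x - Q ^ 2)) ^ 2 = (x - Q) ^ 2 * ((Q - 1) * (x + Q)) ^ 2 := by
    calc _ = (Q - 1 : ℚ) ^ 2 * ((z + 1) * (x - Q ^ 2)) ^ 2 := by ring
      _ = _ := by rw [e3]; ring
  have hpos : (0 : ℚ) < (x - Q) ^ 2 := by positivity
  rw [e5, e6] at h2
  have := le_of_mul_le_mul_left h2 hpos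
  nlinarith

end H2.QD
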