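import Mathlib
import Cfsg.Agent.H2.QB2
import Cfsg.Agent.H2.QCh1
import Cfsg.Agent.H2.QNum
import Cfsg.Agent.H26.QX1
import Cfsg.Agent.S0157

/-! # QEx: the characters of the principal 2-block of `H` -/

set_option autoImplicit false
set_option linter.unusedSectionVars false

namespace H2.QD

open H24 Cfsg Subgroup Finset H4 H26.QX
open H13.Dih (Four V4 Inv CD UU PP FC res piElt_odd pi_two ne_one_of sq_of two_of)
open H5 (SIrr)
open scoped ComplexConjugate MatrixGroups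

universe u

variable {G : Type u} [Group G]

namespace QC
variable [Finite G] (c : QC G) {g x y v : G} {j : ℕ} {ν : G → ℂ}

theorem ex_four (h : IsConj c.i v) : v ∉ c.CT := fun hv => by
  obtain ⟨x, rfl⟩ := isConj_iff.1 h
  have h4 : orderOf (x * c.i * x⁻¹) = 4 := ((MulAut.conj x).orderOf_eq c.i).trans c.ord_i
  have := orderOf_dvd_of_pow_eq_one (n := 2) ((sq _).trans (c.four.V_sq (zpowers_le.1
    (c.le_T ((c.S_pi.piElt (c.Q_le_S c.i_mem_Q)).conj x).isPi (zpowers_le.2 hv)))))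
  rw [h4] at this
  exact absurd this (by decide)

theorem ex_le : C{c.i} ≤ c.H := fun x hx => mem_C1.2 (by
  rw [← c.i_sq, ← mul_assoc, mem_C1.1 hx, mul_assoc, mem_C1.1 hx, mul_assoc])

theorem ex_tH : c.t ∈ c.H := mem_C1.2 rfl

theorem ex_iH : c.i ∈ c.H := c.ex_le (mem_C1.2 rfl)

theorem ex_inv (hv : v ∈ C{c.i}) (h : v * v = 1) : v = 1 ∨ v = c.t := by
  by_contra e
  push Not at e
  obtain ⟨g, hg, e1⟩ := c.invol_H (c.ex_le hv) (two_of h e.1) e.2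
  refine c.ex_four (isConj_iff.2 ⟨g, rfl⟩) (mem_inf.2 ⟨conj_mem (norm_self _ hg) c.ex_iH, ?_⟩)
  rw [← e1, ← cj_C1]
  exact conj_mem_cj g (mem_C1_comm.1 hv)

theorem ex_ω : c.ω ∈ C{c.i} := mem_C1.2 (pow_mul_comm' _ _).symm

theorem ex_syl : Syl 2 C{c.i} (zpowers c.ω) := by
  refine syl_of_max Nat.prime_two (c.S_pi.of_le le_sup_left) (zpowers_le.2 c.ex_ω)
    fun P hP h1 h2 => ?_
  obtain ⟨g, -, hg⟩ := Sylow_Jsub Nat.prime_two c.S_syl hP le_top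
  by_contra e
  have h3 : H24.cj g P = c.S := by
    refine eq_of_le_of_card_ge hg ?_
    obtain ⟨k, hk⟩ := hP.card_eq_pow Nat.prime_two
    have := card_lt_of_lt (lt_of_le_not_ge h1 e)
    rw [card_zpowers', c.ord_ω, hk, Nat.pow_lt_pow_iff_right one_lt_two] at this
    rw [card_cj, hk, c.card_S]
    exact Nat.pow_le_pow_right two_pos this
  refine c.ex_four (isConj_iff.2 ⟨g, rfl⟩) (c.C_T ▸ mem_C_iff_le_C1.2 (c.T_le_S.trans ?_))
  rw [← h3, ← cj_C1]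
  exact cj_mono g h2

theorem ex_i (hj : ¬ 2 ^ (c.a - 1) ∣ j) : c.i ∈ zpowers (c.ω ^ j) := by
  obtain ⟨e, m, hm, rfl⟩ := Nat.exists_eq_two_pow_mul_odd (n := j) (by rintro rfl; simp at hj)
  have he : e ≤ c.a - 2 := by
    by_contra h
    exact hj ((pow_dvd_pow 2 (by omega)).mul_right m)
  have h1 : c.ω ^ 2 ^ e ∈ zpowers ((c.ω ^ 2 ^ e) ^ m) := mem_zpowers_pow_iff.2
    (Nat.Coprime.of_dvd_right (c.ord_ω ▸ orderOf_pow_dvd _) ((Nat.coprime_two_right.2 hm).pow_right _))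
  rw [pow_mul, i, ← Nat.add_sub_cancel' he, pow_add, pow_mul]
  exact pow_mem h1 _

theorem ex_pi (j : ℕ) : PiElt {2} (c.ω ^ j) := c.S_pi.piElt (pow_mem c.ω_mem_S j)

theorem ex_i' (hj : ¬ 2 ^ (c.a - 1) ∣ j) (hy : y ∈ C{c.ω ^ j}) (ho : Odd (orderOf y)) :
    c.i ∈ zpowers (c.ω ^ j * y) := by
  have := constt_mem_zpowers {2} (c.ω ^ j * y)
  rw [constt_mul_of (c.ex_pi j) (piElt_odd.2 ho) (mem_C1.1 hy).symm] at this
  exact zpowers_le.2 this (c.ex_i hj)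

theorem ex_y (hj : ¬ 2 ^ (c.a - 1) ∣ j) (hy : y ∈ C{c.ω ^ j}) : y ∈ C{c.i} :=
  mem_C1_comm.1 (zpowers_le.2 (mem_C1_comm.1 hy) (c.ex_i hj))

theorem ex_R (hy : y ∈ c.R) : y ∈ c.CT ∧ Odd (orderOf y) ∧ c.s ∈ zpowers (c.s * y) :=
  have h := c.mem_R.1 hy
  ⟨h.1, h.2, H13.W.mem_zpowers_of_comm c.ord_s h.2 (mem_C1.1 h.1.2).symm⟩

theorem ex_sy (hy : y ∈ c.R) : c.s * y ∈ c.CT := mul_mem (c.T_le_CT Four.s_mem) (c.ex_R hy).1

theorem ex_red (hg : g ∈ c.H) (h1 : ¬ Odd (orderOf g)) (h2 : ¬ Odd (orderOf (c.t * g))) :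
    ∃ h ∈ c.H, (∃ j < 2 ^ c.a, ¬ 2 ^ (c.a - 1) ∣ j ∧ ∃ y ∈ C{c.ω ^ j}, Odd (orderOf y) ∧
      h * g * h⁻¹ = c.ω ^ j * y) ∨ ∃ y ∈ c.R, h * g * h⁻¹ = c.s * y := by
  rcases (c.H_cases hg).resolve_left h1 with h | ⟨h, hh, e⟩
  · obtain ⟨h, hh, ⟨y, -, ho, e⟩ | e⟩ := c.D_cases h
    · refine absurd ?_ h2
      rwa [← (MulAut.conj h).orderOf_eq, MulAut.conj_apply, ← mul_assoc, mem_C1.1 hh, mul_assoc,
        mul_assoc, ← mul_assoc h, e, ← mul_assoc, sq_of c.four.ht, one_mul]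
    · exact ⟨h, hh, Or.inl e⟩
  · exact ⟨h, hh, Or.inr e⟩

theorem ex_om (hj : ¬ 2 ^ (c.a - 1) ∣ j) (hy : y ∈ C{c.ω ^ j}) (ho : Odd (orderOf y)) :
    c.ω ^ j * y ∈ c.H ∧ ¬ Odd (orderOf (c.ω ^ j * y)) ∧ ¬ Odd (orderOf (c.t * (c.ω ^ j * y))) := by
  have k : ∀ n, c.ω ^ n = 1 → 2 ^ (c.a - 1) ∣ n := fun n h =>
    (pow_dvd_pow 2 (Nat.sub_le _ _)).trans (c.ord_ω ▸ orderOf_dvd_of_pow_eq_one h)
  refine ⟨c.mem_H_of (c.D_om hj hy ho).1, not_odd_of (c.ex_pi j) (mt (k j) hj) (mem_C1.1 hy).symm ho, ?_⟩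
  rw [← mul_assoc, t, ← pow_add]
  refine not_odd_of (c.ex_pi _) (fun h => hj ((Nat.dvd_add_right dvd_rfl).1 (k _ h))) ?_ ho
  rw [pow_add]
  exact (Commute.mul_right (mem_C1.1 (c.D_om hj hy ho).2) (mem_C1.1 hy)).symm

theorem ex_s (hy : y ∈ c.R) :
    c.s * y ∈ c.H ∧ ¬ Odd (orderOf (c.s * y)) ∧ ¬ Odd (orderOf (c.t * (c.s * y))) := by
  obtain ⟨h1, h2, -⟩ := c.ex_R hy
  refine ⟨(c.ex_sy hy).1, not_odd_mul c.ord_s (mem_C1.1 h1.2).symm h2, ?_⟩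
  rw [← mul_assoc]
  exact not_odd_mul c.four.hts (mem_C1.1 (Four.C_mul h1.1 h1.2)).symm h2

theorem ex_cj {K : Subgroup G} (h : x * g * x⁻¹ ∈ K) (hv : v ∈ zpowers g) : x * v * x⁻¹ ∈ K := by
  obtain ⟨k, rfl⟩ := hv
  simpa only [conj_zpow] using zpow_mem h k

theorem ex_si : c.s * c.i * c.s⁻¹ = c.i⁻¹ := by
  have h := c.i_s
  rw [← c.i_sq, mul_assoc, mul_assoc, mul_right_inj] at h
  calc _ = c.s * (c.i * c.s) * (c.s * c.s)⁻¹ := by group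
    _ = _ := by rw [← h, ← mul_assoc, sq_of c.ord_s]; simp

theorem ex_Ki (hν : IsGeneralizedCharacter C{c.i} fun k => ν k) (hj : ¬ 2 ^ (c.a - 1) ∣ j)
    (hy : y ∈ C{c.ω ^ j}) (ho : Odd (orderOf y)) : c.s * y * c.s⁻¹ ∈ C{c.i} ∧
    iF c.H C{c.i} ν (c.ω ^ j * y) =
      ν (c.ω ^ j * y) + ν (c.ω ^ (j * (2 ^ (c.a - 1) - 1)) * (c.s * y * c.s⁻¹)) := by
  have hs : c.s ∈ N[C{c.i}] := by
    rw [mem_N_iff_cj, cj_C1, c.ex_si, ← C_zpowers, zpowers_inv, C_zpowers]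
  have h1 := mul_mem (pow_mem c.ex_ω j) (c.ex_y hj hy)
  have ss : c.s⁻¹ = c.s := H13.Dih.inv_of c.ord_s
  have it : c.i * c.i⁻¹⁻¹ ≠ 1 := by rw [inv_inv, c.i_sq]; exact ne_one_of c.four.ht
  refine ⟨conj_mem hs (c.ex_y hj hy), ?_⟩
  rw [iF_two (w := c.s⁻¹) c.ex_le hν h1 (inv_mem (c.S_le_H c.s_mem_S)) (fun e => it ?_)
    (by simpa using conj_mem hs h1) fun x hx e => ?_]
  · rw [mul_comm j, pow_mul, ← c.rel, conj_pow]
    congr 2
    group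
  · rw [← c.ex_si, mem_C1_iff_conj.1 (inv_mem_iff.1 e), mul_inv_cancel]
  have h2 := ex_cj e (c.ex_i' hj hy ho)
  have h3 : x * c.i * x⁻¹ * (x * c.i * x⁻¹) = c.t := by
    rw [← mem_C1_iff_conj.1 hx, ← c.i_sq]; group
  rcases c.ex_inv (mul_mem h2 (mem_C1.2 rfl)) (by
    rw [← sq, Commute.mul_pow (mem_C1.1 h2), sq, sq, h3, c.i_sq, sq_of c.four.ht]) with h | h
  · refine Or.inr (mem_C1_iff_conj.2 ?_)
    calc _ = x * (c.s * c.i * c.s⁻¹) * x⁻¹ := by rw [ss, mul_inv_rev, ss]; group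
      _ = (x * c.i * x⁻¹)⁻¹ := by rw [c.ex_si]; group
      _ = _ := inv_eq_of_mul_eq_one_right h
  · exact Or.inl (mem_C1_iff_conj.2 (mul_right_cancel (h.trans c.i_sq.symm)))

theorem ex_Ki' (hy : y ∈ c.R) : iF c.H C{c.i} ν (c.s * y) = 0 :=
  iF_zero (c.ex_s hy).1 fun x hx e => by
    rcases c.ex_inv (ex_cj e (c.ex_R hy).2.2) (by
      exact sq_of (H13.Dih.two_conj c.ord_s x)) with h | h
    · exact ne_one_of c.ord_s (conj_eq_one_iff'.1 h)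
    · rw [← mem_C1_iff_conj.1 hx] at h
      exact c.four.ne (by simpa using h)

theorem ex_KT (hj : ¬ 2 ^ (c.a - 1) ∣ j) (hy : y ∈ C{c.ω ^ j}) (ho : Odd (orderOf y)) :
    iF c.H c.CT ν (c.ω ^ j * y) = 0 :=
  iF_zero (c.ex_om hj hy ho).1 fun x _ e =>
    c.ex_four (isConj_iff.2 ⟨x, rfl⟩) (ex_cj e (c.ex_i' hj hy ho))

theorem ex_KT' (hν : IsGeneralizedCharacter c.CT fun k => ν k) (hy : y ∈ c.R) :
    iF c.H c.CT ν (c.s * y) = ν (c.s * y) + ν (c.t * (c.s * (c.i * y * c.i⁻¹))) := by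
  have h1 := c.NT_le_NCT c.i_mem_NT
  rw [iF_two (w := c.i⁻¹) c.CT_le_H hν (c.ex_sy hy) (inv_mem c.ex_iH)
    (fun e => c.ex_four (IsConj.refl _) (inv_mem_iff.1 e))
    (by simpa using conj_mem h1 (c.ex_sy hy)) fun x hx e => ?_]
  · rw [← mul_assoc c.t, ← c.i_s]
    congr 2
    group
  have h2 : orderOf (x * c.s * x⁻¹) = 2 := H13.Dih.two_conj c.ord_s x
  have h3 := zpowers_le.1 (c.le_T (pi_two h2).isPi (zpowers_le.2 (ex_cj e (c.ex_R hy).2.2)))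
  rcases c.four.mem_V.1 h3 with h | h | h | h
  · exact absurd h (ne_one_of h2)
  · rw [← mem_C1_iff_conj.1 hx] at h
    exact absurd (by simpa using h) c.four.ne
  · exact Or.inl (mem_inf.2 ⟨hx, mem_C1_iff_conj.2 h⟩)
  · refine Or.inr (mem_inf.2 ⟨mul_mem hx (inv_mem c.ex_iH), mem_C1_iff_conj.2 ?_⟩)
    have : c.i⁻¹ * c.s * c.i = c.t * c.s := by
      rw [mul_assoc, inv_mul_eq_iff_eq_mul, eq_comm, ← mul_inv_eq_iff_eq_mul, c.i_ts]
    calc _ = x * (c.i⁻¹ * c.s * c.i) * x⁻¹ := by group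
      _ = x * c.t * x⁻¹ * (x * c.s * x⁻¹) := by rw [this]; group
      _ = _ := by rw [mem_C1_iff_conj.1 hx, h, c.four.t_ts]

end QC

namespace Mod
variable [Finite G] {c : QC G} (M : Mod c) {f f' Φ : G → ℂ} {d d' : Dat} {A B C A' B' C' : ℂ} {g y : G}

theorem ex_half : (-1 : ℂ) ^ 2 ^ (c.a - 1) = 1 :=
  Even.neg_one_pow ((Nat.even_pow' (by have := c.ha; omega)).2 even_two)

theorem ex_Q : M.Qe ≠ 0 ∧ M.Qe ≠ 1 ∧ M.Qe ≠ -1 := by
  have h1 := M.Qe_mod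
  have h2 := M.Qe_sq
  refine ⟨by omega, by omega, fun e => ?_⟩
  rw [e] at h2
  rcases M.q_cases with h | h <;> nlinarith

theorem St_t (hg : g ∈ c.H) : M.St (c.t * g) = M.St g :=
  M.St_congr (by rw [ap_mul _ c.ex_tH hg, M.κ_t, one_mul])

theorem sgn_t (hg : g ∈ c.H) : M.sgn (c.t * g) = M.sgn g := by
  rw [M.sgn_mul c.ex_tH hg, M.sgn_Lt (M.S_inf_Lt.ge c.t_mem_Q).2, one_mul]

theorem sgn_om (j : ℕ) (hy : y ∈ c.H) (ho : Odd (orderOf y)) : M.sgn (c.ω ^ j * y) = (-1) ^ j := by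
  have h := c.S_le_H c.ω_mem_S
  rw [M.sgn_mul (pow_mem h j) hy, M.sgn_odd ho, mul_one]
  induction j with
  | zero => exact M.sgn_odd (by simp)
  | succ j ih => rw [pow_succ, M.sgn_mul (pow_mem h j) h, ih, M.sgn_ω, pow_succ]

theorem sgn_sy (hy : y ∈ c.R) : M.sgn (c.s * y) = -1 := by
  rw [M.sgn_mul (c.S_le_H c.s_mem_S) (c.ex_R hy).1.1, M.sgn_s, M.sgn_odd (c.ex_R hy).2.1, mul_one]

theorem sgn_irr : IsIrrCharacter c.H fun h => (M.sgn h : ℂ) :=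
  lin_irr (f := fun g => M.sgn g) (by rw [M.sgn_odd (by simp), Int.cast_one]) fun a ha b hb => by
    rw [M.sgn_mul ha hb, Int.cast_mul]

theorem St_irr : IsIrrCharacter c.H (fun h => (M.St h : ℂ)) ∨
    IsIrrCharacter c.H (fun h => -(M.St h : ℂ)) := by
  let := M.E.act
  have : Nontrivial (OnePoint M.F) := ⟨_, _, OnePoint.infty_ne_coe 0⟩
  have e : ∀ (y : PGL(2, M.F)) (z : OnePoint M.F), M.E.ι y • z = y • z := fun y z => by
    let := H0.WM.gaMul (F := M.F)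
    change M.E.j (M.E.ι y) • z = _
    rw [M.E.jι, H0.WM.inl_smul]
  have h2 : MulAction.IsMultiplyPretransitive M.Γ (OnePoint M.F) 2 :=
    MulAction.is_two_pretransitive_iff.2 fun h h' => by
      obtain ⟨g, h1, h2⟩ := H0.WM.two_trans h h'
      exact ⟨M.E.ι g, by rw [e, h1], by rw [e, h2]⟩
  have h1 : MulAction.IsPretransitive M.Γ (OnePoint M.F) :=
    MulAction.isPretransitive_of_is_two_pretransitive
  have h := ((Agent.S0157.result _ Finite.one_lt_card).2 h2).comp_surjective M.κ M.surj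
  rcases M.N.hε with h' | h'
  · left; simpa [St, h'] using h
  · right; simpa [St, h'] using h

variable {M}

theorem HC.sirr [Fintype c.H] (h : M.HC f d A B C) : SIrr fun h : c.H => f h := sirr_or h.irr

theorem HC.gen (h : M.HC f d A B C) : IsGeneralizedCharacter c.H fun h => f h :=
  have := Fintype.ofFinite c.H
  h.sirr.gen

theorem HC.one (h : M.HC f d A B C) : f 1 = A + B * M.Qe := by
  rw [h.odd 1 (one_mem _) (by simp), M.St_one]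

theorem HC.orth [Fintype c.H] (h : M.HC f d A B C) (h' : M.HC f' d' A' B' C')
    (h1 : A + B * M.Qe ≠ A' + B' * M.Qe ∨ C ≠ C') (h2 : A + B * M.Qe ≠ -(A' + B' * M.Qe) ∨ C ≠ -C') :
    classInner (fun h : c.H => f h) (fun h => f' h) = 0 := by
  by_contra e
  have k := h.out 1 (one_mem _)
  have k' := h'.out 1 (one_mem _)
  rw [mul_one] at k k'
  rw [← h.one, ← h'.one, ← k, ← k'] at h1 h2
  rcases h.sirr.eq_or_eq_neg h'.sirr e with e | e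
  · exact h1.elim (· (congrFun e 1)) (· (congrFun e ⟨_, c.S_le_H c.s_mem_S⟩))
  · exact h2.elim (· (congrFun e 1)) (· (congrFun e ⟨_, c.S_le_H c.s_mem_S⟩))

theorem sp_mk (hf : IsGeneralizedCharacter c.H fun h => f h)
    (h1 : ∀ y ∈ c.H, Odd (orderOf y) → f (c.t * y) =
      d.1 * (1 + M.St y) + d.2 (2 ^ (c.a - 1)) * (1 - M.St y) / 2)
    (h2 : ∀ j, ¬ 2 ^ (c.a - 1) ∣ j → ∀ y ∈ C{c.ω ^ j}, Odd (orderOf y) → f (c.ω ^ j * y) = d.2 j) :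
    M.Sp 1 f d :=
  ⟨fun _ hg _ hh => gen_conj hf (c.mem_H_of hg) hh, fun y hy ho => by simp [h1 y hy ho],
    fun j _ hj y hy ho => by simp [h2 j hj y hy ho]⟩

variable (M)

theorem hc_one : M.HC (fun _ => 1) d1 1 0 1 :=
  ⟨Or.inl isIrrCharacter_one, sp_mk isGen_one (fun _ _ _ => by simp only [d1]; ring)
    fun _ _ _ _ _ => rfl, fun _ _ _ => by simp, fun _ _ => rfl⟩

theorem St_gen : IsGeneralizedCharacter c.H fun h => (M.St h : ℂ) :=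
  have := Fintype.ofFinite c.H
  (sirr_or M.St_irr).gen

theorem hc_St : M.HC (fun g => M.St g) dS 0 1 1 :=
  ⟨M.St_irr, sp_mk M.St_gen (fun _ hy _ => by simp only [dS, M.St_t hy]; ring)
    fun _ hj _ hy ho => by simp [dS, M.St_om hj hy ho], fun _ _ _ => by simp,
    fun _ hy => by simp [M.St_s hy]⟩

theorem hc_sgn : M.HC (fun g => M.sgn g) dsg 1 0 (-1) :=
  ⟨Or.inl M.sgn_irr, sp_mk M.sgn_irr.isGen
    (fun _ hy ho => by simp only [dsg, M.sgn_t hy, M.sgn_odd ho, ex_half]; push_cast; ring)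
    fun _ hj _ hy ho => by simp [dsg, M.sgn_om _ (c.D_om hj hy ho).2 ho],
    fun _ _ ho => by simp [M.sgn_odd ho], fun _ hy => by simp [M.sgn_sy hy]⟩

theorem hc_Ss : M.HC (fun g => M.St g * M.sgn g) dSs 0 1 (-1) := by
  have h1 : (M.sgn ((1 : c.H) : G) : ℂ) = 1 := by rw [M.sgn_odd (by simp), Int.cast_one]
  refine ⟨M.St_irr.imp (fun e => e.mul_linear M.sgn_irr.isCharacter h1) fun e => ?_,
    sp_mk (M.St_gen.mul M.sgn_irr.isGen) (fun _ hy ho => by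
      simp only [dSs, M.St_t hy, M.sgn_t hy, M.sgn_odd ho, ex_half]; push_cast; ring)
    fun _ hj _ hy ho => by simp [dSs, M.sgn_om _ (c.D_om hj hy ho).2 ho, M.St_om hj hy ho],
    fun _ _ ho => by simp [M.sgn_odd ho], fun _ hy => by simp [M.sgn_sy hy, M.St_s hy]⟩
  convert e.mul_linear M.sgn_irr.isCharacter h1 using 1
  funext h
  simp

/-- a generalized character of `H` supported on `D` -/
structure DSx (Φ : G → ℂ) (d : Dat) : Prop where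
  gen : IsGeneralizedCharacter c.H fun h => Φ h
  sp : M.Sp 1 Φ d
  odd : ∀ y ∈ c.H, Odd (orderOf y) → Φ y = 0
  out : ∀ y ∈ c.R, Φ (c.s * y) = 0

variable {M}

theorem DSx.supp (h : M.DSx Φ d) (hg : g ∈ c.H) (h1 : c.t ∉ zpowers g) : Φ g = 0 := by
  rcases c.H_cases hg with e | e | ⟨x, hx, y, hy, e⟩
  exacts [h.odd g hg e, absurd e h1, by rw [← gen_conj h.gen hg hx, e, h.out y hy]]

theorem DSx.inner [Fintype c.H] (h : M.DSx Φ d) (h' : M.Sp 1 f d') :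
    classInner (fun h : c.H => f h) (fun h => Φ h) = bf c.a d' d := by
  have := Fintype.ofFinite G
  rw [c.inner_H_eq_dip fun _ => h.supp, h'.dip h.sp (by simp)]

variable (M)

theorem ds_V (k : ℕ) : ∃ Φ, M.DSx Φ (dV c.a k) := by
  have hz : IsPrimitiveRoot (Complex.exp (2 * Real.pi * Complex.I / 2 ^ c.a)) (2 ^ c.a) := by
    simpa using Complex.isPrimitiveRoot_exp (2 ^ c.a) (by positivity)
  obtain ⟨ν, h1, h2⟩ := lin_of_cyc c.ex_syl (c.four.ht ▸ orderOf_dvd_card' (c.i_sq ▸ mul_mem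
    (mem_C1.2 rfl) (mem_C1.2 rfl))) (z := Units.mk0 _ (Complex.exp_ne_zero
      (2 * Real.pi * Complex.I / 2 ^ c.a)) ^ k) (Units.ext (by
    rw [c.ord_ω, ← pow_mul, mul_comm k, pow_mul]; simp [hz.pow_eq_one]))
  have tK : c.t ∈ C{c.i} := pow_mem c.ex_ω _
  have hν : IsGeneralizedCharacter C{c.i} fun x => ((ap ν (x : G) : ℂˣ) : ℂ) := by
    simpa using (isIrrCharacter_linear ν).isGen
  have h3 : ∀ j, ∀ y ∈ C{c.i}, ((ap ν (c.ω ^ j * y) : ℂˣ) : ℂ) =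
      Complex.exp (2 * Real.pi * Complex.I / 2 ^ c.a) ^ (k * j) * (ap ν y : ℂˣ) := fun j y hy => by
    rw [ap_mul _ (pow_mem c.ex_ω j) hy, ap_pow _ c.ex_ω, h1]
    simp [pow_mul]
  have h4 : ∀ j, ¬ 2 ^ (c.a - 1) ∣ j → ∀ y ∈ C{c.ω ^ j}, Odd (orderOf y) →
      iF c.H C{c.i} 1 (c.ω ^ j * y) = 2 := fun j hj y hy ho => by
    rw [(c.ex_Ki isGen_one hj hy ho).2]; norm_num
  have h5 : (-1 : ℂ) ^ k = 1 - 2 * ((k % 2 : ℕ) : ℤ) := by
    rcases Nat.even_or_odd k with h | h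
    · simp [h.neg_one_pow, Nat.even_iff.1 h]
    · simp [h.neg_one_pow, Nat.odd_iff.1 h]; norm_num
  obtain ⟨Φ, g1, g2, g3⟩ := H26.QX.mk (H := c.H) (b := (k % 2 : ℕ)) (ν := fun x => (ap ν x : ℂˣ))
    (ψ := fun g => 1 - M.St g) c.four.ht le_rfl c.ex_le tK
    hν (fun y hy ho => by rw [h2 y hy ho, Units.val_one]) (fun y hy => by
      have e : 2 ^ c.a = 2 ^ (c.a - 1) * 2 := by rw [← pow_succ, Nat.sub_add_cancel c.a1]
      rw [QC.t, h3 _ _ hy, ← h5, mul_comm k, pow_mul,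
        (hz.pow (by positivity) e).eq_neg_one_of_two_right])
    (isGen_one.sub M.St_gen) (fun g hg => by rw [M.St_t hg]) fun g hg k1 k2 => by
      obtain ⟨x, hx, e⟩ := c.ex_red hg k1 k2
      rw [← M.St_conj hg hx, ← gen_conj (iF_gen isGen_one) hg hx]
      rcases e with ⟨j, -, hj, y, hy, ho, e⟩ | ⟨y, hy, e⟩ <;> rw [e]
      · rw [h4 j hj y hy ho, M.St_om hj hy ho]; norm_num
      · rw [c.ex_Ki' hy, M.St_s hy]; norm_num
  refine ⟨Φ, g1, sp_mk g1 (fun y hy ho => ?_) fun j hj y hy ho => ?_, fun y hy ho => (g2 y hy ho).1,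
    fun y hy => by rw [g3 _ (c.ex_s hy).1 (c.ex_s hy).2.1 (c.ex_s hy).2.2, c.ex_Ki' hy, c.ex_Ki' hy,
      sub_zero]⟩
  · simp only [(g2 y hy ho).2, dV, d1, dS, dθ, Prod.fst_add, Prod.fst_sub, Prod.snd_add, Prod.snd_sub,
      Pi.add_apply, Pi.sub_apply, sym_half c.ha, h5]
    ring
  · obtain ⟨k1, k2, k3⟩ := c.ex_om hj hy ho
    obtain ⟨k4, k5⟩ := c.ex_Ki (ν := fun x => (ap ν x : ℂˣ)) hν hj hy ho
    rw [g3 _ k1 k2 k3, h4 j hj y hy ho, k5, h3 _ _ (c.ex_y hj hy), h3 _ _ k4, h2 _ (c.ex_y hj hy) ho,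
      h2 _ k4 (by rwa [show orderOf (c.s * y * c.s⁻¹) = _ from (MulAut.conj c.s).orderOf_eq y])]
    simp only [dV, d1, dS, dθ, Prod.snd_add, Prod.snd_sub, Pi.add_apply, Pi.sub_apply, sym,
      Units.val_one, mul_assoc]
    ring

theorem ds_X : ∃ Φ, M.DSx Φ dX := by
  have hρ := c.NT_le_NCT c.rot_ρ.mem_NT
  have m : ∀ x ∈ c.CT, c.ρ * x * c.ρ⁻¹ ∈ c.H := fun x hx => (conj_mem hρ hx).1
  have h1 : ∀ x ∈ c.CT, ∀ y ∈ c.CT, M.sgn (c.ρ * (x * y) * c.ρ⁻¹) =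
      M.sgn (c.ρ * x * c.ρ⁻¹) * M.sgn (c.ρ * y * c.ρ⁻¹) := fun x hx y hy => by
    rw [← M.sgn_mul (m x hx) (m y hy), conj_mul]
  have h2 : ∀ y, Odd (orderOf y) → M.sgn (c.ρ * y * c.ρ⁻¹) = 1 := fun y ho => M.sgn_odd (by
    rwa [show orderOf (c.ρ * y * c.ρ⁻¹) = _ from (MulAut.conj c.ρ).orderOf_eq y])
  have tK := c.T_le_CT Four.t_mem
  have h3 : ∀ y ∈ c.CT, M.sgn (c.ρ * (c.t * y) * c.ρ⁻¹) = -M.sgn (c.ρ * y * c.ρ⁻¹) := fun y hy => by
    rw [h1 _ tK y hy, c.rot_ρ.1, M.sgn_s, neg_one_mul]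
  have hν : IsGeneralizedCharacter c.CT fun x => (M.sgn (c.ρ * x * c.ρ⁻¹) : ℂ) :=
    (lin_irr (f := fun x => M.sgn (c.ρ * x * c.ρ⁻¹)) (by rw [h2 1 (by simp), Int.cast_one])
      fun a ha b hb => by rw [h1 a ha b hb, Int.cast_mul]).isGen
  have h4 : ∀ y ∈ c.R, iF c.H c.CT 1 (c.s * y) = 2 := fun y hy => by
    rw [c.ex_KT' isGen_one hy]; norm_num
  obtain ⟨Φ, g1, g2, g3⟩ := H26.QX.mk (H := c.H) (b := 1) (ν := fun x => M.sgn (c.ρ * x * c.ρ⁻¹))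
    (ψ := fun g => 1 + M.St g) c.four.ht le_rfl c.CT_le_H tK
    hν (fun y _ ho => by rw [h2 y ho, Int.cast_one]) (fun y hy => by rw [h3 y hy]; push_cast; ring)
    (isGen_one.add M.St_gen) (fun g hg => by rw [M.St_t hg]) fun g hg k1 k2 => by
      obtain ⟨x, hx, e⟩ := c.ex_red hg k1 k2
      rw [← M.St_conj hg hx, ← gen_conj (iF_gen isGen_one) hg hx]
      rcases e with ⟨j, -, hj, y, hy, ho, e⟩ | ⟨y, hy, e⟩ <;> rw [e]
      · rw [c.ex_KT hj hy ho, M.St_om hj hy ho]; norm_num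
      · rw [h4 y hy, M.St_s hy]; norm_num
  have g4 := (g1.add M.sgn_irr.isGen).sub isGen_one
  refine ⟨fun g => Φ g + M.sgn g - 1, g4, sp_mk g4 (fun y hy ho => ?_) fun j hj y hy ho => ?_,
    fun y hy ho => by simp [(g2 y hy ho).1, M.sgn_odd ho], fun y hy => ?_⟩
  · simp only [(g2 y hy ho).2, dX, dS, dsg, dB, Prod.fst_add, Prod.snd_add, Pi.add_apply, ex_half,
      M.sgn_t hy, M.sgn_odd ho]
    push_cast
    ring
  · obtain ⟨k1, k2, k3⟩ := c.ex_om hj hy ho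
    simp only [g3 _ k1 k2 k3, c.ex_KT hj hy ho, M.sgn_om j (c.D_om hj hy ho).2 ho, dX, dS, dsg, dB,
      Prod.snd_add, Pi.add_apply]
    push_cast
    ring
  · have hy' : c.i * y * c.i⁻¹ ∈ c.R := conj_mem (c.NT_le_NR c.i_mem_NT) hy
    have sK := c.T_le_CT Four.s_mem
    simp only [g3 _ (c.ex_s hy).1 (c.ex_s hy).2.1 (c.ex_s hy).2.2, h4 y hy, 
      c.ex_KT' (ν := fun x => M.sgn (c.ρ * x * c.ρ⁻¹)) hν hy,
      M.sgn_sy hy, h3 _ (c.ex_sy hy'), h1 _ sK _ (c.ex_R hy).1, h1 _ sK _ (c.ex_R hy').1,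
      h2 _ (c.ex_R hy).2.1, h2 _ (c.ex_R hy').2.1]
    push_cast
    ring

theorem hc_θ {k : ℕ} (hk : ¬ 2 ^ (c.a - 1) ∣ k) : ∃ f, M.HC f (dθ c.a k) (-1) 1 0 := by
  have := Fintype.ofFinite c.H
  obtain ⟨Φ, h⟩ := M.ds_V k
  obtain ⟨q0, q1, q2⟩ := M.ex_Q
  have b := bf_V c.ha hk
  have i1 := (M.hc_one.gen.inner_comm h.gen).symm.trans ((h.inner M.hc_one.sp).trans b.1)
  have i2 := (M.hc_St.gen.inner_comm h.gen).symm.trans ((h.inner M.hc_St.sp).trans b.2.1)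
  have i3 := M.hc_one.orth M.hc_St (Or.inl (by simpa using by exact_mod_cast q1.symm))
    (Or.inr (by norm_num))
  have i4 := h.inner h.sp
  nth_rewrite 1 [dV] at i4
  rw [bf_add, bf_sub, b.1, b.2.1, (bf_θ c.ha hk hk).1, if_pos ((Rel.equiv c.ha).refl k)] at i4
  have s := H5.sirr_sub_of_norm_two M.hc_St.sirr.neg (h.gen.sub isGen_one)
    (by rw [M.hc_one.sirr.norm_sub h.gen i1, i4]; norm_num)
    (by rw [classInner_neg_right, classInner_sub_left, i2, i3]; norm_num)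
  refine ⟨Φ - (fun _ => 1) + fun g => (M.St g : ℂ), ?_, ((h.sp.sub M.hc_one.sp).add M.hc_St.sp).congr
    (by simp [dV]; ring) fun j _ => by simp [dV]; ring, fun y hy ho => by simp [h.odd y hy ho],
    fun y hy => by simp [h.out y hy, M.St_s hy]⟩
  rw [sub_neg_eq_add] at s
  exact s.irr_or

theorem hc_β : ∃ f, M.HC f dB (-1) (-1) 0 := by
  have := Fintype.ofFinite c.H
  obtain ⟨Φ, h⟩ := M.ds_X
  obtain ⟨q0, q1, q2⟩ := M.ex_Q
  have b := bf_X c.ha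
  have i1 := (M.hc_sgn.gen.inner_comm h.gen).symm.trans ((h.inner M.hc_sgn.sp).trans b.2.2.1)
  have i2 := (M.hc_St.gen.inner_comm h.gen).symm.trans ((h.inner M.hc_St.sp).trans b.2.1)
  have i3 := M.hc_sgn.orth M.hc_St (Or.inr (by norm_num))
    (Or.inl (by simpa using by exact_mod_cast (by omega : 1 ≠ -M.Qe)))
  have i4 := h.inner h.sp
  nth_rewrite 1 [dX] at i4
  rw [bf_add, bf_add, b.2.1, b.2.2.1, b.2.2.2.2] at i4
  have s := H5.sirr_sub_of_norm_two M.hc_St.sirr (h.gen.sub M.hc_sgn.gen)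
    (by rw [M.hc_sgn.sirr.norm_sub h.gen i1, i4]; norm_num)
    (by rw [classInner_sub_left, i2, i3]; norm_num)
  refine ⟨Φ - (fun g => (M.sgn g : ℂ)) - fun g => (M.St g : ℂ), s.irr_or, ((h.sp.sub M.hc_sgn.sp).sub
    M.hc_St.sp).congr (by simp [dX]; ring) fun j _ => by simp [dX]; ring, fun y hy ho => by
      simp [h.odd y hy ho, M.sgn_odd ho]; ring, fun y hy => by
      simp [h.out y hy, M.St_s hy, M.sgn_sy hy]⟩

end Mod

end H2.QD
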