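import Mathlib
import Cfsg.Agent.H2.QDefs2
import Cfsg.Agent.H17.JB4
import Cfsg.Agent.H2.QCh1
import Cfsg.Agent.H2.QEx
import Cfsg.Agent.H2.QB1

/-! The principal 2-block of `H = C(t)`. -/

set_option autoImplicit false

namespace H1.QB

open H24 Cfsg Subgroup Finset H4 H2.QD
open scoped ComplexConjugate

universe u

theorem sum_pow {a m : ℕ} (ha : 1 ≤ a) {ζ : ℂ} (hζ : IsPrimitiveRoot ζ (2 ^ a))
    (hm : ¬ 2 ^ a ∣ m) :
    ∑ k ∈ (range (2 ^ a)).filter (fun k => ¬ 2 ^ (a - 1) ∣ k), ζ ^ (k * m) = -1 - (-1) ^ m := by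
  have e : 2 ^ a = 2 ^ (a - 1) * 2 := by rw [← pow_succ]; congr 1; omega
  have hp : 0 < 2 ^ (a - 1) := by positivity
  have h1 : ∑ k ∈ range (2 ^ a), ζ ^ (k * m) = 0 := by
    have h2 : ζ ^ m ≠ 1 := fun h => hm ((hζ.pow_eq_one_iff_dvd m).1 h)
    have h3 : ∑ k ∈ range (2 ^ a), ζ ^ (k * m) = ∑ k ∈ range (2 ^ a), (ζ ^ m) ^ k :=
      sum_congr rfl fun k _ => by rw [← pow_mul, mul_comm]
    rw [h3, geom_sum_eq h2, ← pow_mul, mul_comm, pow_mul, hζ.pow_eq_one, one_pow, sub_self,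
      zero_div]
  have h4 : (range (2 ^ a)).filter (fun k => 2 ^ (a - 1) ∣ k) = {0, 2 ^ (a - 1)} := by
    ext k
    simp only [mem_filter, Finset.mem_range, mem_insert, mem_singleton]
    constructor
    · rintro ⟨h, l, rfl⟩
      rw [e] at h
      have : l < 2 := lt_of_mul_lt_mul_left h (Nat.zero_le _)
      interval_cases l <;> simp
    · rintro (rfl | rfl)
      · exact ⟨by positivity, dvd_zero _⟩
      · exact ⟨by omega, dvd_rfl⟩
  have h5 : ζ ^ 2 ^ (a - 1) = -1 :=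
    (hζ.pow (by positivity) e).eq_neg_one_of_two_right
  have h6 := sum_filter_add_sum_filter_not (range (2 ^ a)) (fun k => 2 ^ (a - 1) ∣ k)
    (fun k => ζ ^ (k * m))
  rw [h1, h4, sum_pair hp.ne, pow_mul ζ (2 ^ (a - 1)), h5] at h6
  simp only [zero_mul, pow_zero] at h6
  linear_combination h6

theorem sum_sym {a j : ℕ} (ha : 3 ≤ a) (hj : j ∈ (range (2 ^ a)).erase 0) :
    ∑ k ∈ (range (2 ^ a)).filter (fun k => ¬ 2 ^ (a - 1) ∣ k), sym a k j = -2 - 2 * (-1) ^ j := by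
  have hζ := Complex.isPrimitiveRoot_exp (2 ^ a) (by positivity)
  push_cast at hζ
  rw [mem_erase, Finset.mem_range] at hj
  have h1 : ¬ 2 ^ a ∣ j := fun h => hj.1 (Nat.eq_zero_of_dvd_of_lt h hj.2)
  have ho : Odd (2 ^ (a - 1) - 1) :=
    Nat.Even.sub_odd Nat.one_le_two_pow (Nat.even_pow.2 ⟨even_two, by omega⟩) odd_one
  have h2 : ¬ 2 ^ a ∣ j * (2 ^ (a - 1) - 1) := fun h =>
    h1 ((Nat.Coprime.pow_left a (Nat.coprime_two_left.2 ho)).dvd_of_dvd_mul_right h)
  simp only [sym, mul_assoc _ j]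
  rw [sum_add_distrib, sum_pow (by omega) hζ h1, sum_pow (by omega) hζ h2, pow_mul' (-1 : ℂ),
    ho.neg_one_pow]
  ring

theorem card_filter (a : ℕ) :
    (((range (2 ^ a)).filter (fun k => ¬ 2 ^ (a - 1) ∣ k)).card : ℂ) ≠ -2 := by
  intro h
  have : (((range (2 ^ a)).filter (fun k => ¬ 2 ^ (a - 1) ∣ k)).card : ℤ) = -2 := by
    exact_mod_cast h
  omega

variable {G : Type u} [Group G] [Finite G] {c : QC G} (M : Mod c)

/-- the irreducible characters of `H` described by data -/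
def A0 : Set (H17.Irr c.H) := {ψ | (∃ d, M.Sp 1 (extendByZero c.H ψ.1) d) ∧
  ∃ a b : ℂ, ∀ y : c.H, Odd (orderOf (y : G)) → ψ.1 y = a + b * M.St y}

variable {M} {f f' : G → ℂ} {d d' : Dat} {A B C A' B' C' : ℂ}

theorem hc_irr (h : M.HC f d A B C) : ∃ χ ∈ A0 M, ∃ e : ℂ, (fun x : c.H => f x) = e • χ.1 := by
  rcases h.irr with h1 | h1
  · refine ⟨⟨_, h1⟩, ⟨⟨d, h.sp.of_eq fun g hg => ?_⟩, A, B, fun y hy => h.odd y y.2 hy⟩, 1,
      (one_smul _ _).symm⟩
    exact extendByZero_of_mem _ _ (c.mem_H_of hg)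
  · refine ⟨⟨_, h1⟩, ⟨⟨-d, h.sp.neg.of_eq fun g hg => ?_⟩, -A, -B, fun y hy => ?_⟩, -1, ?_⟩
    · exact extendByZero_of_mem _ _ (c.mem_H_of hg)
    · show -f y = _
      rw [h.odd y y.2 hy]; ring
    · ext x; simp

variable (M) in
/-- linear combinations of the known characters -/
structure LC [Fintype c.H] (f : G → ℂ) (d : Dat) (A B C : ℂ) : Prop where
  cls : IsClassFunction c.H (fun h => f h)
  orth : ∀ ψ ∉ A0 M, classInner (fun h : c.H => f h) ψ.1 = 0
  sp : M.Sp 1 f d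
  odd : ∀ y ∈ c.H, Odd (orderOf y) → f y = A + B * M.St y
  out : ∀ y ∈ c.R, f (c.s * y) = C

variable [Fintype c.H]

theorem lc_of (h : M.HC f d A B C) : LC M f d A B C := by
  obtain ⟨χ, hχ, e, he⟩ := hc_irr h
  refine ⟨by rw [he]; exact χ.2.classFun.smul e, fun ψ hψ => ?_, h.sp, h.odd, h.out⟩
  rw [he, classInner_smul_left, χ.2.inner_of_ne ψ.2 fun e => hψ (Subtype.ext e ▸ hχ), mul_zero]

theorem LC.zero : LC M 0 0 0 0 0 :=
  ⟨fun _ _ => rfl, fun _ _ => classInner_zero_left _, Mod.Sp.zero, fun _ _ _ => by simp,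
    fun _ _ => rfl⟩

theorem LC.add (h : LC M f d A B C) (h' : LC M f' d' A' B' C') :
    LC M (f + f') (d + d') (A + A') (B + B') (C + C') :=
  ⟨h.cls.add h'.cls, fun ψ hψ => by
    have := classInner_add_left (fun x : c.H => f x) (fun x : c.H => f' x) ψ.1
    rw [h.orth ψ hψ, h'.orth ψ hψ, add_zero] at this
    exact this, h.sp.add h'.sp,
    fun y hy ho => by rw [Pi.add_apply, h.odd y hy ho, h'.odd y hy ho]; ring,
    fun y hy => by rw [Pi.add_apply, h.out y hy, h'.out y hy]⟩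

theorem LC.smul (h : LC M f d A B C) (r : ℂ) : LC M (r • f) (r • d) (r * A) (r * B) (r * C) :=
  ⟨h.cls.smul r, fun ψ hψ => by
    have := classInner_smul_left r (fun x : c.H => f x) ψ.1
    rw [h.orth ψ hψ, mul_zero] at this
    exact this, h.sp.smul r,
    fun y hy ho => by rw [Pi.smul_apply, h.odd y hy ho, smul_eq_mul]; ring,
    fun y hy => by rw [Pi.smul_apply, h.out y hy, smul_eq_mul]⟩

theorem LC.sum {ι : Type} (s : Finset ι) {F : ι → G → ℂ} {D : ι → Dat}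
    (h : ∀ i ∈ s, LC M (F i) (D i) A B C) :
    LC M (∑ i ∈ s, F i) (∑ i ∈ s, D i) (s.card * A) (s.card * B) (s.card * C) := by
  classical
  induction s using Finset.induction_on with
  | empty => simpa using LC.zero
  | insert i s hi ih =>
    rw [sum_insert hi, sum_insert hi, card_insert_of_notMem hi]
    have := (h i (mem_insert_self _ _)).add (ih fun j hj => h j (mem_insert_of_mem hj))
    convert this using 1 <;> push_cast <;> ring

/-- values off `D` -/
theorem LC.off (h : LC M f d A B 0) {x : G} (hx : x ∈ c.H) (ho : ¬ Odd (orderOf x))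
    (hD : c.t ∉ zpowers x) : f x = 0 := by
  rcases c.H_cases hx with h1 | h1 | ⟨k, hk, y, hy, e⟩
  · exact absurd h1 ho
  · exact absurd h1 hD
  · rw [← h.out y hy, ← e]
    exact (h.cls ⟨x, hx⟩ ⟨k, hk⟩).symm

theorem LC.reg (h : LC M f d A B 0) (h1 : d.1 = 0) (h2 : ∀ j ∈ (range (2 ^ c.a)).erase 0, d.2 j = 0) :
    (fun x : c.H => f x) = H17.regPart 2 (fun x : c.H => A + B * M.St x) := by
  ext x
  by_cases ho : Odd (orderOf (x : G))
  · rw [H17.regPart_of_reg _ (by rw [← Subgroup.orderOf_coe]; exact ho.not_two_dvd_nat),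
      h.odd x x.2 ho]
  · rw [H17.regPart_of_sing _ (by
      rw [← Subgroup.orderOf_coe]; exact even_iff_two_dvd.1 (Nat.not_odd_iff_even.1 ho))]
    by_cases hD : c.t ∈ zpowers (x : G)
    · exact (h.sp.congr (d' := 0) h1 h2).ext Mod.Sp.zero hD
    · exact h.off x.2 ho hD

theorem orth_reg (a b : ℂ) {ψ : H17.Irr c.H} (hψ : ψ ∉ A0 M) :
    classInner (H17.regPart 2 (fun x : c.H => a + b * M.St x)) ψ.1 = 0 := by
  classical
  obtain ⟨β, hβ⟩ := M.hc_β
  have hθ : ∀ k, ∃ f, ¬ 2 ^ (c.a - 1) ∣ k → M.HC f (dθ c.a k) (-1) 1 0 := fun k => by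
    by_cases hk : 2 ^ (c.a - 1) ∣ k
    · exact ⟨0, fun h => absurd hk h⟩
    · exact (M.hc_θ hk).imp fun _ h _ => h
  choose θ hθ using hθ
  set s := (range (2 ^ c.a)).filter (fun k => ¬ 2 ^ (c.a - 1) ∣ k) with hs
  have hT := LC.sum s fun k hk => lc_of (hθ k (mem_filter.1 hk).2)
  have hn : (s.card : ℂ) + 2 ≠ 0 := fun h => card_filter c.a (by rw [← hs]; linear_combination h)
  -- `a + b St = x (4 + 4 St) + y ((2 - n) + (6 + n) St)`
  set y : ℂ := (b - a) / (2 * (s.card + 2)) with hy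
  set x : ℂ := (a - y * (2 - s.card)) / 4 with hx
  have h := (((((lc_of M.hc_one).smul x).add ((lc_of M.hc_St).smul (x + 2 * y))).add
    (((lc_of M.hc_sgn).smul x).add ((lc_of M.hc_Ss).smul (x + 2 * y)))).add
    ((lc_of hβ).smul (-(2 * x + 2 * y)))).add (hT.smul y)
  have e1 : x * 1 + (x + 2 * y) * 0 + (x * 1 + (x + 2 * y) * 0) + -(2 * x + 2 * y) * -1 +
      y * (s.card * -1) = a := by rw [hx]; ring
  have e2 : x * 0 + (x + 2 * y) * 1 + (x * 0 + (x + 2 * y) * 1) + -(2 * x + 2 * y) * -1 +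
      y * (s.card * 1) = b := by
    rw [hx]; field_simp; rw [hy]; field_simp; ring
  have e3 : x * 1 + (x + 2 * y) * 1 + (x * -1 + (x + 2 * y) * -1) + -(2 * x + 2 * y) * 0 +
      y * (s.card * 0) = 0 := by ring
  rw [e1, e2, e3] at h
  rw [← h.reg ?_ fun j hj => ?_]
  · exact h.orth ψ hψ
  · simp only [Prod.fst_add, Prod.smul_fst, Prod.fst_sum, d1, dS, dsg, dSs, dB, dθ, smul_eq_mul,
      sum_const_zero]
    ring
  · simp only [Prod.snd_add, Prod.smul_snd, Prod.snd_sum, d1, dS, dsg, dSs, dB, dθ, smul_eq_mul,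
      Pi.add_apply, Pi.smul_apply, Finset.sum_apply, sum_neg_distrib]
    rw [sum_sym c.ha hj]
    ring

omit [Fintype c.H] in
theorem mem_A0 (I : Ideal AlgInt) [H17.PM 2 I] {ψ : H17.Irr c.H} (h : ψ ∈ principalBlock I c.H) :
    ψ ∈ A0 M := by
  have := Fintype.ofFinite c.H
  have hA : H17.ind (A0 M) ∈ H17.ZS c.H I := H17.ind_mem_ZS_of_orth (p := 2) fun χ hχ ψ hψ => by
    obtain ⟨a, b, e⟩ := hχ.2
    rw [← orth_reg a b hψ]
    congr 1
    ext x
    by_cases ho : 2 ∣ orderOf x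
    · rw [H17.regPart_of_sing _ ho, H17.regPart_of_sing _ ho]
    · rw [H17.regPart_of_reg _ ho, H17.regPart_of_reg _ ho]
      exact e x (by rw [Subgroup.orderOf_coe]; exact Nat.odd_iff.2 (by omega))
  refine H17.mem_of_ind_mem_ZS hA (χ := irrOne _) ⟨⟨d1, M.hc_one.sp.of_eq fun g hg => ?_⟩, 1, 0,
    fun y _ => by rw [zero_mul, add_zero]; rfl⟩ h
  exact extendByZero_of_mem _ _ (c.mem_H_of hg)

omit [Fintype c.H] in
theorem cent_pp_le {g : G} (hg : c.t ∈ zpowers g) : C{H17.pp 2 g} ≤ c.H := by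
  intro x hx
  have h1 : H17.pp 2 c.t = c.t := H17.pp_of_pElt ⟨1, by rw [c.four.ht]; rfl⟩
  obtain ⟨k, hk⟩ := (mem_powers_iff_mem_zpowers.2 hg : c.t ∈ Submonoid.powers g)
  simp only at hk
  rw [← hk, H17.pp_pow, hk] at h1
  refine mem_C1.2 ?_
  rw [← h1]
  exact (Commute.pow_right (mem_C1.1 hx) k)

variable (I : Ideal AlgInt) [H17.PM 2 I]

/-- restriction to `H` -/
abbrev rs (c : QC G) (f : G → ℂ) : c.H → ℂ := fun x => f x

omit [Fintype c.H] [H17.PM 2 I] in
theorem hc_bp (h : M.HC f d A B C) : ∃ b : ℤ, (b = 0 ∨ b = 1) ∧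
    blockPart (principalBlock I c.H) (rs c f) = (b : ℂ) • rs c f := by
  obtain ⟨χ, -, e, he⟩ := hc_irr h
  rw [show rs c f = e • χ.1 from he, H17.blockPart_smul, H17.blockPart_irr]
  by_cases hχ : χ ∈ principalBlock I c.H
  · exact ⟨1, Or.inr rfl, by rw [H17.ind_of_mem hχ]; simp⟩
  · exact ⟨0, Or.inl rfl, by rw [H17.ind_of_notMem hχ]; simp⟩

omit [Fintype c.H] in
theorem bp_one_zero {φ : c.H → ℂ} (h : ∀ y : c.H, Odd (orderOf (y : G)) → φ y = 0) :
    blockPart (principalBlock I c.H) φ 1 = 0 :=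
  H17.blockPart_eq_zero (p := 2) (H17.fb_mem_ZS (M := I) (irrOne c.H)) fun y hy => h y (by
    rw [Subgroup.orderOf_coe]
    have := (H17.isConj_pp_iff_reg H17.reg_one).1 hy
    exact Nat.odd_iff.2 (by omega))

omit [Fintype c.H] in
theorem hc_val (h : M.HC f d A B C) : rs c f 1 = A + B * M.Qe := by
  rw [← M.St_one]; exact h.odd 1 c.H.one_mem (by simp)

omit [Fintype c.H] in
theorem Qe_ne : M.Qe ≠ -1 := by
  intro h
  have h1 := M.Qe_sq
  have h2 : 1 < M.N.q := by rw [M.hq]; exact Finite.one_lt_card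
  rw [h] at h1
  have h3 : (2 : ℤ) ≤ M.N.q := by exact_mod_cast h2
  nlinarith

omit [Fintype c.H] in
theorem bp_one : blockPart (principalBlock I c.H) (rs c fun _ => 1) = rs c fun _ => 1 := by
  have := H17.blockPart_irr (principalBlock I c.H) (irrOne c.H)
  rw [H17.ind_of_mem (A := principalBlock I c.H) (H17.self_mem_blockOf (M := I) (irrOne c.H)),
    one_smul] at this
  exact this

omit [Fintype c.H] in
theorem bp_θ {k : ℕ} (h : M.HC f (dθ c.a k) (-1) 1 0) :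
    blockPart (principalBlock I c.H) (rs c fun g => M.St g) = (rs c fun g => M.St g) ∧
    blockPart (principalBlock I c.H) (rs c f) = rs c f := by
  obtain ⟨b, hb, e⟩ := hc_bp I M.hc_St
  obtain ⟨b', hb', e'⟩ := hc_bp I h
  have h0 := bp_one_zero I (φ := (rs c fun _ => 1) - (rs c fun g => M.St g) + rs c f)
    fun y hy => by simp only [Pi.add_apply, Pi.sub_apply, rs]; rw [h.odd y y.2 hy]; ring
  rw [H17.blockPart_add, H17.blockPart_sub, bp_one, e, e'] at h0
  simp only [Pi.add_apply, Pi.sub_apply, Pi.smul_apply, smul_eq_mul] at h0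
  rw [hc_val M.hc_one, hc_val M.hc_St, hc_val h] at h0
  have h1 : 1 - b * M.Qe + b' * (M.Qe - 1) = 0 := by
    have : ((1 - b * M.Qe + b' * (M.Qe - 1) : ℤ) : ℂ) = 0 := by push_cast; linear_combination h0
    exact_mod_cast this
  have h2 := M.Qe_mod
  have h3 : b = 1 ∧ b' = 1 := by rcases hb with rfl | rfl <;> rcases hb' with rfl | rfl <;> omega
  rw [e, e', h3.1, h3.2]
  simp

omit [Fintype c.H] in
theorem bp_St :
    blockPart (principalBlock I c.H) (rs c fun g => M.St g) = (rs c fun g => M.St g) := by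
  obtain ⟨f, hf⟩ := M.hc_θ (k := 1) (fun h => by
    have := Nat.dvd_one.1 h
    have h2 : 1 < 2 ^ (c.a - 1) := Nat.one_lt_two_pow (by have := c.ha; omega)
    omega)
  exact (bp_θ I hf).1

omit [Fintype c.H] in
theorem bp_sgn :
    blockPart (principalBlock I c.H) (rs c fun g => M.sgn g) = (rs c fun g => M.sgn g) ∧
    blockPart (principalBlock I c.H) (rs c fun g => M.St g * M.sgn g) =
      (rs c fun g => M.St g * M.sgn g) := by
  obtain ⟨b, hb, e⟩ := hc_bp I M.hc_sgn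
  obtain ⟨b', hb', e'⟩ := hc_bp I M.hc_Ss
  have h0 := bp_one_zero I (φ := (rs c fun _ => 1) - (rs c fun g => M.St g) -
      (rs c fun g => M.sgn g) + rs c fun g => M.St g * M.sgn g)
    fun y hy => by simp only [Pi.add_apply, Pi.sub_apply, rs]; rw [M.sgn_odd hy]; simp
  rw [H17.blockPart_add, H17.blockPart_sub, H17.blockPart_sub, bp_one, bp_St, e, e'] at h0
  simp only [Pi.add_apply, Pi.sub_apply, Pi.smul_apply, smul_eq_mul] at h0
  rw [hc_val M.hc_one, hc_val M.hc_St, hc_val M.hc_sgn, hc_val M.hc_Ss] at h0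
  have h1 : 1 - M.Qe - b + b' * M.Qe = 0 := by
    have : ((1 - M.Qe - b + b' * M.Qe : ℤ) : ℂ) = 0 := by push_cast; linear_combination h0
    exact_mod_cast this
  have h2 := M.Qe_mod
  have h3 : b = 1 ∧ b' = 1 := by rcases hb with rfl | rfl <;> rcases hb' with rfl | rfl <;> omega
  rw [e, e', h3.1, h3.2]
  simp

omit [Fintype c.H] in
theorem bp_β (h : M.HC f dB (-1) (-1) 0) : blockPart (principalBlock I c.H) (rs c f) = rs c f := by
  obtain ⟨b, hb, e⟩ := hc_bp I h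
  have h0 := bp_one_zero I (φ := (rs c fun g => M.St g) + (rs c fun g => M.sgn g) + rs c f)
    fun y hy => by simp only [Pi.add_apply, rs]; rw [M.sgn_odd hy, h.odd y y.2 hy]; push_cast; ring
  rw [H17.blockPart_add, H17.blockPart_add, bp_St, (bp_sgn I).1, e] at h0
  simp only [Pi.add_apply, Pi.smul_apply, smul_eq_mul] at h0
  rw [hc_val M.hc_St, hc_val M.hc_sgn, hc_val h] at h0
  have h1 : M.Qe + 1 - b * (M.Qe + 1) = 0 := by
    have : ((M.Qe + 1 - b * (M.Qe + 1) : ℤ) : ℂ) = 0 := by push_cast; linear_combination h0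
    exact_mod_cast this
  have h2 := Qe_ne (M := M)
  have h3 : b = 1 := by rcases hb with rfl | rfl <;> omega
  rw [e, h3]
  simp

/-- the `D`-supported generalized characters lie in the principal block -/
theorem exists_Φ (hd : (∃ k, ¬ 2 ^ (c.a - 1) ∣ k ∧ d = dV c.a k) ∨ d = dW ∨ d = dX) :
    ∃ Φ, LC M Φ d 0 0 0 ∧ blockPart (principalBlock I c.H) (rs c Φ) = rs c Φ := by
  rcases hd with ⟨k, hk, rfl⟩ | rfl | rfl
  · obtain ⟨f, hf⟩ := M.hc_θ hk
    have h := ((lc_of M.hc_one).add ((lc_of M.hc_St).smul (-1))).add (lc_of hf)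
    refine ⟨_, by convert h using 1 <;> simp [dV, sub_eq_add_neg], ?_⟩
    show blockPart _ ((rs c fun _ => 1) + (-1 : ℂ) • (rs c fun g => M.St g) + rs c f) = _
    rw [H17.blockPart_add, H17.blockPart_add, H17.blockPart_smul, bp_one, bp_St, (bp_θ I hf).2]
    rfl
  · have h := (((lc_of M.hc_one).add ((lc_of M.hc_St).smul (-1))).add
      ((lc_of M.hc_sgn).smul (-1))).add (lc_of M.hc_Ss)
    refine ⟨_, by convert h using 1 <;> simp [dW, sub_eq_add_neg], ?_⟩
    show blockPart _ ((rs c fun _ => 1) + (-1 : ℂ) • (rs c fun g => M.St g) +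
      (-1 : ℂ) • (rs c fun g => M.sgn g) + rs c fun g => M.St g * M.sgn g) = _
    rw [H17.blockPart_add, H17.blockPart_add, H17.blockPart_add, H17.blockPart_smul,
      H17.blockPart_smul, bp_one, bp_St, (bp_sgn I).1, (bp_sgn I).2]
    rfl
  · obtain ⟨f, hf⟩ := M.hc_β
    have h := ((lc_of M.hc_St).add (lc_of M.hc_sgn)).add (lc_of hf)
    refine ⟨_, by convert h using 1 <;> simp [dX], ?_⟩
    show blockPart _ ((rs c fun g => M.St g) + (rs c fun g => M.sgn g) + rs c f) = _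
    rw [H17.blockPart_add, H17.blockPart_add, bp_St, (bp_sgn I).1, bp_β I hf]
    rfl

theorem inner_bp {H : Type*} [Group H] [Fintype H] (A : Set (H17.Irr H)) (φ ψ : H → ℂ) :
    classInner φ (blockPart A ψ) = classInner (blockPart A φ) ψ := by
  rw [H17.blockPart_eq, H17.blockPart_eq, classInner_sum_left, classInner_sum_right]
  refine sum_congr rfl fun χ _ => ?_
  rw [classInner_smul_left, classInner_smul_right, map_mul, conj_classInner]
  by_cases h : χ ∈ A
  · rw [H17.ind_of_mem h, map_one]; ring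
  · rw [H17.ind_of_notMem h, map_zero]; ring

end H1.QB

namespace H2.QD

open H24 Cfsg Subgroup Finset H4
open H13.Dih (Four V4 Inv CD UU PP FC res)
open H5 (SIrr)
open scoped ComplexConjugate MatrixGroups

universe u

variable {G : Type u} [Group G]

theorem Mod.sp_blockPart [Finite G] {c : QC G} (M : Mod c) (I : Ideal AlgInt) [H17.PM 2 I]
    (f : c.H → ℂ) : ∃ d, M.Sp 1 (extendByZero c.H (blockPart (principalBlock I c.H) f)) d := by
  classical
  have := Fintype.ofFinite c.H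
  rw [H17.blockPart_eq]
  induction (univ : Finset (H17.Irr c.H)) using Finset.induction_on with
  | empty => exact ⟨0, Mod.Sp.zero.of_eq fun g hg => extendByZero_of_mem _ _ (c.mem_H_of hg)⟩
  | insert χ s hχ ih =>
    obtain ⟨d, hd⟩ := ih
    rw [sum_insert hχ, extendByZero_add, extendByZero_smul]
    by_cases h : χ ∈ principalBlock I c.H
    · obtain ⟨d', hd'⟩ := (H1.QB.mem_A0 (M := M) I h).1
      exact ⟨_, (hd'.smul _).add hd⟩
    · rw [H17.ind_of_notMem h, zero_mul, zero_smul, zero_add]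
      exact ⟨d, hd⟩

theorem Mod.Fus.sp_irr [Fintype G] {c : QC G} {M : Mod c} {μ : M.Γ →* ℂˣ} (hμ : M.Fus μ)
    {X Θ : G → ℂ} (hX : IsIrrCharacter G X) {d : Dat} (hΘ : M.Sp μ Θ d) (h : c.dip X Θ ≠ 0)
    (hd : (∃ k, ¬ 2 ^ (c.a - 1) ∣ k ∧ d = dV c.a k) ∨ d = dW ∨ d = dX) : ∃ d', M.Sp μ X d' := by
  classical
  obtain ⟨I, hI⟩ := H17.exists_PM 2
  have hall := H17.exists_indRel_centralizer (p := 2) I (x := c.t) ⟨1, by rw [c.four.ht]; rfl⟩
  obtain ⟨b, hb, e⟩ := H17.JB.tw_dich (p := 2) (M := I) (lam := μ.comp M.κ) (subtype_injective c.H) hall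
    (fun a b hab => by
      have := hμ.fus a a.2 b b.2 hab
      rwa [ap_coe, ap_coe] at this) ⟨X, hX⟩
  have e' : ∀ (g : G) (hg : c.t ∈ zpowers g), blockPart (principalBlock I c.H)
      (fun k => H27.JT.ch (μ.comp M.κ)⁻¹ k * X k) ⟨g, c.mem_H_of hg⟩ =
      b * (H27.JT.ch (μ.comp M.κ)⁻¹ ⟨g, c.mem_H_of hg⟩ * X g) := fun g hg =>
    e ⟨g, c.mem_H_of hg⟩ (by rw [range_subtype]; exact H1.QB.cent_pp_le hg)
  have hch : ∀ (g : G) (hg : g ∈ c.H), (μ (ap M.κ g) : ℂ) = H27.JT.ch (μ.comp M.κ) ⟨g, hg⟩ :=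
    fun g hg => by rw [ap_of_mem M.κ hg]; rfl
  rcases hb with rfl | rfl
  · obtain ⟨Φ, hΦ, hb⟩ := H1.QB.exists_Φ (M := M) I hd
    have hoff : ∀ g ∈ c.H, c.t ∉ zpowers g → Φ g = 0 := fun g hg hD => by
      by_cases ho : Odd (orderOf g)
      · rw [hΦ.odd g hg ho]; ring
      · exact hΦ.off hg ho hD
    refine absurd ?_ h
    have h1 : c.dip X Θ = c.dip (extendByZero c.H fun k => H27.JT.ch (μ.comp M.κ)⁻¹ k * X k) Φ := by
      unfold QC.dip
      congr 1
      refine sum_congr rfl fun g hg => ?_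
      have hg := (mem_filter.1 hg).2
      rw [hΘ.ext (hΦ.sp.tw hμ.ker) hg, extendByZero_of_mem _ _ (c.mem_H_of hg), map_mul,
        hch g (c.mem_H_of hg), H17.JB.conj_ch]
      ring
    rw [h1, ← c.inner_H_eq_dip hoff]
    simp only [extendByZero_coe]
    rw [show (fun h : c.H => Φ h) = H1.QB.rs c Φ from rfl, ← hb, H1.QB.inner_bp, classInner_def,
      sum_eq_zero, mul_zero]
    intro x _
    by_cases hD : c.t ∈ zpowers (x : G)
    · rw [e' x hD, zero_mul, zero_mul]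
    · rw [show H1.QB.rs c Φ x = 0 from hoff x x.2 hD, map_zero, mul_zero]
  · obtain ⟨d', hd'⟩ := M.sp_blockPart I (fun k => H27.JT.ch (μ.comp M.κ)⁻¹ k * X k)
    refine ⟨d', (hd'.tw hμ.ker).of_eq fun g hg => ?_⟩
    rw [extendByZero_of_mem _ _ (c.mem_H_of hg), e' g hg, hch g (c.mem_H_of hg), one_mul,
      ← mul_assoc, H17.JB.ch_mul_inv, one_mul]

/-- a signed irreducible character meeting one of the `D`-supported generalized characters -/
theorem Mod.Fus.sp [Fintype G] {c : QC G} {M : Mod c} {μ : M.Γ →* ℂˣ} (hμ : M.Fus μ) {X Θ : G → ℂ}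
    (hX : SIrr X) {d : Dat} (hΘ : M.Sp μ Θ d) (h : c.dip X Θ ≠ 0)
    (hd : (∃ k, ¬ 2 ^ (c.a - 1) ∣ k ∧ d = dV c.a k) ∨ d = dW ∨ d = dX) : ∃ d', M.Sp μ X d' := by
  rcases hX.irr_or with h1 | h1
  · exact hμ.sp_irr h1 hΘ h hd
  · obtain ⟨d', hd'⟩ := hμ.sp_irr h1 hΘ (fun e => h (by
      unfold QC.dip at e ⊢
      simp only [Pi.neg_apply, neg_mul, sum_neg_distrib, mul_neg, neg_eq_zero] at e
      exact e)) hd
    exact ⟨-d', by simpa using hd'.neg⟩

end H2.QD
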