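import Mathlib
import Cfsg.Agent.H2.QDefs2
import Cfsg.Agent.H8.QL1

/-! The lattice argument for the quasi-dihedral case. -/

set_option autoImplicit false

namespace H2.QD

open H24 Cfsg Subgroup Finset H4
open H13.Dih (Four V4 Inv CD UU PP FC res)
open H5 (SIrr)
open scoped ComplexConjugate MatrixGroups

universe u

variable {G : Type u} [Group G]

/-- the generalized characters -/
def ql_gen (G : Type u) [Group G] : AddSubgroup (G → ℂ) where
  carrier := {f | IsGeneralizedCharacter G f}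
  add_mem' h h' := h.add h'
  zero_mem' := isGen_zero
  neg_mem' h := h.neg

theorem ql_lat [Fintype G] : ∃ L : H8.QL.Lat (ql_gen G), ∀ u v, classInner u.1 v.1 = L.B u v := by
  choose ip h using fun u v : ql_gen G => (show IsGeneralizedCharacter G u.1 from u.2).inner_int v.2
  have c : ∀ {m n : ℤ}, (m : ℂ) = n → m = n := fun h => Int.cast_injective h
  refine ⟨⟨LinearMap.mk₂ ℤ ip (fun u v w => c ?_) (fun n u v => c ?_) (fun u v w => c ?_)
    (fun n u v => c ?_), fun u v => c ?_, fun v => ?_, fun v e => ?_, fun v h0 h3 => ?_⟩, h⟩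
  · simp [← h, classInner_add_left]
  · rw [← h, smul_eq_mul, Int.cast_mul, ← h, ← classInner_zsmul_left]; rfl
  · simp [← h, classInner_add_right]
  · rw [← h, smul_eq_mul, Int.cast_mul, ← h, ← classInner_zsmul_right]; rfl
  · simpa [← h] using (show IsGeneralizedCharacter G u.1 from u.2).inner_comm v.2
  · simpa [h] using classInner_self_re_nonneg v.1
  · exact Subtype.ext (classInner_self_eq_zero.1 (by rw [h]; exact_mod_cast e))
  · obtain ⟨n, hn⟩ : ∃ n : ℕ, ip v v = (n + 1 : ℕ) := ⟨(ip v v - 1).toNat, by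
      simp only [LinearMap.mk₂_apply] at h0; omega⟩
    obtain ⟨e, h1, h2⟩ := H5.exists_sirr_inner_eq_one (η := v.1) (n := n) v.2
      (by simp only [LinearMap.mk₂_apply] at h3; omega) (by rw [h, hn, Int.cast_natCast])
    exact ⟨⟨e, h1.1⟩, c (by simpa [← h] using h1.2), c (by simpa [← h] using h2)⟩

open Classical in
theorem lattice [Fintype G] {K : Type} (P : K → Prop) (r : K → K → Prop) {k₁ k₂ k₃ : K}
    (h₁ : P k₁) (h₂ : P k₂) (h₃ : P k₃) (r₁ : ¬ r k₁ k₂) (r₂ : ¬ r k₁ k₃) (r₃ : ¬ r k₂ k₃)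
    (hr : Equivalence r) {V : K → G → ℂ} {W X : G → ℂ}
    (gV : ∀ k, P k → IsGeneralizedCharacter G (V k)) (gW : IsGeneralizedCharacter G W)
    (gX : IsGeneralizedCharacter G X) (W1 : W 1 = 0)
    (VV : ∀ k l, P k → P l → classInner (V k) (V l) = if r k l then 3 else 2)
    (VW : ∀ k, P k → classInner (V k) W = 2) (VX : ∀ k, P k → classInner (V k) X = -1)
    (WW : classInner W W = 4) (WX : classInner W X = -2) (XX : classInner X X = 3) :
    ∃ (e0 ex ey ez eb : G → ℂ) (ek : K → G → ℂ), SIrr e0 ∧ SIrr ex ∧ SIrr ey ∧ SIrr ez ∧ SIrr eb ∧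
      (∀ k, P k → SIrr (ek k) ∧ V k = e0 - ex + ek k) ∧ W = e0 - ex + ez - ey ∧ X = ex - ez + eb ∧
      (∀ k, P k → classInner e0 (V k) = 1 ∧ classInner ex (V k) = -1 ∧ classInner ey (V k) = 0 ∧
        classInner ez (V k) = 0 ∧ classInner eb (V k) = 0 ∧ classInner (ek k) W = 0 ∧
        classInner (ek k) X = 0 ∧ ∀ l, P l → classInner (ek k) (V l) = if r l k then 1 else 0) ∧
      (classInner e0 W = 1 ∧ classInner ex W = -1 ∧ classInner ey W = -1 ∧ classInner ez W = 1 ∧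
        classInner eb W = 0) ∧
      classInner e0 X = 0 ∧ classInner ex X = 1 ∧ classInner ey X = 0 ∧ classInner ez X = -1 ∧
        classInner eb X = 1 := by
  obtain ⟨L, h⟩ := ql_lat (G := G)
  have c : ∀ {m n : ℤ}, (m : ℂ) = n → m = n := fun h => Int.cast_injective h
  have s : ∀ e, L.B e e = 1 → SIrr e.1 := fun e he => ⟨e.2, by rw [h, he, Int.cast_one]⟩
  obtain ⟨V', hV⟩ : ∃ V' : K → ql_gen G, ∀ k, P k → V k = (V' k).1 :=
    ⟨fun k => if hk : P k then ⟨V k, gV k hk⟩ else 0, fun k hk => by simp [hk]⟩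
  lift W to ql_gen G using gW
  lift X to ql_gen G using gX
  have VV' : ∀ k l, P k → P l → L.B (V' k) (V' l) = if r k l then 3 else 2 := fun k l hk hl =>
    c (by rw [← h, ← hV k hk, ← hV l hl, VV k l hk hl]; split_ifs <;> simp)
  obtain ⟨a, b, f, g, e, h1, rfl, rfl, h2⟩ := H8.QL.Lat.main (L := L) (W := W) (X := X) P r h₁ h₂ h₃ r₁ r₂
    r₃ hr (V := V') (fun e he e' => (s e he).apply_one_ne_zero (by simpa [e'] using W1)) VV'
    (fun k hk => c (by rw [L.symm, ← h, ← hV k hk, VW k hk]; simp))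
    (fun k hk => c (by rw [L.symm, ← h, ← hV k hk, VX k hk]; simp))
    (c (by rw [← h, WW]; simp)) (c (by rw [L.symm, ← h, WX]; simp)) (c (by rw [← h, XX]; simp))
  simp only [H8.QL.Lat.ON, List.mem_cons, List.not_mem_nil, or_false, forall_eq_or_imp, forall_eq] at h1
  obtain ⟨aa, ⟨ab, af, ag, ae⟩, bb, ⟨bf, bg, be⟩, ff, ⟨fg, fe⟩, gg, ge, ee, -⟩ := h1
  have ba := L.symm b a ▸ ab
  have fa := L.symm f a ▸ af
  have ga := L.symm g a ▸ ag
  have ea := L.symm e a ▸ ae
  have fb := L.symm f b ▸ bf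
  have gb := L.symm g b ▸ bg
  have eb := L.symm e b ▸ be
  have gf := L.symm g f ▸ fg
  have ef := L.symm e f ▸ fe
  have eg := L.symm e g ▸ ge
  refine ⟨a.1, (-b).1, (-g).1, f.1, e.1, fun k => (V' k - a - b).1, s a aa, s _ (by simp [bb]),
    s _ (by simp [gg]), s f ff, s e ee, fun k hk => ⟨s _ ?_, ?_⟩, ?_, ?_, fun k hk => ?_, ?_, ?_⟩
  · simp [VV' k k hk hk, hr.refl, L.symm a (V' k), L.symm b (V' k), h2 k hk, aa, ab, ba, bb]
  · simp [hV k hk]
  · simp
  · simp; abel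
  · simp only [hV k hk, h]
    refine ⟨?_, ?_, ?_, ?_, ?_, ?_, ?_, fun l hl => ?_⟩
    iterate 5 simp [L.symm _ (V' k), h2 k hk]
    · simp [h2 k hk, aa, ab, af, ag, ba, bb, bf, bg]
    · simp [h2 k hk, ab, af, ae, bb, bf, be]
    · rw [hV l hl, h, L.symm]
      simp [VV' l k hl hk, h2 l hl]
      split_ifs <;> norm_num
  · simp only [h]
    simp [aa, ab, af, ag, ba, bb, bf, bg, fa, fb, ff, fg, ga, gb, gf, gg, ea, eb, ef, eg]
  · simp only [h]
    simp [ab, af, ae, bb, bf, be, fb, ff, fe, gb, gf, ge, eb, ef, ee]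

end H2.QD
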