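import Mathlib
import Cfsg.Agent.H2.QB2
import Cfsg.Agent.H2.QCh1
import Cfsg.Agent.H2.QNum
import Cfsg.Agent.H2.QEx
import Cfsg.Agent.H2.QBlk
import Cfsg.Agent.H2.QLat

/-! # QPin: the signed irreducible characters attached to a linear character `μ` -/

set_option autoImplicit false
set_option linter.unusedSectionVars false

namespace H18.QP

open H24 Cfsg Subgroup Finset H4 H2.QD
open H13.Dih (Four)
open H5 (SIrr cl mem_cl)
open scoped ComplexConjugate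

universe u

variable {G : Type u} [Group G]

theorem dih [Finite G] {v w : G} (hv : v * v = 1) (hw : w * w = 1) :
    (∃ k ∈ zpowers (v * w), k * v * k⁻¹ = w) ∨
      ∃ z ∈ zpowers (v * w), orderOf z = 2 ∧ z ∈ C{v} ∧ z ∈ C{w} := by
  have v1 : v⁻¹ = v := inv_eq_of_mul_eq_one_right hv
  have w1 : w⁻¹ = w := inv_eq_of_mul_eq_one_right hw
  have e1 : ∀ j : ℕ, v * (v * w) ^ j * v⁻¹ = ((v * w) ^ j)⁻¹ := fun j => by
    rw [← conj_pow, ← inv_pow, ← mul_assoc, hv, mul_inv_rev, w1, one_mul]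
  have e2 : ∀ j : ℕ, w * (v * w) ^ j * w⁻¹ = ((v * w) ^ j)⁻¹ := fun j => by
    rw [← conj_pow, ← inv_pow, mul_inv_rev, w1, v1, mul_assoc, mul_assoc, hw, mul_one]
  have e0 := pow_orderOf_eq_one (v * w)
  rcases Nat.even_or_odd' (orderOf (v * w)) with ⟨j, e | e⟩
  · have j0 : j ≠ 0 := fun k => (orderOf_pos (v * w)).ne' (by rw [e, k])
    have o : orderOf ((v * w) ^ j) = 2 := by
      rw [orderOf_pow' _ j0, e, Nat.gcd_mul_left_left, Nat.mul_div_cancel _ (Nat.pos_of_ne_zero j0)]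
    refine .inr ⟨_, npow_mem_zpowers _ j, o, mem_C1_comm.1 (mem_C1_iff_conj.2 ?_),
      mem_C1_comm.1 (mem_C1_iff_conj.2 ?_)⟩
    · rw [e1, H13.Dih.inv_of o]
    · rw [e2, H13.Dih.inv_of o]
  · refine .inl ⟨_, npow_mem_zpowers _ j, ?_⟩
    rw [e, pow_succ, two_mul, pow_add] at e0
    have e3 := e1 j
    rw [v1] at e3
    calc _ = v⁻¹ * (v * (v * w) ^ j * v) * ((v * w) ^ j)⁻¹ := by group
      _ = v⁻¹ * ((v * w) ^ j * (v * w) ^ j)⁻¹ := by rw [e3]; group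
      _ = _ := by rw [← eq_inv_of_mul_eq_one_right e0]; group

theorem sep [Fintype G] {e e' Θ : G → ℂ} (he : SIrr e) (he' : SIrr e')
    (h : classInner e Θ ^ 2 ≠ classInner e' Θ ^ 2) : classInner e e' = 0 := by
  by_contra k
  rcases he.eq_or_eq_neg he' k with rfl | rfl
  · exact h rfl
  · exact h (by rw [classInner_neg_left, neg_sq])

variable {c : QC G} {M : Mod c} {μ : M.Γ →* ℂˣ}

theorem mu_conj [Finite G] {a h : G} (ha : a ∈ c.H) (hh : h ∈ c.H) :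
    μ (ap M.κ (h * a * h⁻¹)) = μ (ap M.κ a) := by
  rw [ap_conj _ hh ha, map_mul, map_mul, map_inv, mul_comm (μ _) (μ _), mul_inv_cancel_right]

theorem lam_eq [Finite G] {y g g' : G} (e : g * c.t * g⁻¹ = g' * c.t * g'⁻¹) (hy : y ∈ C{g * c.t * g⁻¹}) :
    μ (ap M.κ (g⁻¹ * y * g)) = μ (ap M.κ (g'⁻¹ * y * g')) := by
  have h1 : g⁻¹ * y * g ∈ c.H := mem_cj.1 (cj_C1 g c.t ▸ hy)
  have h2 : g'⁻¹ * g ∈ c.H := mem_C1_iff_conj.2 (by
    calc _ = g'⁻¹ * (g * c.t * g⁻¹) * g' := by group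
      _ = _ := by rw [e]; group)
  rw [← mu_conj h1 h2]
  congr 2; group

theorem lam_comm [Finite G] (h : M.Tw) (hμ : M.L0 ≤ μ.ker) {y g g' : G}
    (e : g' * c.t * g'⁻¹ ∈ C{g * c.t * g⁻¹}) (hy : y ∈ C{g * c.t * g⁻¹}) (hy' : y ∈ C{g' * c.t * g'⁻¹}) :
    μ (ap M.κ (g⁻¹ * y * g)) = μ (ap M.κ (g'⁻¹ * y * g')) := by
  by_cases e' : g' * c.t * g'⁻¹ = g * c.t * g⁻¹
  · exact lam_eq e'.symm hy
  obtain ⟨k, k1, k2⟩ := c.exists_four ⟨H13.Dih.two_conj c.four.ht g, H13.Dih.two_conj c.four.ht g', e',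
    mem_C1.1 e⟩
  have y1 : k⁻¹ * y * k ∈ c.CT := mem_cj.1 (by
    rw [QC.CT, cj_inf, cj_C1, cj_C1, k1, k2]; exact ⟨hy, hy'⟩)
  have := hμ (h _ (conj_mem' (c.NT_le_NCT c.rot_ρ.mem_NT) y1))
  rw [MonoidHom.mem_ker, map_mul, map_inv, mul_inv_eq_one] at this
  rw [lam_eq k1.symm hy, lam_eq (g' := k * c.ρ) (by
    rw [← k2, ← c.rot_ρ.1]; group) hy']
  convert this using 3 <;> group

/-- `Φ` is a generalized character of `H` with data `d` which vanishes outside `D` -/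
structure DS (M : Mod c) (Φ : G → ℂ) (d : Dat) : Prop where
  gen : IsGeneralizedCharacter c.H fun h => Φ h
  sp : M.Sp 1 Φ d
  off : ∀ g ∈ c.H, c.t ∉ zpowers g → Φ g = 0

theorem hc_sirr [Fintype c.H] {f : G → ℂ} {d : Dat} {A B C : ℂ} (h : M.HC f d A B C) :
    SIrr fun x : c.H => f x :=
  h.irr.elim H5.sirr_of_irr fun k => by convert (H5.sirr_of_irr k).neg using 1; ext; simp

theorem ds_of [Finite G] {Φ : G → ℂ} {d : Dat} (h1 : IsGeneralizedCharacter c.H fun h => Φ h)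
    (h2 : M.Sp 1 Φ d) (h3 : ∀ y ∈ c.H, Odd (orderOf y) → Φ y = 0) (h4 : ∀ y ∈ c.R, Φ (c.s * y) = 0) :
    DS M Φ d := by
  refine ⟨h1, h2, fun g hg ht => ?_⟩
  rcases c.H_cases hg with k | k | ⟨h, hh, y, hy, e⟩
  · exact h3 g hg k
  · exact absurd k ht
  · rw [← h4 y hy, ← e]
    exact (h1.classFun ⟨g, hg⟩ ⟨h, hh⟩).symm

theorem not_odd {g : G} [Finite G] (h : c.t ∈ zpowers g) : ¬ Odd (orderOf g) := fun k =>
  H13.Dih.not_mem_of_odd (card_zpowers' g ▸ k) c.four.ht h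

variable [Fintype G]

/-- the induced generalized character -/
noncomputable def th (M : Mod c) (μ : M.Γ →* ℂˣ) (Φ : G → ℂ) : G → ℂ :=
  indFun c.H fun h => μ (ap M.κ h) * Φ h

variable {Φ : G → ℂ} {d : Dat}

theorem DS.gen' (h : DS M Φ d) : IsGeneralizedCharacter c.H fun x => μ (ap M.κ x) * Φ x := by
  simp only [ap_coe]
  exact (isIrrCharacter_linear (μ.comp M.κ)).isGen.mul h.gen

theorem DS.th_gen (h : DS M Φ d) : IsGeneralizedCharacter G (th M μ Φ) := h.gen'.indFun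

theorem DS.th_sp (h : DS M Φ d) (hμ : M.L0 ≤ μ.ker) : M.Sp μ (th M μ Φ) d :=
  (h.sp.tw hμ).of_eq fun g hg => indFun_apply_of_TI c.H {g | c.t ∈ zpowers g}
    (fun x hx _ h1 h2 => absurd (c.ti h1 h2) hx) h.gen'.classFun
    (fun x hx => by rw [h.off x x.2 hx, mul_zero]) ⟨g, c.mem_H_of hg⟩ hg fun e =>
      not_odd hg (by rw [show g = 1 from congrArg Subtype.val e]; simp)

theorem DS.th_odd (h : DS M Φ d) (g : G) (ho : Odd (orderOf g)) : th M μ Φ g = 0 :=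
  indFun_eq_zero _ _ fun x hx => by
    obtain ⟨k, e⟩ := isConj_iff.1 hx
    rw [h.off x x.2 fun ht => not_odd ht (by rwa [← e, orderOf_conj]), mul_zero]

theorem DS.inner (h : DS M Φ d) (hμ : M.L0 ≤ μ.ker) {f : G → ℂ} (hf : IsClassFunction G f) {d' : Dat}
    (h' : M.Sp μ f d') : classInner f (th M μ Φ) = bf c.a d' d := by
  rw [c.inner_eq_dip hf h.th_gen.classFun h.th_odd, h'.dip (h.th_sp hμ) hμ]

theorem two_of_cl {a x : G} (ha : orderOf a = 2) (hx : x ∈ cl a) : orderOf x = 2 := by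
  obtain ⟨k, rfl⟩ := isConj_iff.1 (mem_cl.1 hx)
  exact H13.Dih.two_conj ha k

theorem DS.sum [Fintype c.H] (h : DS M Φ d) (hμ : M.L0 ≤ μ.ker) :
    ∑ x ∈ cl c.t, ∑ y ∈ cl c.t, th M μ Φ (x * y) = c.H.index *
      ∑ x ∈ cl (⟨c.s, c.S_le_H c.s_mem_S⟩ : c.H), ∑ y ∈ cl (⟨c.s, c.S_le_H c.s_mem_S⟩ : c.H), Φ (x * y) := by
  classical
  obtain ⟨F, hF⟩ : ∃ F, F = extendByZero c.H fun x => μ (ap M.κ x) * Φ x := ⟨_, rfl⟩
  obtain ⟨s', hs⟩ : ∃ s' : c.H, s' = ⟨c.s, c.S_le_H c.s_mem_S⟩ := ⟨_, rfl⟩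
  rw [th, H5.sum_cl_cl_indFun, ← hF, ← hs]
  congr 1
  have s2 : orderOf s' = 2 := by rw [← orderOf_coe, hs]; exact c.ord_s
  have sub : (cl s').map (Function.Embedding.subtype _) ⊆ cl c.t := fun x hx => by
    obtain ⟨y, hy, rfl⟩ := Finset.mem_map.1 hx
    obtain ⟨g, e⟩ := c.invol_G (x := y) (by rw [orderOf_coe]; exact two_of_cl s2 hy)
    exact mem_cl.2 (isConj_iff.2 ⟨g, e⟩).symm
  have mem : ∀ x ∈ c.H, orderOf x = 2 → x ≠ c.t → x ∈ (cl s').map (Function.Embedding.subtype _) :=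
    fun x hx x2 x1 => by
      obtain ⟨g, hg, e⟩ := c.invol_H hx x2 x1
      exact Finset.mem_map.2 ⟨⟨x, hx⟩, mem_cl.2 (isConj_iff.2 ⟨⟨g, hg⟩, hs ▸ Subtype.ext e⟩).symm, rfl⟩
  have key : ∀ x ∈ cl c.t, ∀ y ∈ cl c.t, F (x * y) ≠ 0 → x ∈ (cl s').map (Function.Embedding.subtype _) ∧
      y ∈ (cl s').map (Function.Embedding.subtype _) := fun x hx y hy e => by
    have x2 := two_of_cl c.four.ht hx
    have y2 := two_of_cl c.four.ht hy
    have xy : x * y ∈ c.H := by_contra fun k => e (hF ▸ extendByZero_of_not_mem _ _ k)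
    have hD : c.t ∈ zpowers (x * y) := by_contra fun k => e (by
      rw [hF, extendByZero_of_mem _ _ xy]; exact mul_eq_zero_of_right _ (h.off _ xy k))
    have xH : x ∈ c.H := c.ti hD (by
      rwa [show x * (x * y) * x⁻¹ = (x * y)⁻¹ by
        rw [← mul_assoc, H13.Dih.sq_of x2, mul_inv_rev, H13.Dih.inv_of y2, one_mul], zpowers_inv])
    have yH := (mul_mem_cancel_left xH).1 xy
    have sq : x = c.t ∨ y = c.t → x * y = c.t := fun k => by
      have cm : x * y = y * x := k.elim (fun k => k ▸ (mem_C1.1 yH).symm) fun k => k ▸ mem_C1.1 xH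
      refine (((H13.Dih.mem_zpowers_of_sq ?_).1 hD).resolve_left (H13.Dih.ne_one_of c.four.ht)).symm
      (conv_lhs => rw [mul_assoc, ← mul_assoc y, ← cm, mul_assoc, H13.Dih.sq_of y2, mul_one])
      exact H13.Dih.sq_of x2
    exact ⟨mem x xH x2 fun k => H13.Dih.ne_one_of y2 (mul_eq_left.1 ((sq (.inl k)).trans k.symm)),
      mem y yH y2 fun k => H13.Dih.ne_one_of x2 (mul_eq_right.1 ((sq (.inr k)).trans k.symm))⟩
  rw [← Finset.sum_subset sub fun x hx x1 => Finset.sum_eq_zero fun y hy =>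
    by_contra fun e => x1 (key x hx y hy e).1, Finset.sum_map]
  refine Finset.sum_congr rfl fun x hx => ?_
  rw [← Finset.sum_subset sub fun y hy y1 => by_contra fun e =>
    y1 (key _ (sub (Finset.mem_map_of_mem _ hx)) y hy e).2, Finset.sum_map]
  refine Finset.sum_congr rfl fun y hy => ?_
  have k : ∀ x ∈ cl s', μ (ap M.κ x) = 1 := fun x hx => hμ (M.two_mem_L0
    ((H13.Dih.pi_two (by rw [orderOf_coe]; exact two_of_cl s2 hx)).ap _ x.2))
  rw [hF]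
  refine (extendByZero_coe _ _ (x * y)).trans ?_
  rw [Subgroup.coe_mul, ap_mul _ x.2 y.2, map_mul, k x hx, k y hy]
  simp

theorem card_cl_s [Fintype c.H] (M : Mod c) :
    (cl (⟨c.s, c.S_le_H c.s_mem_S⟩ : c.H)).card = c.u * (M.N.q * M.N.n) := by
  rw [H5.card_cl, ← M.index_s, inf_relIndex_left, relIndex]
  congr 1
  ext x
  simp [mem_subgroupOf, mem_centralizer_singleton_iff, Subtype.ext_iff]

theorem sum_hc [Fintype c.H] {f : G → ℂ} {A B C : ℂ} (h : M.HC f d A B C) :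
    ∑ x ∈ cl (⟨c.s, c.S_le_H c.s_mem_S⟩ : c.H), ∑ y ∈ cl (⟨c.s, c.S_le_H c.s_mem_S⟩ : c.H), f (x * y) =
      ((c.u * (M.N.q * M.N.n) : ℕ) : ℂ) ^ 2 * (C ^ 2 / (A + B * M.Qe)) := by
  have := (hc_sirr h).sum_cl_cl ⟨c.s, c.S_le_H c.s_mem_S⟩ ⟨c.s, c.S_le_H c.s_mem_S⟩
  simp only [Subgroup.coe_mul, card_cl_s M, OneMemClass.coe_one] at this
  rw [this, h.odd 1 (one_mem _) (by simp), M.St_one, ← mul_one c.s, h.out 1 (one_mem _), sq, sq]

theorem sum_sirr {X : G → ℂ} (hX : SIrr X) {v x : ℂ} (hv : X c.t = v) (hx : X 1 = x) :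
    ∑ a ∈ cl c.t, ∑ b ∈ cl c.t, X (a * b) = (c.H.index : ℂ) ^ 2 * (v ^ 2 / x) := by
  rw [hX.sum_cl_cl, H5.card_cl, hv, hx, sq, sq]; rfl

omit [Fintype G] in
theorem half_even (c : QC G) : Even (2 ^ (c.a - 1)) :=
  (Nat.even_pow' (by have := c.ha; omega)).2 even_two

omit [Fintype G] in
theorem vals [Finite G] {f : G → ℂ} : (M.Sp μ f d1 → f c.t = 1) ∧ (M.Sp μ f dS → f c.t = M.Qe) ∧
    (M.Sp μ f (-dSs) → f c.t = -M.Qe) ∧ (M.Sp μ f (-dsg) → f c.t = -1) ∧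
    (M.Sp μ f dB → f c.t = 1 + M.Qe) ∧ ∀ k, M.Sp μ f (dθ c.a k) → f c.t ^ 2 = (M.Qe - 1) ^ 2 := by
  have e := (half_even c).neg_one_pow (α := ℂ)
  refine ⟨fun h => ?_, fun h => ?_, fun h => ?_, fun h => ?_, fun h => ?_, fun k h => ?_⟩ <;>
    rw [h.t_val] <;> simp only [d1, dS, dSs, dsg, dB, dθ, Prod.fst_neg, Prod.snd_neg, Pi.neg_apply, e,
      sym_half c.ha]
  iterate 5 ring
  rcases neg_one_pow_eq_or ℂ k with e | e <;> rw [e] <;> ring

theorem fin_eq {i k : ℕ} (hi : i ≠ 0) {A B : ℚ} (h : (i : ℂ) ^ 2 * A = i * (k ^ 2 * B)) :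
    A = (k : ℚ) ^ 2 / i * B := by
  have h' : (i : ℚ) ^ 2 * A = i * (k ^ 2 * B) := by exact_mod_cast h
  have : (i : ℚ) ≠ 0 := by exact_mod_cast hi
  field_simp
  exact mul_left_cancel₀ this (by linear_combination h')

omit [Fintype G] in
theorem sum_erase (c : QC G) (φ : ℕ → ℂ) : ∑ j ∈ ((range (2 ^ c.a)).erase 0).erase (2 ^ (c.a - 1)), φ j =
    ∑ j ∈ range (2 ^ c.a), φ j - φ 0 - φ (2 ^ (c.a - 1)) := by
  have := c.ha
  rw [sum_erase_eq_sub (mem_erase.2 ⟨by positivity, mem_range.2 (Nat.pow_lt_pow_right one_lt_two (by omega))⟩),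
    sum_erase_eq_sub (mem_range.2 (by positivity))]

omit [Fintype G] in
theorem congs [Finite G] {f : G → ℂ} {x : ℤ} (hf : IsGeneralizedCharacter G f) (hx : f 1 = x) :
    (M.Sp μ f d1 → x ≡ 1 [ZMOD 2 ^ (c.a + 1)]) ∧ (M.Sp μ f dS → x ≡ -(M.Qe + 2) [ZMOD 2 ^ (c.a + 1)]) ∧
      (M.Sp μ f (-dsg) → -x ≡ 1 + 2 ^ c.a [ZMOD 2 ^ (c.a + 1)]) := by
  obtain ⟨b, hb⟩ : ∃ b, c.a = b + 3 := ⟨c.a - 3, by have := c.ha; omega⟩
  refine ⟨fun h => ?_, fun h => ?_, fun h => ?_⟩ <;> obtain ⟨k, e⟩ := h.sum_S hf <;>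
    rw [sum_erase, hx] at e
  · rw [vals.1 h] at e
    refine Int.modEq_iff_dvd.2 ⟨1 - k, Int.cast_injective (α := ℂ) ?_⟩
    simp only [d1, hb, sum_const, card_range, nsmul_eq_mul, show b + 3 - 1 = b + 2 from rfl] at e ⊢
    push_cast at e ⊢
    linear_combination -e
  · rw [vals.2.1 h] at e
    obtain ⟨r, hr⟩ : ∃ r, M.Qe = 4 * r + 3 := ⟨M.Qe / 4, by have := M.Qe_mod; omega⟩
    refine Int.modEq_iff_dvd.2 ⟨r - k, Int.cast_injective (α := ℂ) ?_⟩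
    simp only [dS, hb, hr, sum_const, card_range, nsmul_eq_mul, show b + 3 - 1 = b + 2 from rfl] at e ⊢
    push_cast at e ⊢
    linear_combination -e
  · rw [vals.2.2.2.1 h] at e
    refine Int.modEq_iff_dvd.2 ⟨1 + k, Int.cast_injective (α := ℂ) ?_⟩
    have ev : ∀ n, Even (2 ^ (n + 1)) := fun n => (Nat.even_pow' n.succ_ne_zero).2 even_two
    simp only [dsg, hb, Prod.snd_neg, Pi.neg_apply, sum_neg_distrib, neg_one_geom_sum, ev, if_true,
      (ev _).neg_one_pow, show b + 3 - 1 = b + 1 + 1 from rfl, show b + 3 - 2 = b + 1 from rfl] at e ⊢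
    push_cast at e ⊢
    linear_combination e

end H18.QP

namespace H2.QD

open H24 Cfsg Subgroup Finset H4 H18.QP
open H13.Dih (Four V4 Inv CD UU PP FC res)
open H5 (SIrr cl)
open scoped ComplexConjugate MatrixGroups

universe u

variable {G : Type u} [Group G]

theorem Mod.fus_one [Finite G] {c : QC G} (M : Mod c) : M.Fus 1 :=
  ⟨fun _ _ => rfl, fun _ _ _ _ _ => rfl⟩

theorem Mod.Tw.fus [Finite G] {c : QC G} {M : Mod c} (h : M.Tw) {μ : M.Γ →* ℂˣ}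
    (hμ : M.L0 ≤ μ.ker) : M.Fus μ := by
  refine ⟨hμ, fun a ha b hb e => ?_⟩
  obtain ⟨g, rfl⟩ := isConj_iff.1 e
  have h1 : a ∈ C{1 * c.t * 1⁻¹} := by simpa [QC.H] using ha
  have h2 : a ∈ C{g⁻¹ * c.t * g⁻¹⁻¹} := cj_C1 g⁻¹ c.t ▸ mem_cj.2 (by simpa [QC.H] using hb)
  suffices μ (ap M.κ (1⁻¹ * a * 1)) = μ (ap M.κ (g⁻¹⁻¹ * a * g⁻¹)) by simpa using this
  have le : zpowers (1 * c.t * 1⁻¹ * (g⁻¹ * c.t * g⁻¹⁻¹)) ≤ C{a} :=
    zpowers_le.2 (mul_mem (mem_C1_comm.1 h1) (mem_C1_comm.1 h2))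
  rcases dih (H13.Dih.sq_of (H13.Dih.two_conj c.four.ht 1)) (H13.Dih.sq_of (H13.Dih.two_conj c.four.ht g⁻¹))
    with ⟨k, hk, e⟩ | ⟨z, hz, z2, z3, z4⟩
  · have e' : k⁻¹ * a * k = a := by simpa using mem_C1_iff_conj.1 (inv_mem (le hk))
    rw [lam_eq (g' := k) (by rw [← e]; group) h2, e']
    simp
  · obtain ⟨k, e⟩ := c.invol_G z2
    have e' : z = k⁻¹ * c.t * k⁻¹⁻¹ := by rw [← e]; group
    have h3 : a ∈ C{k⁻¹ * c.t * k⁻¹⁻¹} := e' ▸ mem_C1_comm.1 (le hz)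
    exact (lam_comm h hμ (e' ▸ z3) h1 h3).trans (lam_comm h hμ (e' ▸ z4) h2 h3).symm

theorem Mod.exists_pin [Fintype G] {c : QC G} (M : Mod c) {μ : M.Γ →* ℂˣ} (hμ : M.Fus μ) :
    Nonempty (M.Pin μ) := by
  classical
  have := Fintype.ofFinite c.H
  have ha := c.ha
  have hk := hμ.ker
  have : ∀ k, ∃ f, ¬ 2 ^ (c.a - 1) ∣ k → M.HC f (dθ c.a k) (-1) 1 0 := fun k =>
    (em (2 ^ (c.a - 1) ∣ k)).elim (fun h => ⟨0, fun k => absurd h k⟩) fun h => (M.hc_θ h).imp fun _ h _ => h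
  choose fθ hθ using this
  obtain ⟨fβ, hβ⟩ := M.hc_β
  obtain ⟨f1, h1⟩ : ∃ f, M.HC f d1 1 0 1 := ⟨_, M.hc_one⟩
  obtain ⟨f2, h2⟩ : ∃ f, M.HC f dS 0 1 1 := ⟨_, M.hc_St⟩
  obtain ⟨f3, h3⟩ : ∃ f, M.HC f dsg 1 0 (-1) := ⟨_, M.hc_sgn⟩
  obtain ⟨f4, h4⟩ : ∃ f, M.HC f dSs 0 1 (-1) := ⟨_, M.hc_Ss⟩
  have DV : ∀ k, ¬ 2 ^ (c.a - 1) ∣ k → DS M (f1 - f2 + fθ k) (dV c.a k) := fun k hk =>
    ds_of (((hc_sirr h1).gen.sub (hc_sirr h2).gen).add (hc_sirr (hθ k hk)).gen)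
      ((h1.sp.sub h2.sp).add (hθ k hk).sp)
      (fun y hy ho => by simp [h1.odd y hy ho, h2.odd y hy ho, (hθ k hk).odd y hy ho])
      fun y hy => by simp [h1.out y hy, h2.out y hy, (hθ k hk).out y hy]
  have DW : DS M (f1 - f2 - f3 + f4) dW :=
    ds_of ((((hc_sirr h1).gen.sub (hc_sirr h2).gen).sub (hc_sirr h3).gen).add (hc_sirr h4).gen)
      (((h1.sp.sub h2.sp).sub h3.sp).add h4.sp)
      (fun y hy ho => by simp [h1.odd y hy ho, h2.odd y hy ho, h3.odd y hy ho, h4.odd y hy ho])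
      fun y hy => by simp [h1.out y hy, h2.out y hy, h3.out y hy, h4.out y hy]
  have DX : DS M (f2 + f3 + fβ) dX :=
    ds_of (((hc_sirr h2).gen.add (hc_sirr h3).gen).add (hc_sirr hβ).gen) ((h2.sp.add h3.sp).add hβ.sp)
      (fun y hy ho => by simp [h2.odd y hy ho, h3.odd y hy ho, hβ.odd y hy ho])
      fun y hy => by simp [h2.out y hy, h3.out y hy, hβ.out y hy]
  obtain ⟨t1, t2, t3, r1, r2, r3⟩ := three_classes ha
  obtain ⟨W1, W2, W3, W4, W5⟩ := bf_W ha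
  obtain ⟨X1, X2, X3, X4, X5⟩ := bf_X ha
  obtain ⟨e0, ex, ey, ez, eb, ek, i0, ix, iy, iz, ib, hV, hW, hX, aV, aW, aX⟩ :=
    lattice (fun k => ¬ 2 ^ (c.a - 1) ∣ k) (Rel c.a) t1 t2 t3 r1 r2 r3 (Rel.equiv ha)
      (V := fun k => th M μ (f1 - f2 + fθ k)) (fun k hk => (DV k hk).th_gen) (DW.th_gen (μ := μ))
      (DX.th_gen (μ := μ)) (DW.th_odd 1 (by simp))
      (fun k l a b => by
        rw [(DV l b).inner hk (DV k a).th_gen.classFun ((DV k a).th_sp hk), dV, bf_add, bf_sub,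
          (bf_V ha b).1, (bf_V ha b).2.1, (bf_θ ha b a).1]
        by_cases e : Rel c.a k l
        · rw [if_pos e, if_pos ((Rel.equiv ha).symm e)]; norm_num
        · rw [if_neg e, if_neg fun e' => e ((Rel.equiv ha).symm e')]; norm_num)
      (fun k a => by
        rw [DW.inner hk (DV k a).th_gen.classFun ((DV k a).th_sp hk), dV, bf_add, bf_sub, W1, W2,
          (bf_θ ha a a).2.1]; norm_num)
      (fun k a => by
        rw [DX.inner hk (DV k a).th_gen.classFun ((DV k a).th_sp hk), dV, bf_add, bf_sub, X1, X2,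
          (bf_θ ha a a).2.2]; norm_num)
      (by rw [DW.inner hk DW.th_gen.classFun (DW.th_sp hk)]
          (conv_lhs => rw [show bf c.a dW dW = bf c.a (d1 - dS - dsg + dSs) dW from rfl])
          rw [bf_add, bf_sub, bf_sub, W1, W2, W3, W4]; norm_num)
      (by rw [DX.inner hk DW.th_gen.classFun (DW.th_sp hk), dW, bf_add, bf_sub, bf_sub, X1, X2, X3, X4]
          norm_num)
      (by rw [DX.inner hk DX.th_gen.classFun (DX.th_sp hk)]
          (conv_lhs => rw [show bf c.a dX dX = bf c.a (dS + dsg + dB) dX from rfl])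
          rw [bf_add, bf_add, X2, X3, X5]; norm_num)
  have pin : ∀ {X g : G → ℂ} {d : Dat}, SIrr X → M.Sp μ g d →
      (∀ k, ¬ 2 ^ (c.a - 1) ∣ k → classInner X (th M μ (f1 - f2 + fθ k)) = bf c.a d (dV c.a k)) →
      classInner X (th M μ (f1 - f2 - f3 + f4)) = bf c.a d dW →
      classInner X (th M μ (f2 + f3 + fβ)) = bf c.a d dX →
      ((∃ k, ¬ 2 ^ (c.a - 1) ∣ k ∧ bf c.a d (dV c.a k) ≠ 0) ∨ bf c.a d dW ≠ 0 ∨ bf c.a d dX ≠ 0) →
      M.Sp μ X d := fun {X g d} iX hg a1 a2 a3 a4 => by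
    have k : ∀ {Φ : G → ℂ} {e : Dat}, DS M Φ e → classInner X (th M μ Φ) ≠ 0 → c.dip X (th M μ Φ) ≠ 0 :=
      fun h k => by rwa [← c.inner_eq_dip iX.classFun h.th_gen.classFun h.th_odd]
    obtain ⟨d', hd⟩ : ∃ d', M.Sp μ X d' := by
      rcases a4 with ⟨l, hl, e⟩ | e | e
      · exact hμ.sp iX ((DV l hl).th_sp hk) (k (DV l hl) (a1 l hl ▸ e)) (.inl ⟨l, hl, rfl⟩)
      · exact hμ.sp iX (DW.th_sp hk) (k DW (a2 ▸ e)) (.inr (.inl rfl))
      · exact hμ.sp iX (DX.th_sp hk) (k DX (a3 ▸ e)) (.inr (.inr rfl))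
    obtain ⟨b1, b2⟩ := bf_nondeg ha (d := d' - d) (fun j hj => (hd.sub hg).symm hj)
      (fun l hl => by rw [bf_sub, ← a1 l hl, (DV l hl).inner hk iX.classFun hd, sub_self])
      (by rw [bf_sub, ← a2, DW.inner hk iX.classFun hd, sub_self])
      (by rw [bf_sub, ← a3, DX.inner hk iX.classFun hd, sub_self])
    exact hd.congr (sub_eq_zero.1 b1) fun j hj => sub_eq_zero.1 (b2 j hj)
  have s0 := pin i0 (h1.sp.tw hk) (fun k a => by rw [(aV k a).1, (bf_V ha a).1]) (by rw [aW.1, W1])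
    (by rw [aX.1, X1]) (.inr (.inl (by simp [W1])))
  have sx := pin ix (h2.sp.tw hk) (fun k a => by rw [(aV k a).2.1, (bf_V ha a).2.1]) (by rw [aW.2.1, W2])
    (by rw [aX.2.1, X2]) (.inr (.inl (by simp [W2])))
  have sy := pin iy (h4.sp.tw hk).neg (fun k a => by rw [(aV k a).2.2.1, bf_neg, (bf_V ha a).2.2.2.1, neg_zero])
    (by rw [aW.2.2.1, bf_neg, W4]) (by rw [aX.2.2.1, bf_neg, X4, neg_zero]) (.inr (.inl (by simp [bf_neg, W4])))
  have sz := pin iz (h3.sp.tw hk).neg (fun k a => by rw [(aV k a).2.2.2.1, bf_neg, (bf_V ha a).2.2.1, neg_zero])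
    (by rw [aW.2.2.2.1, bf_neg, W3, neg_neg]) (by rw [aX.2.2.2.1, bf_neg, X3])
    (.inr (.inl (by simp [bf_neg, W3])))
  have sb := pin ib (hβ.sp.tw hk) (fun k a => by rw [(aV k a).2.2.2.2.1, (bf_V ha a).2.2.2.2])
    (by rw [aW.2.2.2.2, W5]) (by rw [aX.2.2.2.2, X5]) (.inr (.inr (by simp [X5])))
  have sk : ∀ k, ¬ 2 ^ (c.a - 1) ∣ k → M.Sp μ (ek k) (dθ c.a k) := fun k a =>
    pin (hV k a).1 ((hθ k a).sp.tw hk) (fun l b => by rw [(aV k a).2.2.2.2.2.2.2 l b, (bf_θ ha b a).1])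
      (by rw [(aV k a).2.2.2.2.2.1, (bf_θ ha a a).2.1]) (by rw [(aV k a).2.2.2.2.2.2.1, (bf_θ ha a a).2.2])
      (.inl ⟨k, a, by simp [(bf_θ ha a a).1, (Rel.equiv ha).refl k]⟩)
  obtain ⟨d0, -, g0⟩ := i0.exists_int
  obtain ⟨x, -, gx⟩ := ix.exists_int
  obtain ⟨y, -, gy⟩ := iy.exists_int
  obtain ⟨z, -, gz⟩ := iz.exists_int
  have oV : ∀ k, ¬ 2 ^ (c.a - 1) ∣ k → ∀ g, Odd (orderOf g) → (e0 - ex + ek k) g = 0 := fun k a g o =>
    (hV k a).2 ▸ (DV k a).th_odd g o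
  have oX : ∀ g, Odd (orderOf g) → (ex - ez + eb) g = 0 := fun g o => hX ▸ DX.th_odd g o
  have i1 : c.H.index ≠ 0 := index_ne_zero_of_finite
  have S0 := sum_sirr i0 (vals.1 s0) g0
  have Sx := sum_sirr ix (vals.2.1 sx) gx
  have Sz := sum_sirr iz (vals.2.2.2.1 sz) gz
  refine ⟨⟨e0, ex, ey, ez, eb, ek, d0, x, y, z, i0, ix, iy, iz, ib, fun k a => (hV k a).1, g0, gx, gy, gz,
    s0, sx, sy, sz, sb, sk, oV, fun g o => hW ▸ DW.th_odd g o, oX, fun e => ?_, fin_eq i1 ?_, ?_, fin_eq i1 ?_,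
    (congs i0.gen g0).1 s0, (congs ix.gen gx).2.1 sx, (congs iz.gen gz).2.2 sz⟩⟩
  · subst e
    have o := isClassFunction_const (G := G) 1
    have k1 := (DV 1 t1).inner hk o M.hc_one.sp
    have k2 : classInner (fun _ => 1) ex = 0 := sep H5.sirr_one ix (Θ := th M 1 (f2 + f3 + fβ)) (by
      rw [DX.inner hk o M.hc_one.sp, X1, aX.2.1]; norm_num)
    have k3 : classInner (fun _ => 1) (ek 1) = 0 :=
      sep H5.sirr_one (hV 1 t1).1 (Θ := th M 1 (f1 - f2 - f3 + f4)) (by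
        rw [DW.inner hk o M.hc_one.sp, W1, (aV 1 t1).2.2.2.2.2.1]; norm_num)
    rw [(hV 1 t1).2, classInner_add_right, classInner_sub_right, k2, k3, (bf_V ha t1).1] at k1
    exact (H5.sirr_one.eq_of_inner_eq_one i0 (by simpa using k1)).symm
  · have k := (DV 1 t1).sum hk
    have k1 : ek 1 1 = x - d0 := by
      have := oV 1 t1 1 (by simp)
      simp only [Pi.add_apply, Pi.sub_apply, g0, gx] at this
      linear_combination this
    simp only [(hV 1 t1).2, Pi.add_apply, Pi.sub_apply, sum_add_distrib, sum_sub_distrib, S0, Sx,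
      sum_sirr (hV 1 t1).1 rfl k1, vals.2.2.2.2.2 1 (sk 1 t1), sum_hc h1, sum_hc h2, sum_hc (hθ 1 t1)] at k
    push_cast at k ⊢
    linear_combination k
  · have k := DW.sum hk
    simp only [hW, Pi.add_apply, Pi.sub_apply, sum_add_distrib, sum_sub_distrib, S0, Sx, Sz,
      sum_sirr iy (vals.2.2.1 sy) gy, sum_hc h1, sum_hc h2, sum_hc h3, sum_hc h4] at k
    rw [fin_eq i1 (k := c.u * (M.N.q * M.N.n)) (B := 0)
      (A := 1 / d0 - M.Qe ^ 2 / x + 1 / z - M.Qe ^ 2 / y) ?_, mul_zero]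
    push_cast at k ⊢
    linear_combination k
  · have k := DX.sum hk
    have k1 : eb 1 = z - x := by
      have := oX 1 (by simp)
      simp only [Pi.add_apply, Pi.sub_apply, gz, gx] at this
      linear_combination this
    simp only [hX, Pi.add_apply, Pi.sub_apply, sum_add_distrib, sum_sub_distrib, Sx, Sz,
      sum_sirr ib (vals.2.2.2.2.1 sb) k1, sum_hc h2, sum_hc h3, sum_hc hβ] at k
    push_cast at k ⊢
    linear_combination k

end H2.QD
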