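import Mathlib
import Cfsg.Agent.H2.QPin
import Cfsg.Agent.H2.QPure

/-! # QBud: degrees and values of the pinned characters, a character of small degree -/

set_option autoImplicit false
set_option linter.unusedSectionVars false

namespace H18.QP

open Cfsg H4

theorem negp {Y : Type*} [Group Y] [Finite Y] {θ : Y → ℂ} (hθ : IsCharacter Y θ) {t : Y}
    (ht : t ∈ Subgroup.center Y) (t2 : t * t = 1) : IsCharacter Y fun g => (θ g - θ (t * g)) / 2 := by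
  refine hθ.induction (P := fun θ => IsCharacter Y fun g => (θ g - θ (t * g)) / 2) ?_ (fun ψ hψ => ?_)
    fun φ ψ _ _ h1 h2 => ?_
  · convert isCharacter_zero using 1; ext; simp
  · obtain ⟨c, hc⟩ := H5.center_le_charCenter hψ ht
    have : (c : ℂ) * c = 1 := mul_right_cancel₀ hψ.apply_one_ne_zero (by
      rw [mul_assoc, ← hc, ← hc, ← mul_assoc, t2, mul_one, one_mul])
    rcases mul_self_eq_one_iff.1 this with e | e
    · convert isCharacter_zero using 1; ext; simp [hc, e]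
    · convert hψ.isCharacter using 1; ext; simp [hc, e]
  · convert h1.add h2 using 1; ext; simp only [Pi.add_apply]; ring

theorem irr_of {G : Type*} [Group G] [Fintype G] {X : G → ℂ} (hX : H5.SIrr X) {f : ℕ} (hf : X 1 = f) :
    IsIrrCharacter G X := hX.gen.isIrr_of_inner_self hX.norm (by simp [hf])

theorem q3 (N : NP) : Odd N.q ∧ 3 ≤ N.q := by
  have := N.hp.two_le
  have := N.p_ne
  exact ⟨N.hq ▸ (N.hp.odd_of_ne_two N.p_ne).pow, N.hq ▸ le_trans (by omega) (Nat.le_self_pow N.f_pos.ne' _)⟩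

end H18.QP

namespace H2.QD

open H24 Cfsg Subgroup Finset H4 H18.QP
open H13.Dih (Four V4 Inv CD UU PP FC res)
open H5 (SIrr)
open scoped ComplexConjugate MatrixGroups

universe u

variable {G : Type u} [Group G]

namespace Mod.Pin
variable [Fintype G] {c : QC G} {M : Mod c} {μ : M.Γ →* ℂˣ}

theorem deg_eq (P : M.Pin μ) : P.d0 - P.x + P.z - P.y = 0 ∧ P.eb 1 = (P.z - P.x : ℤ) ∧
    ∀ k, ¬ 2 ^ (c.a - 1) ∣ k → P.ek k 1 = (P.x - P.d0 : ℤ) := by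
  have h1 := P.oddW 1 (by simp)
  have h2 := P.oddX 1 (by simp)
  have h3 := fun k hk => P.oddV k hk 1 (by simp)
  simp only [Pi.add_apply, Pi.sub_apply, P.deg0, P.degx, P.degy, P.degz] at h1 h2 h3
  refine ⟨by exact_mod_cast h1, ?_, fun k hk => ?_⟩ <;> push_cast
  · linear_combination h2
  · linear_combination h3 k hk

theorem ne_zero (P : M.Pin μ) : P.d0 ≠ 0 ∧ P.x ≠ 0 ∧ P.y ≠ 0 ∧ P.z ≠ 0 ∧ P.x ≠ P.d0 ∧ P.z ≠ P.x := by
  have k : ∀ {X : G → ℂ} {n : ℤ}, SIrr X → X 1 = n → n ≠ 0 := fun h e e' =>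
    h.apply_one_ne_zero (by simp [e, e'])
  have t1 := (three_classes c.ha).1
  exact ⟨k P.i0 P.deg0, k P.ix P.degx, k P.iy P.degy, k P.iz P.degz,
    sub_ne_zero.1 (k (P.ik 1 t1) (P.deg_eq.2.2 1 t1)), sub_ne_zero.1 (k P.ib P.deg_eq.2.1)⟩

theorem val_t (P : M.Pin μ) : P.e0 c.t = 1 ∧ P.ex c.t = M.Qe ∧ P.ey c.t = -M.Qe ∧ P.ez c.t = -1 ∧
    P.eb c.t = 1 + M.Qe :=
  ⟨vals.1 P.sp0, vals.2.1 P.spx, vals.2.2.1 P.spy, vals.2.2.2.1 P.spz, vals.2.2.2.2.1 P.spb⟩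

/-- inner products of a class function with data `d` -/
theorem inner (P : M.Pin μ) (hμ : M.L0 ≤ μ.ker) {f : G → ℂ} (hf : IsClassFunction G f) {d : Dat}
    (h : M.Sp μ f d) : (∀ k, ¬ 2 ^ (c.a - 1) ∣ k →
      classInner f (P.e0 - P.ex + P.ek k) = bf c.a d (dV c.a k)) ∧
    classInner f (P.e0 - P.ex + P.ez - P.ey) = bf c.a d dW ∧
    classInner f (P.ex - P.ez + P.eb) = bf c.a d dX := by
  refine ⟨fun k hk => ?_, ?_, ?_⟩
  · rw [c.inner_eq_dip hf ((P.i0.classFun.sub P.ix.classFun).add (P.ik k hk).classFun) (P.oddV k hk),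
      h.dip ((P.sp0.sub P.spx).add (P.spk k hk)) hμ, dV]
  · rw [c.inner_eq_dip hf (((P.i0.classFun.sub P.ix.classFun).add P.iz.classFun).sub P.iy.classFun) P.oddW,
      h.dip (((P.sp0.sub P.spx).add P.spz).sub P.spy) hμ, dW, sub_neg_eq_add, ← sub_eq_add_neg]
  · rw [c.inner_eq_dip hf ((P.ix.classFun.sub P.iz.classFun).add P.ib.classFun) P.oddX,
      h.dip ((P.spx.sub P.spz).add P.spb) hμ, dX, sub_neg_eq_add]

theorem sepd (P : M.Pin μ) (hμ : M.L0 ≤ μ.ker) {f g : G → ℂ} (hf : SIrr f) (hg : SIrr g) {d e : Dat}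
    (h1 : M.Sp μ f d) (h2 : M.Sp μ g e) (h : (∃ k, ¬ 2 ^ (c.a - 1) ∣ k ∧
      bf c.a d (dV c.a k) ^ 2 ≠ bf c.a e (dV c.a k) ^ 2) ∨ bf c.a d dW ^ 2 ≠ bf c.a e dW ^ 2 ∨
      bf c.a d dX ^ 2 ≠ bf c.a e dX ^ 2) : classInner f g = 0 := by
  obtain ⟨a1, a2, a3⟩ := P.inner hμ hf.classFun h1
  obtain ⟨b1, b2, b3⟩ := P.inner hμ hg.classFun h2
  rcases h with ⟨k, hk, h⟩ | h | h
  · exact sep hf hg (by rwa [a1 k hk, b1 k hk])
  · exact sep hf hg (by rwa [a2, b2])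
  · exact sep hf hg (by rwa [a3, b3])

/-- pairwise orthogonality -/
theorem orth (P : M.Pin μ) (hμ : M.L0 ≤ μ.ker) :
    (Pairwise fun i j : Fin 5 => classInner (![P.e0, P.ex, P.ey, P.ez, P.eb] i)
      (![P.e0, P.ex, P.ey, P.ez, P.eb] j) = 0) ∧
    ∀ k, ¬ 2 ^ (c.a - 1) ∣ k → (∀ i : Fin 5,
      classInner (![P.e0, P.ex, P.ey, P.ez, P.eb] i) (P.ek k) = 0) ∧
      ∀ l, ¬ 2 ^ (c.a - 1) ∣ l → ¬ Rel c.a k l → classInner (P.ek k) (P.ek l) = 0 := by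
  have ha := c.ha
  have t1 := (three_classes ha).1
  obtain ⟨V1, V2, V3, V4, V5⟩ := bf_V ha t1
  obtain ⟨W1, W2, W3, W4, W5⟩ := bf_W ha
  obtain ⟨X1, X2, X3, X4, X5⟩ := bf_X ha
  have i : ∀ i : Fin 5, SIrr (![P.e0, P.ex, P.ey, P.ez, P.eb] i) := fun i => by
    fin_cases i
    exacts [P.i0, P.ix, P.iy, P.iz, P.ib]
  have s : ∀ i : Fin 5, M.Sp μ (![P.e0, P.ex, P.ey, P.ez, P.eb] i) (![d1, dS, -dSs, -dsg, dB] i) := fun i => by
    fin_cases i
    exacts [P.sp0, P.spx, P.spy, P.spz, P.spb]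
  refine ⟨fun a b e => P.sepd hμ (i a) (i b) (s a) (s b) (Or.imp_left (fun h => ⟨1, t1, h⟩) ?_),
    fun k hk => ⟨fun a => P.sepd hμ (i a) (P.ik k hk) (s a) (P.spk k hk) (.inr ?_), fun l hl e =>
      P.sepd hμ (P.ik k hk) (P.ik l hl) (P.spk k hk) (P.spk l hl) (.inl ⟨k, hk, ?_⟩)⟩⟩
  · fin_cases a <;> fin_cases b <;> simp [bf_neg, *] at e ⊢
  · fin_cases a <;> simp [bf_neg, (bf_θ ha hk hk).2, *]
  · simp [(bf_θ ha hk hk).1, (bf_θ ha hk hl).1, e, (Rel.equiv ha).refl k]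

theorem eqs (P : M.Pin 1) : P.d0 = 1 ∧ P.z = P.x + P.y - 1 ∧ P.x * P.y = M.Qe ^ 2 * P.z ∧
    Odd P.x ∧ Odd P.y ∧ ((P.x - M.Qe) ^ 2 / (P.x * (P.x - 1)) : ℚ) = M.rho * (1 - 1 / M.Qe) ∧
    c.H.index * (P.x - M.Qe) ^ 2 = c.u ^ 2 * M.N.q * M.N.n ^ 2 * M.N.m * (P.x * (P.x - 1)) := by
  have h0 : P.d0 = 1 := by
    have := P.deg0
    rw [P.one rfl] at this
    exact_mod_cast (show (P.d0 : ℂ) = 1 from this.symm)
  obtain ⟨-, x0, y0, z0, x1, -⟩ := P.ne_zero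
  have h1 := P.deg_eq.1
  have hV := P.eqV
  have hW := P.eqW
  rw [h0] at h1 hV hW x1
  obtain ⟨b, hb⟩ : ∃ b, c.a = b + 1 := ⟨c.a - 1, by have := c.ha; omega⟩
  obtain ⟨k, hk⟩ := P.mx.dvd
  obtain ⟨l, hl⟩ := P.mz.dvd
  have hQ := M.Qe_mod
  have w0 : (0 : ℤ) < 2 ^ b := by positivity
  simp only [hb, pow_succ] at hk hl
  generalize (2 : ℤ) ^ b = w at hk hl w0
  have z1 : P.z + 1 ≠ 0 := fun e => by
    have : w * (1 - 2 * l) = 0 := by linarith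
    rcases mul_eq_zero.1 this with e | e <;> omega
  have hx : (P.x : ℚ) ≠ 0 := by exact_mod_cast x0
  have hy : (P.y : ℚ) ≠ 0 := by exact_mod_cast y0
  have hz : (P.z : ℚ) ≠ 0 := by exact_mod_cast z0
  have hx1 : (P.x - 1 : ℚ) ≠ 0 := by exact_mod_cast sub_ne_zero.2 x1
  have e1 : ((P.x - M.Qe) ^ 2 / (P.x * (P.x - 1)) : ℚ) = M.rho * (1 - 1 / M.Qe) := by
    rw [← hV]; push_cast; field_simp; ring
  have ox : Odd P.x := Int.odd_iff.2 (by
    have : P.x = -(M.Qe + 2) - 2 * (w * 2 * k) := by linarith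
    omega)
  refine ⟨h0, by omega, mul_left_cancel₀ z1 ?_, ox, Int.odd_iff.2 ?_, e1, ?_⟩
  · push_cast at hW
    field_simp at hW
    have : (P.z + 1 : ℚ) * (P.x * P.y) = (P.x + P.y) * (M.Qe ^ 2 * P.z) := by linear_combination hW
    rw [show P.z + 1 = P.x + P.y by omega] at *
    rw [show (P.z + 1 : ℚ) = P.x + P.y by exact_mod_cast (by omega : P.z + 1 = P.x + P.y)] at this
    exact_mod_cast this
  · have := Int.odd_iff.1 ox
    have : P.z = 2 * (w * 2 * l - w) - 1 := by linarith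
    omega
  · have hi : (c.H.index : ℚ) ≠ 0 := by exact_mod_cast index_ne_zero_of_finite
    have hq : (M.N.q : ℚ) ≠ 0 := by have := (q3 M.N).2; positivity
    have hm : (M.N.m : ℚ) = M.N.q - M.N.ε := by exact_mod_cast M.N.hm
    refine Int.cast_injective (α := ℚ) ?_
    rw [div_eq_iff (mul_ne_zero hx hx1), rho] at e1
    push_cast at e1 ⊢
    rw [e1, hm]
    rcases M.N.hε with e | e <;> simp only [Qe, e] <;> push_cast <;> field_simp

theorem bud (P : M.Pin 1) : ∃ f : ℕ, (P.x = f ∧ M.Bud P.ex f 1) ∨ (P.y = f ∧ M.Bud P.ey f (-1)) := by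
  obtain ⟨-, h1, h2, ox, oy, -⟩ := P.eqs
  have ha := c.ha
  have hk : M.L0 ≤ (1 : M.Γ →* ℂˣ).ker := M.fus_one.ker
  have t1 := (three_classes ha).1
  obtain ⟨V1, V2, V3, V4, V5⟩ := bf_V ha t1
  obtain ⟨W1, W2, W3, W4, W5⟩ := bf_W ha
  obtain ⟨X1, X2, X3, X4, X5⟩ := bf_X ha
  have cj : ∀ {f : G → ℂ}, SIrr f → SIrr fun g => conj (f g) := fun h =>
    ⟨h.gen.conj, by rw [classInner_conj_conj, h.norm]⟩
  have ev := (half_even c).neg_one_pow (α := ℂ)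
  rcases num_bud ha (q := M.N.q) (by exact_mod_cast (q3 M.N).1) (by exact_mod_cast (q3 M.N).2) ox oy
    (by rw [h2, M.Qe_sq, h1]) (h1 ▸ P.mz) with ⟨a1, a2⟩ | ⟨a1, a2⟩
  · obtain ⟨f, hf⟩ := Int.eq_ofNat_of_zero_le a1.le
    have d : P.ex 1 = f := by rw [P.degx, hf]; simp
    have s : M.Sp 1 (fun g => conj (P.ex g)) dS := P.spx.star.congr (by simp [dS, map_ofNat]) (by simp [dS])
    have k := (P.inner hk (cj P.ix).classFun s).2.2
    rw [classInner_add_right, classInner_sub_right,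
      P.sepd hk (cj P.ix) P.iz s P.spz (.inl ⟨1, t1, by simp [bf_neg, *]⟩),
      P.sepd hk (cj P.ix) P.ib s P.spb (.inl ⟨1, t1, by simp [*]⟩), X2, sub_zero, add_zero] at k
    exact ⟨f, .inl ⟨hf, irr_of P.ix d, d, by rw [hf] at a2; exact_mod_cast a2, fun g =>
      (P.ix.gen.apply_inv g).trans (congrFun ((cj P.ix).eq_of_inner_eq_one P.ix k) g), .inl rfl,
      fun y hy ho => by rw [P.spx.cen y hy ho]; simp [dS]; ring, fun g hg o ho => P.spx.mul_U hg ho⟩⟩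
  · obtain ⟨f, hf⟩ := Int.eq_ofNat_of_zero_le a1.le
    have d : P.ey 1 = f := by rw [P.degy, hf]; simp
    have s : M.Sp 1 (fun g => conj (P.ey g)) (-dSs) := P.spy.star.congr (by simp [dSs, map_ofNat]) (by simp [dSs])
    have k := (P.inner hk (cj P.iy).classFun s).2.1
    rw [classInner_sub_right, classInner_add_right, classInner_sub_right,
      P.sepd hk (cj P.iy) P.i0 s P.sp0 (.inl ⟨1, t1, by simp [bf_neg, *]⟩),
      P.sepd hk (cj P.iy) P.ix s P.spx (.inl ⟨1, t1, by simp [bf_neg, *]⟩),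
      P.sepd hk (cj P.iy) P.iz s P.spz (.inr (.inr (by simp [bf_neg, *]))), bf_neg, W4] at k
    exact ⟨f, .inr ⟨hf, irr_of P.iy d, d, by rw [hf] at a2; exact_mod_cast a2, fun g =>
      (P.iy.gen.apply_inv g).trans (congrFun ((cj P.iy).eq_of_inner_eq_one P.iy
        (by linear_combination -k)) g), .inr rfl,
      fun y hy ho => by rw [P.spy.cen y hy ho]; simp [dSs, ev]; ring, fun g hg o ho => P.spy.mul_U hg ho⟩⟩

end Mod.Pin

theorem Mod.exists_bud [Finite G] {c : QC G} (M : Mod c) : ∃ χ f δ, M.Bud χ f δ := by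
  have := Fintype.ofFinite G
  obtain ⟨P⟩ := M.exists_pin M.fus_one
  obtain ⟨f, h | h⟩ := P.bud <;> exact ⟨_, _, _, h.2⟩

/-- the `-1`-eigenspace of `t` has dimension `0` or at least `3 (q - 1) / 4` -/
theorem Mod.neg_dim [Finite G] {c : QC G} (M : Mod c) (hq : 5 ≤ M.N.q) {X : Subgroup G}
    (hX : M.Big X) {θ : X → ℂ} (hθ : IsCharacter X θ) {t' : X} (ht : (t' : G) = c.t) {d v : ℤ}
    (hd : θ 1 = d) (hv : θ t' = v) : d = v ∨ 3 * ((M.N.q : ℤ) - 1) ≤ 2 * (d - v) := by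
  obtain ⟨R, z, hR, hz, zo, zf⟩ := M.exists_borel
  have zp : ¬ M.N.p ∣ orderOf z := fun k => M.N.hp.one_lt.ne' (Nat.dvd_one.1
    ((Nat.dvd_add_right k).1 (zo ▸ M.N.hq ▸ dvd_pow_self _ M.N.f_pos.ne')))
  obtain ⟨P, hP, y, hy, p1, p2, p3, p4, p5, p6⟩ := M.borel_cover (Y := X) hR hz.2 zp (hR.1.trans hX.cov)
    ((M.L_sup_e.ge.trans (sup_le hX.cov (zpowers_le.2
      (ap_mem_img _ (hX.S_le c.s_mem_S) (c.S_le_H c.s_mem_S))))) hz.1)
  have tX : c.t ∈ X ⊓ c.H := ⟨ht ▸ t'.2, self_mem_C1 _⟩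
  have h1 := negp (H5.isCharacter_res_le (inf_le_left : X ⊓ c.H ≤ X) hθ) (t := ⟨c.t, tX⟩)
    (mem_center_iff.2 fun g => Subtype.ext (mem_C1.1 g.2.2)) (Subtype.ext (H13.Dih.sq_of c.four.ht))
  obtain ⟨η, hη⟩ : ∃ η : ↥(X ⊓ c.H) → ℂ, η = fun g : ↥(X ⊓ c.H) =>
    (θ ⟨g, g.2.1⟩ - θ ⟨c.t * g, mul_mem tX.1 g.2.1⟩) / 2 := ⟨_, rfl⟩
  replace h1 : IsCharacter _ η := hη ▸ h1
  have e1 : η 1 = (d - v) / 2 := by
    rw [hη, ← hd, ← hv]
    exact congrArg (fun x => (θ 1 - θ x) / 2) (Subtype.ext (by simp [ht]))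
  have e2 : η ⟨c.t, tX⟩ = (v - d) / 2 := by
    rw [hη, ← hd, ← hv]
    exact congrArg₂ (fun x y => (θ x - θ y) / 2) (Subtype.ext ht.symm) (Subtype.ext (H13.Dih.sq_of c.four.ht))
  by_cases hk : ∀ x (hx : x ∈ P), η ⟨x, hP hx⟩ = η 1
  · have := H5.charKer_normal h1.classFun
    have k : P ≤ (H5.charKer η).map (X ⊓ c.H).subtype := fun x hx =>
      ⟨⟨x, hP hx⟩, (H5.mem_charKer_iff h1).2 (hk x hx), rfl⟩
    obtain ⟨x, hx, e⟩ := M.t_mem_of_cov (M.cov_of_norm hq hX.cov (nml_map_subtype (H5.charKer η)).norm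
      (ne_bot_of_le (fun e => by have := hR.2.2; rw [← p2, e] at this; simp at this; omega) (img_mono _ k)))
    have := H5.apply_of_mem_charKer hx
    rw [show x = ⟨c.t, tX⟩ from Subtype.ext e, e1, e2] at this
    exact .inl (Int.cast_injective (α := ℂ) (by linear_combination -this))
  · push Not at hk
    obtain ⟨x, hx, x1⟩ := hk
    obtain ⟨n, hn⟩ := h1.exists_nat_apply_one
    have := (k3 M.N.hp M.N.p_ne p1 p4 (fun k => zp (p6 _ M.N.hp k)) (k := orderOf z)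
      (fun j hj w hw k => ?_) (H5.isCharacter_res_le (sup_le hP (zpowers_le.2 hy)) h1) hn
      ⟨⟨x, mem_sup_left hx⟩, hx, x1⟩).1
    · have e : 2 * (n : ℤ) = d - v := Int.cast_injective (α := ℂ) (by push_cast; linear_combination 2 * (e1 - hn))
      right; omega
    · have wH := (hP hw).2
      have yH := pow_mem hy.2 j
      have := M.κ_U (p3.ge k).2
      rw [ap_mul _ (mul_mem (mul_mem yH wH) (inv_mem yH)) (inv_mem wH), ap_conj _ yH wH, ap_inv _ wH,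
        ap_pow _ hy.2, p5, mul_inv_eq_one] at this
      exact p3.le ⟨hw, M.mem_U wH (mem_bot.1 ((zf _ (npow_mem_zpowers z j) (mt orderOf_dvd_of_pow_eq_one hj)).le
        ⟨p2 ▸ ap_mem_img _ hw wH, mem_C1_comm.1 (mem_C1_iff_conj.2 this)⟩))
        (H13.Dih.piElt_odd.1 ((p1.piElt hw).compl_of_ne M.N.p_ne))⟩

theorem Mod.q9 [Finite G] {c : QC G} (M : Mod c) (hq : M.N.q = 9) (hu : 3 ∣ c.u) :
    3 ∣ c.H.index := by
  have := Fintype.ofFinite G
  obtain ⟨P⟩ := M.exists_pin M.fus_one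
  obtain ⟨-, h1, h2, -, -, -, h3⟩ := P.eqs
  have h4 := M.four_dvd_n
  have hn := M.N.hn
  have hm := M.N.hm
  have hε : M.N.ε = -1 := by have := M.N.hε; omega
  have n8 : M.N.n = 8 := by omega
  have hQ : M.Qe = -9 := by simp [Mod.Qe, hq, hε]
  obtain ⟨r, hr, e⟩ := M.hn
  have a4 : c.a = 4 := by
    have ha := c.ha
    have : c.a - 1 ≤ 3 := (Nat.pow_dvd_pow_iff_le_right one_lt_two).1 ⟨r, by rw [← e, n8]; rfl⟩
    have := Nat.odd_iff.1 hr
    by_contra k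
    rw [show c.a - 1 = 2 by omega] at e
    omega
  have mx := P.mx
  rw [a4, hQ] at mx
  by_contra hi
  rw [hq, n8, hQ, show M.N.m = 10 by omega] at h3
  exact num_nine (i := c.H.index) (u := c.u) (x := P.x) (y := P.y) (by exact_mod_cast hi) (by exact_mod_cast hu)
    (by exact_mod_cast c.odd_u.pos.ne') mx (by linear_combination h3) (by rw [h2, hQ, h1]; norm_num)

end H2.QD
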