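import Mathlib
import Cfsg.Agent.H2.QB2
import Cfsg.Agent.H2.QCh1
import Cfsg.Agent.H2.QNum
import Cfsg.Agent.H2.QPin
import Cfsg.Agent.H2.QBud
import Cfsg.Agent.H23.WR1

/-! # QElim: no field automorphisms in the twisted case -/

set_option autoImplicit false

namespace H2.QD

open H24 Cfsg Subgroup Finset H4
open H13.Dih (Four V4 Inv CD UU PP FC res)
open H5 (SIrr)
open scoped ComplexConjugate MatrixGroups

universe u

variable {G : Type u} [Group G]

theorem el_pos {X : G → ℂ} [Fintype G] (hX : SIrr X) {x : ℤ} (hx : X 1 = x) :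
    (0 < x → IsIrrCharacter G X) ∧ (x < 0 → IsIrrCharacter G (-X)) := by
  have key : ∀ Y : G → ℂ, IsIrrCharacter G Y → ∀ y : ℤ, Y 1 = y → 0 ≤ y := by
    rintro _ ⟨n, ρ, -, rfl⟩ y hy
    rw [ρ.char_one] at hy
    have : ((Module.finrank ℂ (Fin n → ℂ) : ℤ) : ℂ) = y := by exact_mod_cast hy
    rw [← Int.cast_injective this]; positivity
  refine ⟨fun h => hX.irr_or.resolve_right fun k => ?_, fun h => hX.irr_or.resolve_left fun k => ?_⟩
  · have := key _ k (-x) (by simp [hx])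
    omega
  · have := key _ k x hx
    omega

theorem Mod.el_big [Finite G] {c : QC G} (M : Mod c) (h : M.L0 ≠ ⊤) : 27 ≤ M.Qe ∨ M.Qe ≤ -125 := by
  obtain ⟨k, hk⟩ := M.index_dvd
  obtain ⟨r, hr⟩ := M.odd_index
  have hr0 : r ≠ 0 := by
    rintro rfl
    exact h (index_eq_one.1 hr)
  have hk0 : k ≠ 0 := by
    rintro rfl
    exact M.N.f_pos.ne' hk
  have hp3 : 3 ≤ M.N.p := by
    have := M.N.hp.two_le
    have := M.N.p_ne
    omega
  have hq : M.N.q = (M.N.p ^ k) ^ (2 * r + 1) := by rw [M.N.hq, hk, hr, ← pow_mul, mul_comm k]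
  have h0 : 3 ≤ M.N.p ^ k := hp3.trans (Nat.le_self_pow hk0 _)
  generalize M.N.p ^ k = q0 at hq h0
  have h3 : q0 ^ 3 ≤ M.N.q := hq ▸ Nat.pow_le_pow_right (by omega) (by omega)
  have hm := M.Qe_mod
  rcases M.N.hε with e | e <;> simp only [Mod.Qe, e] at hm ⊢
  · left
    have : 3 ^ 3 ≤ q0 ^ 3 := Nat.pow_le_pow_left h0 3
    omega
  · right
    have h5 : 5 ≤ q0 := by
      by_contra h5
      have : q0 = 3 ∨ q0 = 4 := by omega
      rcases this with rfl | rfl
      · have : 3 ^ (2 * r + 1) % 4 = 3 := by rw [pow_succ, pow_mul, Nat.mul_mod, Nat.pow_mod]; simp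
        omega
      · have : 4 ^ (2 * r + 1) % 4 = 0 := by rw [pow_succ, Nat.mul_mod_left]
        omega
    have : 5 ^ 3 ≤ q0 ^ 3 := Nat.pow_le_pow_left h5 3
    omega

theorem MC.L0_eq_top [Finite G] {c : QC G} {M : Mod c} (h : MC M) (hT : M.Tw) : M.L0 = ⊤ := by
  by_contra hne
  have := Fintype.ofFinite G
  have := h.simple
  obtain ⟨μ, hμ, x, hx⟩ : ∃ μ : M.Γ →* ℂˣ, M.L0 ≤ μ.ker ∧ ∃ x, μ x ≠ 1 := by
    obtain ⟨x, hx⟩ : ∃ x, x ∉ M.L0 := by
      by_contra hh
      push Not at hh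
      exact hne (top_le_iff.1 fun x _ => hh x)
    have := Fintype.ofFinite M.Γ
    obtain ⟨l, h1, h2⟩ := H23.WR.exists_sep (A := ⊤) (B := M.L0) le_top
      ((M.comm_le_L _ _).trans M.L_le) (mem_top x) hx
    refine ⟨l.comp topEquiv.symm.toMonoidHom, fun b hb => ?_, x, ?_⟩
    · have := h1 b hb
      rwa [ap_of_mem _ (mem_top b)] at this
    · rwa [ap_of_mem _ (mem_top x)] at h2
  obtain ⟨P⟩ := M.exists_pin M.fus_one
  obtain ⟨R⟩ := M.exists_pin (hT.fus hμ)
  have hQ := M.el_big hne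
  have ht1 : c.t ≠ 1 := H13.Dih.ne_one_of c.four.ht
  obtain ⟨p0, -, -, -, -, p5, -⟩ := P.eqs
  obtain ⟨-, px, -, -, pd, -⟩ := P.ne_zero
  rw [p0] at pd
  have hq : |M.Qe| = M.N.q := by
    rcases M.N.hε with e | e <;> simp [Mod.Qe, e]
  have hκ := num_kappa hQ px pd fun hpos => by
    obtain ⟨χ, hχ, h1, h2⟩ : ∃ χ, IsIrrCharacter G χ ∧ χ 1 = (|P.x| : ℤ) ∧ χ c.t = (|M.Qe| : ℤ) := by
      rcases lt_or_gt_of_ne px with k | k
      · refine ⟨_, (el_pos P.ix P.degx).2 k, ?_, ?_⟩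
        · rw [abs_of_neg k]; simp [P.degx]
        · rw [abs_of_neg (neg_of_mul_pos_left hpos k.le)]; simp [P.val_t.2.1]
      · refine ⟨_, (el_pos P.ix P.degx).1 k, ?_, ?_⟩
        · rw [abs_of_pos k, P.degx]
        · rw [abs_of_pos (pos_of_mul_pos_left hpos k.le), P.val_t.2.1]
    rcases M.neg_dim h.q5 (M.big_H.mono le_top) (hχ.isCharacter.restrict ⊤) (t' := ⟨c.t, trivial⟩)
      rfl h1 h2 with e | e
    · refine absurd (hχ.eq_one_of_apply_eq_of_simple (fun k => ?_) (by rw [h1, h2, e])) ht1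
      rw [k] at h2
      have h3 : (1 : ℤ) = |M.Qe| := by exact_mod_cast (show (1 : ℂ) = _ from h2)
      have := h.q5
      omega
    · omega
  rw [p5] at hκ
  obtain ⟨-, rx, ry, -, rd, -⟩ := R.ne_zero
  have ha := c.ha
  have e1 : (2 : ℤ) ^ (c.a + 1) = 16 * 2 ^ (c.a - 3) := by
    rw [show c.a + 1 = 4 + (c.a - 3) by omega, pow_add]; norm_num
  have e2 : (2 : ℤ) ^ c.a = 8 * 2 ^ (c.a - 3) := by
    rw [show c.a = 3 + (c.a - 3) by omega, pow_add]; norm_num
  have e3 : (0 : ℤ) < 2 ^ (c.a - 3) := by positivity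
  obtain ⟨a0, h0⟩ := R.m0.dvd
  obtain ⟨a1, h1⟩ := R.mz.dvd
  rw [e1] at h0 h1
  rw [e2] at h1
  generalize (2 : ℤ) ^ (c.a - 3) = w at h0 h1 e3
  have k0 : ∀ n : ℤ, w ≠ 2 * (w * n) := fun n e => by
    have : w * (1 - 2 * n) = 0 := by linear_combination e
    rcases mul_eq_zero.1 this with e | e <;> omega
  refine num_elim (Q := M.Qe) (d := R.d0) (z := R.z) (x := R.x) (y := R.y)
    (le_abs.2 (hQ.imp id fun k => by omega)) hκ ?_ ?_ ?_ ?_ ?_ rx ry rd R.deg_eq.1 R.eqV R.eqW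
  · have : R.d0 = 1 - 16 * (w * a0) := by linear_combination -h0
    omega
  · intro e
    have hd : R.e0 1 = 1 := by rw [R.deg0, e]; simp
    have hi := (el_pos R.i0 R.deg0).1 (by omega)
    have he : R.e0 = fun _ => 1 := by
      by_contra k
      have := hi.eq_one_of_apply_eq_of_simple k
        ((hi.isCharacter.apply_commutator_of_apply_one hd c.i c.s).trans hd.symm)
      rw [c.i_s, mul_inv_cancel_right] at this
      exact ht1 this
    obtain ⟨g, hg, rfl⟩ := M.exists_ap x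
    obtain ⟨y, z, hy, hz, y1, z1, rfl⟩ := exists_piElt_decomp {2} g
    have yH := zpowers_le.2 hg y1
    have zH := zpowers_le.2 hg z1
    have := R.sp0.cen z zH (H13.Dih.piElt_odd.1 hz)
    rw [he] at this
    apply hx
    rw [ap_mul _ yH zH, map_mul, hμ (M.two_mem_L0 (hy.ap _ yH)), one_mul]
    refine Units.ext ?_
    simp only [d1] at this
    rw [Units.val_one]
    linear_combination -this
  · have : R.z = 8 * (2 * (w * a1) - w) - 1 := by linear_combination h1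
    omega
  · intro e
    exact k0 a1 (by rw [e] at h1; linarith)
  · intro e
    exact k0 (a1 - a0) (by rw [e] at h0; linarith)

end H2.QD
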