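import Mathlib
import Cfsg.Agent.H2.QDefs
import Cfsg.Agent.H22.QD

/-! Coordinates for groups with quasi-dihedral Sylow 2-subgroups. -/

set_option autoImplicit false

namespace H2.QD

open H24 Cfsg Subgroup
open H13.Dih (Four V4 Inv CD UU PP FC res)
open H22 (hh qq sig tw_hh)
open scoped MatrixGroups

universe u

variable {G : Type u} [Group G] [Finite G]

theorem exists_QC (P : Sylow 2 G) (hP : IsQuasiDihedral (P : Subgroup G))
    (hG : ∀ H : Subgroup G, H.index ≠ 2) : Nonempty (QC G) := by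
  obtain ⟨n, hn, ⟨E⟩⟩ := H22.exists_MC_of_isQuasiDihedral hP
  obtain ⟨T, hT⟩ := E.exists_isS_K (j := 1) 0 (by simp)
  obtain ⟨Q, hQ⟩ := E.exists_isS_K (j := 2) 1 (by simpa using H22.hh_mem_K (by decide))
  let D : H22.SD.Data P T Q := ⟨n, hn, E, 0, 1, hT, hQ, by simp, by simp⟩
  obtain ⟨h1, h2⟩ := D.hasOdd_of_le_commutator (H22.sylow_le_commutator_of_no_index_two P hG)
  have hp : ∀ k : ℕ, E.r 1 ^ k = E.r k := fun k => by rw [E.r_pow, nsmul_one]
  have et : E.r 1 ^ 2 ^ (n - 1) = E.r (hh n) := by rw [hp, H22.natCast_two_pow]; rfl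
  have ei : E.r 1 ^ 2 ^ (n - 2) = E.r (qq n) := by rw [hp, H22.natCast_two_pow]; rfl
  have tT := (hT.r_mem _).2 (H22.hh_mem_K le_rfl)
  have ht := H22.SD.orderOf_r_hh E hn
  have hs := H22.SD.orderOf_s_zero E
  have hf : Four (E.r (hh n)) (E.s 0) := ⟨ht, hs, E.s_ne_r _ _,
    E.s_comm_r.2 ((tw_hh hn).sig_eq_self.2 (H22.hh_mem_K le_rfl))⟩
  have hV : V4 (E.r (hh n)) (E.s 0) = T := eq_of_card_eq (Four.V_le.2 ⟨tT, hT.self_mem⟩)
    (by rw [hf.V_card, D.isKleinFour.card_four])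
  obtain ⟨ρ, r1, r2⟩ : ∃ ρ, ρ * E.r (hh n) * ρ⁻¹ = E.s 0 ∧
      ρ * E.s 0 * ρ⁻¹ = E.r (hh n) * E.s 0 := by
    obtain ⟨g, hg, e⟩ := h1.kleinFour_conj D.isKleinFour tT hT.self_mem (H13.Dih.ne_one_of ht)
      (H13.Dih.ne_one_of hs)
    rcases hf.mem_V.1 (hV.ge (conj_mem hg hT.self_mem)) with h | h | h | h
    · exact absurd (conj_eq_one_iff'.1 h) (H13.Dih.ne_one_of hs)
    · refine ⟨g * E.r (qq n), ?_, ?_⟩
      · calc _ = g * (E.r (qq n) * E.r (hh n) * (E.r (qq n))⁻¹) * g⁻¹ := by group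
          _ = _ := by rw [E.r_conj_r, e]
      · calc _ = g * (E.r (qq n) * E.s 0 * (E.r (qq n))⁻¹) * g⁻¹ := by group
          _ = g * (E.r (hh n) * E.s 0) * g⁻¹ := by
            rw [E.r_conj_s, (tw_hh hn).sig_eq_neg D.qq_mem, sub_neg_eq_add, H22.qq_add_qq D.two_le,
              E.r_mul_s, add_comm]
          _ = g * E.r (hh n) * g⁻¹ * (g * E.s 0 * g⁻¹) := by group
          _ = _ := by rw [e, h, hf.comm]
    · rw [← e] at h
      nth_rewrite 1 [e] at h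
      exact absurd (by simpa using h) hf.ne
    · exact ⟨g, e, h⟩
  have hS : zpowers (E.r 1) ⊔ zpowers (E.s 0) = P := le_antisymm
    (sup_le (zpowers_le.2 (E.r_mem _)) (zpowers_le.2 (E.s_mem _)))
    (E.le_of_s_zero_one (mem_sup_right (mem_zpowers _)) (by
      simpa [E.r_mul_s] using mul_mem (mem_sup_left (mem_zpowers (E.r 1)))
        (mem_sup_right (S := zpowers (E.r 1)) (mem_zpowers (E.s 0)))))
  refine ⟨⟨n, hn, E.r 1, E.s 0, ρ, by simpa using E.orderOf_r_gen le_rfl, hs, ?_,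
    E.s_not_mem_zpowers_r _ _, by rw [hS]; exact syl_top_of_sylow Nat.prime_two P, et ▸ r1, et ▸ r2, ?_⟩⟩
  · rw [hp, E.s_conj_r, Nat.cast_sub Nat.one_le_two_pow, H22.natCast_two_pow, H22.sig_apply,
      mul_one, Nat.cast_one]
    rfl
  · rw [ei, E.r_mul_s, add_zero]
    exact isConj_iff.1 (D.isConj_four h2)

end H2.QD
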