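import Mathlib
import Cfsg.Agent.H2.QDefs
import Cfsg.Agent.H2.QCoord
import Cfsg.Agent.H5.QI1
import Cfsg.Agent.H5.QI2

/-! Quasi-dihedral case: regularity of core-free groups. -/

set_option autoImplicit false
set_option linter.unusedSectionVars false

universe u

namespace H5.QI

open Cfsg H24 Subgroup H4 H2.QD

theorem odd_le_Z {G : Type*} [Group G] [Finite G] {N : NP} (D : GD G N) {U : Subgroup G}
    (hUH : U ≤ D.H) (hU : Odd ♯U) (hn : ∀ g ∈ D.H, ∀ x ∈ U, g * x * g⁻¹ ∈ U) : U ≤ D.Z := by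
  by_contra hZ
  obtain ⟨k, hk, h⟩ := D.odd_sub hUH hU hZ
  have h1 := D.cH
  have h2 := D.Z_pos
  have h3 := N.three_le_q
  have h4 := N.two_le_m
  have h5 := N.two_le_n
  have h6 := N.m_mul_n
  have h7 := D.card_conj_Z (g := k)
  rcases h with ⟨-, h⟩ | ⟨-, h⟩ | ⟨-, h⟩
  · have := card_le_of_le (show D.H ≤ (D.conj k).NT from fun g hg => h g hg (hn g hg))
    rw [GD.cNT, GD.cT, h1, h7, mul_left_comm 2] at this
    have := Nat.le_of_mul_le_mul_left this h2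
    nlinarith [Nat.mul_le_mul h3 h5]
  · have := card_le_of_le (show D.H ≤ (D.conj k).NW from fun g hg => h g hg (hn g hg))
    rw [GD.cNW, GD.cW, h1, h7, mul_left_comm 2] at this
    have := Nat.le_of_mul_le_mul_left this h2
    nlinarith [Nat.mul_le_mul h3 h4]
  · have := card_le_of_le (show D.H ≤ (D.conj k).B from fun g hg => h g hg (hn g hg))
    rw [GD.cB, h1, h7, mul_left_comm N.q, mul_assoc] at this
    have := Nat.le_of_mul_le_mul_left (Nat.le_of_mul_le_mul_left this h2) (by omega)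
    have h8 : N.q - 1 + 1 = N.q := by omega
    nlinarith

variable {G : Type u} [Group G] [Finite G] {c : QC G} (M : Mod c)

theorem mem_L0 {a b : M.Γ} (h : a * (b * a * b⁻¹) ∈ M.L0) : a ∈ M.L0 := by
  have h1 : a⁻¹ * b * a⁻¹⁻¹ * b⁻¹ ∈ M.L0 := M.L_le (M.comm_le_L ⊤ ⊤ (commutator_mem_commutator (mem_top _) (mem_top _)))
  have h2 : a ^ 2 ∈ M.L0 := by
    rw [← mul_mem_cancel_right h1]
    convert h using 1
    rw [pow_two]; group
  have := M.L0_nml
  obtain ⟨k, hk⟩ := M.odd_index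
  have h3 := M.L0.pow_index_mem a
  rwa [hk, pow_succ, pow_mul, mul_mem_cancel_left (pow_mem h2 k)] at h3

theorem ap_mem_L0 {N : NP} (D : GD G N) (hH : D.H ≤ c.H) (hZ : ∀ z ∈ D.Z, ap M.κ z = 1) {h : G}
    (hh : h ∈ D.H) : ap M.κ h ∈ M.L0 := by
  obtain ⟨k, hk, e⟩ := D.cover hh
  have key : ∀ y ∈ D.H, ∀ w ∈ D.H, w * w = 1 → y * (w * y * w) ∈ D.Z → ap M.κ y ∈ M.L0 :=
    fun y hy w hw h1 h2 => mem_L0 M (b := ap M.κ w) (by
      rw [← ap_conj _ (hH hw) (hH hy), ← ap_mul _ (hH hy) (hH (mul_mem (mul_mem hw hy) (inv_mem hw))),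
        inv_eq_of_mul_eq_one_right h1, hZ _ h2]
      exact one_mem _)
  have h1 : ap M.κ (k⁻¹ * h * k) ∈ M.L0 := by
    rcases e with e | e | e
    · exact key _ (D.T_le e) _ D.w_mem D.w_sq (D.w_inv _ e)
    · exact key _ (D.W_le e) _ D.v_mem D.v_sq (D.v_inv _ e)
    · obtain ⟨z, hz, x, hx, e⟩ := D.mem_A.1 e
      rw [e, ap_mul _ (hH (D.Z_le hz)) (hH (D.X_le hx)), hZ _ hz, one_mul]
      by_cases h1 : x = 1
      · rw [h1, ap_one]; exact one_mem _
      obtain ⟨s, hs, e'⟩ := D.S_trans hx h1 (inv_mem hx) (inv_ne_one.2 h1)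
      refine mem_L0 M (b := ap M.κ s) ?_
      rw [← ap_conj _ (hH (D.S_le hs)) (hH (D.X_le hx)), e', ap_inv _ (hH (D.X_le hx)), mul_inv_cancel]
      exact one_mem _
  have h2 := M.L0_nml.conj_mem _ h1 (ap M.κ k)
  rw [← ap_conj _ (hH hk) (hH (mul_mem (mul_mem (inv_mem hk) hh) hk))] at h2
  simpa [mul_assoc] using h2

theorem params (hq : 5 ≤ M.N.q) {N : NP} (D : GD G N) (h4 : 4 ∣ N.n) (hH : D.H ⊴ c.H)
    (hs : c.s ∈ D.H) (hU : c.U ⊓ D.H ≤ D.Z) (ht : c.t ∈ D.Z) : N.q = M.N.q ∧ N.ε = M.N.ε := by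
  have h1 : (img M.κ D.H).Normal := nml_top_iff.1 (M.img_H ▸ hH.img M.κ)
  have he : M.e ∈ img M.κ D.H := ap_mem_img _ hs (s_H c)
  have h2 : M.L ≤ img M.κ D.H := M.nml_big hq h1 fun e => M.e_not (by
    rw [e, mem_bot] at he; rw [he]; exact one_mem _)
  have hZ : ∀ z ∈ D.Z, ap M.κ z = 1 := fun z hz => by
    rw [← mem_bot, ← M.C_L hq]
    refine mem_centralizer_iff.2 fun y hy => ?_
    obtain ⟨y, hy1, hy2, rfl⟩ := mem_img.1 (h2 hy)
    rw [← ap_mul _ hy2 (hH.le (D.Z_le hz)), ← D.Z_comm z hz y hy1, ap_mul _ (hH.le (D.Z_le hz)) hy2]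
  have h3 : img M.κ D.H = M.L0 := le_antisymm (fun y hy => by
    obtain ⟨y, hy1, -, rfl⟩ := mem_img.1 hy
    exact ap_mem_L0 M D hH.le hZ hy1) (M.L_sup_e ▸ sup_le h2 (zpowers_le.2 he))
  have h5 : pre M.κ ⊥ ⊓ D.H = D.Z := le_antisymm (fun z hz => by
    rw [M.ker_eq] at hz
    rcases mem_Z hz.1 with h | ⟨o, ho, rfl⟩
    · exact hU ⟨h, hz.2⟩
    · exact mul_mem (hU ⟨ho, (mul_mem_cancel_right (D.Z_le ht)).1 hz.2⟩) ht)
    fun z hz => ⟨mem_pre_bot.2 ⟨hH.le (D.Z_le hz), hZ z hz⟩, D.Z_le hz⟩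
  have h6 := card_img_mul M.κ hH.le
  rw [h3, h5, D.cH, M.card_L0] at h6
  have h7 := Nat.eq_of_mul_eq_mul_left D.Z_pos h6
  have h8 := N.m_mul_n
  have h9 := M.N.m_mul_n
  rw [mul_assoc, mul_assoc] at h7
  have key : ∀ a b x y : ℕ, x + 1 = a ^ 2 → y + 1 = b ^ 2 → a * x = b * y → 0 < a → ¬ a < b :=
    fun a b x y e1 e2 e3 ha hab => by
      have : x < y := by nlinarith
      nlinarith
  have h10 : N.q = M.N.q := le_antisymm (not_lt.1 (key _ _ _ _ h9 h8 h7 (by omega)))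
    (not_lt.1 (key _ _ _ _ h8 h9 h7.symm (by have := N.three_le_q; omega)))
  have h11 := M.four_dvd_n
  refine ⟨h10, ?_⟩
  rcases N.cases with ⟨a, -, b⟩ | ⟨a, -, b⟩ <;> rcases M.N.cases with ⟨a', -, b'⟩ | ⟨a', -, b'⟩ <;>
    omega

end H5.QI

namespace H2.QD

open H24 Cfsg Subgroup
open H13.Dih (Four V4 Inv CD UU PP FC res)
open scoped MatrixGroups

variable {G : Type u} [Group G] [Finite G]

open H5.QI in
theorem reg {c : QC G} (M : Mod c) (hO : 𝒪[(⊤ : Subgroup G)] = ⊥)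
    (ih : ∀ (X : Type u) [Group X] [Finite X], Nat.card X ≤ Nat.card G → IsSimpleGroup X →
      Nonempty (QC X) → Concl X) :
    c.U ≤ C{c.s} ∧ (5 ≤ M.N.q →
      (c.H.index : ℤ) = M.N.q ^ 2 * (M.N.q ^ 2 + M.N.ε * M.N.q + 1)) := by
  obtain ⟨P, hP⟩ := c.S_syl.exists_sylow_top Nat.prime_two
  have hQ : IsQuasiDihedral (P : Subgroup G) := hP ▸ c.isQD
  obtain ⟨L, hL, ho, hs, hn⟩ := H22.qd_simple (Or.inl hQ) c.no_index_two
    ((pcore_compl_singleton_top Nat.prime_two).symm.trans hO)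
  have htL : c.t ∈ L := by
    obtain ⟨k, hk⟩ := ho
    have := L.pow_index_mem c.t
    rwa [hk, pow_succ, pow_mul, pow_two, t_sq, one_pow, one_mul] at this
  have hPL := H22.qd_le_of_normal (Or.inl hQ) c.no_index_two L htL c.four.ht
  have hsL : c.s ∈ L := hPL (hP ▸ c.s_mem_S)
  obtain ⟨N, D₀, hF₀, h4, -⟩ := ih L (card_le_card_group L) hs (exists_QC (P.subtype hPL)
    (H22.isQuasiDihedral_of_equiv (subgroupOfEquivOfLe hPL).symm hQ) fun K hK => by
      rcases (normal_of_index_eq_two hK).eq_bot_or_eq_top with rfl | rfl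
      · rw [index_bot] at hK
        have : Fact (Nat.Prime 2) := ⟨Nat.prime_two⟩
        exact hn (isCyclic_of_prime_card hK).isMulCommutative
      · simp at hK)
  obtain ⟨g, hg⟩ := hF₀.cfg.inv_conj (s := ⟨c.t, htL⟩) (Subtype.ext (t_sq c))
    fun e => t_ne c (congrArg Subtype.val e)
  have hF := hF₀.conj g
  rw [← H4.GD.conj_t] at hg
  generalize D₀.conj g = D at hF hg
  have eH : D.H = c.H.subgroupOf L := by
    ext x
    rw [hF.mem_H, hg, mem_subgroupOf, QC.H, mem_C1, Subtype.ext_iff]; rfl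
  let D' := D.map L.subtype L.subtype_injective
  have eH' : D'.H = c.H ⊓ L := by
    show D.H.map L.subtype = _
    rw [eH, subgroupOf_map_subtype]
  have et : c.t ∈ D'.Z := ⟨D.t, D.t_mem, by rw [hg]; rfl⟩
  have hn' : D'.H ⊴ c.H := eH' ▸ ⟨inf_le_left, le_N_iff.2 fun a ha x hx =>
    ⟨c.H.mul_mem (mul_mem ha hx.1) (inv_mem ha), hL.conj_mem _ hx.2 a⟩⟩
  have hs' : c.s ∈ D'.H := eH' ▸ ⟨s_H c, hsL⟩
  have hU : c.U ⊓ D'.H ≤ D'.Z := odd_le_Z D' inf_le_right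
    (c.odd_U.of_dvd_nat (card_dvd_of_le inf_le_left)) fun a ha x hx =>
      ⟨conj_mem (c.U_nml.norm (hn'.le ha)) hx.1, D'.H.mul_mem (mul_mem ha hx.2) (inv_mem ha)⟩
  refine ⟨?_, fun hq => ?_⟩
  · rw [← c.K_eq_bot, ← c.K_comm, comm_eq_bot']
    refine zpowers_le.2 (mem_centralizer_iff.2 fun x hx => D'.Z_comm x (hU ⟨c.K_le hx, ?_⟩) _ hs')
    rw [eH']
    exact ⟨c.U_le_H (c.K_le hx), (commutator_mono le_rfl (zpowers_le.2 hsL)).trans
      (commutator_le_right _ _) hx⟩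
  · obtain ⟨e1, e2⟩ := params M hq D' h4 hn' hs' hU et
    rw [← e1, ← e2, ← index_eq hF h4 (e1 ▸ hq), eH]
    have h1 : c.H ⊔ L = ⊤ := by
      rw [eq_top_iff]
      intro x _
      obtain ⟨l, hl⟩ := hF.cfg.inv_conj (s := ⟨x * c.t * x⁻¹, hL.conj_mem _ htL x⟩)
        (Subtype.ext (by
          show x * c.t * x⁻¹ * (x * c.t * x⁻¹) = 1
          calc _ = x * (c.t * c.t) * x⁻¹ := by group
            _ = 1 := by rw [t_sq]; group))
        fun e => t_ne c (conj_eq_one_iff.1 (congrArg Subtype.val e))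
      rw [hg] at hl
      have h2 : (l : G) * c.t * (l : G)⁻¹ = x * c.t * x⁻¹ := congrArg Subtype.val hl
      have h3 : (l : G)⁻¹ * x ∈ c.H := mem_C1.2 (by
        calc (l : G)⁻¹ * x * c.t = (l : G)⁻¹ * (x * c.t * x⁻¹) * x := by group
          _ = _ := by rw [← h2]; group)
      exact (mul_mem_cancel_left (inv_mem (mem_sup_right l.2))).1 (mem_sup_left h3)
    have h2 := relIndex_mul_index (inf_le_left : c.H ⊓ L ≤ c.H)
    have h3 := relIndex_mul_index (inf_le_right : c.H ⊓ L ≤ L)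
    rw [inf_relIndex_left, ← relIndex_sup_right, h1, relIndex_top_right] at h2
    rw [inf_relIndex_right, ← h2, mul_comm] at h3
    exact congrArg _ (Nat.eq_of_mul_eq_mul_left (Nat.pos_of_ne_zero L.index_ne_zero_of_finite) h3).symm

end H2.QD
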