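import Mathlib
import Cfsg.Agent.H1.QZ1
import Cfsg.Agent.H2.QReg
import Cfsg.Agent.H2.QElim

/-! # QZero: a proper subgroup with full fusion covering `PSL₂(F)` has trivial core -/

set_option autoImplicit false
set_option linter.unusedSectionVars false

namespace H2.QD

open H24 Cfsg Subgroup H4
open H13.Dih (Four V4 Inv CD UU PP FC res)
open H5 (SIrr)
open scoped MatrixGroups

universe u

section
variable {K : Type u} [Group K] [Fintype K] {φ : K → ℂ}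

theorem z_nonneg (hφ : IsCharacter K φ) {D : ℤ} (hD : φ 1 = D) : 0 ≤ D := by
  obtain ⟨n, hn⟩ := hφ.exists_nat_apply_one
  have : ((n : ℤ) : ℂ) = D := by rw [← hD, hn]; simp
  rw [← Int.cast_injective this]; positivity

theorem z_mult (hφ : IsCharacter K φ) {e : K → ℂ} (he : SIrr e) {n : ℤ} (hn : e 1 = n) :
    ∃ m : ℤ, classInner φ e = m ∧ 0 ≤ m * n ∧ IsCharacter K (φ - (m : ℂ) • e) := by
  rcases he.irr_or with k | k
  · obtain ⟨m, hm⟩ := hφ.inner_nat k.isCharacter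
    refine ⟨m, by simpa using hm, mul_nonneg (by positivity) (z_nonneg k.isCharacter hn), ?_⟩
    simpa [hm] using hφ.sub_inner_smul k
  · obtain ⟨m, hm⟩ := hφ.inner_nat k.isCharacter
    have h1 := z_nonneg k.isCharacter (D := -n) (by simp [hn])
    refine ⟨-m, ?_, by nlinarith [Int.natCast_nonneg m], ?_⟩
    · rw [classInner_neg_right] at hm
      push_cast; rw [← hm, neg_neg]
    · simpa [hm] using hφ.sub_inner_smul k

theorem z_mult' (hφ : IsCharacter K φ) {D : ℤ} (hD : φ 1 = D) {e : K → ℂ} (he : SIrr e) {n : ℤ}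
    (hn : e 1 = n) : ∃ m : ℤ, classInner φ e = m ∧ 0 ≤ m * n ∧ m * n ≤ D := by
  obtain ⟨m, h1, h2, h3⟩ := z_mult hφ he hn
  have := z_nonneg h3 (D := D - m * n) (by simp [hD, hn])
  exact ⟨m, h1, h2, by omega⟩

theorem z_three (hφ : IsCharacter K φ) {D : ℤ} (hD : φ 1 = D) {e₁ e₂ e₃ : K → ℂ} (h₁ : SIrr e₁)
    (h₂ : SIrr e₂) (h₃ : SIrr e₃) {n m₁ m₂ m₃ : ℤ} (n₁ : e₁ 1 = n) (n₂ : e₂ 1 = n) (n₃ : e₃ 1 = n)
    (o₁ : classInner e₁ e₂ = 0) (o₂ : classInner e₁ e₃ = 0) (o₃ : classInner e₂ e₃ = 0)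
    (k₁ : classInner φ e₁ = m₁) (k₂ : classInner φ e₂ = m₂) (k₃ : classInner φ e₃ = m₃) :
    (m₁ + m₂ + m₃) * n ≤ D := by
  obtain ⟨a, a1, -, a3⟩ := z_mult hφ h₁ n₁
  obtain ⟨b, b1, -, b3⟩ := z_mult a3 h₂ n₂
  obtain ⟨d, d1, -, d3⟩ := z_mult' b3 (D := D - a * n - b * n) (by simp [hD, n₁, n₂]) h₃ n₃
  simp only [classInner_sub_left, classInner_smul_left, o₁, o₂, o₃, mul_zero, sub_zero] at b1 d1
  obtain rfl : a = m₁ := by exact_mod_cast a1.symm.trans k₁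
  obtain rfl : b = m₂ := by exact_mod_cast b1.symm.trans k₂
  obtain rfl : d = m₃ := by exact_mod_cast d1.symm.trans k₃
  linarith

theorem z_small {m n D B : ℤ} (h0 : 0 ≤ m * n) (h1 : m * n ≤ D) (h2 : D < B) (h3 : B ≤ |n|) :
    m = 0 := by
  by_contra h
  have := Int.one_le_abs h
  have e : |m| * |n| = m * n := by rw [← abs_mul, abs_of_nonneg h0]
  nlinarith [abs_nonneg n]

theorem z_n1 {q Q : ℤ} (hq : 5 ≤ q) (h : Q = q ∨ Q = -q) : 2 * q ^ 2 ≤ |Q ^ 3| ∧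
    2 * q ^ 2 ≤ |Q * (Q ^ 2 + Q + 1)| ∧ 2 * q ^ 2 ≤ |Q ^ 3 - 1| ∧ 1 < Q ^ 2 + Q + 1 := by
  simp only [le_abs]
  rcases h with rfl | rfl
  · exact ⟨Or.inl (by nlinarith), Or.inl (by nlinarith), Or.inl (by nlinarith), by nlinarith⟩
  · exact ⟨Or.inr (by nlinarith), Or.inr (by nlinarith), Or.inr (by nlinarith), by nlinarith⟩

theorem z_n2 {q x y : ℤ} (hq : 5 ≤ q) (h : (x - q ^ 2) * (y - q ^ 2) = q ^ 2 * (q ^ 2 - 1))
    (hy : q ^ 2 < y) : 0 < x ∧ (q ^ 3 ≤ x → y - q ^ 2 ≤ q + 1) ∧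
      (3 * (q ^ 3 + 1) ≤ x → 3 * (y - q ^ 2) ≤ q) := by
  have q2 : 25 ≤ q ^ 2 := by nlinarith
  have q3 : 5 * q ^ 2 ≤ q ^ 3 := by nlinarith
  refine ⟨?_, fun j5 => ?_, fun j5 => ?_⟩
  · by_contra hx
    push Not at hx
    nlinarith [mul_nonneg (show 0 ≤ q ^ 2 - x by omega) (sub_pos.2 hy).le]
  · by_contra j6
    push Not at j6
    have j7 : q + 2 ≤ y - q ^ 2 := by omega
    nlinarith [mul_le_mul (sub_le_sub_right j5 (q ^ 2)) j7 (by omega) (by omega)]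
  · by_contra j6
    push Not at j6
    have j7 : q + 1 ≤ 3 * (y - q ^ 2) := by omega
    nlinarith [mul_le_mul (sub_le_sub_right j5 (q ^ 2)) j7 (by omega) (by omega)]

theorem z_n3 {q x a n0 nx mk : ℤ} (hq : 5 ≤ q) (b : 0 ≤ n0) (h1 : nx * q ^ 3 ≤ a) (h2 : a ≤ x)
    (h3 : 0 ≤ mk * (q ^ 3 - 1)) (h4 : n0 - nx + mk = -1) : q ^ 3 ≤ x := by
  have q3 : 125 ≤ q ^ 3 := by nlinarith [sq_nonneg q]
  have j4 : 0 ≤ mk := nonneg_of_mul_nonneg_left h3 (by omega)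
  nlinarith

theorem z_n4 {q x a n0 nx m1 m2 m3 : ℤ} (hq : 5 ≤ q) (b : 0 ≤ n0) (h1 : 0 ≤ nx * (-q) ^ 3)
    (h2 : a ≤ x) (h3 : (m1 + m2 + m3) * ((-q) ^ 3 - 1) ≤ a) (l1 : n0 - nx + m1 = -1)
    (l2 : n0 - nx + m2 = -1) (l3 : n0 - nx + m3 = -1) : 3 * (q ^ 3 + 1) ≤ x := by
  have q3 : 125 ≤ q ^ 3 := by nlinarith [sq_nonneg q]
  have j4 : nx ≤ 0 := by
    by_contra j4
    push Not at j4
    nlinarith
  nlinarith

variable {c : QC K} {M : Mod c} (P : M.Pin 1)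

/-- degrees in the regular case -/
theorem Mod.Pin.z_deg (hq : 5 ≤ M.N.q) (hu : c.U ≤ C{c.s})
    (hi : (c.H.index : ℤ) = M.N.q ^ 2 * (M.N.q ^ 2 + M.N.ε * M.N.q + 1)) :
    P.x = M.Qe ^ 3 ∧ P.y = M.Qe ^ 2 + M.Qe + 1 ∧ P.z = M.Qe * (M.Qe ^ 2 + M.Qe + 1) := by
  obtain ⟨-, e1, e2, -, -, -, e3⟩ := P.eqs
  rw [hi, c.u_eq_one.2 hu, M.N.hn, M.N.hm] at e3
  have hq0 : (M.N.q : ℤ) ≠ 0 := by omega
  have hQ : 5 ≤ M.Qe ∨ M.Qe ≤ -5 := by
    rcases M.N.hε with e | e <;> simp only [Mod.Qe, e] <;> omega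
  have hx : P.x = M.Qe ^ 3 := by
    refine num_reg M.Qe_mod (by omega) (mul_left_cancel₀ hq0 ?_)
    rcases M.N.hε with e | e <;> simp only [Mod.Qe, e] at e3 ⊢ <;> push_cast at e3 ⊢
    · linear_combination e3
    · linear_combination -e3
  have hy : P.y = M.Qe ^ 2 + M.Qe + 1 := by
    refine mul_left_cancel₀ (a := M.Qe ^ 2 * (M.Qe - 1))
      (mul_ne_zero (pow_ne_zero _ (by omega)) (by omega)) ?_
    rw [e1, hx] at e2
    linear_combination e2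
  exact ⟨hx, hy, by rw [e1, hx, hy]; ring⟩

end

variable {G : Type u} [Group G] [Finite G]

theorem MC.zero {c : QC G} {M : Mod c} (h : MC M) {X : Subgroup G} (hX : X ≠ ⊤) (hB : M.Big X)
    {g : G} (hg : g ∈ X) (hr : c.Rot g) : 𝒪[X] = ⊥ := by
  have := Fintype.ofFinite G
  have := Fintype.ofFinite X
  have := h.simple
  have hn : (𝒪[X].subgroupOf X).Normal := (pcore_nml _ X).normal
  let K := X ⧸ 𝒪[X].subgroupOf X
  have := Fintype.ofFinite K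
  let π : X →* K := QuotientGroup.mk' _
  have hk : pre π ⊥ = 𝒪[X] := by
    rw [pre, MonoidHom.comap_bot, QuotientGroup.ker_mk', map_subgroupOf' (pcore_le _ _)]
  have S : H1.QZ.Sec M X π g :=
    ⟨h.q5, hB, QuotientGroup.mk'_surjective _, by rw [hk]; exact H13.Dih.odd_pcore X, hg, hr⟩
  obtain ⟨M', hN, hSt⟩ := S.exists_mod
  have hO : 𝒪[(⊤ : Subgroup K)] = ⊥ := by
    rw [← S.img_top, ← img_pcore_of_inj _ π le_rfl
      ((H13.Dih.isPi_odd.2 S.odd).inf_left _)]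
    exact (img_eq_bot (pcore_le _ _)).2 hk.ge
  have hlt : Nat.card K < Nat.card G := by
    refine (Nat.card_le_card_of_surjective π S.surj).trans_lt ?_
    rw [← Subgroup.card_top (G := G)]; exact card_lt (lt_top_iff_ne_top.2 hX)
  have q5 := h.q5
  obtain ⟨r1, r2⟩ := reg M' hO fun Y _ _ hY => h.ih Y (hY.trans_lt hlt)
  obtain ⟨R⟩ := M'.exists_pin M'.fus_one
  obtain ⟨P⟩ := M.exists_pin M.fus_one
  obtain ⟨rx, ry, rz⟩ := R.z_deg (hN ▸ q5) r1 (r2 (hN ▸ q5))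
  have hQ : M'.Qe = M.Qe := by rw [Mod.Qe, hN]; rfl
  rw [hQ] at rx ry rz
  have h1 : M'.L0 ≤ (1 : M'.Γ →* ℂˣ).ker := fun _ _ => rfl
  have rk : ∀ k, ¬ 2 ^ (c.a - 1) ∣ k → R.ek k 1 = (M.Qe ^ 3 - 1 : ℤ) := fun k hk => by
    rw [R.deg_eq.2.2 k hk, rx, R.eqs.1]
  obtain ⟨c1, c2, c3, c12, c13, c23⟩ := three_classes c.ha
  -- deflation
  have D : ∀ {χ : G → ℂ} {d : Dat} {n : ℤ}, IsCharacter G χ → M.Sp 1 χ d → χ 1 = n →
      ∃ (φ : K → ℂ) (θ : X → ℂ) (a : ℤ), IsCharacter K φ ∧ IsCharacter X θ ∧ φ 1 = a ∧ a ≤ n ∧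
        θ 1 = (n - a : ℤ) ∧ (∀ x : X, χ x = φ (π x) + θ x) ∧ θ ⟨c.t, S.tX⟩ = 0 ∧
        ∃ m0 mx my mz : ℤ, 0 ≤ m0 ∧ 0 ≤ mx * M.Qe ^ 3 ∧ mx * M.Qe ^ 3 ≤ a ∧
          my * (M.Qe ^ 2 + M.Qe + 1) ≤ a ∧ 0 ≤ mz * (M.Qe * (M.Qe ^ 2 + M.Qe + 1)) ∧
          mz * (M.Qe * (M.Qe ^ 2 + M.Qe + 1)) ≤ a ∧ ((m0 - mx + mz - my : ℤ) : ℂ) = bf c.a d dW ∧
          ∀ k, ¬ 2 ^ (c.a - 1) ∣ k → ∃ mk : ℤ, classInner φ (R.ek k) = mk ∧
            0 ≤ mk * (M.Qe ^ 3 - 1) ∧ mk * (M.Qe ^ 3 - 1) ≤ a ∧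
            ((m0 - mx + mk : ℤ) : ℂ) = bf c.a d (dV c.a k) := by
    intro χ d n hχ hs hd
    obtain ⟨φ, θ, a1, a2, a3, a4⟩ := H1.QZ.defl π S.surj (hχ.restrict X)
    have a5 : ∀ x : X, c.t ∈ zpowers (x : G) → θ x = 0 := fun x hx => a4 x fun o ho =>
      S.inv hχ.classFun hs x.2 hx (mem_pre_bot.2 ⟨o.2, (ap_coe π o).trans ho⟩)
    have hs' : M'.Sp 1 φ d := S.sp hSt hs a1.classFun fun x hx ht => by
      have := a3 ⟨x, hx⟩
      rw [a5 ⟨x, hx⟩ ht, add_zero] at this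
      rw [ap_of_mem π hx, ← this]
    obtain ⟨a, ha⟩ := a1.exists_nat_apply_one
    have ha' : φ 1 = (a : ℤ) := by simpa using ha
    have hθ : θ 1 = (n - a : ℤ) := by
      have := a3 1
      rw [map_one, ha'] at this
      push_cast at this ⊢
      rw [← hd]; linear_combination -this
    obtain ⟨i1, i2, -⟩ := R.inner h1 a1.classFun hs'
    obtain ⟨m0, b1, b2, -⟩ := z_mult' a1 ha' R.i0 (R.deg0.trans (by rw [R.eqs.1]))
    obtain ⟨mx, x1, x2, x3⟩ := z_mult' a1 ha' R.ix (R.degx.trans (by rw [rx]))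
    obtain ⟨my, y1, -, y3⟩ := z_mult' a1 ha' R.iy (R.degy.trans (by rw [ry]))
    obtain ⟨mz, z1, z2, z3⟩ := z_mult' a1 ha' R.iz (R.degz.trans (by rw [rz]))
    refine ⟨φ, θ, a, a1, a2, ha', by have := z_nonneg a2 hθ; omega, hθ, a3,
      a5 _ (mem_zpowers _), m0, mx, my, mz, by omega, x2, x3, y3, z2, z3, ?_, fun k hk => ?_⟩
    · simp only [classInner_sub_right, classInner_add_right, b1, x1, y1, z1] at i2
      push_cast; exact i2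
    · obtain ⟨mk, k1, k2, k3⟩ := z_mult' a1 ha' (R.ik k hk) (rk k hk)
      have := i1 k hk
      simp only [classInner_sub_right, classInner_add_right, b1, x1, k1] at this
      exact ⟨mk, k1, k2, k3, by push_cast; exact this⟩
  obtain ⟨q, hq⟩ : ∃ q : ℤ, q = M.N.q := ⟨_, rfl⟩
  have hq5 : 5 ≤ q := by omega
  have hQq : M.Qe = q ∨ M.Qe = -q := by
    rcases M.N.hε with e | e <;> simp [Mod.Qe, e, hq]
  obtain ⟨s1, s2, s3, s4⟩ := z_n1 hq5 hQq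
  obtain ⟨f, ⟨hf, hb⟩ | ⟨hf, hb⟩⟩ := P.bud
  · exfalso
    have hle : P.x < 2 * q ^ 2 := by
      have := hb.le
      rw [hf, hq]; exact_mod_cast (by omega : f < 2 * M.N.q ^ 2)
    obtain ⟨φ, θ, a, -, -, -, ha, -, -, -, m0, mx, my, mz, b0, x1, x2, -, -, -, -, hk⟩ :=
      D hb.irr.isCharacter P.spx P.degx
    obtain ⟨mk, -, k1, k2, k3⟩ := hk 1 c1
    rw [(bf_V c.ha c1).2.1, z_small x1 x2 (ha.trans_lt hle) s1,
      z_small k1 k2 (ha.trans_lt hle) s3] at k3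
    have : m0 - 0 + 0 = -1 := by exact_mod_cast k3
    omega
  have hle : P.y < 2 * q ^ 2 := by
    have := hb.le
    rw [hf, hq]; exact_mod_cast (by omega : f < 2 * M.N.q ^ 2)
  obtain ⟨φ, θ, a, hφ, hθ, a1, ha, a2, a3, a4, m0, mx, my, mz, b0, x1, x2, y2, z1, z2, e1, hk'⟩ :=
    D hb.irr.isCharacter P.spy P.degy
  obtain ⟨mk, -, k1, k2, k3⟩ := hk' 1 c1
  have x0 := z_small x1 x2 (ha.trans_lt hle) s1
  rw [bf_neg, (bf_V c.ha c1).2.2.2.1, x0, z_small k1 k2 (ha.trans_lt hle) s3] at k3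
  rw [bf_neg, (bf_W c.ha).2.2.2.1, x0, z_small z1 z2 (ha.trans_lt hle) s2] at e1
  have k4 : m0 - 0 + 0 = -0 := by exact_mod_cast k3
  have e2 : m0 - 0 + 0 - my = -1 := by exact_mod_cast e1
  obtain rfl : my = 1 := by omega
  rw [one_mul] at y2
  obtain ⟨-, p1, p2, -⟩ := P.eqs
  have p3 : (P.x - q ^ 2) * (P.y - q ^ 2) = q ^ 2 * (q ^ 2 - 1) := by
    rw [p1, M.Qe_sq, ← hq] at p2
    linear_combination p2
  have hd : 3 * (P.y - a) ≤ 4 * q - 3 := by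
    have e3 : (-q) ^ 2 = q ^ 2 := by ring
    by_cases hy : P.y ≤ q ^ 2
    · rcases hQq with e | e <;> rw [e] at y2 <;> omega
    push Not at hy
    obtain ⟨hx, n1, n2⟩ := z_n2 hq5 p3 hy
    obtain ⟨φ', -, a', hφ', -, a1', ha', -, -, -, n0, nx, -, -, b0', x1', x2', -, -, -, -, hk''⟩ :=
      D ((el_pos P.ix P.degx).1 hx).isCharacter P.spx P.degx
    have hk3 : ∀ k, ¬ 2 ^ (c.a - 1) ∣ k → ∃ mk : ℤ, classInner φ' (R.ek k) = mk ∧
        0 ≤ mk * (M.Qe ^ 3 - 1) ∧ n0 - nx + mk = -1 := fun k hk => by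
      obtain ⟨mk, j1, j2, -, j3⟩ := hk'' k hk
      rw [(bf_V c.ha hk).2.1] at j3
      exact ⟨mk, j1, j2, by exact_mod_cast j3⟩
    obtain ⟨m1, i1, j1, l1⟩ := hk3 1 c1
    rcases hQq with e | e
    · rw [e] at j1 x2' y2
      have := n1 (z_n3 hq5 b0' x2' ha' j1 l1)
      omega
    · obtain ⟨m2, i2, -, l2⟩ := hk3 2 c2
      obtain ⟨m3, i3, -, l3⟩ := hk3 _ c3
      have o := (R.orth h1).2
      have t3 := z_three hφ' a1' (R.ik _ c1) (R.ik _ c2) (R.ik _ c3) (rk _ c1) (rk _ c2) (rk _ c3)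
        ((o _ c1).2 _ c2 c12) ((o _ c1).2 _ c3 c13) ((o _ c2).2 _ c3 c23) i1 i2 i3
      rw [e] at x1' t3 y2
      have := n2 (z_n4 hq5 b0' x1' ha' t3 l1 l2 l3)
      omega
  have hd0 : P.y - a = 0 := by
    rcases M.neg_dim q5 hB hθ (t' := ⟨c.t, S.tX⟩) rfl a2 (v := 0) (by simpa using a4) with e | e
    · omega
    · rw [← hq] at e
      omega
  have hθ0 : θ = 0 := hθ.eq_zero_of_apply_one (by rw [a2, hd0]; simp)
  refine eq_bot_iff.2 fun o ho => ?_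
  refine hb.irr.eq_one_of_apply_eq_of_simple (fun e => ?_) ?_
  · have := P.degy
    rw [e] at this
    have j : (1 : ℤ) = P.y := by exact_mod_cast (show (1 : ℂ) = _ from this)
    omega
  · have oX : o ∈ X := pcore_le _ _ ho
    have j1 := a3 ⟨o, oX⟩
    have j2 := a3 1
    rw [← ap_of_mem π oX, (mem_pre_bot.1 (hk.ge ho)).2, hθ0] at j1
    rw [map_one, hθ0] at j2
    exact j1.trans j2.symm

end H2.QD
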