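import Mathlib
import Cfsg.Agent.H2.QB1
import Cfsg.Agent.H22.QRho
import Cfsg.Agent.S0483

/-! The structure of the centraliser of an involution (quasi-dihedral case). -/

set_option autoImplicit false

namespace H2.QD

open H24 Cfsg Subgroup
open H13.Dih (Four V4 Inv CD UU PP FC res)
open H22 (hh qq)
open scoped MatrixGroups

universe u

variable {G : Type u} [Group G] [Finite G]

theorem exists_Mod (c : QC G) : Nonempty (Mod c) := by
  classical
  obtain ⟨P, hPS⟩ := c.syl.exists_sylow_top Nat.prime_two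
  have hP : (P : Subgroup G) ≤ c.H := hPS.le.trans c.S_le_H
  let π := QuotientGroup.mk' (oddCore c.H)
  have hπ : Function.Surjective π := QuotientGroup.mk'_surjective _
  let E₀ : H22.MC ((P.subtype hP).mapSurjective hπ : Subgroup (c.H ⧸ oddCore c.H)) c.a (hh c.a) 0 :=
    H22.Ext2.mapOn ((c.co.cast hPS.symm).subgroupOf hP) π fun x hx h =>
      H3.eq_one_of_mem_of_coprime (P.subtype hP).isPGroup' hx (H3.orderOf_coprime_of_mem
        (H2.pPrimeCore_coprime 2 _) ((QuotientGroup.eq_one_iff _).1 h))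
  have tH : c.t ∈ c.H := self_mem_C1 _
  have et : E₀.r (hh c.a) = π ⟨c.t, tH⟩ := congrArg π (Subtype.ext c.co_t)
  obtain ⟨h, h1⟩ := c.fus
  have hH : h ∈ c.H := mem_C1_iff_conj.2 (by
    rw [← c.i_sq, ← conj_mul, show h * c.i * h⁻¹ = _ from h1, ← c.co_ωs, c.co.s_mul_self, mul_one,
      add_zero, c.co_t, c.i_sq])
  obtain ⟨F, _, _, h2, ρ, g, r1, r2, r3, r4, r5, r6, r7, k, k1, k2⟩ :=
    H22.rho_sd (@Cfsg.Agent.S0483.result) _ c.ha E₀ (H2.pPrimeCore_quotient_pPrimeCore 2 _)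
    (et ▸ mem_center_iff.2 fun g => by
      obtain ⟨g, rfl⟩ := hπ g
      exact (map_mul π _ _).symm.trans ((congrArg π (Subtype.ext (mem_C1.1 g.2))).trans
        (map_mul π _ _)))
    (π.map_isConj (isConj_iff.2 ⟨⟨h, hH⟩, Subtype.ext (by
      change h * c.co.r _ * h⁻¹ = c.co.s 1
      rw [c.co_i, c.co_ωs]; exact h1)⟩))
  obtain ⟨N, n1, n2⟩ := H22.exists_np h2 c.a1 k1 k2
  have hr : (ρ.comp π).range = ρ.range := by
    rw [MonoidHom.range_comp, MonoidHom.range_eq_top.2 hπ, ← MonoidHom.range_eq_map]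
  have hO : c.U = (oddCore c.H).map c.H.subtype := pcore_compl_singleton Nat.prime_two _
  have hU : ∀ x : c.H, π x = 1 ↔ (x : G) ∈ c.U := fun x => by
    rw [hO]
    exact (QuotientGroup.eq_one_iff x).trans (mem_map_iff_mem c.H.subtype_injective).symm
  let E : H0.WM.Emb (ρ.comp π).range F :=
    { j := (ρ.comp π).range.subtype
      inj := (ρ.comp π).range.subtype_injective
      ι := SemidirectProduct.inl.codRestrict _ (hr ▸ r1)
      jι := fun _ => rfl
      odd := by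
        rw [← hr, relIndex] at r2
        convert r2 using 2
        ext x
        exact ⟨fun ⟨y, hy⟩ => ⟨y, congrArg Subtype.val hy⟩, fun ⟨y, hy⟩ => ⟨y, Subtype.ext hy⟩⟩ }
  let κ := (ρ.comp π).rangeRestrict
  have key : ∀ x (hx : x ∈ c.H), E.j (ap κ x) = ρ (π ⟨x, hx⟩) := fun x hx => by
    rw [ap_of_mem _ hx]; rfl
  have hL : ∀ x : pre κ E.L, (π.comp (inclusion (pre_le κ E.L))) x ∈ commutator _ := fun x =>
    (r6 _).1 (key _ (pre_le κ E.L x.2) ▸ E.mem_L.1 (mem_pre.1 x.2).2)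
  refine ⟨{
    F := F
    h2 := h2
    Γ := (ρ.comp π).range
    E := E
    N := N
    hq := n1
    hn := n2
    κ := κ
    surj := (ρ.comp π).rangeRestrict_surjective
    ker := fun x => ?_
    S_in := fun x hx => E.mem_range.2 (by
      rw [key x (c.S_le_H hx)]; exact r4 _ ⟨⟨x, c.S_le_H hx⟩, hPS.ge hx, rfl⟩)
    s_out := fun e => r5 (by
      have := E.mem_L.1 e
      rw [key _ (c.S_le_H c.s_mem_S)] at this
      rwa [show E₀.s 0 = π ⟨c.s, c.S_le_H c.s_mem_S⟩ from congrArg π (Subtype.ext c.co_s)])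
    lam := g.toMonoidHom.comp ((π.comp (inclusion (pre_le κ E.L))).codRestrict _ hL)
    lam_surj := fun y => ?_
    lam_ker := fun x => ?_
    lam_κ := fun x => E.inj ((key _ (pre_le κ E.L x.2)).trans (r7 ⟨_, hL x⟩)) }⟩
  · rw [Subtype.ext_iff]
    change ρ (π x) = 1 ↔ _
    rw [r3, et, ← MonoidHom.map_zpowers]
    constructor
    · rintro ⟨y, ⟨j, rfl⟩, e⟩
      have := (hU (x * (⟨c.t, tH⟩ ^ j)⁻¹)).1 (by rw [map_mul, map_inv, ← e, mul_inv_cancel])
      rw [← inv_mul_cancel_right (x : G) (c.t ^ j)]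
      exact mul_mem (mem_sup_left this) (mem_sup_right ⟨j, rfl⟩)
    · intro hx
      obtain ⟨a, ha, _, ⟨j, rfl⟩, e⟩ :=
        (mem_sup_of_norm (zpowers_le.2 (c.U_nml.norm tH))).1 hx
      refine ⟨⟨c.t, tH⟩ ^ j, ⟨j, rfl⟩, ?_⟩
      rw [show x = ⟨a, c.U_le_H ha⟩ * ⟨c.t, tH⟩ ^ j from Subtype.ext e, map_mul,
        (hU ⟨a, _⟩).2 ha, one_mul]
  · obtain ⟨⟨z, hz⟩, rfl⟩ := g.surjective y
    obtain ⟨x, rfl⟩ := hπ z
    exact ⟨⟨x, mem_pre.2 ⟨x.2, E.mem_L.2 (key _ x.2 ▸ (r6 _).2 hz)⟩⟩, rfl⟩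
  · refine (g.map_eq_one_iff.trans Subtype.ext_iff).trans ?_
    exact hU (inclusion (pre_le κ E.L) x)

end H2.QD
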