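import Mathlib
import Cfsg.Agent.H2.QB2
import Cfsg.Agent.H2.QPure
import Cfsg.Agent.H2.QZero
import Cfsg.Agent.H8.QC1

/-! Proper subgroups containing the four-group `T` (quasi-dihedral case). -/

set_option autoImplicit false
set_option linter.unusedSectionVars false

namespace H2.QD

open H24 Cfsg Subgroup
open H13.Dih (Four V4 Inv CD UU PP FC res)
open H13.Dih (sq_of ne_one_of inv_of two_of two_conj odd_orderOf odd_pcore le_O not_mem_of_odd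
  odd_of_pi comm_idem cent_prod norm_comm_zp mem_N_comm_zp res_le res_perfect comm_zp_eq_bot
  eq_one_of_odd_of_sq mem_comm_zp)
open H13.W (comm_sup_le comm_le_of_cent)
open H8.QC
open scoped MatrixGroups

universe u

variable {G : Type u} [Group G] [Finite G]

theorem Mod.cl_big {c : QC G} (M : Mod c) (hq : 5 ≤ M.N.q) {L : Subgroup G} (hS : c.S ≤ L)
    (hT : c.CT ≤ L) : M.Big L :=
  ⟨hS, M.F1' hq (((sup_le_sup_right M.Dh_le_Rh _).trans M.img_CT.ge).trans (img_mono _ hT))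
    (ap_mem_img _ (hS c.ω_mem_S) (c.S_le_H c.ω_mem_S))⟩

/-- an involution of `T` that is isolated in an overgroup of `i` is `t` -/
theorem QC.cl_eq_t (c : QC G) {X : Subgroup G} (hi : c.i ∈ X) (hT : c.T ≤ X) {v : G}
    (hv : v ∈ c.T) (h1 : v ≠ 1) (h : X ≤ 𝒪[X] ⊔ (X ⊓ C{v})) : v = c.t := by
  have hf := c.four
  have h2 := comm_core h (hT hv) (mem_comm_zp (t := v) (inv_mem hi))
  have h3 := inv_mem (conj_mem ((pcore_nml _ X).norm hi) h2)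
  rw [show (c.i * (c.i⁻¹ * (v * c.i⁻¹⁻¹ * v⁻¹)) * c.i⁻¹)⁻¹ = c.i * v * c.i⁻¹ * v⁻¹ by group] at h3
  rcases hf.mem_V.1 hv with e | e | e | e
  · exact absurd e h1
  · exact e
  · rw [e, c.i_s, mul_inv_cancel_right] at h3
    exact absurd h3 (not_mem_of_odd (odd_pcore _) hf.ht)
  · rw [e, c.i_ts, inv_of hf.hts, hf.s_ts] at h3
    exact absurd h3 (not_mem_of_odd (odd_pcore _) hf.ht)

namespace MC
variable {c : QC G} {M : Mod c} (h : MC M) {L X W : Subgroup G} {p : ℕ}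
include h

theorem N_ne_top (h1 : X ≠ ⊥) (h2 : X ≠ ⊤) : N[X] ≠ ⊤ := fun e => by
  haveI := h.simple
  exact (normalizer_eq_top_iff.1 e).eq_bot_or_eq_top.elim h1 h2

theorem N_ne_top' (h1 : X ≠ ⊥) (h2 : Odd ♯X) : N[X] ≠ ⊤ :=
  h.N_ne_top h1 fun e => not_mem_of_odd h2 c.four.ht (e ▸ mem_top _)

theorem cl (hL : L ≠ ⊤) (hT : c.T ≤ L) :
    (∃ v ∈ c.T, v ≠ 1 ∧ L ≤ 𝒪[L] ⊔ (L ⊓ C{v})) ∨
    (∃ L₀, L₀ ⊴ L ∧ L₀.relIndex L ≤ 2 ∧ CD L₀ ∧
      ∀ x ∈ L, orderOf x = 2 ∨ Odd (orderOf x) → x ∈ L₀) ∨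
    ((∃ g ∈ L, c.Rot g) ∧ (∃ g ∈ N[c.T], H24.cj g c.S ≤ L) ∧ (∀ K : Subgroup L, K.index ≠ 2) ∧
      ∀ v ∈ c.T, v ≠ 1 → ⁅𝒪[L ⊓ C{v}], c.T⁆ ≤ 𝒪[L]) := by
  obtain ⟨P, hP, h1⟩ := Sylow_superset Nat.prime_two c.four.V_pi hT
  rcases c.two_cases hP.pi h1 with h2 | h2
  · exact Or.inr (Or.inl ⟨L, Nml.refl L, by simp, cd_of_syl' hP h2, fun x hx _ => hx⟩)
  obtain ⟨g, hg, e⟩ := c.syl_conj' h2 h1
  rcases tri c h.ih hL h1 hP (e ▸ H22.isQuasiDihedral_of_equiv (cjEquiv g c.S) c.isQD) with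
    h3 | h3 | ⟨h3, h4⟩
  · exact Or.inl h3
  · exact Or.inr (Or.inl h3)
  · exact Or.inr (Or.inr ⟨h3, ⟨g, hg, e ▸ hP.le⟩, h4⟩)

theorem zero' (hW : Odd ♯W) (hT : c.T ≤ N[W]) (hc : M.L ≤ img M.κ N[W]) {g : G} (hg : g ∈ N[W])
    (hr : c.Rot g) : W = ⊥ := by
  by_contra h1
  obtain ⟨x, hx, hB⟩ := M.big_of hT hc
  have h2 := h.zero (by simpa using h.N_ne_top' h1 hW) hB (conj_mem_cj x hg) (hr.conj hx)
  rw [pcore_cj, cj_eq_bot] at h2
  exact h1 (eq_bot_of_le h2 (le_O hW (nml_N W)))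

theorem cl_big (hX : X ≠ ⊤) (hB : M.Big X) : X ≤ 𝒪[X] ⊔ (X ⊓ c.H) ∨
    ((∃ g ∈ X, c.Rot g) ∧ ⁅𝒪[X ⊓ c.H], c.T⁆ ≤ 𝒪[X]) := by
  have hT := c.T_le_S.trans hB.S_le
  rcases h.cl hX hT with ⟨v, hv, h1, h2⟩ | ⟨L₀, h1, h2, h3, -⟩ | ⟨h1, -, -, h2⟩
  · rw [c.cl_eq_t (hB.S_le (c.Q_le_S c.i_mem_Q)) hT hv h1 h2] at h2
    exact Or.inl h2
  · refine absurd (CD.mono h3 ((M.exists_cov h.q5 hB.cov (norm_of_le hB.S_le)).Q_le.trans ?_))
      c.not_cd_Q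
    rw [← res_perfect]
    refine (der1_mono ((res_le _).trans inf_le_left)).trans ?_
    have h4 := relIndex_pos L₀ X
    rcases (show L₀.relIndex X = 1 ∨ L₀.relIndex X = 2 by omega) with e | e
    · exact (der1_le X).trans (relIndex_eq_one.1 e)
    · exact der1_le_of_relIndex_prime h1 (e ▸ Nat.prime_two)
  · exact Or.inr ⟨h1, h2 _ Four.t_mem (ne_one_of c.four.ht)⟩

theorem iso (hX : X ≠ ⊤) (hB : M.Big X) (hO : 𝒪[X] ≠ ⊥) : X ≤ 𝒪[X] ⊔ (X ⊓ c.H) := by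
  rcases h.cl_big hX hB with h1 | ⟨⟨g, hg, hr⟩, -⟩
  · exact h1
  · exact absurd (h.zero hX hB hg hr) hO

theorem f2 (hX : X ≠ ⊤) (hH : c.H ≤ X) (hK : c.K ≠ ⊥) : X ≤ 𝒪[X] ⊔ c.H ∧ c.U ≤ 𝒪[X] ∧
    ⁅X, zpowers c.t⁆ ≤ 𝒪[X] ∧ ∀ g ∈ X, g * c.t * g⁻¹ ∈ c.H → g ∈ c.H := by
  have hB := M.big_H.mono hH
  have ht := c.four.ht
  have h1 : X ≤ 𝒪[X] ⊔ (X ⊓ c.H) := by
    rcases h.cl_big hX hB with h1 | ⟨⟨g, hg, hr⟩, h2⟩
    · exact h1
    · rw [h.zero hX hB hg hr, inf_of_le_right hH, le_bot_iff] at h2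
      exact absurd (c.K_eq.symm.trans h2) hK
  have h2 := comm_core h1 (hH (self_mem_C1 _))
  refine ⟨h1.trans (sup_le_sup_left inf_le_right _), le_core h1 c.odd_U (c.U_le_H.trans hH)
    (inf_le_right.trans c.U_nml.norm), h2, fun g hg e => ?_⟩
  have h3 := h2 (mem_comm_zp (t := c.t) hg)
  rw [← mul_assoc, ← mul_assoc] at h3
  have h4 := eq_one_of_odd_of_sq (odd_orderOf (odd_pcore _) h3) (by
    have h5 := sq_of (two_conj ht g)
    have h6 := mem_C1.1 e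
    generalize g * c.t * g⁻¹ = a at h5 h6
    rw [inv_of ht, mul_assoc, ← mul_assoc c.t, ← h6, mul_assoc, sq_of ht, mul_one, h5])
  exact mem_C1_iff_conj.2 (mul_inv_eq_one.1 h4)

theorem cov (hL : L ≠ ⊤) (hT : c.CT ≤ L) : CD L ∨ ∃ g ∈ N[c.T], (M.cj g).Big L := by
  obtain ⟨P, hP, h1⟩ := Sylow_superset Nat.prime_two c.four.V_pi (c.T_le_CT.trans hT)
  rcases c.two_cases hP.pi h1 with h2 | h2
  · exact Or.inl (cd_of_syl' hP h2)
  obtain ⟨g, hg, e⟩ := c.syl_conj' h2 h1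
  exact Or.inr ⟨g, hg, (M.cj g).cl_big h.q5 (by rw [c.cj_S, ← e]; exact hP.le)
    (by rw [c.cj_CT' hg]; exact hT)⟩

theorem cl_lb (hp : p.Prime) (h2 : p ≠ 2) (hX : IsPi {p} X) (hN : c.H ≤ N[X]) (hF : c.Free X)
    (hL : L ≠ ⊤) (hT : c.T ≤ L) : ⁅X ⊓ L, zpowers c.t⁆ ≤ 𝒪[L] ⊔ O[{p}, L] := by
  have hf := c.four
  have hK := pcore_nml ({2} : Set ℕ)ᶜ L
  have hY : Odd ♯(X ⊓ L) := odd_of_pi h2 (hX.inf_left L)
  have hTH := c.T_le_S.trans c.S_le_H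
  have hTN : c.T ≤ N[X ⊓ L] := norm_inf (hTH.trans hN) (norm_of_le hT)
  have htL := zpowers_le.2 (hT Four.t_mem)
  have ht := htL.trans hK.norm
  have key : ∀ v, v = c.s ∨ v = c.t * c.s → ⁅X ⊓ L ⊓ C{v}, zpowers c.t⁆ ≤ UU v ⊓ L := by
    intro v hv
    refine le_inf ((comm_mono_left (inf_le_inf_right _ inf_le_left)).trans ?_)
      (comm_le_of_le (inf_le_left.trans inf_le_right) htL)
    rcases hv with rfl | rfl
    · exact hF
    · exact hF.ts (hN (c.S_le_H (c.Q_le_S c.i_mem_Q)))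
  rcases h.cl hL hT with ⟨v, hv, h1, h3⟩ | ⟨L₀, h1, -, h3, h4⟩ | ⟨-, -, -, h1⟩
  · refine le_trans ?_ le_sup_left
    have h4 := (comm_mono_left (inf_le_right : X ⊓ L ≤ L)).trans (comm_core h3 (hT hv))
    have h5 : v ≠ c.t → ⁅X ⊓ L, zpowers c.t⁆ ≤ 𝒪[L] := fun hvt => by
      rw [← (cent_prod hY (hf.V_two hv h1) (hTN hv)).sup_eq]
      refine comm_sup_le ht (norm_of_le h4) ((inf_le_left.trans inf_le_right).trans hK.norm)
        ((comm_mono_left h4).trans (comm_le_left ht)) ((key v ?_).trans (le_core h3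
          (odd_of_le (odd_pcore _) inf_le_left) inf_le_right
          (norm_inf (inf_le_right.trans (pcore_nml _ _).norm) (norm_of_le inf_le_left))))
      rcases hf.mem_V.1 hv with e | e | e | e
      · exact absurd e h1
      · exact absurd e hvt
      · exact Or.inl e
      · exact Or.inr e
    by_cases hvt : v = c.t
    · exact hvt ▸ h4
    · exact h5 hvt
  · have h5 : ⁅X ⊓ L, zpowers c.t⁆ ≤ X ⊓ L := comm_le_left (zpowers_le.2 (hTN Four.t_mem))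
    refine le_trans ((lemB_cd h3 hf.ht (h4 _ (hT Four.t_mem) (Or.inl hf.ht)) hp h2
      ((hX.inf_left L).of_le h5) (fun x hx => h4 x (h5 hx).2 (Or.inr (odd_orderOf hY (h5 hx))))
      (comm_idem hY hf.ht (hTN Four.t_mem)).ge (norm_comm_zp (norm_inf (inf_le_right.trans hN)
        (norm_of_le (inf_le_left.trans h1.le))) inf_le_right)).trans (h1.pcore_le _)) le_sup_right
  · refine le_trans ?_ le_sup_left
    have h3 : ∀ v, v = c.s ∨ v = c.t * c.s → v ∈ c.T → v ≠ 1 →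
        X ⊓ L ⊓ C{v} ≤ centQ (zpowers c.t) 𝒪[L] := fun v hv hvT hv1 => by
      refine (le_centQ ht).2 ⟨(inf_le_left.trans inf_le_right).trans hK.norm, ?_⟩
      rw [← comm_idem (odd_of_le hY inf_le_left) hf.ht
        (norm_inf hTN (norm_of_le (hf.V_le_C_of_mem hvT)) Four.t_mem)]
      refine le_trans (commutator_mono ((key v hv).trans ?_) (zpowers_le.2 Four.t_mem)) (h1 v hvT hv1)
      refine le_trans (le_inf inf_le_left (le_inf inf_le_right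
        (inf_le_left.trans (pcore_le _ _)))) (pcore_inf_le _ inf_le_right)
    exact ((le_centQ ht).1 (hf.gen hY hTN ((le_centQ ht).2
      ⟨(inf_le_left.trans inf_le_right).trans hK.norm,
        comm_le_of_cent (by rw [C_zpowers]; exact inf_le_right)⟩)
      (h3 _ (Or.inl rfl) Four.s_mem (ne_one_of hf.hs))
      (h3 _ (Or.inr rfl) Four.ts_mem (ne_one_of hf.hts)))).2

theorem lb (hp : p.Prime) (h2 : p ≠ 2) (hX : IsPi {p} X) (hN : c.H ≤ N[X]) (hF : c.Free X)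
    (hL : L ≠ ⊤) (ht : c.t ∈ L) : ⁅X ⊓ L, zpowers c.t⁆ ≤ O[{p}, L] := by
  have hf := c.four
  have hY : Odd ♯(X ⊓ L) := odd_of_pi h2 (hX.inf_left L)
  have htN : c.t ∈ N[X ⊓ L] :=
    norm_inf (zpowers_le.2 (hN (self_mem_C1 _))) (norm_of_le (zpowers_le.2 ht)) (mem_zpowers _)
  refine le_pcore_of_odd hf.ht ht hp ((hX.inf_left L).of_le (comm_le_left (zpowers_le.2 htN))) ?_
    (mem_N_comm_zp _ _) (comm_idem hY hf.ht htN).ge (norm_comm_zp (norm_inf (inf_le_right.trans hN)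
        (norm_of_le (inf_le_left.trans (pcore_le _ _)))) inf_le_right)
  by_cases h1 : ∀ x ∈ L, x ∈ C{c.t} → orderOf x = 2 → x = c.t
  · exact (comm_mono_left inf_le_right).trans (zstar_comm hf.ht ht h1)
  push Not at h1
  obtain ⟨x, hx, h3, h4, h5⟩ := h1
  obtain ⟨g, hg, e⟩ := c.invol_H h3 h4 h5
  have e' : g * c.t * g⁻¹ = c.t := mem_C1_iff_conj.1 hg
  have h6 := h.cl_lb hp h2 hX hN hF (L := H24.cj g L) (by simpa using hL)
    (Four.V_le.2 ⟨e' ▸ conj_mem_cj g ht, e ▸ conj_mem_cj g hx⟩)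
  rw [sup_of_le_left (pcore_mono _ (singleton_subset_compl h2)), pcore_cj] at h6
  have h7 : H24.cj g ⁅X ⊓ L, zpowers c.t⁆ ≤ H24.cj g 𝒪[L] := by
    rwa [cj_comm, cj_inf, cj_zpowers, e', cj_of_mem_N (hN hg)]
  simpa using cj_mono g⁻¹ h7

theorem UU_inf_of (hc : M.L ≤ img M.κ C[c.U]) : c.U ⊓ UU c.s = ⊥ := by
  have hf := c.four
  have h1 : C[c.U] ≤ N[c.U ⊓ UU c.s] := (C_anti inf_le_left).trans (C_le_N _)
  obtain ⟨g, hg, e1, e2⟩ := c.exists_NT hf.symm Four.s_mem Four.t_mem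
  have h2 : g ∈ N[c.U ⊓ UU c.s] := by
    rw [mem_N_iff_cj, cj_inf, QC.U, ← pcore_cj, ← pcore_cj, cj_C1, cj_C1, e1, e2, inf_comm]
  obtain ⟨r, hr, h3⟩ := c.rot_of_swap (Or.inl e1) hg h2 (h1 (M.Q_le_of_cov hc
    (norm_C ((c.Q_le_S.trans c.S_le_H).trans c.U_nml.norm)) c.i_mem_Q))
  exact h.zero' (odd_of_le c.odd_U inf_le_left) (c.T_le_CT.trans (norm_inf
    (c.CT_le_H.trans c.U_nml.norm) (inf_le_right.trans (pcore_nml _ _).norm)))
    (hc.trans (img_mono _ h1)) hr h3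

end MC

end H2.QD
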