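import Mathlib
import Cfsg.Agent.H2.QB2
import Cfsg.Agent.H1.QS1

/-! Schur multipliers for the quasi-dihedral case. -/

set_option autoImplicit false

namespace H2.QD

open H24 Cfsg Subgroup
open H13.Dih (Four V4 Inv CD UU PP FC res)
open scoped MatrixGroups

universe u

variable {G : Type u} [Group G] [Finite G]

omit [Finite G] in
theorem sch_fin {F : Type} [Field F] [Finite F] {Z : Subgroup G} {A : Prop} (ho : Odd ♯Z)
    (h : ∀ r, r.Prime → r ≠ 2 → r ∣ ♯Z → r = ringChar F ∧ Nat.card F = 9 ∧ A) :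
    Z = ⊥ ∨ (Nat.card F = 9 ∧ IsPi {3} Z ∧ A) := by
  refine or_iff_not_imp_left.2 fun h0 => ?_
  have k : ∀ r, r.Prime → r ∣ ♯Z → r ≠ 2 := fun r _ h e =>
    Nat.not_even_iff_odd.2 ho (even_iff_two_dvd.2 (e ▸ h))
  obtain ⟨r, hr, hd⟩ := exists_prime_dvd_card h0
  obtain ⟨-, h1, h2⟩ := h r hr (k r hr hd) hd
  refine ⟨h1, fun r hr hd => ?_, h2⟩
  have := Fintype.ofFinite F
  have e : r ∣ 3 ^ 2 := by
    rw [(h r hr (k r hr hd) hd).1, show 3 ^ 2 = Fintype.card F by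
      rw [← Nat.card_eq_fintype_card, h1]; rfl]
    exact ringChar.dvd (FiniteField.cast_card_eq_zero F)
  exact (Nat.prime_dvd_prime_iff_eq hr Nat.prime_three).1 (hr.dvd_of_dvd_pow e)

theorem sch {F : Type} [Field F] [Finite F] (h2 : (2 : F) ≠ 0) {J : Subgroup G}
    (f : J →* SL(2, F)) (hf : Function.Surjective f) (hJ : ⁅J, J⁆ = J) (hZ : pre f ⊥ ≤ C[J])
    (ho : Odd ♯(pre f ⊥)) : pre f ⊥ = ⊥ ∨ (Nat.card F = 9 ∧ IsPi {3} (pre f ⊥)) := by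
  classical
  let π : SL(2, F) →* PGL(2, F) :=
    Matrix.ProjectiveSpecialLinearGroup.toPGL.comp (QuotientGroup.mk' _)
  have e : ∀ x ∈ J, ap (π.comp f) x = π (ap f x) := fun x hx => by
    rw [ap_of_mem _ hx, ap_of_mem _ hx]; rfl
  refine (sch_fin (A := True) ho fun r hr hr2 hd => ?_).imp_right fun h => ⟨h.1, h.2.1⟩
  have := H1.QS.core h2 (ι := MonoidHom.id _) Function.injective_id (π.comp f) le_rfl hJ (by
    rw [img_dom, map_id, MonoidHom.range_comp, MonoidHom.range_eq_top.2 hf, ← MonoidHom.range_eq_map,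
      MonoidHom.range_comp, QuotientGroup.range_mk', ← MonoidHom.range_eq_map]; rfl) ?_ hr hr2
    (hd.trans (card_dvd fun x hx => ⟨(mem_pre_bot.1 hx).1, mem_pre_bot.2 ⟨(mem_pre_bot.1 hx).1, by
      rw [e x (mem_pre_bot.1 hx).1, (mem_pre_bot.1 hx).2, map_one]⟩⟩))
  · exact ⟨this.1, this.2.1, trivial⟩
  have h1 : ⁅⁅J, J ⊓ pre (π.comp f) ⊥⁆, J⁆ = ⊥ := comm_eq_bot.2 (le_trans
    ((comm_le_ker le_rfl inf_le_left).2 (cents_symm fun y hy => ?_)) hZ)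
  · have := three_subgroup (A := J) (B := J ⊓ pre (π.comp f) ⊥) (K := J) h1 (by rwa [commC (_ ⊓ _)])
    rwa [hJ, comm_eq_bot'] at this
  obtain ⟨x, hx, xJ, rfl⟩ := mem_img.1 hy
  have h3 := (mem_pre_bot.1 hx.2).2
  rw [e x xJ, MonoidHom.comp_apply, map_eq_one_iff _
    Matrix.ProjectiveSpecialLinearGroup.toPGL_injective, QuotientGroup.mk'_apply,
    QuotientGroup.eq_one_iff] at h3
  exact mem_C.2 fun g _ => mem_center_iff.1 h3 g

theorem sch_psl {F : Type} [Field F] [Finite F] (h2 : (2 : F) ≠ 0) {J : Subgroup G}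
    (f : J →* H16.PGa F) (hf : f.range = H16.PH F) (hJ : ⁅J, J⁆ = J) (hZ : pre f ⊥ ≤ C[J])
    (ho : Odd ♯(pre f ⊥)) : pre f ⊥ = ⊥ ∨ (Nat.card F = 9 ∧ IsPi {3} (pre f ⊥)) := by
  classical
  refine (sch_fin (A := True) ho fun r hr hr2 hd => ?_).imp_right fun h => ⟨h.1, h.2.1⟩
  have := H1.QS.core h2 (ι := SemidirectProduct.inl) SemidirectProduct.inl_injective f le_rfl hJ
    ((img_dom f).trans hf) (inf_le_right.trans hZ) hr hr2 (by rwa [inf_eq_right.2 (pre_le f ⊥)])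
  exact ⟨this.1, this.2.1, trivial⟩

theorem Mod.exists_L1 {c : QC G} (M : Mod c) (hq : 5 ≤ M.N.q) (h : M.L ≤ img M.κ C[c.U]) :
    ∃ L₁, L₁ ⊴ c.H ∧ ⁅L₁, L₁⁆ = L₁ ∧ L₁ ≤ C[c.U] ∧ L₁ ⊔ c.U = M.Lt ∧
      (L₁ ⊓ c.U = ⊥ ∨ (M.N.q = 9 ∧ IsPi {3} (L₁ ⊓ c.U) ∧ ¬ L₁ ⊓ c.U ≤ C{c.s})) := by
  obtain ⟨h1, h2⟩ := M.cov_res hq h
  have n1 : res (C[c.U] ⊓ c.H) ⊴ c.H := ⟨(H13.Dih.res_le _).trans inf_le_right,
    H13.Dih.norm_res (norm_inf (norm_C c.U_nml.norm) (norm_self _))⟩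
  have l1 : res (C[c.U] ⊓ c.H) ≤ C[c.U] := (H13.Dih.res_le _).trans inf_le_left
  have hp := H13.Dih.res_perfect (C[c.U] ⊓ c.H)
  set L₁ := res (C[c.U] ⊓ c.H)
  have ht := M.t_mem_of_cov h1
  have e : img M.κ L₁ = M.L := le_antisymm (img_le_of_le_pre h2) h1
  have e2 : L₁ ⊓ pre M.κ ⊥ = L₁ ⊓ c.U ⊔ zpowers c.t := by
    rw [M.ker_eq, inf_comm, ← group_modr (zpowers_le.2 (c.U_nml.norm (self_mem_C1 _)))
      (zpowers_le.2 ht), inf_comm]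
  refine ⟨L₁, n1, hp, l1, le_antisymm (sup_le h2 M.U_le_Lt) ?_, ?_⟩
  · have := (img_le_img_iff M.Lt_nml.le n1.le).1 ((img_pre_le M.κ M.E.L).trans h1)
    rw [M.ker_eq] at this
    exact this.trans (sup_le le_sup_left (sup_le le_sup_right (zpowers_le.2 (mem_sup_left ht))))
  rw [M.hq]
  refine sch_fin (odd_of_le c.odd_U inf_le_right) fun r hr hr2 hd => ?_
  obtain ⟨a, b, d⟩ := H1.QS.core M.h2 M.E.ι_inj M.κ n1.le hp e (by
    rw [e2]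
    exact sup_le (inf_le_right.trans (cents_symm l1)) (zpowers_le.2 (mem_C_iff_le_C1.2 n1.le))) hr hr2
    (hd.trans (card_dvd (e2 ▸ le_sup_left)))
  have sH := c.S_le_H c.s_mem_S
  refine ⟨a, b, fun k => M.s_out (d _ sH (n1.norm sH) (mem_C_iff_le_C1.2 ?_) M.e_mem)⟩
  rw [e2]
  exact sup_le k (zpowers_le.2 (mem_C1_comm.1 sH))

end H2.QD
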