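import Mathlib
import Cfsg.Agent.H2.QB2
import Cfsg.Agent.H2.QCh1
import Cfsg.Agent.H2.QBud
import Cfsg.Agent.H23.WR1
import Cfsg.Agent.H26.Coprime

/-! # QRoot: counting linear characters in the rooted case -/

set_option autoImplicit false

namespace H2.QD

open H24 Cfsg Subgroup H4
open H13.Dih (Four V4 Inv CD UU PP FC res)
open scoped ComplexConjugate MatrixGroups commutatorElement

universe u

variable {G : Type u} [Group G] [Finite G]

theorem MC.root_count {c : QC G} {M : Mod c} (h : MC M) {B : Subgroup G}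
    (hp : IsPi {M.N.p} B) (hN : c.H ≤ N[B]) (hr : ¬ c.Free B) :
    {lam : B →* ℂˣ | lam ≠ 1 ∧ (∀ b ∈ B ⊓ C{c.t}, ap lam b = 1) ∧ ∃ g ∈ c.H,
      ∀ b ∈ ⁅B, zpowers c.s⁆ ⊔ (B ⊓ UU c.s), ap lam (g * b * g⁻¹) = 1}.ncard + 2 * M.N.q + 1 ≤
      2 * M.N.q ^ 2 := by
  classical
  have := Fintype.ofFinite G
  obtain ⟨χ, f, δ, hχ⟩ := M.exists_bud
  have hf := hχ.irr.isCharacter
  have ho : Odd ♯B := H13.Dih.isPi_odd.1 (hp.compl_of_ne M.N.p_ne)
  have four := c.four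
  have tH : c.t ∈ c.H := self_mem_C1 _
  have sH : c.s ∈ c.H := c.S_le_H c.s_mem_S
  have tT : c.t ∈ c.T := mem_sup_left (mem_zpowers _)
  have sT : c.s ∈ c.T := mem_sup_right (mem_zpowers _)
  obtain ⟨g, hg, gt, gs⟩ := c.exists_NT (v := c.s) (w := c.t)
    ⟨four.hs, four.ht, four.ne.symm, four.comm.symm⟩ sT tT
  have e1 : (c.cj g).t = c.s := by rw [c.cj_t, gt]
  have e2 : (c.cj g).s = c.t := by rw [c.cj_s, gs]
  have e3 : (c.cj g).H = C{c.s} := by rw [QC.H, e1]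
  have e4 : (c.cj g).U = UU c.s := by rw [QC.U, e1]
  have e5 : (c.cj g).CT = c.CT := c.cj_CT' hg
  set X := B ⊓ C{c.s} with hXd
  have oX : Odd ♯X := H24.odd_of_le ho inf_le_left
  have hXH : X ≤ (c.cj g).H := e3 ▸ inf_le_right
  have hCX : (c.cj g).CT ≤ N[X] := by
    rw [e5]; exact norm_inf (c.CT_le_H.trans hN) (norm_of_le inf_le_right)
  have q5 : 5 ≤ (M.cj g).N.q := h.q5
  obtain ⟨hroot, he⟩ := ((M.cj g).inv_cases q5 oX hXH hCX).resolve_left
    (by rw [e2, e4]; exact hr)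
  rw [e2] at hroot he
  have hε : M.N.ε = 1 := ((M.cj g).root_e hroot he).1
  have hQ : M.Qe = M.N.q := by simp [Mod.Qe, hε]
  have tX : zpowers c.t ≤ N[X] := zpowers_le.2 (hCX (e5 ▸ c.T_le_CT tT))
  have hXU : X ⊓ C[zpowers c.t] ≤ (c.cj g).U := by
    refine le_trans ?_ ((M.cj g).p0_inv q5 (hp.inf_left _) hCX)
    rw [e5, C_zpowers]
    exact fun x hx => ⟨hx.1, hx.2, hx.1.2⟩
  have himg : ∀ x ∈ X, ap (M.cj g).κ x ∈ img (M.cj g).κ ⁅X, zpowers c.t⁆ := by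
    intro x hx
    have hle : ⁅X, zpowers c.t⁆ ≤ X := comm_le_left tX
    have hP := H26.coprime_cent_prod' tX (by
      rw [card_zpowers', four.ht]; exact Nat.coprime_two_right.2 oX) (Or.inr (cyc_zpowers _).sol)
    obtain ⟨a, ha, b, hb, rfl⟩ := hP.mul x hx
    rw [ap_mul _ (hXH (hle ha)) (hXH hb.1), (M.cj g).κ_U (hXU hb), mul_one]
    exact ap_mem_img _ ha (hXH (hle ha))
  have hval : ∀ x ∈ X, χ (x * c.s) = if x ∈ UU c.s then (δ * M.N.q : ℂ) else 0 := by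
    intro x hx
    have k1 : g⁻¹ * x * g ∈ c.H := c.mem_cj_H.1 (hXH hx)
    have k2 : Odd (orderOf (g⁻¹ * x * g)) := by
      have := orderOf_conj g⁻¹ x
      rw [inv_inv] at this
      rw [this]; exact H13.Dih.odd_orderOf oX hx
    have k3 : x * c.s = g * (c.t * (g⁻¹ * x * g)) * g⁻¹ := by
      rw [mem_C1.1 hx.2, ← gt]; group
    have k4 : M.St (g⁻¹ * x * g) = (M.cj g).St x := by
      rw [← M.cj_St g]; congr 1; group
    rw [k3, hχ.irr.classFun, hχ.val _ k1 k2, k4]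
    split_ifs with k
    · rw [(M.cj g).St_congr (y := 1) (by rw [(M.cj g).κ_U (e4 ▸ k), ap_one]), (M.cj g).St_one]
      rw [show (M.cj g).Qe = M.N.q from hQ]; push_cast; rfl
    · rw [(M.cj g).St_root hroot (himg x hx) fun k' => k (e4 ▸ (M.cj g).mem_U (hXH hx) k'
        (H13.Dih.odd_orderOf oX hx))]
      simp
  have hδ : (δ : ℂ) ≠ 0 := by rcases hχ.hδ with e | e <;> simp [e]
  have hq0 : (M.N.q : ℂ) ≠ 0 := by have := h.q5; exact_mod_cast (by omega : M.N.q ≠ 0)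
  choose m hm using fun l : B →* ℂˣ => H23.WR.tr_nat hf l
  -- the principal character
  have h1 : M.N.q ≤ m 1 := by
    have k1 : c.t ∈ H23.WR.stab (1 : B →* ℂˣ) := by rw [H23.WR.stab_one]; exact hN tH
    obtain ⟨a, b, ha, hb⟩ := H23.WR.tr_invol hf k1 four.ht
    have hU : B ⊓ C{c.t} ≤ c.U := pcore_max (H13.Dih.isPi_odd.2 (H24.odd_of_le ho inf_le_left))
      (nml_inf_of_norm' hN)
    rw [H23.WR.tr_eq_ite hf.classFun k1 (by rw [four.ht]; exact Nat.coprime_two_left.2 ho)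
      (fun o k => by rw [mem_C1.1 k.2]; exact hχ.inv _ (mem_zpowers _) o (hU k)), if_pos rfl] at hb
    have k2 := hχ.val 1 (one_mem _) (by simp)
    rw [mul_one, M.St_one, hQ, hb] at k2
    have k3 : m 1 = a + b := by exact_mod_cast (hm 1).symm.trans ha
    have k4 : (a : ℤ) - b = δ * M.N.q := by exact_mod_cast k2
    rcases hχ.hδ with e | e <;> rw [e] at k4 <;> omega
  set Λ := {lam : B →* ℂˣ | lam ≠ 1 ∧ (∀ b ∈ B ⊓ C{c.t}, ap lam b = 1) ∧ ∃ g ∈ c.H,
      ∀ b ∈ ⁅B, zpowers c.s⁆ ⊔ (B ⊓ UU c.s), ap lam (g * b * g⁻¹) = 1} with hΛ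
  have h2 : ∀ l ∈ Λ, 1 ≤ m l := by
    rintro l ⟨-, -, k, hk, hl⟩
    set l' := H23.WR.cjc l ⟨k, hN hk⟩ with hl'
    have hv : ∀ b ∈ ⁅B, zpowers c.s⁆ ⊔ (B ⊓ UU c.s), ap l' b = 1 := fun b hb => by
      have hbB : b ∈ B := sup_le (comm_le_left (zpowers_le.2 (hN sH))) inf_le_left hb
      rw [ap_of_mem _ hbB, hl', H23.WR.cjc_apply]; exact hl b hb
    have hs : c.s ∈ H23.WR.stab l' := by
      refine ⟨hN sH, fun a ha => ?_⟩
      have k1 : ⁅a, c.s⁆ ∈ ⁅B, zpowers c.s⁆ := commutator_mem_commutator ha (mem_zpowers _)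
      have k2 : ⁅a, c.s⁆ ∈ B := comm_le_left (zpowers_le.2 (hN sH)) k1
      rw [show c.s * a * c.s⁻¹ = ⁅a, c.s⁆⁻¹ * a by rw [commutatorElement_def]; group,
        ap_mul _ (inv_mem k2) ha, ap_inv _ k2, hv _ (mem_sup_left k1), inv_one, one_mul]
    obtain ⟨a, b, ha, hb⟩ := H23.WR.tr_invol hf hs four.hs
    rw [hl', H23.WR.tr_cjc hf.classFun, hm] at ha
    have k3 : m l = a + b := by exact_mod_cast ha
    by_contra k4
    obtain ⟨rfl, rfl⟩ : a = 0 ∧ b = 0 := by omega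
    rw [H23.WR.tr_avg hf.classFun hs (by rw [four.hs]; exact Nat.coprime_two_left.2 ho),
      H23.WR.tr] at hb
    have k5 : ∀ x : X, χ (x * c.s) * conj ((H23.WR.res l' (inf_le_left : X ≤ B) x : ℂˣ) : ℂ) =
        δ * M.N.q * (if (x : G) ∈ UU c.s then 1 else 0) := by
      intro x
      rw [hval x x.2]
      split_ifs with k
      · rw [H23.WR.res_apply, hv _ (mem_sup_right ⟨x.2.1, k⟩)]; simp
      · simp
    rw [Finset.sum_congr rfl fun x _ => k5 x, ← Finset.mul_sum, Finset.sum_boole] at hb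
    simp only [Nat.cast_zero, sub_zero, mul_eq_zero, inv_eq_zero, hδ, hq0, or_self, false_or,
      Nat.cast_eq_zero, Finset.card_eq_zero] at hb
    rcases hb with hb | hb
    · exact H24.card_ne_zero _ hb
    · have : (1 : X) ∈ Finset.univ.filter fun x : X => (x : G) ∈ UU c.s := by simp
      rw [hb] at this; simp at this
  have hfin : Λ.Finite := Set.toFinite _
  have h3 := (H23.WR.sum_le hf (insert 1 hfin.toFinset) m (fun l _ => hm l) hχ.deg).1
  rw [Finset.sum_insert (by simp [hΛ])] at h3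
  have h4 : hfin.toFinset.card • 1 ≤ ∑ l ∈ hfin.toFinset, m l :=
    Finset.card_nsmul_le_sum _ _ _ fun l hl => h2 l (hfin.mem_toFinset.1 hl)
  rw [Set.ncard_eq_toFinset_card _ hfin]
  have := hχ.le
  simp only [smul_eq_mul, mul_one] at h4
  omega

end H2.QD
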