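import Mathlib
import Cfsg.Prelude.Def_PLocal
import Cfsg.Agent.H2.QDefs

/-!
# Vocabulary for the local analysis of groups with quasi-dihedral Sylow 2-subgroups
-/

set_option autoImplicit false

namespace H2.QD

open H24 Cfsg Subgroup
open H13.Dih (Four V4 Inv CD UU PP FC QS res)

universe u

variable {G : Type u} [Group G]

/-- the normal closure of `a` in `X` -/
def ncl (X : Subgroup G) (a : G) : Subgroup G := closure {y | ∃ x ∈ X, y = x * a * x⁻¹}

/-- the perfect subgroup of `H` attached to `a ∈ X` -/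
noncomputable def QC.J (c : QC G) (X : Subgroup G) (a : G) : Subgroup G := res (ncl X a ⊓ c.H)

/-- `X` is `p`-stable on its normal `p`-subgroups -/
def Stab (p : ℕ) (X : Subgroup G) : Prop :=
  ∀ (P : Subgroup X) [P.Normal], IsPGroup p P → IsPStableOn p P

/-- `P / R` is a chief factor of `X` -/
structure Chief (X P R : Subgroup G) : Prop where
  nP : P ⊴ X
  nR : R ⊴ X
  lt : R < P
  min : ∀ A, R ≤ A → A ≤ P → X ≤ N[A] → A = R ∨ A = P

/-- `E = L ^ ∞` is a component of type `L₂(r)` containing `t`, centralising `O(L)`; `A` is the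
cyclic subgroup of index two (modulo the centre) of `C_E(t)` -/
structure DE (c : QC G) (L E A : Subgroup G) : Prop where
  eq : E = res L
  qs : QS E
  cent : L ⊓ C[E] = 𝒪[L]
  A_le : A ≤ E ⊓ C{c.t}
  t_mem : c.t ∈ A
  cyc : Cyc A
  inf : A ⊓ C[E] = ⊥
  inv : ∀ w ∈ L, Four c.t w → Inv w A
  odd : ∀ y ∈ (E ⊔ C[E]) ⊓ C{c.t}, Odd (orderOf y) → y ∈ A ⊔ C[E]
  F_le : F[c.U] ⊓ L ≤ A ⊔ C[E]
  comm : ⁅L, L⁆ ≤ E ⊔ C[E]
  schur : (∀ P ≤ E, IsPi {2} P → ♯P ≤ 4) → E ⊓ C[E] = ⊥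

end H2.QD
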