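import Mathlib
import Cfsg.Agent.H2.QDefs3
import Cfsg.Agent.H2.QB2

/-! More facts on the model of `H = C(t)`. -/

set_option autoImplicit false
set_option linter.unusedSectionVars false

namespace H2.QD

open H24 H26 H13 H13.Dih Cfsg Subgroup

universe u

variable {G : Type u} [Group G] [Finite G]

theorem QC.R_le (c : QC G) : c.R ≤ c.CT := pcore_le _ _
theorem QC.R_le_H (c : QC G) : c.R ≤ c.H := c.R_le.trans c.CT_le_H
theorem QC.odd_R (c : QC G) : Odd ♯c.R := odd_pcore _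

namespace Mod
variable {c : QC G} (M : Mod c) (hq : 5 ≤ M.N.q) {X Y L₁ : Subgroup G}

theorem Dh_le_Th : M.Dh ≤ M.Th := le_sup_left

theorem L0t_nml : pre M.κ M.L0 ⊴ c.H := by
  have := M.L0_nml
  simpa [pre_top] using (nml_top M.L0).pre M.κ

theorem Comp.le_Lt (h : M.Comp L₁) : L₁ ≤ M.Lt := le_sup_left.trans h.sup.le

theorem Comp.D_ker (h : M.Comp L₁) : pre M.κ ⊥ ⊓ (L₁ ⊓ c.R) = ⊥ :=
  eq_bot_iff.2 fun _ hx => (h.ker hx.2.1 (mem_pre_bot.1 hx.1).2).elim (fun e => e) fun e =>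
    absurd (e ▸ hx.2.2) (not_mem_of_odd c.odd_R c.four.ht)

theorem Comp.split (h : M.Comp L₁) {r : G} (hr : r ∈ c.R) (h0 : ap M.κ r ∈ M.L0) :
    ∃ l ∈ L₁ ⊓ c.R, ∃ u ∈ c.U ⊓ c.R, r = l * u := by
  have ho := (c.mem_R.1 hr).2
  have h1 : r ∈ L₁ ⊔ c.U := h.sup ▸ M.mem_Lt.2 ⟨c.R_le_H hr, M.odd_mem_L h0
    (ho.of_dvd_nat (orderOf_ap_dvd _ (c.R_le_H hr)))⟩
  obtain ⟨l, hl, u, hu, rfl⟩ := (mem_sup_of_norm (norm_of_cent (cents_symm h.cent))).1 h1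
  have sH : c.s ∈ c.H := c.S_le_H c.s_mem_S
  have e := mul_eq_mul_of_inf h.inf (h.nml.conj_mem sH hl) hl (c.U_nml.conj_mem sH hu) hu (by
    rw [← mem_C1_iff_conj.1 (mem_C1_comm.1 (c.R_le hr).2)]; group)
  have hu' : u ∈ c.R := c.mem_R.2 ⟨⟨c.U_le_H hu, mem_C1_comm.1 (mem_C1_iff_conj.2 e.2)⟩,
    odd_orderOf c.odd_U hu⟩
  exact ⟨l, ⟨hl, (c.R.mul_mem_cancel_right hu').1 hr⟩, u, ⟨hu, hu'⟩, rfl⟩

include hq
theorem C_Dh : C[M.Dh] = M.Th := by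
  refine le_antisymm (fun x hx => ?_) (M.Th_cyc.abl.cents le_rfl M.Dh_le_Th)
  obtain ⟨y, z, hy, hz, h1, h2, e⟩ := exists_piElt_decomp {2} x
  obtain ⟨d, hd, d1⟩ := exists_ne_one (M.pg_Dh_ne hq)
  have h3 := zpowers_le.2 hx
  refine e ▸ mul_mem (M.cent_Th (M.Dh_le_Th hd) (M.pg_sq_ne hd d1) ▸
    ⟨M.two_mem_L0 hy, C_le_C1 hd (h3 h1)⟩) (M.Dh_le_Th (M.fld_eq hq ▸ ⟨M.pg_Rh.2
      ⟨M.norm_Th le_rfl (M.pg_Dh_ne hq) (C_le_N _ (h3 h2)), piElt_odd.1 hz⟩, h3 h2⟩))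

theorem img_comm_i : img M.κ ⁅c.R, zpowers c.i⁆ = M.Dh := by
  rw [img_comm _ c.R_le_H (zpowers_le.2 c.i_mem_H), M.img_R, img_zpowers _ c.i_mem_H,
    M.Rh_sd.isProd.comm_left_of_cent (by rw [C_zpowers]; exact inf_le_right)]
  exact (M.σ_inv.of_le M.Dh_le_Th).comm_eq M.pg_odd_Dh

theorem U_inf_le (hX : M.L ≤ img M.κ X) (h : X ≤ 𝒪[X] ⊔ (X ⊓ c.H)) : 𝒪[X] ⊓ c.H = c.U ⊓ X := by
  have hO := pcore_nml {2}ᶜ X
  refine le_antisymm (le_inf (M.le_U_of_cov hq hX (odd_pcore _) (inf_le_left.trans hO.norm))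
    (inf_le_left.trans hO.le)) (le_inf (le_sup_right.trans (le_O (isPi_odd.1 ((pcore_pi _ _).sup
      (isPi_odd.2 (odd_of_le c.odd_U inf_le_left)) (inf_le_right.trans hO.norm)))
      ⟨sup_le hO.le inf_le_right, h.trans (sup_le (norm_of_le le_sup_left) (norm_sup
        (inf_le_left.trans hO.norm) (norm_inf (inf_le_right.trans c.U_nml.norm)
          (norm_of_le inf_le_left))))⟩)) (inf_le_left.trans c.U_le_H))

theorem cov_C_U (h : M.L ≤ img M.κ C[F[c.U]]) : M.L ≤ img M.κ C[c.U] := by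
  refine (M.cov_res hq h).1.trans (img_mono _ ?_)
  have hn := c.U_nml.Fitting.infC
  rw [inf_comm] at hn
  set J := res (C[F[c.U]] ⊓ c.H)
  have hJ : J ≤ C[F[c.U]] ⊓ c.H := res_le _
  have h1 : ⁅⁅J, c.U⁆, J⁆ = ⊥ := by
    rw [comm_eq_bot']
    refine hJ.trans (inf_le_left.trans (C_anti (le_trans (le_inf (comm_le_right
      (hJ.trans (inf_le_right.trans c.U_nml.norm))) ?_) (cent_sub_Fitting (sol_of_odd c.odd_U)))))
    exact (comm_mono_left hJ).trans ((comm_le_left (c.U_le_H.trans hn.norm)).trans inf_le_left)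
  have := three_subgroup h1 (by rwa [commC c.U])
  rwa [res_perfect, comm_eq_bot] at this

/-- an odd subgroup of `H` which centralises `F(U)` and meets it trivially -/
theorem eq_bot_of_cent (hY : Odd ♯Y) (hH : Y ≤ c.H) (h1 : Y ≤ C[F[c.U]]) (h2 : Y ⊓ F[c.U] = ⊥)
    (h3 : C[F[c.U]] ⊓ c.H ≤ N[Y]) : Y = ⊥ := by
  have h4 : Y ≤ c.U := by
    by_cases e : img M.κ Y = ⊥
    · exact M.le_U hH hY e
    · exact (le_inf le_rfl hH).trans (M.le_U_of_cov hq (M.cov_of_norm hq M.big_H.cov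
        (inf_le_left.trans (norm_C c.U_nml.Fitting.norm)) (ne_bot_of_le e (img_mono _ h1))) hY h3)
  exact eq_bot_of_le h2 (le_inf le_rfl ((le_inf h4 h1).trans
    (cent_sub_Fitting (sol_of_odd c.odd_U))))

theorem tw_of (h : c.ρ ∈ N[c.R ⊓ pre M.κ M.L0]) : M.Tw := by
  set A := c.R ⊓ pre M.κ M.L0 with hA
  have n1 : c.H ⊓ N[c.T] ≤ N[A] :=
    norm_inf (inf_le_right.trans c.NT_le_NR) (inf_le_left.trans M.L0t_nml.norm)
  have hC : c.CT ≤ c.H ⊓ N[c.T] := le_inf c.CT_le_H (c.C_T ▸ C_le_N _)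
  have hi : c.i ∈ c.H ⊓ N[c.T] := ⟨c.i_mem_H, c.i_mem_NT⟩
  have n2 : N[c.T] ≤ N[A] := c.NT_le (hC.trans n1) (n1 hi) c.rot_ρ h
  have hR : c.R ≤ N[A] := c.R_le.trans (hC.trans n1)
  have w1 : c.H ⊓ N[c.T] ≤ coq A C[quo c.R A] := (quo_le_iff n1).1 ((quo_cents n1 hR).2
    (le_inf (comm_le_right (inf_le_right.trans c.NT_le_NR)) ((commutator_mono inf_le_left
      c.R_le_H).trans (M.comm_le_Lt.trans (pre_mono _ M.L_le)))))
  have w2 : N[c.T] ≤ N[coq A C[quo c.R A]] := norm_pre n2 (norm_C (quo_norm _ c.NT_le_NR))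
  have ρT := c.rot_ρ.mem_NT
  obtain ⟨r, hr, hr'⟩ := c.rot_of_swap (g := c.ρ * c.i * c.ρ⁻¹) (Or.inr (by
    calc _ = c.ρ * (c.i * (c.ρ⁻¹ * (c.ρ * (c.t * c.s) * c.ρ⁻¹) * c.ρ) * c.i⁻¹) * c.ρ⁻¹ := by
          rw [c.rot_ρ.ts]; group
      _ = c.ρ * (c.i * (c.t * c.s) * c.i⁻¹) * c.ρ⁻¹ := by group
      _ = _ := by rw [c.i_ts, c.rot_ρ.2]))
    (mul_mem (mul_mem ρT c.i_mem_NT) (inv_mem ρT)) (conj_mem (w2 ρT) (w1 hi)) (w1 hi)
  have w3 := (quo_cents n2 hR).1 ((quo_le_iff n2).2 (c.NT_le (hC.trans w1) (w1 hi) hr' hr))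
  intro y hy
  have hT : c.T ≤ pre M.κ M.L0 := fun v hv =>
    mem_pre.2 ⟨c.S_le_H (c.T_le_S hv), M.S_in v (c.T_le_S hv)⟩
  have h1 := c.CT_le_H (conj_mem (c.NT_le_NCT ρT) hy)
  rw [← ap_inv _ (c.CT_le_H hy), ← ap_mul _ h1 (inv_mem (c.CT_le_H hy))]
  obtain ⟨a, ha, v, hv, rfl⟩ := (mem_sup_of_norm (hC.trans inf_le_right |>.trans' c.T_le_CT |>.trans
    c.NT_le_NR)).1 (c.CT_dp.isProd.sup_eq ▸ hy)
  have := (pre M.κ M.L0).mul_mem (w3 (commutator_mem_commutator ρT ha)).2 (M.L0t_nml.conj_mem (c.R_le_H ha)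
    (hT (mul_mem (conj_mem ρT hv) (inv_mem hv))))
  refine (mem_pre.1 (?_ : _ ∈ pre M.κ M.L0)).2
  convert this using 1
  rw [commutatorElement_def]; group

theorem Comp.eq_res {L₁ : Subgroup G} (h : M.Comp L₁) : L₁ = res M.Lt :=
  le_antisymm (le_res h.le_Lt (h.perfect M hq)) (by
    have h1 : M.Lt ≤ N[L₁] := M.Lt_nml.le.trans h.nml.norm
    rw [← quo_eq_bot ((res_le _).trans h1), quo_res h1, ← h.sup,
      quo_sup_left (c.U_le_H.trans h.nml.norm)]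
    exact res_eq_bot (sol_of_odd (odd_quo c.odd_U _)))

theorem Comp.D_img {L₁ : Subgroup G} (h : M.Comp L₁) : img M.κ (L₁ ⊓ c.R) = M.Dh := by
  refine le_antisymm ((img_inf_le _ _ _).trans ?_) fun d hd => ?_
  · rw [h.img_eq, M.img_R, ← M.Rh_inf, inf_comm]; exact inf_le_inf_left _ M.L_le
  · obtain ⟨r, hr, rfl⟩ := (mem_img_of_le c.R_le_H).1 (M.img_R ▸ M.Dh_le_Rh hd)
    obtain ⟨l, hl, u, hu, rfl⟩ := h.split M hr (M.L_le (M.Dh_le_L hd))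
    rw [ap_mul _ (c.R_le_H hl.2) (c.R_le_H hu.2), M.κ_U hu.1, mul_one]
    exact ap_mem_img _ hl (c.R_le_H hl.2)

theorem Comp.D_cyc {L₁ : Subgroup G} (h : M.Comp L₁) : Cyc (L₁ ⊓ c.R) :=
  cyc_of_img (inf_le_right.trans c.R_le_H) (h.D_ker M)
    (h.D_img M hq ▸ M.Th_cyc.of_le M.Dh_le_Th)

theorem Comp.D_inv {L₁ : Subgroup G} (h : M.Comp L₁) : Inv c.i (L₁ ⊓ c.R) := fun d hd => by
  have h1 : c.i * d * c.i⁻¹ ∈ L₁ ⊓ c.R :=
    ⟨h.nml.conj_mem c.i_mem_H hd.1, conj_mem (c.NT_le_NR c.i_mem_NT) hd.2⟩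
  have hH := c.R_le_H hd.2
  refine eq_inv_of_mul_eq_one_left (mem_bot.1 (h.D_ker M ▸ ⟨mem_pre_bot.2
    ⟨c.R_le_H (mul_mem h1 hd).2, ?_⟩, mul_mem h1 hd⟩))
  rw [ap_mul _ (c.R_le_H h1.2) hH, ap_conj _ c.i_mem_H hH, mul_eq_one_iff_eq_inv]
  exact M.σ_inv _ (M.Dh_le_Th (h.D_img M hq ▸ ap_mem_img _ hd hH))

theorem Comp.D_comm {L₁ : Subgroup G} (h : M.Comp L₁) : ⁅c.R, zpowers c.i⁆ = L₁ ⊓ c.R :=
  le_antisymm (le_inf ((comm_mono_right (zpowers_le.2 (h.Q_le c.i_mem_Q))).trans (comm_le_right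
    (c.R_le_H.trans h.nml.norm))) (comm_le_left (zpowers_le.2 (c.NT_le_NR c.i_mem_NT))))
    (((h.D_inv M hq).comm_eq (odd_of_le c.odd_R inf_le_right)).ge.trans
      (comm_mono_left inf_le_right))

theorem Comp.R_inf {L₁ : Subgroup G} (h : M.Comp L₁) :
    c.R ⊓ pre M.κ M.L0 = (L₁ ⊓ c.R) ⊔ (c.U ⊓ c.R) ∧
      c.R ⊓ pre M.κ M.L0 = c.R ⊓ C[L₁ ⊓ c.R] := by
  have h1 : c.R ⊓ pre M.κ M.L0 = (L₁ ⊓ c.R) ⊔ (c.U ⊓ c.R) := by
    refine le_antisymm (fun r hr => ?_) (le_inf (sup_le inf_le_right inf_le_right)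
      ((sup_le_sup inf_le_left inf_le_left).trans (h.sup.le.trans (pre_mono _ M.L_le))))
    obtain ⟨l, hl, u, hu, rfl⟩ := h.split M hr.1 (mem_pre.1 hr.2).2
    exact mul_mem (mem_sup_left hl) (mem_sup_right hu)
  refine ⟨h1, le_antisymm (le_inf inf_le_left (h1.le.trans (sup_le (h.D_cyc M hq).abl.le_C
    (inf_le_left.trans ((cents_symm h.cent).trans (C_anti inf_le_left)))))) fun r hr =>
      ⟨hr.1, mem_pre.2 ⟨c.R_le_H hr.1, M.L_le (M.Dh_le_L (M.fld_eq hq ▸ ⟨M.img_R ▸ ap_mem_img _ hr.1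
        (c.R_le_H hr.1), h.D_img M hq ▸ ap_mem_C _ hr.2 (c.R_le_H hr.1)⟩))⟩⟩⟩

theorem Comp.card_D {L₁ : Subgroup G} (h : M.Comp L₁) : 2 * ♯(L₁ ⊓ c.R : Subgroup G) = M.N.m := by
  rw [← card_img_of_inf M.κ (inf_le_right.trans c.R_le_H) (h.D_ker M), h.D_img M hq, M.card_Dh]

theorem Comp.exists_y {L₁ : Subgroup G} (h : M.Comp L₁) : ∃ y ∈ c.CT, ∀ j : ℕ, ¬ M.N.m ∣ j →
    c.t ∈ zpowers (y ^ j) ∨ ∃ d ∈ zpowers (y ^ j) ⊓ (L₁ ⊓ c.R), (orderOf d).Prime := by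
  obtain ⟨d, hd, e⟩ := (h.D_cyc M hq).exists_gen
  have hm := h.card_D M hq
  rw [← e, card_zpowers'] at hm
  have ho := (c.mem_R.1 hd.2).2
  have hc : Commute c.t d := (mem_C1.1 (c.R_le_H hd.2)).symm
  have t2 : c.t ^ 2 = 1 := by rw [sq, sq_of c.four.ht]
  refine ⟨c.t * d, mul_mem (c.T_le_CT Four.t_mem) (c.R_le hd.2), fun j hj => ?_⟩
  rw [hc.mul_pow]
  rcases Nat.even_or_odd j with h2 | h2
  · rw [show c.t ^ j = 1 by obtain ⟨k, rfl⟩ := h2.two_dvd; rw [pow_mul, t2, one_pow], one_mul]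
    have h1 : zpowers (d ^ j) ≠ ⊥ := zpowers_ne_bot.2 fun e1 => hj (hm ▸
      (Nat.coprime_two_left.2 ho).mul_dvd_of_dvd_of_dvd h2.two_dvd (orderOf_dvd_of_pow_eq_one e1))
    obtain ⟨p, hp, hp'⟩ := exists_prime_dvd_card h1
    obtain ⟨x, hx, hx'⟩ := exists_orderOf_eq hp hp'
    exact Or.inr ⟨x, ⟨hx, zpowers_le.2 (pow_mem hd j) hx⟩, hx' ▸ hp⟩
  · refine Or.inl ⟨(orderOf d : ℕ), ?_⟩
    simp only [zpow_natCast]
    rw [(hc.pow_pow j j).mul_pow, ← pow_mul d, mul_comm j, pow_mul, pow_orderOf_eq_one, one_pow,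
      mul_one, ← pow_mul]
    obtain ⟨k, hk⟩ := h2.mul ho
    rw [hk, pow_succ, pow_mul, t2, one_pow, one_mul]
end Mod

end H2.QD
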