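import Mathlib
import Cfsg.Agent.H2.QDefs3
import Cfsg.Agent.H2.QB3
import Cfsg.Agent.H27.QDa

/-! The component of a subgroup with dihedral Sylow 2-subgroups. -/

set_option autoImplicit false

namespace H2.QD

open H24 H26 Cfsg Subgroup
open H13.Dih (Four V4 Inv CD UU PP FC QS HII res)

universe u

variable {G : Type u} [Group G] [Finite G]

open H13.Dih H27.QDL in
theorem QC.qs_up (c : QC G) {L E : Subgroup G} (hEL : E ≤ L) (h : QS (E.subgroupOf L)) : QS E := by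
  have k : ∀ x : L, orderOf (x : G) = orderOf x := Subgroup.orderOf_coe
  refine ⟨?_, fun Y hY => ?_, odd_of_forall fun z hz h2 => ?_, fun v hv w hw h1 h2 => ?_,
    fun v hv h1 => ?_, ?_⟩
  · rw [← map_subgroupOf' hEL, ← map_commutator, h.perfect]
  · have hYL := hY.le.trans hEL
    rcases h.nml (Y.subgroupOf L) ⟨subgroupOf_mono _ hY.le, le_N_iff.2 fun a ha x hx =>
      mem_subgroupOf.2 (hY.conj_mem ha hx)⟩ with e | e
    · rw [C_sub hEL] at e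
      exact Or.inl fun x hx => e (x := ⟨x, hYL hx⟩) hx
    · exact Or.inr (by rw [← map_subgroupOf' hYL, e, map_subgroupOf' hEL])
  · obtain ⟨v, hv, h1⟩ := h.exInv
    obtain ⟨w, hw, hf⟩ := h.four' hv h1
    obtain ⟨g, e1, e2⟩ := c.exists_four (four_sub.1 hf)
    have h3 : zpowers z ≤ (c.cj g).T := (c.cj g).le_T (isPi_zp h2) (zpowers_le.2 ⟨by
      rw [c.cj_t, e1]; exact C_le_C1 (mem_subgroupOf.1 hv) hz, by
      rw [c.cj_s, e2]; exact C_le_C1 (mem_subgroupOf.1 hw) hz⟩)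
    have h4 : (c.cj g).T ≤ E := Four.V_le.2 ⟨by rw [c.cj_t, e1]; exact hv, by
      rw [c.cj_s, e2]; exact hw⟩
    refine not_mem_of_odd h.oddC (t := ⟨z, hEL (h4 (h3 (mem_zpowers z)))⟩) ((k _).symm.trans h2) ?_
    rw [C_sub hEL]
    exact hz
  · obtain ⟨e, he, h3⟩ := h.conj ⟨v, hEL hv⟩ hv ⟨w, hEL hw⟩ hw ((k _).symm.trans h1)
      ((k _).symm.trans h2)
    exact ⟨e, he, congrArg Subtype.val h3⟩
  · obtain ⟨w, hw, hf⟩ := h.four' (t := ⟨v, hEL hv⟩) hv ((k _).symm.trans h1)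
    have := four_sub.1 hf
    exact ⟨w, hw, this.hs, this.ne, this.comm⟩
  · obtain ⟨v, hv, h1⟩ := h.exInv
    exact ⟨v, hv, (k v).trans h1⟩

open H13.Dih H27.QDL in
theorem exists_DE (c : QC G) {L X : Subgroup G} (hL : CD L) (hs : ¬ Sol L)
    (ht : c.t ∈ res L ∨ c.i ∈ L) (hc : c.t ∈ C[𝒪[L]]) (hX : X ≤ F[c.U]) (hN : F[c.U] ⊓ N[X] ≤ L)
    (hF : ¬ F[c.U] ≤ C{c.s}) : ∃ A, DE c L (res L) A := by
  have k : ∀ x : L, orderOf (x : G) = orderOf x := Subgroup.orderOf_coe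
  have hEL := res_le L
  have hEn := res_nml L
  have htL : c.t ∈ L := ht.elim (fun e => hEL e) fun e => c.i_sq ▸ mul_mem e e
  have hs' : ¬ Sol (⊤ : Subgroup L) := fun e => hs (map_subtype_top L ▸ e.map L.subtype)
  have hO : 𝒪[(⊤ : Subgroup L)] = 𝒪[L].subgroupOf L := by
    rw [← pcore_subgroupOf _ le_rfl, subgroupOf_self]
  obtain ⟨t, rfl'⟩ : ∃ t : L, (t : G) = c.t := ⟨⟨_, htL⟩, rfl⟩
  have t2 : orderOf t = 2 := (k t).symm.trans (rfl' ▸ c.four.ht)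
  have kC : ∀ x : L, x ∈ C{t} ↔ (x : G) ∈ c.H := fun x => by
    rw [QC.H, ← rfl', mem_C1, mem_C1, Subtype.ext_iff]; rfl
  obtain ⟨h1, hE'⟩ := comp0 hL hs' t2 (mem_top t) (by
    rw [hO, C_sub (pcore_le _ _), mem_subgroupOf, rfl']; exact hc)
  have hgw := H1.QP.gw_res hL hs'
  rw [← res_sub] at h1 hE' hgw
  rw [hO, C_sub (pcore_le _ _)] at h1
  generalize hdef : res L = E at hEL hEn h1 hE' hgw ht ⊢
  have hE := c.qs_up hEL hE'
  have hFH : F[c.U] ⊴ c.H := FU_nml c.t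
  have hFo : Odd ♯F[c.U] := FU_odd c.t
  rcases hgw with h2 | h2
  swap
  · have K := ka7_of hL hE' h2
    obtain ⟨v, -, h3, h4, h5, H⟩ := K.four t (K.inner t (norm_sub hEn t) t2) t2
    have hf : Four c.t v := rfl' ▸ four_sub.1 ⟨t2, h3, h4, h5⟩
    obtain ⟨g, hg, e⟩ := c.invol_H hf.s_mem_C hf.hs hf.ne
    refine absurd (mem_C_iff_le_C1.1 (e ▸ conj_mem (N_le_NC _ (hFH.norm hg)) (zpowers_le.1
      (cent_of_cent_norm (Fitting_nil _) (zpowers_le.2 (hFH.norm hf.s_mem_C))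
        (cop_zp hFo hf.hs) hX ?_)))) hF
    rw [C_zpowers]
    refine fun y hy => mem_C1.2 (congrArg Subtype.val (H ⟨y, hN hy⟩ (norm_sub hEn _)
      (by rw [← k]; exact odd_orderOf hFo hy.1) (Or.inl (mem_C1.1 ?_))).2)
    exact (kC _).2 (hFH.le hy.1)
  obtain ⟨m, m', T, K⟩ := exists_kl2 hL hE' h2
  have tN := norm_sub hEn t
  have hcomm : ⁅L, L⁆ ≤ E ⊔ C[E] := commutator_le.2 fun a ha b hb => by
    have := sup_val hEL (K.comm (commutator_mem_commutator (norm_sub hEn ⟨a, ha⟩)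
      (norm_sub hEn ⟨b, hb⟩)))
    rwa [map_subgroupOf' hEL] at this
  have htE : c.t ∈ E := ht.elim id fun e => by
    obtain ⟨v, hv, h3⟩ := hE.exInv
    obtain ⟨w, hw, hf⟩ := hE.four' hv h3
    exact hE.mem_of_two (hcomm (c.i_sq ▸ sq_mem_comm hL e (c.S_pi.piElt (c.Q_le_S c.i_mem_Q))
      (c.i_sq ▸ ne_one_of c.four.ht) hf ((Four.V_le.2 ⟨hv, hw⟩).trans hEL))) (pi_two c.four.ht)
  have tE : t ∈ E.subgroupOf L := mem_subgroupOf.2 (rfl' ▸ htE)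
  have hA : (T t).map L.subtype ≤ E ⊓ C{c.t} := by
    rintro _ ⟨a, ha, rfl⟩
    have := K.T_le t tN t2 ha
    exact ⟨this.1, (kC _).1 this.2⟩
  refine ⟨(T t).map L.subtype, hdef.symm, hE, le_antisymm (le_O (odd_of_le hE.oddC inf_le_right)
    hEn.infC) (le_inf (pcore_le _ _) (cents_symm fun x hx => h1 (x := ⟨x, hEL hx⟩) hx)), hA,
    ⟨t, K.T_mem t tE t2, rfl'⟩, (K.T_cyc t tN t2).map _, ?_, fun w hw hf => ?_,
    fun y hy ho => ?_, fun y hy => ?_, hcomm, fun H => ?_⟩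
  · rw [eq_bot_iff]
    rintro _ ⟨⟨a, ha, rfl⟩, h3⟩
    have : a ∈ T t ⊓ C[E.subgroupOf L] := ⟨ha, by rw [C_sub hEL]; exact h3⟩
    rw [K.T_inf t tN t2, mem_bot] at this
    rw [this, map_one]
    exact one_mem _
  · exact (K.inv' (s := ⟨w, hw⟩) (four_sub.2 (rfl'.symm ▸ hf)) tN (norm_sub hEn _)).map L.subtype
  · obtain ⟨e, he, z, hz, rfl⟩ := (mem_sup_of_norm (C_le_N E)).1 hy.1
    have h3 : e ∈ C{c.t} := (mul_mem_cancel_right (C_le_C1 htE hz)).1 hy.2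
    have h4 := sup_val hEL (K.sq_mem (y := ⟨e, hEL he⟩) tN t2 ⟨he, (kC ⟨e, hEL he⟩).2 h3⟩)
    refine zpowers_le.2 (?_ : e * z * (e * z) ∈ _) (mem_zpowers_sq ho)
    rw [mul_assoc, ← mul_assoc z, mem_C'.1 hz e he, mul_assoc, ← mul_assoc]
    exact mul_mem h4 (mem_sup_right (mul_mem hz hz))
  · have h3 : F[c.U].subgroupOf L ⊴ C{t} := ⟨fun x hx => (kC _).2 (hFH.le hx),
      le_N_iff.2 fun a ha x hx => mem_subgroupOf.2 (hFH.conj_mem ((kC _).1 ha) hx)⟩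
    have h4 := le_O (isPi_odd.1 (isPi_subgroupOf (isPi_odd.2 hFo) L)) h3
    exact sup_val hEL (K.F_le tE t2 (x := ⟨y, hy.2⟩) ⟨Fitting_max (h3.of_le h4 (pcore_le _ _))
      ((Fitting_nil _).subgroupOf L) hy.1, norm_sub hEn _⟩)
  · have h3 := schur0 hE' h2 fun P hP hp => by
      rw [← card_map_of_injective L.subtype_injective]
      exact H _ (map_le_iff_le_comap.2 hP) (hp.map _)
    rw [C_sub hEL] at h3
    refine eq_bot_iff.2 fun x hx => ?_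
    have : (⟨x, hEL hx.1⟩ : L) ∈ E.subgroupOf L ⊓ C[E].subgroupOf L := hx
    rw [h3, mem_bot] at this
    exact congrArg Subtype.val this

open H13.Dih H27.QDL in
theorem DE.two {c : QC G} (M : Mod c) (hq : 5 ≤ M.N.q) {L E A : Subgroup G} (h : DE c L E A)
    (hL : CD L) (h1 : c.CT ≤ L) (h2 : c.i ∈ L) : ⁅c.R, zpowers c.i⁆ ≤ C[E] ∧ c.T ≤ E ∧ C[E] ≤ c.R ∧
      (∃ r ∈ E, c.Rot r) ∧ E ⊓ C[E] = ⊥ ∧ ∀ y ∈ A, Odd (orderOf y) → y ∈ c.U := by
  have hEn : E ⊴ L := h.eq ▸ res_nml L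
  have hAE := h.A_le.trans inf_le_left
  have htE := hAE h.t_mem
  have hsL : c.s ∈ L := h1 (c.T_le_CT Four.s_mem)
  have hsH : c.s ∈ c.H := c.four.s_mem_C
  have hinv := h.inv _ hsL c.four
  have hD : ⁅c.R, zpowers c.i⁆ ≤ C[E] := fun r hr => by
    have hR := comm_le_left (zpowers_le.2 (c.NT_le_NR c.i_mem_NT)) hr
    have ho := odd_orderOf c.odd_R hR
    obtain ⟨a, ha, z, hz, rfl⟩ := (mem_sup_of_norm (norm_of_cent (C_anti hAE))).1 (h.odd r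
      ⟨h.comm (commutator_mono (c.R_le.trans h1) (zpowers_le.2 h2) hr), c.R_le_H hR⟩ ho)
    have h3 := mem_C1_iff_conj.1 (mem_C1_comm.1 (c.R_le hR).2)
    rw [← conj_mul, hinv a ha, inv_mul_eq_iff_eq_mul, ← mul_assoc] at h3
    have h4 : a * a ∈ C[E] := (mul_mem_cancel_right hz).1
      (h3 ▸ conj_mem (N_le_NC E (hEn.norm hsL)) hz)
    refine zpowers_le.2 (?_ : a * z * (a * z) ∈ _) (mem_zpowers_sq ho)
    rw [mul_assoc, ← mul_assoc z, mem_C'.1 hz a (hAE ha), mul_assoc, ← mul_assoc]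
    exact mul_mem h4 (mul_mem hz hz)
  have hTh : ∀ x ∈ E, x ∈ c.H → ap M.κ x ∈ M.Th := fun x hx hH => by
    rw [← M.C_Dh hq, ← M.img_comm_i hq]
    exact ap_mem_C _ (cents_symm hD hx) hH
  obtain ⟨P, hP, hSP⟩ := Sylow_superset Nat.prime_two (c.S_pi.inf_left L) inf_le_right
  have hPH : P ≤ c.H := by
    have := le_C_sq hL hP.pi hP.le (hSP ⟨c.Q_le_S c.i_mem_Q, h2⟩) (c.i_sq ▸ c.four.ht)
    rwa [c.i_sq] at this
  have hsP : c.s ∈ P := hSP ⟨c.s_mem_S, hsL⟩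
  have hPE := hP.inf_nml hEn
  have hPT : P ⊓ E ≤ c.T := fun x hx => by
    have hH := hPH hx.1
    have h3 := M.pg_two (M.pg_Th ▸ hTh x hx.2 hH) ((hP.pi.piElt hx.1).ap _ hH)
    rcases (mem_zpowers_of_sq (sq_of M.four_eσ.ht)).1 h3 with e | e
    · rcases M.b2_two hH e (hP.pi.piElt hx.1) with rfl | rfl
      exacts [one_mem _, Four.t_mem]
    · rcases M.b2_two (mul_mem hH hsH) (by rw [ap_mul _ hH hsH, e]; exact sq_of M.four_eσ.ht)
        (hP.pi.piElt (mul_mem hx.1 hsP)) with e' | e'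
      · exact (mul_mem_cancel_right Four.s_mem).1 (e' ▸ one_mem _)
      · exact (mul_mem_cancel_right Four.s_mem).1 (e' ▸ Four.t_mem)
  have hT4 : ♯c.T = 4 := c.four.V_card
  obtain ⟨w, hw, hf⟩ := h.qs.four' htE c.four.ht
  have hPT' : P ⊓ E = c.T := eq_of_card_ge hPT (by
    rw [hT4, ← hf.V_card]
    exact Nat.le_of_dvd Nat.card_pos (hPE.card_dvd hf.V_pi (Four.V_le.2 ⟨htE, hw⟩)))
  rw [hPT'] at hPE
  have hTE := hPE.le
  refine ⟨hD, hTE, c.le_R h.qs.oddC ((C_anti hTE).trans c.C_T.le), ?_,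
    h.schur fun Q hQ hp => Nat.le_of_dvd four_pos (hT4 ▸ hPE.card_dvd hp hQ), fun y hy ho => ?_⟩
  · obtain ⟨e, he, e1⟩ := h.qs.conj _ htE _ (hTE Four.s_mem) c.four.ht c.four.hs
    have h3 := hPE.cj_mem he
    obtain ⟨z, hz, e2⟩ := Sylow_trans Nat.prime_two
      (h3.of_le (le_inf h3.le (by rw [← e1, ← cj_C1]; exact cj_mono e c.four.V_le_C)) inf_le_left)
      (hPE.of_le (le_inf hTE c.four.V_le_C') inf_le_left)
    have hg : z * e ∈ N[c.T] := mem_N_iff_cj.2 (by rw [cj_mul, ← e2])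
    have hgE := mul_mem hz.1 he
    have e3 : z * e * c.t * (z * e)⁻¹ = c.s := by
      rw [← mem_C1_iff_conj.1 hz.2, ← e1]; group
    generalize z * e = g at hg hgE e3
    rcases c.conj_T hg Four.s_mem (ne_one_of c.ord_s) with e4 | e4 | e4
    · refine ⟨c.i * g * c.i⁻¹ * g, mul_mem (hEn.conj_mem h2 hgE) hgE, ?_, ?_⟩
      · calc _ = c.i * (g * (c.i⁻¹ * (g * c.t * g⁻¹) * c.i) * g⁻¹) * c.i⁻¹ := by group
          _ = c.i * (g * c.t * g⁻¹ * (g * c.s * g⁻¹)) * c.i⁻¹ := by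
            nth_rewrite 1 [e3, ← c.i_ts]; group
          _ = _ := by rw [e3, e4, c.four.comm, c.i_ts]
      · calc _ = c.i * (g * (c.i⁻¹ * (g * c.s * g⁻¹) * c.i) * g⁻¹) * c.i⁻¹ := by group
          _ = c.i * (g * c.t * g⁻¹) * c.i⁻¹ := by
            rw [e4]; nth_rewrite 1 [← c.i_t]; group
          _ = _ := by rw [e3, c.i_s]
    · rw [← e3] at e4
      nth_rewrite 1 [e3] at e4
      exact absurd (by simpa using e4) c.four.ne
    · exact ⟨g, hgE, e3, e4⟩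
  · have hH : y ∈ c.H := (h.A_le hy).2
    refine M.mem_U hH ((inv_zpowers ?_).eq_one (mem_zpowers _) (ho.of_dvd_nat (orderOf_ap_dvd _ hH))
      (M.pg_Th_C (hTh y (hAE hy) hH))) ho
    rw [Mod.e, ← ap_conj _ hsH hH, hinv y hy, ap_inv _ hH]

end H2.QD
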