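import Mathlib
import Cfsg.Agent.H2.QB2
import Cfsg.Agent.H8.QN1

/-! Quadratic action gives natural modules (quasi-dihedral case). -/

set_option autoImplicit false
set_option linter.unusedVariables false

namespace H2.QD

open H24 H26 Cfsg Subgroup
open H13.Dih (Four V4 Inv CD UU PP FC res)
open H13.Dih (sq_of odd_of_pi odd_orderOf eq_one_of_odd_of_sq inv_of_inf_C quo_C1 cs_mem_N cs_sq
  cs_conj)
open scoped MatrixGroups commutatorElement IsMulCommutative

universe u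

variable {G : Type u} [Group G] [Finite G]

theorem Mod.nat_surj {c : QC G} (M : Mod c) {J : Subgroup G} (hJ : M.Cov J) :
    Function.Surjective (M.lam.comp (inclusion hJ.le)) := fun g => by
  obtain ⟨z, rfl⟩ := M.lam_surj g
  have h1 : (z : G) ∈ c.U ⊔ J := by
    have := M.b2_sup hJ.cov
    rw [inf_eq_left.2 hJ.le] at this
    rw [this]; exact z.2
  obtain ⟨o, ho, j, hj, e⟩ :=
    (mem_sup_of_norm (hJ.le.trans (M.Lt_nml.le.trans c.U_nml.norm))).1 h1
  refine ⟨⟨j, hj⟩, ?_⟩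
  rw [show z = ⟨o, M.U_le_Lt ho⟩ * ⟨j, hJ.le hj⟩ from Subtype.ext e, map_mul,
    (M.lam_ker _).2 ho, one_mul]
  rfl

theorem Mod.natSec {c : QC G} (M : Mod c) (hq : 5 ≤ M.N.q) {J B B₀ : Subgroup G} (hJ : M.Cov J)
    (hB : IsPi {M.N.p} B) (h0 : B₀ ≤ B) (hΦ : Phi B ≤ B₀) (h1 : J ≤ N[B]) (h2 : J ≤ N[B₀])
    (ht : B ⊓ C{c.t} ≤ B₀) (hU : ⁅B, J ⊓ c.U⁆ ≤ B₀) {X : Subgroup M.Γ} (hX : M.Root X)
    (hquad : ∀ x ∈ J, PiElt {M.N.p} x → ap M.κ x ∈ X → ⁅⁅B, zpowers x⁆, zpowers x⁆ ≤ B₀) :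
    M.NatSec J B B₀ := by
  have hp := M.N.hp
  have hJH : J ≤ c.H := hJ.le.trans M.Lt_nml.le
  have hd := (hB.der1_le_Phi hp).trans hΦ
  have hBN : B ≤ N[B₀] := norm_of_der1_le hd h0
  have hA : Abl (quo B B₀) := (abl_quo hBN).2 hd
  have hBo := odd_of_pi M.N.p_ne hB
  have hQo : Odd ♯(quo B B₀) := odd_quo hBo _
  obtain ⟨ρ0, hρ0⟩ := H13.Dih.exists_rho (W := quo B B₀)
  let σ : J →* N[quo B B₀] := ((coset B₀).comp (inclusion h2)).codRestrict _ fun j => by
    have := cs_mem_N (h1 j.2) (h2 j.2)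
    rwa [cs, ap_of_mem _ (h2 j.2)] at this
  have hσ : ∀ j : J, (σ j : QN B₀) = cs B₀ j := fun j => (ap_of_mem (coset B₀) (h2 j.2)).symm
  let π : B →* quo B B₀ := ((coset B₀).comp (inclusion hBN)).codRestrict _ fun b => by
    have := cs_mem_quo b.2 (hBN b.2)
    rwa [cs, ap_of_mem _ (hBN b.2)] at this
  have hπ : ∀ b : B, (π b : QN B₀) = cs B₀ b := fun b => (ap_of_mem (coset B₀) (hBN b.2)).symm
  have π_surj : ∀ v : Additive (quo B B₀), ∃ b : B, Additive.ofMul (π b) = v := fun v => by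
    obtain ⟨b, hb, -, e⟩ := mem_quo.1 v.toMul.2
    exact ⟨⟨b, hb⟩, congrArg Additive.ofMul (Subtype.ext ((hπ _).trans e))⟩
  have π_ker : ∀ b : B, Additive.ofMul (π b) = 0 ↔ (b : G) ∈ B₀ := fun b => by
    rw [ofMul_eq_zero, Subtype.ext_iff, hπ]; exact cs_eq_one (hBN b.2)
  have act : ∀ (j : J) (b : B), ρ0 (σ j) (Additive.ofMul (π b)) =
      Additive.ofMul (π ⟨j * b * (j : G)⁻¹, conj_mem (h1 j.2) b.2⟩) := fun j b => by
    apply Additive.toMul.injective
    apply Subtype.ext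
    rw [hρ0, toMul_ofMul, toMul_ofMul, hσ, hπ, hπ, cs_conj (h2 j.2) (hBN b.2)]
  have act' : ∀ (j : J) (b : B), (ρ0 (σ j) - 1) (Additive.ofMul (π b)) = Additive.ofMul
      (π ⟨⁅(j : G), (b : G)⁆, mul_mem (conj_mem (h1 j.2) b.2) (inv_mem b.2)⟩) := fun j b => by
    rw [LinearMap.sub_apply, act, Module.End.one_apply, ← ofMul_div, div_eq_mul_inv, ← map_inv,
      ← map_mul]
    rfl
  let f := M.lam.comp (inclusion hJ.le)
  have hf : Function.Surjective f := M.nat_surj hJ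
  have fap : ∀ j : J, f j = ap M.lam j := fun j => (ap_of_mem _ (hJ.le j.2)).symm
  have key : ∀ j j' : J, f j = f j' → ρ0 (σ j) = ρ0 (σ j') := fun j j' e => by
    have h3 : ρ0 (σ (j⁻¹ * j')) - 1 = 0 := LinearMap.ext fun v => by
      obtain ⟨b, rfl⟩ := π_surj v
      rw [act', LinearMap.zero_apply, π_ker]
      have h4 : ((j⁻¹ * j' : J) : G) ∈ c.U := (M.lam_ker (inclusion hJ.le (j⁻¹ * j'))).1 (by
        show f (j⁻¹ * j') = 1
        rw [map_mul, map_inv, e, inv_mul_cancel])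
      rw [commC] at hU
      exact hU (commutator_mem_commutator (mem_inf.2 ⟨(j⁻¹ * j').2, h4⟩) b.2)
    rw [← mul_one (ρ0 (σ j)), ← sub_eq_zero.1 h3, ← map_mul, ← map_mul, mul_inv_cancel_left]
  let ρ : SL(2, M.F) →* Module.End ℤ (Additive (quo B B₀)) :=
    { toFun := fun g => ρ0 (σ (Function.surjInv hf g))
      map_one' := by
        rw [key _ 1 (by rw [Function.surjInv_eq hf, map_one]), map_one, map_one]
      map_mul' := fun a b => by
        rw [← map_mul, ← map_mul]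
        exact key _ _ (by simp only [map_mul, Function.surjInv_eq hf]) }
  have hρ : ∀ j : J, ρ (f j) = ρ0 (σ j) := fun j => key _ _ (Function.surjInv_eq hf _)
  have htJ : c.t ∈ J := hJ.Q_le c.t_mem_Q
  have quad : ∀ g : SL(2, M.F), g ^ M.N.p = 1 → (ρ g - 1) * (ρ g - 1) = 0 := fun g hg => by
    obtain ⟨j0, e0⟩ := hf g
    have e1 : f (constt {M.N.p} j0) = g := by
      rw [constt_map, e0, constt_eq_self (piElt_of_pow_eq_one (piNat_self hp) hg)]
    have e2 : PiElt {M.N.p} ((constt {M.N.p} j0 : J) : G) := (piElt_constt _ j0).map J.subtype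
    generalize constt {M.N.p} j0 = j at e1 e2
    obtain ⟨Y, hY, h3⟩ := M.le_root (e2.ap M.κ (hJH j.2)).isPi
      (zpowers_le.2 (M.L_le (M.mem_Lt.1 (hJ.le j.2)).2))
    obtain ⟨γ, hγ, rfl⟩ := hX.trans hY
    obtain ⟨k, hk, hkH, rfl⟩ := mem_img.1 (hJ.cov hγ)
    have h4 := cj_mono k (hquad (k⁻¹ * j * k) (mul_mem (mul_mem (inv_mem hk) j.2) hk)
      (by simpa using e2.conj k⁻¹) (by
        rw [ap_mul _ (mul_mem (inv_mem hkH) (hJH j.2)) hkH, ap_mul _ (inv_mem hkH) (hJH j.2),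
          ap_inv _ hkH]
        exact mem_cj.1 (h3 (mem_zpowers _))))
    rw [cj_comm, cj_comm, cj_zpowers, cj_of_mem_N (h1 hk), cj_of_mem_N (h2 hk),
      show k * (k⁻¹ * j * k) * k⁻¹ = j by group] at h4
    refine LinearMap.ext fun v => ?_
    obtain ⟨b, rfl⟩ := π_surj v
    rw [← e1, hρ, Module.End.mul_apply, act', act', LinearMap.zero_apply, π_ker]
    rw [commC, commC B] at h4
    exact h4 (commutator_mem_commutator (mem_zpowers _)
      (commutator_mem_commutator (mem_zpowers _) b.2))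
  have hc : (M.N.p : M.F) = 0 := by rw [← M.char_eq]; exact ringChar.Nat.cast_ringChar
  obtain ⟨W, _, _, φ, hφ, H⟩ := H8.QN.natural (fun v hv => by
      have := eq_one_of_odd_of_sq (odd_orderOf hQo v.toMul.2)
        (congrArg (fun w : Additive (quo B B₀) => (w.toMul : QN B₀)) hv)
      exact Additive.toMul.injective (Subtype.ext this)) ρ (by
      have hN := h2 htJ
      have h3 : Inv (cs B₀ c.t) (quo B B₀) := inv_of_inf_C hQo (cs_sq hN (sq_of c.four.ht))
        (cs_mem_N (h1 htJ) hN) (by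
          rw [← quo_C1 (odd_of_le hBo h0) c.four.ht hN h0]; exact quo_eq_bot_of_le ht)
      rw [← M.lam_t, ← fap ⟨_, htJ⟩, hρ]
      refine LinearMap.ext fun v => Additive.toMul.injective (Subtype.ext ?_)
      rw [hρ0, hσ]
      exact h3 _ v.toMul.2)
    (fun a => quad _ (by rw [H8.QN.xx_pow, hc, zero_mul, H8.QN.xx_zero]))
    (fun a => quad _ (by rw [H8.QN.yy_pow, hc, zero_mul, H8.QN.yy_zero]))
  let ψ : B →* Multiplicative (Fin 2 → W) :=
    { toFun := fun b => Multiplicative.ofAdd (φ (Additive.ofMul (π b)))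
      map_one' := by simp
      map_mul' := fun a b => by simp }
  refine ⟨W, inferInstance, inferInstance, ψ, fun w => ?_, fun b => ?_, fun j hj b hb k => ?_⟩
  · obtain ⟨v, e⟩ := hφ.2 w.toAdd
    obtain ⟨b, rfl⟩ := π_surj v
    exact ⟨b, congrArg Multiplicative.ofAdd e⟩
  · rw [← π_ker, ← map_eq_zero_iff φ hφ.1]; rfl
  · rw [ap_of_mem _ (conj_mem (h1 hj) hb), ap_of_mem _ hb, ← fap ⟨j, hj⟩]
    have := H (f ⟨j, hj⟩) (Additive.ofMul (π ⟨b, hb⟩)) k
    rw [hρ, act] at this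
    exact this

end H2.QD
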