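import Mathlib
import Cfsg.Agent.H2.QDefs2
import Cfsg.Agent.H2.QNat
import Cfsg.Agent.H2.QBud
import Cfsg.Agent.H8.QP1
import Cfsg.Agent.H8.QP2

/-! A degree bound excluding regular orbits of the torus on characters of `U`. -/

set_option autoImplicit false

namespace H2.QD

open H24 Cfsg Subgroup Finset H4
open H13.Dih (Four V4 Inv CD UU PP FC res)
open H5 (SIrr)
open scoped ComplexConjugate MatrixGroups

universe u

variable {G : Type u} [Group G]

/-- a character of `SL₂(F)` vanishing on all elements of even order -/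
theorem pdl {F : Type} [Field F] [Finite F] (h2 : (2 : F) ≠ 0) (hq : 5 ≤ Nat.card F) {n : ℕ}
    (hn : n + 1 = Nat.card F ∨ n = Nat.card F + 1) (h4 : 4 ∣ n) {θ : SL(2, F) → ℂ}
    (hθ : IsCharacter SL(2, F) θ) (h0 : ∀ g, ¬ Odd (orderOf g) → θ g = 0) {d : ℕ} (hd : θ 1 = d) :
    d = 0 ∨ 2 * n ≤ d := by
  classical
  have := Fintype.ofFinite F
  rw [Nat.card_eq_fintype_card] at hq hn
  exact H8.QP.pdl h2 hq hn h4 hθ h0 hd

theorem Mod.Comp.exists_iso [Finite G] {c : QC G} {M : Mod c} {L₁ : Subgroup G} (hL : M.Comp L₁) :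
    Nonempty (L₁ ≃* SL(2, M.F)) :=
  ⟨MulEquiv.ofBijective (M.lam.comp (inclusion hL.cov.le)) ⟨(injective_iff_map_eq_one _).2 fun x hx =>
    Subtype.ext (mem_bot.1 (hL.inf ▸ (⟨x.2, (M.lam_ker _).1 hx⟩ : (x : G) ∈ L₁ ⊓ c.U))),
    M.nat_surj hL.cov⟩⟩

theorem Mod.Bud.ne_one [Finite G] {c : QC G} {M : Mod c} {χ : G → ℂ} {f : ℕ} {δ : ℤ}
    (h : M.Bud χ f δ) : χ ≠ fun _ => 1 := fun e => by
  have h1 := h.val 1 (one_mem _) (by simp)
  have h2 : M.St 1 = M.N.ε * M.N.q := by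
    have := Fintype.ofFinite M.F
    rw [Mod.St, ap_one, @MulAction.fixedBy_one_eq_univ _ _ _ M.E.act, Nat.card_univ, M.hq,
      Nat.card_eq_fintype_card, Nat.card_eq_fintype_card]
    change _ * ((Fintype.card (Option M.F) : ℤ) - 1) = _
    simp
  simp only [e, h2] at h1
  have h3 : (1 : ℤ) = δ * (M.N.ε * M.N.q) := by exact_mod_cast h1
  have h4 := M.q_cases
  rcases h.hδ with rfl | rfl <;> rcases M.N.hε with e | e <;> rw [e] at h3 <;> omega

theorem MC.hiia [Finite G] {c : QC G} {M : Mod c} (h : MC M) {L₁ K₀ : Subgroup G} (hL : M.Comp L₁)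
    (hK : K₀ ≤ c.U) (hab : Abl K₀) (hne : K₀ ≠ ⊥) {y : G} (hy : y ∈ c.H) (hN : y ∈ N[K₀])
    (ho : ∀ j : ℕ, ¬ M.N.m ∣ j → K₀ ⊓ C{y ^ j} = ⊥) : False := by
  classical
  have := Fintype.ofFinite G
  have := h.simple
  obtain ⟨χ, f, δ, B⟩ := M.exists_bud
  obtain ⟨e⟩ := hL.exists_iso
  have hq := h.q5
  have hm := M.N.hm
  have hn := M.N.hn
  have key : M.N.m * (2 * M.N.n) ≤ f := by
    refine H8.QP.orbit_bound (K := K₀) (fun a b => Subtype.ext (hab.comm a.2 b.2)) B.irr.isCharacter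
      B.deg ?_ hN (fun j h0 hj k hk e => ?_) fun l hl h1 d hd => ?_
    · obtain ⟨k, hk, h1⟩ := (bot_or_exists_ne_one K₀).resolve_left hne
      exact ⟨k, hk, fun e => h1 (B.irr.eq_one_of_apply_eq_of_simple B.ne_one e)⟩
    · exact mem_bot.1 (ho j (Nat.not_dvd_of_pos_of_lt h0 hj) ▸
        (⟨hk, mem_C1_comm.1 (mem_C1_iff_conj.2 e)⟩ : k ∈ K₀ ⊓ C{y ^ j}))
    refine pdl M.h2 (M.hq ▸ hq) (by rw [← M.hq]; rcases M.N.hε with e | e <;> omega) M.four_dvd_n
      (H8.QP.part (L₁.subtype.comp e.symm.toMonoidHom) K₀.subtype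
        (fun x k => (mem_C'.1 (hL.cent (e.symm x).2) k (hK k.2))) B.irr.isCharacter hl.isCharacter)
      (fun g hg => ?_) (by simpa using hd)
    set x := e.symm g
    have hx : orderOf (x : G) = orderOf g := by rw [orderOf_coe, e.symm.orderOf_eq]
    have ht : c.t ∈ zpowers (x : G) := by
      obtain ⟨r, hr⟩ := Nat.not_odd_iff_even.1 hg
      have hpos : 0 < orderOf g := orderOf_pos g
      rcases M.invol_Lt (x := (x : G) ^ r) (pow_mem (hL.cov.le x.2) r)
        (by rw [← pow_add, ← hr, ← hx, pow_orderOf_eq_one]) with e | e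
      · have := Nat.le_of_dvd (by omega) (orderOf_dvd_of_pow_eq_one e); omega
      · exact e ▸ pow_mem (mem_zpowers _) r
    have : (fun k : K₀ => χ (x * k)) = χ x • fun _ => (1 : ℂ) :=
      funext fun k => by simpa using B.inv x ht k (hK k.2)
    change classInner (fun k : K₀ => χ (x * k)) l = 0
    rw [this, H4.classInner_smul_left, H4.isIrrCharacter_one.inner_of_ne hl h1.symm, mul_zero]
  have hle := B.le
  have : (M.N.m : ℤ) * M.N.n = M.N.q ^ 2 - 1 := by
    rw [hm, hn]; rcases M.N.hε with e | e <;> rw [e] <;> ring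
  zify at key hle hq
  nlinarith

end H2.QD
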