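import Mathlib
import Cfsg.Agent.H2.QCh1
import Cfsg.Agent.H2.QNum
import Cfsg.Agent.H2.QPin
import Cfsg.Agent.H2.QBud
import Cfsg.Agent.H24.QHe

/-! # QHIIb: a Sylow subgroup of `U` inverted by `s` is not a trivial intersection set -/

set_option autoImplicit false

namespace H24.QH

open H24 H4 Cfsg Subgroup Finset H2.QD
open H5 (SIrr)
open scoped ComplexConjugate

universe u

variable {G : Type u} [Group G] [Fintype G]

theorem norm_sub_sum {ι : Type*} [Fintype ι] {e : ι → G → ℂ} (he : ∀ i, SIrr (e i))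
    (h0 : Pairwise fun i j => classInner (e i) (e j) = 0) {Φ : G → ℂ}
    (hΦ : IsGeneralizedCharacter G Φ) {a : ι → ℤ} (ha : ∀ i, classInner Φ (e i) = a i) :
    classInner (Φ - ∑ i, a i • e i) (Φ - ∑ i, a i • e i) = classInner Φ Φ - (∑ i, a i ^ 2 : ℤ) := by
  have h1 : ∀ j, classInner (Φ - ∑ i, a i • e i) (e j) = 0 := fun j => by
    rw [classInner_sub_left, classInner_sum_left, sum_eq_single j
      (fun i _ h => by rw [classInner_zsmul_left, h0 h, mul_zero]) (by simp),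
      classInner_zsmul_left, (he j).norm, ha, mul_one, sub_self]
  generalize hR : Φ - ∑ i, a i • e i = R at h1
  have h2 : classInner R (Φ - ∑ i, a i • e i) = classInner R Φ := by
    simp only [classInner_sub_right, classInner_sum_right, classInner_zsmul_right, h1, mul_zero,
      sum_const_zero, sub_zero]
  nth_rw 2 [← hR]
  rw [h2, ← hR, classInner_sub_left, classInner_sum_left]
  push_cast
  simp only [classInner_zsmul_left, (he _).inner_comm hΦ, ha, pow_two]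

variable {c : QC G} {M : Mod c} {P : Subgroup G} {p : ℕ} {lam f : G → ℂ} {d : Dat}

open Classical in
theorem LS.sum_D (h : LS p P M.Lt c.t lam) {x : G} (hx : x ∈ c.U) (h1 : lam x ≠ 1)
    (hf : M.Sp 1 f d) : ∑ g ∈ univ.filter (fun g => c.t ∈ zpowers g),
      (if g ∈ M.Lt then lam g else 0) * conj (f g) = 0 := by
  by_contra h0
  refine h1 (mul_right_cancel₀ h0 ?_)
  rw [one_mul, mul_sum]
  refine sum_bij (fun a _ => a * x) (fun a ha => ?_) (fun a _ b _ e => by simpa using e)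
    (fun a ha => ⟨a * x⁻¹, ?_, by group⟩) fun a ha => ?_
  · exact mem_filter.2 ⟨mem_univ _, c.D_mul_U (mem_filter.1 ha).2 hx⟩
  · exact mem_filter.2 ⟨mem_univ _, c.D_mul_U (mem_filter.1 ha).2 (inv_mem hx)⟩
  · rw [hf.mul_U (mem_filter.1 ha).2 hx]
    simp only [mul_mem_cancel_right (M.U_le_Lt hx)]
    split_ifs with h2
    · rw [h.lin.mul _ h2 _ (M.U_le_Lt hx)]; ring
    · simp

open Classical in
theorem LS.sp (h : LS p P M.Lt c.t lam) :
    M.Sp 1 (fun g => if g ∈ M.Lt then 2 else 0) (d1 + dsg) := by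
  have hQ : c.Q ≤ M.Lt := M.S_inf_Lt ▸ inf_le_right
  have hω : c.ω ∉ M.Lt := fun e => c.s_not_Q (by
    have h1 : c.ω ∈ c.Q := M.S_inf_Lt ▸ ⟨c.ω_mem_S, e⟩
    simpa using c.Q.mul_mem (inv_mem h1) (mem_sup_right (mem_zpowers _) : c.ω * c.s ∈ c.Q))
  refine ⟨fun g _ x hx => by simp only [conj_mem_iff (M.Lt_nml.norm hx)], fun y hy ho => ?_,
    fun j _ hj y hy ho => ?_⟩
  · have := c.ha
    rw [if_pos (M.Lt.mul_mem (hQ c.t_mem_Q) (h.odd_mem hy ho))]
    simp only [d1, dsg, Prod.fst_add, Prod.snd_add, Pi.add_apply, MonoidHom.one_apply, Units.val_one,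
      Even.neg_one_pow (Nat.even_pow.2 ⟨even_two, (by omega : c.a - 1 ≠ 0)⟩)]
    ring
  · have h2 : ∀ k, (c.ω ^ 2) ^ k ∈ M.Lt := fun k => pow_mem (hQ (mem_sup_left (mem_zpowers _))) k
    simp only [mul_mem_cancel_right (h.odd_mem (c.D_om hj hy ho).2 ho), d1, dsg, Prod.snd_add,
      Pi.add_apply, MonoidHom.one_apply, Units.val_one]
    obtain ⟨k, rfl | rfl⟩ := Nat.even_or_odd' j
    · rw [pow_mul, if_pos (h2 k), pow_mul]; norm_num
    · rw [pow_succ, pow_mul, mul_mem_cancel_left (h2 k), if_neg hω, pow_succ, pow_mul]; norm_num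

theorem LS.inner (h : LS p P M.Lt c.t lam) {x : G} (hx : x ∈ c.U) (h1 : lam x ≠ 1) {Φ : G → ℂ}
    (hΦ : IsClassFunction G Φ) (hL : ∀ g ∈ M.Lt, Φ g = psi lam g)
    (hO : ∀ g ∈ C{c.t}, g ∉ M.Lt → Φ g = 0) (hf : M.Sp 1 f d) (hc : IsClassFunction G f)
    (ho : ∀ g, Odd (orderOf g) → f g = 0) : classInner Φ f = bf c.a d1 d + bf c.a dsg d := by
  classical
  rw [c.inner_eq_dip hΦ hc ho, ← bf_add, ← h.sp.dip hf (by simp), QC.dip, QC.dip,
    sum_congr rfl (g := fun g => (if g ∈ M.Lt then 2 else 0) * conj (f g) -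
      (if g ∈ M.Lt then lam g else 0) * conj (f g) -
      (if g ∈ M.Lt then (lam g)⁻¹ else 0) * conj (f g)) fun g hg => ?_, sum_sub_distrib,
    sum_sub_distrib, h.sum_D hx h1 hf, h.inv.sum_D hx (by simpa using h1) hf, sub_zero, sub_zero]
  split_ifs with h2
  · rw [hL g h2, psi]; ring
  · rw [hO g (c.mem_H_of (mem_filter.1 hg).2) h2]; ring

end H24.QH

namespace H2.QD

open H24 Cfsg Subgroup Finset H4 H24.QH
open H13.Dih (Four V4 Inv CD UU PP FC res)
open H5 (SIrr)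
open scoped ComplexConjugate MatrixGroups

universe u

variable {G : Type u} [Group G]

set_option linter.unusedVariables false in
theorem count_inv [Finite G] {Y O A : Subgroup G} {t : G} (hO : O ⊴ Y) (ho : Odd ♯O)
    (ht : orderOf t = 2) (htA : t ∈ A) (hOA : O ≤ A) (hA : A ≤ Y) (hY : Y ≤ O ⊔ (Y ⊓ C{t})) :
    {a | a ∈ Y ⊓ C{t} ∧ a ∉ A ∧ a * a = 1}.ncard ^ 2 * ♯O ≤
      {a | a ∈ Y ∧ a ∉ A ∧ a * a = 1}.ncard ^ 2 * ♯(O ⊓ C{t}) :=
  H24.QH.count_inv hO ho ht htA hOA hA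

theorem MC.hiib [Finite G] {c : QC G} {M : Mod c} (h : MC M) {L₁ : Subgroup G} (hL : M.Comp L₁)
    (h0 : M.L0 = ⊤) (hab : Abl c.U) {p : ℕ} (hp : p.Prime) (hne : O[{p}, c.U] ≠ ⊥)
    (hinv : Inv c.s O[{p}, c.U]) (hi : ¬ p ∣ c.H.index)
    (hti : ∀ g, H24.cj g O[{p}, c.U] ⊓ c.H ≠ ⊥ → g ∈ c.H) : False := by
  classical
  have := Fintype.ofFinite G
  have := Fact.mk Nat.prime_two
  have o2 : ∀ a : G, a * a = 1 → a ≠ 1 → orderOf a = 2 := fun a ha =>
    orderOf_eq_prime (by rw [pow_two, ha])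
  obtain ⟨P, lam, hl, x, hx, hx'⟩ := HB.exists_LS ⟨hL, h0, hab, hp, hne, hinv, hi, hti⟩
  obtain ⟨Φ, hΦ, n3, n1, hLt, hO, h2, r, hr, hle⟩ := hl.exists_psi (c.S_le_H c.s_mem_S) HB.s_not
    (H13.Dih.sq_of c.ord_s) (fun a ha e => or_iff_not_imp_left.2 fun a1 => or_iff_not_imp_left.2
      fun a2 => by
        obtain ⟨g, hg, e'⟩ := c.invol_H ha (o2 a e a1) a2
        exact ⟨g⁻¹, inv_mem hg, by rw [← e']; group⟩)
    fun a e => or_iff_not_imp_left.2 fun a1 =>
      (isConj_iff.2 (c.invol_G (o2 a e a1))).symm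
  obtain ⟨Q⟩ := M.exists_pin M.fus_one
  have key := fun f d => hl.inner (f := f) (d := d) hx hx' hΦ.classFun hLt hO
  obtain ⟨k1, k2, -, r12, -⟩ := three_classes c.ha
  have kV : ∀ k, ¬ 2 ^ (c.a - 1) ∣ k → classInner Φ (Q.e0 - Q.ex + Q.ek k) = 1 := fun k hk => by
    rw [key _ (dV c.a k) ((Q.sp0.sub Q.spx).add (Q.spk k hk))
      ((Q.i0.gen.sub Q.ix.gen).add (Q.ik k hk).gen).classFun (Q.oddV k hk), (bf_V c.ha hk).1,
      (bf_V c.ha hk).2.2.1, add_zero]
  have kW : classInner Φ (Q.e0 - Q.ex + Q.ez - Q.ey) = 0 := by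
    rw [key _ dW (by
      convert ((Q.sp0.sub Q.spx).add Q.spz).sub Q.spy using 1
      rw [dW]; abel)
      (((Q.i0.gen.sub Q.ix.gen).add Q.iz.gen).sub Q.iy.gen).classFun Q.oddW, (bf_W c.ha).1,
      (bf_W c.ha).2.2.1, add_neg_cancel]
  have kX : classInner Φ (Q.ex - Q.ez + Q.eb) = 1 := by
    rw [key _ dX (by
      convert (Q.spx.sub Q.spz).add Q.spb using 1
      rw [dX]; abel)
      ((Q.ix.gen.sub Q.iz.gen).add Q.ib.gen).classFun Q.oddX, (bf_X c.ha).1,
      (bf_X c.ha).2.2.1, zero_add]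
  obtain ⟨ax, hax⟩ := hΦ.inner_int Q.ix.gen
  obtain ⟨az, haz⟩ := hΦ.inner_int Q.iz.gen
  have e0 := Q.one rfl
  rw [← e0] at n1
  simp only [classInner_add_right, classInner_sub_right, n1, hax, haz] at kV kW kX
  obtain ⟨o1, o2⟩ := Q.orth (by simp)
  let e : Fin 5 ⊕ Fin 2 → G → ℂ := Sum.elim ![Q.e0, Q.ex, Q.ey, Q.ez, Q.eb] ![Q.ek 1, Q.ek 2]
  let a : Fin 5 ⊕ Fin 2 → ℤ := Sum.elim ![1, ax, 1 - ax + az, az, 1 - ax + az] ![ax, ax]
  have he : ∀ i, SIrr (e i) := by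
    rintro (i | i) <;> fin_cases i
    exacts [Q.i0, Q.ix, Q.iy, Q.iz, Q.ib, Q.ik 1 k1, Q.ik 2 k2]
  have hN := norm_sub_sum he (a := a) (by
    have : ∀ (i : Fin 5) (j : Fin 2), classInner (e (.inl i)) (e (.inr j)) = 0 := fun i j => by
      fin_cases j
      exacts [(o2 1 k1).1 i, (o2 2 k2).1 i]
    rintro (i | i) (j | j) hij
    · exact o1 fun e => hij (e ▸ rfl)
    · exact this i j
    · exact classInner_comm_of_eq_zero (this j i)
    · fin_cases i <;> fin_cases j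
      exacts [absurd rfl hij, (o2 1 k1).2 2 k2 r12,
        classInner_comm_of_eq_zero ((o2 1 k1).2 2 k2 r12), absurd rfl hij]) hΦ (by
    rintro (i | i) <;> fin_cases i <;> simp [a, e, n1, hax, haz]
    · linear_combination -kW
    · linear_combination kX
    · linear_combination kV 1 k1
    · linear_combination kV 2 k2)
  have hg := hΦ.sub (isGen_sum univ (fun i => a i • e i) fun i _ => (he i).gen.zsmul _)
  have hR : ∀ g, (Φ - ∑ i, a i • e i) g = Φ g - (1 + ax * Q.ex g + (1 - ax + az) * Q.ey g +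
      az * Q.ez g + (1 - ax + az) * Q.eb g + ax * Q.ek 1 g + ax * Q.ek 2 g) := fun g => by
    simp [a, e, Fin.sum_univ_succ, e0]; ring
  generalize Φ - ∑ i, a i • e i = R at hN hg hR
  have hS : ∑ i, a i ^ 2 = 1 + 3 * ax ^ 2 + 2 * (1 - ax + az) ^ 2 + az ^ 2 := by
    simp [a, Fin.sum_univ_succ]; ring
  rw [n3, hS] at hN
  have hN' := classInner_self_re_nonneg R
  rw [hN, show (3 : ℂ) = (3 : ℤ) by simp, ← Int.cast_sub, Complex.intCast_re] at hN'
  norm_cast at hN'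
  obtain rfl : ax = 0 := by nlinarith [sq_nonneg (1 - ax + az), sq_nonneg az]
  obtain ⟨-, vx, vy, vz, vb⟩ := Q.val_t
  have tt := h2 _ (H13.Dih.sq_of c.four.ht)
  obtain rfl | rfl : az = 0 ∨ az = -1 := by
    have : -2 < az := by nlinarith
    have : az < 1 := by nlinarith
    omega
  · have := hR c.t
    rw [classInner_self_eq_zero.1 (hN.trans (by norm_num)), tt, vy, vb] at this
    norm_num at this
    exact two_ne_zero (by linear_combination this : (2 : ℂ) = 0)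
  have hR' : SIrr R := ⟨hg, hN.trans (by norm_num)⟩
  have e1 : ∀ g, Φ g = 1 - Q.ez g + R g := fun g => by rw [hR]; push_cast; ring
  have e2 : R 1 = Q.z - 1 := by rw [← Q.degz]; linear_combination h2 1 (by simp) - e1 1
  have e3 : R c.t = -2 := by linear_combination tt - e1 c.t + vz
  obtain ⟨d0, ez, exy, -, -, eq, -⟩ := Q.eqs
  obtain ⟨-, x0, -, z0, x1, -⟩ := Q.ne_zero
  have z1 : Q.z ≠ 1 := fun e => hR'.apply_one_ne_zero (by rw [e2, e]; simp)
  simp only [e1, sum_add_distrib, sum_sub_distrib, Q.iz.sum_cl_cl, hR'.sum_cl_cl, sum_const,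
    H5.card_cl, e2, e3, vz, Q.degz, nsmul_eq_mul] at hr
  have i0 : (0 : ℝ) < c.H.index := by exact_mod_cast Nat.pos_of_ne_zero index_ne_zero_of_finite
  have k0 := relIndex_pos (c.H ⊓ C{c.s}) c.H
  rw [M.index_s] at k0
  refine num_hiib (Q := M.Qe) (ρ := M.rho) ?_ ?_ x0 (d0 ▸ x1) ez z0 z1 exy eq ?_
  · have := h.q5
    rw [Mod.Qe, abs_mul, Nat.abs_cast]
    rcases M.N.hε with e | e <;> rw [e] <;> simp <;> omega
  · exact div_pos (pow_pos (by exact_mod_cast k0) _) (by exact_mod_cast i0)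
  · have z0' : (Q.z : ℝ) ≠ 0 := by exact_mod_cast z0
    have z1' : (Q.z : ℝ) - 1 ≠ 0 := by exact_mod_cast sub_ne_zero.2 z1
    have hr' : r = c.H.index * (c.H.index * ((Q.z + 1) ^ 2 / (Q.z * (Q.z - 1)))) := by
      apply Complex.ofReal_injective
      have z0' : (Q.z : ℂ) ≠ 0 := by exact_mod_cast z0
      have z1' : (Q.z : ℂ) - 1 ≠ 0 := by exact_mod_cast sub_ne_zero.2 z1
      rw [← hr, QC.H]
      push_cast
      field_simp
      ring
    rw [hr'] at hle
    have h3 := le_of_mul_le_mul_left hle i0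
    rw [show C{c.t} = c.H from rfl, M.index_s, ← div_le_iff₀' i0, mul_div_assoc] at h3
    rw [Mod.rho, ← Rat.cast_le (K := ℝ)]
    push_cast at h3 ⊢
    exact h3

end H2.QD
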