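import Mathlib
import Cfsg.Agent.H2.QDefs3
import Cfsg.Agent.H2.QB1
import Cfsg.Agent.H13.DihBI1
import Cfsg.Agent.H13.DihThm1

/-! Bender's uniqueness lemmas for an arbitrary simple group. -/

set_option autoImplicit false
set_option linter.unusedSectionVars false

namespace H2.QD

open H24 H26 H13 H13.Dih Cfsg Subgroup

universe u

variable {G : Type u} [Group G] [Finite G]

/-- a nonsolvable simple group -/
structure SN (G : Type u) [Group G] : Prop where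
  simple : IsSimpleGroup G
  nsol : ¬ Sol (⊤ : Subgroup G)

namespace SN

variable (h : SN G) {A B D M N P S X Y M0 M1 M2 : Subgroup G} {p q : ℕ} {t s : G}
include h

theorem eq_or (hX : N[X] = ⊤) : X = ⊥ ∨ X = ⊤ :=
  have := h.simple
  (normalizer_eq_top_iff.1 hX).eq_bot_or_eq_top

theorem ne_top (hX : Sol X) : X ≠ ⊤ := fun e => h.nsol (e ▸ hX)

theorem N_ne_top (h1 : X ≠ ⊥) (h2 : X ≠ ⊤) : N[X] ≠ ⊤ := fun e => (h.eq_or e).elim h1 h2

theorem N_eq (hM : IsCoatom M) (h1 : X ≠ ⊥) (hX : X ⊴ M) : N[X] = M :=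
  (hM.le_iff.1 hX.norm).resolve_left
    (h.N_ne_top h1 fun e => hM.1 (eq_top_iff.2 (e ▸ hX.le)))

theorem C_le (hM : IsCoatom M) (h1 : X ≠ ⊥) (hX : X ⊴ M) : C[X] ≤ M :=
  (C_le_N X).trans (h.N_eq hM h1 hX).le

theorem coatom_ne_bot (hM : IsCoatom M) : M ≠ ⊥ := by
  rintro rfl
  obtain ⟨x, -, hx⟩ := exists_ne_one (H := (⊤ : Subgroup G)) hM.1.symm
  exact h.ne_top (cyc_zpowers x).sol (hM.2 _ (bot_lt_iff_ne_bot.2 (zpowers_ne_bot.2 hx)))

theorem N_self (hM : IsCoatom M) : N[M] = M := h.N_eq hM (h.coatom_ne_bot hM) (Nml.refl M)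

theorem F_ne_bot (hA : FC A) : F[A] ≠ ⊥ := fun e => by
  have := hA.cent
  rw [e, C_bot, top_le_iff] at this
  exact h.ne_top sol_bot this

theorem C_zp_le (hA : FC A) {π : Set ℕ} (h1 : ¬ IsPi πᶜ F[A]) : C[O[π, Z[F[A]]]] ≤ A :=
  h.C_le hA.coatom (zp_ne_bot (Fitting_nil A) h1) ((Fitting_nml A).center.pcore π)

theorem ul_cent (hA : FC A) (hp : p ∈ primesOf F[A]) (hY : Y ≤ F[A]) (hYB : Y ≤ B)
    (hYC : F[A] ⊓ C[Y] ≤ Y) : O[{p}ᶜ, Y] ≤ C[O[{p}, B]] := by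
  have hn := hYB.trans (pcore_nml {p} B).norm
  refine Thompson_PxQ hp.1 (pcore_pi {p} Y) (pcore_pi _ _) (pcore_pi _ _)
    (pcore_cent_pcore_compl _ _) ((pcore_le _ _).trans hn) ((pcore_le _ _).trans hn) ?_
  have h1 : O[{p}, B] ⊓ C[O[{p}, Y]] ≤ A :=
    inf_le_right.trans ((C_anti (MC.zp_le _ hY hYC)).trans (h.C_zp_le hA (not_isPi_compl hp)))
  have h2 : O[{p}ᶜ, Y] ≤ O[{p}ᶜ, F[A]] := (Fitting_nil A).pcore_mono _ hY
  rw [← comm_eq_bot, eq_bot_iff, ← pcore_inf_pcore_compl {p} B F[A]]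
  exact le_inf ((comm_mono_left inf_le_left).trans (comm_le_left ((pcore_le _ _).trans hn)))
    ((comm_mono_right h2).trans (comm_le_right (h1.trans (pcore_Fitting_nml _ _).norm)))

theorem ul_step (hA : FC A) (hB : FC B) (hπ : primesOf F[B] ⊆ primesOf F[A])
    (hn : ∀ q, ¬ IsPi {q} F[A]) (hY : Y ≤ F[A]) (hYB : Y ≤ B) (hYC : F[A] ⊓ C[Y] ≤ Y) :
    F[B] ≤ A ∧ primesOf F[A] ⊆ primesOf F[B] := by
  have key : ∀ q, q.Prime → q ∣ ♯F[B] → O[{q}, B] ≤ C[O[{q}ᶜ, Y]] := fun q h1 h2 =>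
    cents_symm (h.ul_cent hA (hπ ⟨h1, h2⟩) hY hYB hYC)
  refine ⟨Fitting_le_of_pcore_le fun q h1 h2 => (key q h1 h2).trans ((C_anti (MC.zp_le _ hY hYC)).trans
    (h.C_zp_le hA (by rw [compl_compl]; exact hn q))), fun r hr => ?_⟩
  by_contra hr'
  refine hr' ((pcore_pi {r} Z[F[A]]).mem_primesOf (zp_ne_bot (Fitting_nil A) (not_isPi_compl hr))
    ((cents_symm (Fitting_le_of_pcore_le fun q h1 h2 => (key q h1 h2).trans (C_anti ?_))).trans
      hB.cent))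
  exact (MC.zp_le _ hY hYC).trans (pcore_mono _ (singleton_subset_compl fun e => hr' (e ▸ ⟨h1, h2⟩)))

theorem ul_elt (hA : FC A) (hp : p ∈ primesOf F[A]) (hP : IsPi {p} P) (hPA : P ≤ A)
    (hPC : P ≤ C[O[{p}ᶜ, F[A]]]) {x : G} (hx : x ∈ C[O[{p}, A]]) (hx' : PiElt {p}ᶜ x) :
    x ∈ C[P] := by
  have hxA : zpowers x ≤ A := zpowers_le.2 (h.C_le hA.coatom
    ((pcore_ne_bot_iff_dvd_Fitting hp.1).2 hp.2) (pcore_nml _ _) hx)
  have hZ := (Fitting_nml A).center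
  have h1 : ⁅zpowers x, P⁆ ≤ Z[F[A]] := by
    have : ⁅zpowers x, P⁆ ≤ C[F[A]] := by
      rw [(Fitting_nil A).C_eq {p}, p_core_Fitting hp.1]
      exact le_inf ((comm_mono_left (zpowers_le.2 hx)).trans
        (comm_le_left (norm_C (hPA.trans (pcore_nml _ _).norm))))
        ((comm_mono_right hPC).trans (comm_le_right (norm_C (hxA.trans (pcore_Fitting_nml _ _).norm))))
    exact le_inf (this.trans hA.cent) this
  set M := Z[F[A]] ⊔ zpowers x with hM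
  have h2 : ⁅M, P⁆ ≤ Z[F[A]] := commutator_le.2 fun m hm g hg => by
    obtain ⟨z, hz, y, hy, rfl⟩ := (mem_sup_of_norm (hxA.trans hZ.norm)).1 hm
    have := mul_mem (mul_mem hz (h1 (commutator_mem_commutator hy hg)))
      (conj_mem (hZ.norm (hPA hg)) (inv_mem hz))
    simpa only [commutatorElement_def, mul_assoc, mul_inv_rev, inv_mul_cancel_left] using this
  have h3 : P ≤ N[O[{p}ᶜ, M]] := norm_pcore _ (norm_of_comm_le_left (h2.trans le_sup_left))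
  have h4 : O[{p}ᶜ, Z[F[A]]] ⊔ zpowers x ≤ O[{p}ᶜ, M] := by
    refine pcore_max' ((pcore_pi _ _).sup hx'.isPi (hxA.trans (hZ.pcore _).norm))
      (sup_le_sup_right (pcore_le _ _) _) (sup_le ?_ (norm_of_le le_sup_right))
    refine ((abl_center F[A]).nil.pcoreC {p}).sup.ge.trans (sup_le (norm_of_cent (cents_sup (pcore_cent_pcore_compl _ _) (cents_symm
      ((zpowers_le.2 hx).trans (C_anti ?_))))) (norm_of_le le_sup_left))
    exact ((Fitting_nil A).pcore_mono _ inf_le_left).trans (pcore_Fitting_le _ _)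
  have h5 : P ≤ C[O[{p}ᶜ, M]] := stable_factor_cent (H := O[{p}ᶜ, M] ⊓ Z[F[A]])
    (hPC.trans (C_anti ((Fitting_nil A).le_pcore ((pcore_pi _ _).inf_left _)
      (inf_le_right.trans inf_le_left))))
    (le_inf (comm_le_left h3) ((comm_mono_left (pcore_le _ _)).trans h2)) inf_le_left
    (((pcore_pi _ _).inf_left _).coprime' hP) (Or.inr (hP.sol hp.1))
  exact cents_symm h5 (h4 (mem_sup_right (mem_zpowers x)))

theorem fc_of (hM : IsCoatom M) (H : ∀ z ∈ M, orderOf z = 2 → z ∉ C[F[O[{2}ᶜ, M]]]) : FC M := by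
  have hK := pcore_nml {2}ᶜ M
  have h1 : M ⊓ C[F[O[{2}ᶜ, M]]] ≤ F[O[{2}ᶜ, M]] :=
    le_Fitting_of_cent (sol_of_odd (odd_pcore M))
      (le_O (odd_of_forall fun z hz h2 => H z hz.1 h2 hz.2) hK.Fitting.infC) inf_le_right
  refine ⟨hM, ?_, ?_⟩
  · by_contra h2
    rw [Nat.not_odd_iff_even, even_iff_two_dvd, ← pcore_ne_bot_iff_dvd_Fitting Nat.prime_two] at h2
    obtain ⟨z, hz, h3⟩ := exists_two_of_pi (pcore_pi _ _) h2
    exact H z (pcore_le _ _ hz) h3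
      (pcore_cents ((pcore_pi _ _).of_le (Fitting_le _)) hK.Fitting hz)
  · refine le_trans (le_inf (h.C_le hM (fun e => h.coatom_ne_bot hM ?_) (Fitting_nml M))
      (C_anti hK.Fitting_le)) (h1.trans hK.Fitting_le)
    rwa [eq_bot_of_le e hK.Fitting_le, C_bot, inf_top_eq, le_bot_iff] at h1

theorem zj (hA : FC A) (hp : p.Prime) (h1 : IsPi {p} F[A]) (hst : Stab p A) (hS : Syl p A S) :
    N[centerThompsonOf 0 S] = A ∧ Syl p ⊤ S := by
  have := Fact.mk hp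
  have hF : F[A] = O[{p}, A] := le_antisymm (pcore_max h1 (Fitting_nml A)) (pcore_le_Fitting hp A)
  have hp2 : p ≠ 2 := by
    rintro rfl
    exact absurd (h1.odd_prime (h.F_ne_bot hA) hA.odd) (by decide)
  have h2 : A ≤ N[centerThompsonOf 0 S] := le_normalizer_centerThompsonOf hp2 (Or.inl rfl)
    ⟨hS.le, hS.pi.isPGroup hp, fun R h1 h2 h3 => hS.eq_of_le (isPi_of_isPGroup hp h2) h3 h1⟩
    (fun g hg => by
      have h3 := hA.cent
      rw [hF, pcore_singleton hp] at h3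
      exact (mem_map_iff_mem A.subtype_injective).1
        (h3 (cent_map (zpowers_le.2 hg) A.subtype (mem_map_of_mem _ (mem_zpowers g)))))
    hst
  have h3 := h.N_eq hA.coatom (centerThompsonOf_ne_bot (Or.inl rfl) (hS.pi.isPGroup hp)
    (ne_bot_of_le (hF ▸ h.F_ne_bot hA) (pcore_le_Hall hS))) ⟨(centerThompsonOf_le _ _).trans hS.le, h2⟩
  exact ⟨h3, hS.of_norm_le hp le_top
    (inf_le_right.trans ((normalizer_le_normalizer_centerThompson 0 S).trans h3.le))⟩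

theorem ul (hn : ∀ q, ¬ IsPi {q} F[A]) (hA : FC A) (hB : FC B) (hπ : primesOf F[B] ⊆ primesOf F[A]) (hY : Y ≤ F[A])
    (hYB : Y ≤ B) (hYC : F[A] ⊓ C[Y] ≤ Y) : A = B := by
  obtain ⟨p, hp⟩ : ∃ p, p ∈ primesOf F[B] := exists_prime_dvd_card (h.F_ne_bot hB)
  obtain ⟨h1, hπ'⟩ := h.ul_step hA hB hπ hn hY hYB hYC
  have hcB : F[B] ⊓ C[F[B]] ≤ F[B] := inf_le_left
  have hcA : F[A] ⊓ C[F[A]] ≤ F[A] := inf_le_left
  obtain ⟨h2, -⟩ := h.ul_step hB hA hπ' (fun q hq => hn q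
    (isPi_iff_primesOf.2 (hπ'.trans (isPi_iff_primesOf.1 hq)))) le_rfl h1 hcB
  have h3 := h.ul_cent hA (hπ hp) le_rfl h2 hcA
  have h4 := h.ul_cent hB hp le_rfl h1 hcB
  have e : {x | x ∈ C[O[{p}, A]] ∧ PiElt {p}ᶜ x} = {x | x ∈ C[O[{p}, B]] ∧ PiElt {p}ᶜ x} :=
    Set.ext fun x => ⟨fun hx => ⟨h.ul_elt hA (hπ hp) (pcore_pi _ _)
      ((pcore_le_Fitting hp.1 B).trans h1) (cents_symm h3) hx.1 hx.2, hx.2⟩,
      fun hx => ⟨h.ul_elt hB hp (pcore_pi _ _)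
      ((pcore_le_Fitting hp.1 A).trans h2) (cents_symm h4) hx.1 hx.2, hx.2⟩⟩
  have key : ∀ {M : Subgroup G}, FC M → p ∈ primesOf F[M] →
      closure {x | x ∈ C[O[{p}, M]] ∧ PiElt {p}ᶜ x} ⊴ M := fun {M} hM hpM =>
    ⟨(closure_le _).2 fun x hx => h.C_le hM.coatom
      ((pcore_ne_bot_iff_dvd_Fitting hp.1).2 hpM.2) (pcore_nml _ _) hx.1,
      norm_closure fun a ha x hx => subset_closure
        ⟨conj_mem (norm_C (pcore_nml _ _).norm ha) hx.1, hx.2.conj a⟩⟩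
  have h5 : closure {x | x ∈ C[O[{p}, A]] ∧ PiElt {p}ᶜ x} ≠ ⊥ := by
    refine ne_bot_of_le (A := O[{p}ᶜ, F[A]]) (fun e => hn p ?_) fun x hx =>
      subset_closure ⟨?_, (pcore_pi _ _).piElt hx⟩
    · simpa using ((Fitting_nil A).pcore_hall _).isPi_compl_of_eq_bot e
    · rw [← p_core_Fitting hp.1]; exact pcore_compl_cent_pcore _ _ hx
  rw [← h.N_eq hA.coatom h5 (key hA (hπ hp)), e, h.N_eq hB.coatom (e ▸ h5) (key hB hp)]

theorem primes_sub (hp : p.Prime) (hf : Four t s) (h0 : FC M0) (h1 : FC M1) (h2 : FC M2)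
    (l0 : C{t} ≤ M0) (l1 : C{s} ≤ M1) (l2 : C{t * s} ≤ M2) (hP0 : O[{p}, M0] ≠ ⊥)
    (hπ1 : primesOf F[M1] = primesOf F[M0]) (hπ2 : primesOf F[M2] = primesOf F[M0]) (hN : FC N)
    (hVN : V4 t s ≤ N) (hDN : N[O[{p}, M0] ⊓ O[{p}, M1]] ≤ N) :
    primesOf F[N] ⊆ primesOf F[M0] := by
  have hp2 : p ≠ 2 := by
    rintro rfl
    exact hP0 ((pcore_pi _ _).eq_bot (isPi_odd.2 (odd_of_le h0.odd (pcore_le_Fitting hp _))))
  set D := O[{p}, M0] ⊓ O[{p}, M1] with hD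
  have hV0 := hf.V_le_C.trans l0
  have hD0 : D ≤ F[M0] := inf_le_left.trans (pcore_le_Fitting hp _)
  have hD1' : D ≤ F[M1] := inf_le_right.trans (pcore_le_Fitting hp _)
  set R := O[(primesOf F[M0])ᶜ, F[N]] with hR
  have hRN : N ≤ N[R] := (pcore_Fitting_nml _ _).norm
  have hRp : IsPi (primesOf F[M0])ᶜ R := pcore_pi _ _
  have hRo : Odd ♯R := odd_of_le hN.odd (pcore_le _ _)
  have r0 := h0.inf_eq_bot hD0 (hDN.trans hRN) hRp
  have r1 := h1.inf_eq_bot hD1' (hDN.trans hRN) (hπ1 ▸ hRp)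
  have i0 := inv_of_inf_C hRo (sq_of hf.ht) (hRN (hVN Four.t_mem))
    (eq_bot_of_le r0 (inf_le_inf_left _ l0))
  have i1 := inv_of_inf_C hRo (sq_of hf.hs) (hRN (hVN Four.s_mem))
    (eq_bot_of_le r1 (inf_le_inf_left _ l1))
  have hR2 : R ≤ M2 := (mem_C_iff_le_C1.1 (i0.mul_mem_C i1)).trans l2
  have hZ := (pcore_nml {p} M0).center
  set Z := Z[O[{p}, M0]] with hZ'
  have hZp : IsPi {p} Z := (pcore_pi _ _).inf_left _
  have hZo := odd_of_pi hp2 hZp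
  have hZR : Z ≤ N[R] := inf_le_right.trans ((C_anti inf_le_left).trans
    ((C_le_N D).trans (hDN.trans hRN)))
  have hpπ : p ∈ primesOf F[M0] := ⟨hp, (pcore_ne_bot_iff_dvd_Fitting hp).1 hP0⟩
  have hcop : (♯R).Coprime ♯(Z ⊓ C[V4 t s]) := hRp.coprime' ((hZp.inf_left _).of_mem hpπ)
  have hRB : R ≤ ⁅R, Z ⊓ C[V4 t s]⁆ := by
    have e := (coprime_cent_prod (inf_le_left.trans hZR) hcop (sol_of_odd hRo)).sup_eq
    have e2 : R ⊓ C[Z ⊓ C[V4 t s]] ≤ C[Z] := by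
      have e3 := (coprime_cent_prod (hV0.trans hZ.norm) ((isPi_odd.2 hZo).coprime' hf.V_pi)
        (sol_of_odd hZo)).sup_eq
      refine le_trans ?_ (C_anti e3.ge)
      refine cents_sup (cents_symm (le_trans ?_ (C_anti inf_le_left))) inf_le_right
      rw [V4, (isProd_sup (norm_of_cent hf.zp_cent)).comm_right
        (norm_comm (zpowers_le.2 (hZ.norm (hV0 Four.t_mem))) (norm_of_cent (cents_symm hf.zp_cent)))]
      exact sup_le (i0.comm_le_C (sq_of hf.ht) hZR) (i1.comm_le_C (sq_of hf.hs) hZR)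
    rw [eq_bot_of_le r0 (le_inf inf_le_left (e2.trans (h.C_le h0.coatom
      (((pcore_pi _ _).nil hp).center_ne_bot hP0) hZ))), sup_bot_eq] at e
    exact e.ge
  have n2 := (Fitting_nml M2).norm
  have hπ3 : IsPi (primesOf F[M0]) F[M2] := hπ2 ▸ isPi_primesOf _
  have key := lemQ (Fitting_nil M2) h2.odd hRo (odd_of_le hZo inf_le_left) hf.ht
    (n2 (l2 hf.mul.t_mem_C)) (hR2.trans n2)
    (inf_le_right.trans ((C_le_C1 Four.ts_mem).trans (l2.trans n2))) (inf_le_left.trans hZR)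
    (inf_le_right.trans (C_le_C1 Four.t_mem)) i0 (hπ3.coprime hRp) hRB
    (((comm_mono_right inf_le_left).trans (comm_le_right (inf_le_right.trans
      (l0.trans hZ.norm)))).trans ((abl_center _).cents le_rfl inf_le_left))
  have hR0 : R = ⊥ := (hπ3.of_le (key.trans h2.cent)).eq_bot hRp
  have := ((Fitting_nil N).pcore_hall _).isPi_compl_of_eq_bot hR0
  rw [compl_compl] at this
  exact isPi_iff_primesOf.1 this

end SN

section QFC
variable [IsSimpleGroup G] (hG : ¬ Sol (⊤ : Subgroup G)) {A B D M N S X Y M0 M1 M2 : Subgroup G}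
  {p q : ℕ} {t s : G}
include hG
theorem sn : SN G := ⟨inferInstance, hG⟩
theorem N_eq (hM : IsCoatom M) (h1 : X ≠ ⊥) (hX : X ⊴ M) : N[X] = M := (sn hG).N_eq hM h1 hX
theorem N_self (hM : IsCoatom M) : N[M] = M := (sn hG).N_self hM
theorem fc_of (hM : IsCoatom M) (H : ∀ z ∈ M, orderOf z = 2 → z ∉ C[F[𝒪[M]]]) : FC M :=
  (sn hG).fc_of hM H
theorem ul_multi (hA : FC A) (hB : FC B) (hπ : primesOf F[B] ⊆ primesOf F[A])
    (hn : ∀ q, ¬ IsPi {q} F[A]) (hD : D ≤ F[A]) (hN : N[D] ≤ B) : A = B :=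
  (sn hG).ul hn hA hB hπ (Y := F[A] ⊓ N[D]) inf_le_left (inf_le_right.trans hN)
    (inf_le_inf_left _ ((C_anti (le_inf hD (norm_self D))).trans (C_le_N D)))
theorem zj (hA : FC A) (hp : p.Prime) (h1 : IsPi {p} F[A]) (hst : Stab p A) (hS : Syl p A S) :
    N[centerThompsonOf 0 S] = A ∧ Syl p ⊤ S := (sn hG).zj hA hp h1 hst hS
theorem conj_of_stab (hA : FC A) (hB : FC B) (hp : p.Prime) (h1 : IsPi {p} F[A])
    (h2 : IsPi {p} F[B]) (sA : Stab p A) (sB : Stab p B) : ∃ g, B = H24.cj g A := by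
  obtain ⟨S, hS⟩ := Sylow_exists hp A
  obtain ⟨T, hT⟩ := Sylow_exists hp B
  obtain ⟨a1, a2⟩ := zj hG hA hp h1 sA hS
  obtain ⟨b1, b2⟩ := zj hG hB hp h2 sB hT
  obtain ⟨g, -, rfl⟩ := Sylow_trans hp a2 b2
  refine ⟨g, ?_⟩
  rw [← a1, ← b1, cj_N]
  exact congrArg (fun X : Subgroup G => N[X]) (centerThompsonOf_cj g S)
theorem primes_sub (hp : p.Prime) (hf : Four t s) (h0 : FC M0) (h1 : FC M1) (h2 : FC M2)
    (l0 : C{t} ≤ M0) (l1 : C{s} ≤ M1) (l2 : C{t * s} ≤ M2) (hP : O[{p}, M0] ≠ ⊥)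
    (π1 : primesOf F[M1] = primesOf F[M0]) (π2 : primesOf F[M2] = primesOf F[M0]) (hN : FC N)
    (hV : V4 t s ≤ N) (hD : N[O[{p}, M0] ⊓ O[{p}, M1]] ≤ N) :
    primesOf F[N] ⊆ primesOf F[M0] :=
  (sn hG).primes_sub hp hf h0 h1 h2 l0 l1 l2 hP π1 π2 hN hV hD
theorem bi_cent (ht : orderOf t = 2) (hH : IsCoatom C{t}) (hq : q ∈ primesOf F[UU t])
    (hX : Z[F[UU t]] ≤ X) (htX : t ∈ X) : O[{q}, X] ≤ C{t} := by
  have hn := (pcore_nml {q} X).norm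
  have hq2 : q ≠ 2 := by
    rintro rfl
    exact not_isPi_compl hq (isPi_odd.2 (FU_odd t))
  refine mem_C_iff_le_C1.1 (zpowers_le.1 (Thompson_PxQ hq.1 (pcore_pi {q} Z[F[UU t]])
    ((isPi_zp ht).compl_of_ne hq2.symm) (pcore_pi _ _) ?_ ?_ ?_ ?_))
  · rw [C_zpowers]; exact ((FU_nml t).center.pcore _).le
  · exact ((pcore_le _ _).trans hX).trans hn
  · exact zpowers_le.2 (hn htX)
  · rw [C_zpowers]
    exact inf_le_right.trans ((sn hG).C_le hH (zp_ne_bot (Fitting_nil _) (not_isPi_compl hq))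
      ((FU_nml t).center.pcore _))
end QFC

theorem stab_of_cd {X : Subgroup G} {p : ℕ} (hp : p.Prime) (h2 : p ≠ 2) (h : CD X) : Stab p X :=
  fun P _ hP => have := Fact.mk hp; H12.isPStableOn_of_isPGroup (h.not_quad h2) P hP

theorem odd_cent' {L X : Subgroup G} (hL : CD L) (hX : IsPi {2} X) (hXL : X ≤ L) {g z : G}
    (hgL : g ∈ L) (hg : g ∈ N[X]) (ho : Odd (orderOf g)) (hz : z ∈ X) (hz1 : z ≠ 1)
    (hgz : g ∈ C{z}) : g ∈ C[X] := by
  have h1 := hL.odd_cent (X := X.subgroupOf L) (g := ⟨g, hgL⟩) (z := ⟨z, hXL hz⟩)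
    (isPi_subgroupOf hX L)
    (mem_N_of_finite fun x hx => mem_subgroupOf.2 (conj_mem hg (mem_subgroupOf.1 hx)))
    (by simpa using ho) hz
    (fun e => hz1 (congrArg Subtype.val e)) (mem_C1.2 (Subtype.ext (mem_C1.1 hgz)))
  exact mem_C'.2 fun x hx => congrArg Subtype.val (mem_C'.1 h1 ⟨x, hXL hx⟩ hx)

theorem not_sol_of {L : Subgroup G} {t s y : G} (hL : CD L) (hf : Four t s) (hV : V4 t s ≤ L)
    (ht : t ∈ C[𝒪[L]]) (hy : y ∈ L ⊓ C{s}) (ho : Odd (orderOf y)) (h1 : y ≠ 1)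
    (hi : t * y * t⁻¹ = y⁻¹) : ¬ Sol L := fun hs => by
  have hQ := pcore_nml {2} L
  have a1 : y ∈ C[O[{2}, L]] := C_anti le_sup_left (odd_cent' hL ((pcore_pi _ _).sup
    (isPi_zp hf.hs) (zpowers_le.2 (hQ.norm (hV Four.s_mem))))
    (sup_le hQ.le (zpowers_le.2 (hV Four.s_mem))) hy.1 (zpowers_le.1 (norm_sup
    (zpowers_le.2 (hQ.norm hy.1)) (norm_zpowers_of_cent (zpowers_le.2 hy.2)))) ho
    (mem_sup_right (mem_zpowers s)) (ne_one_of hf.hs) hy.2)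
  have a2 : y ∈ C[O[{2}ᶜ, L]] := ((comm_mono_right (zpowers_le.2 ht)).trans
    (comm_le_right (norm_C (pcore_nml _ _).norm))) (mem_comm_of_inv hy.1 ho hi)
  have a3 : y ∈ F[L] := cent_sub_Fitting hs ⟨hy.1, by
    rw [(Fitting_nil _).C_eq {2}]
    exact ⟨C_anti (pcore_Fitting_le _ _) a1, C_anti (pcore_Fitting_le _ _) a2⟩⟩
  exact ne_one_C ho h1 hi (mem_C_iff_le_C1.1 ht
    (le_pcore_of_le_Fitting (piElt_odd.2 ho).isPi (zpowers_le.2 a3) (mem_zpowers y)))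

theorem quad_of_inv {P R : Subgroup G} {s x : G} (hP : Odd ♯P) (hR : R ≤ P) (h' : ⁅P, P⁆ ≤ R)
    (hs : s * s = 1) (sP : s ∈ N[P]) (sR : s ∈ N[R]) (xP : x ∈ N[P]) (xR : x ∈ N[R])
    (ho : Odd (orderOf x)) (hi : s * x * s⁻¹ = x⁻¹) (hc : P ⊓ C{s} ≤ C{x}) :
    ⁅⁅P, zpowers x⁆, zpowers x⁆ ≤ R := by
  have hRP : P ≤ N[R] := norm_of_comm_le_left ((comm_mono_left hR).trans h')
  have hA : P ⊓ C{s} ⊔ R ≤ P := sup_le inf_le_left hR
  have aP : P ≤ N[P ⊓ C{s} ⊔ R] :=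
    norm_of_comm_le_left ((comm_mono_left hA).trans (h'.trans le_sup_right))
  have aS : s ∈ N[P ⊓ C{s} ⊔ R] := zpowers_le.1 (norm_sup (norm_inf (zpowers_le.2 sP)
    (norm_of_le (zpowers_le.2 (mem_C1.2 rfl)))) (zpowers_le.2 sR))
  have aX : x ∈ N[P ⊓ C{s} ⊔ R] := zpowers_le.1 (norm_sup (norm_of_cent (zpowers_le.2
    (mem_C_iff_le_C1.2 hc))) (zpowers_le.2 xR))
  have h1 : Inv (cs (P ⊓ C{s} ⊔ R) s) (quo P (P ⊓ C{s} ⊔ R)) := fun z hz => by
    obtain ⟨y, hy, hN, rfl⟩ := mem_quo.1 hz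
    obtain ⟨c, hc, w, hw, e, rfl⟩ := decomp hP hs sP hy
    rw [cs_mul (aP hc.1) (aP hw), cs_of_mem (mem_sup_left hc), one_mul, ← cs_conj aS (aP hw), e,
      cs_inv (aP hw)]
  have h2 := h1.comm_le_C (by rw [← cs_mul aS aS, hs]; exact ap_one _)
    (quo_norm (P ⊓ C{s} ⊔ R) (zpowers_le.2 xP))
  rw [← quo_zpowers aS, ← quo_comm (zpowers_le.2 aX) (zpowers_le.2 aS), quo_cents
    (comm_le_of_le (zpowers_le.2 aX) (zpowers_le.2 aS)) aP] at h2
  have h3 : ⁅P, zpowers x⁆ ≤ P ⊓ C{s} ⊔ R := by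
    rw [commutator_comm]
    exact (comm_mono_left (zpowers_le.2 (mem_comm_of_inv (mem_zpowers x) ho hi))).trans h2
  refine (comm_mono_left h3).trans (commutator_le.2 fun m hm g hg => ?_)
  obtain ⟨c, hc', r, hr, rfl⟩ := (mem_sup_of_norm' (inf_le_left.trans hRP)).1 hm
  have e : g * c = c * g := comm_of_cent (zpowers_le.2 (mem_C_iff_le_C1.2 hc)) hg hc'
  have := conj_mem (hRP hc'.1) (comm_le_left (zpowers_le.2 xR) (commutator_mem_commutator hr hg))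
  rw [commutatorElement_def] at this ⊢
  convert this using 1
  calc _ = c * (r * g * r⁻¹) * (g * c)⁻¹ := by group
    _ = _ := by rw [e]; group

theorem QC.bi_elt (c : QC G) {p : ℕ} (hp : p.Prime) (h2 : ¬ PP p c.t ≤ C{c.s}) :
    ∃ y ∈ PP p c.s ⊓ C[PP p c.t ⊓ C{c.s}], y ≠ 1 ∧ c.t * y * c.t⁻¹ = y⁻¹ := by
  have hf := c.four
  have H := fun {v w : G} (h : Four v w) => c.exists_four h
  generalize c.t = t at *
  generalize c.s = s at *
  have hp2 : p ≠ 2 := by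
    rintro rfl
    exact h2 (((pcore_pi _ _).eq_bot ((pcore_pi _ _).of_le (pcore_le _ _))).le.trans bot_le)
  have htX : t ∈ C[PP p t ⊓ C{s}] := mem_C_iff_le_C1.2 (inf_le_left.trans (PP_nml p t).le)
  have hts := (PP_nml p s).norm hf.t_mem_C
  refine exists_inv (odd_of_le (PP_odd p s) inf_le_left) (sq_of hf.ht) (zpowers_le.1
    (norm_inf (zpowers_le.2 hts) (norm_C (zpowers_le.2 (C_le_N _ htX))))) fun e => h2 ?_
  have h3 := Thompson_PxQ hp ((pcore_pi {p} (UU t)).inf_left C{s})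
    ((isPi_zp hf.ht).compl_of_ne hp2.symm) (pcore_pi {p} (UU s)) (cents_symm (zpowers_le.2 htX))
    (inf_le_right.trans (PP_nml p s).norm) (zpowers_le.2 hts) (by rwa [C_zpowers])
  obtain ⟨g, e1, e2⟩ := H hf.symm
  have := cj_mono g⁻¹ (mem_C_iff_le_C1.1 (zpowers_le.1 h3))
  have e3 : g⁻¹ * s * g⁻¹⁻¹ = t := by rw [← e1]; group
  have e4 : g⁻¹ * t * g⁻¹⁻¹ = s := by rw [← e2]; group
  rwa [PP_cj, cj_C1, e3, e4] at this

theorem QC.not_dvd_index (c : QC G) {p : ℕ} (hp : p.Prime) {R : Subgroup G} (hR : IsPi {p} R)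
    (hn : R ⊴ c.H) (hN : C[R] ≤ c.H) (h : ¬ R ≤ C{c.s}) : ¬ p ∣ c.H.index :=
  H13.Dih.not_dvd_index hp hR hn.le fun g hg => by
    rw [cj_le_iff, QC.H, cj_C1] at hg
    by_contra h3
    obtain ⟨k, hk, e⟩ := c.invol_H (hN (mem_C_iff_le_C1.2 hg)) (two_conj c.four.ht g⁻¹)
      fun e => h3 (inv_mem_iff.1 (mem_C1_iff_conj.2 e))
    have := cj_mono k hg
    rw [cj_C1, e, mem_N_iff_cj.1 (hn.norm hk)] at this
    exact h this

end H2.QD
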