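import Mathlib
import Cfsg.Agent.H7.QH0
import Cfsg.Agent.H2.QDL
import Cfsg.Agent.H2.QBud
import Cfsg.Agent.H2.QHIIa
import Cfsg.Agent.H2.QHIIb
import Cfsg.Agent.H13.DihBI1
import Cfsg.Agent.H25.Rank2

/-! The case (HII) of the quasi-dihedral analysis. -/

set_option autoImplicit false
set_option linter.unusedSectionVars false

namespace H7.QH

open H24 H26 Cfsg Subgroup H2.QD
open H13.Dih hiding MC

universe u

variable {G : Type u} [Group G] [Finite G] {c : QC G} {M : Mod c} {L₁ : Subgroup G} {d x : G}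

theorem exists_comp (h : MC M) (hH : IsCoatom c.H) (H : HII c.t) : ∃ L₁, M.Comp L₁ := by
  have := h.simple
  have hq := h.q5
  have hf := c.four
  have sH := c.S_le_H c.s_mem_S
  have h1 : ⁅c.H, zpowers c.s⁆ ≤ C[F[c.U]] := by
    rw [(Fitting_nil _).C_eq {q | PP q c.t ⊓ C{c.s} = ⊥}]
    exact le_inf ((KK_inv hf).comm_le_C (sq_of hf.hs) (KK_nml c.t c.s).norm)
      ((comm_mono_right (zpowers_le.2 (mem_C_iff_le_C1.2 (H.compl_le hf)))).trans
        (comm_le_right (norm_C ((FU_nml c.t).pcore _).norm)))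
  obtain ⟨L₁, n, -, ce, su, hi⟩ := M.exists_L1 hq (M.cov_C_U hq (M.cov_of_norm hq
    (le_top.trans M.img_H.ge) (inf_le_left.trans (norm_C (FU_nml c.t).norm)) fun e => by
      have := (img_mono M.κ h1).trans e.le
      rw [img_comm _ le_rfl (zpowers_le.2 sH), M.img_H, img_zpowers _ sH, le_bot_iff, comm_eq_bot'] at this
      exact ne_one_of M.four_eσ.ht (mem_bot.1 ((M.C_L hq).le (C_anti le_top (this (mem_zpowers _)))))))
  refine ⟨L₁, n, ce, su, hi.resolve_right fun ⟨q9, p3, hn⟩ => ?_⟩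
  have hP : ¬ PP 3 c.t ≤ C{c.s} := fun e =>
    hn ((pcore_max p3 ((n.inf c.U_nml).of_le inf_le_right c.U_le_H)).trans e)
  have P1 : PP 3 c.t ≠ ⊥ := fun e => hP (e.le.trans bot_le)
  refine c.not_dvd_index Nat.prime_three (pcore_pi _ _) (PP_nml 3 c.t) ((C_le_N _).trans
    (N_eq (nsol h) hH P1 (PP_nml 3 c.t)).le) hP (M.q9 q9 (((pcore_pi _ _).dvd_card P1).trans ?_))
  rw [← relIndex_bot_left, ← eq_bot_of_le ((H 3 Nat.prime_three _ hf).resolve_right hP)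
    (le_inf inf_le_right (inf_le_left.trans (inf_le_right (a := c.U)))), inf_relIndex_right,
    ← relIndex_sup_of_norm' (inf_le_left.trans (c.U_le_H.trans (PP_nml 3 c.t).norm))]
  exact Dvd.intro _ (relIndex_mul_relIndex _ _ _ le_sup_left (sup_le inf_le_left (pcore_le _ _)))

/-- `t` centralises `O(N⟨d⟩)` -/
theorem cent_Nd (h : MC M) (hH : IsCoatom c.H) (H : HII c.t) (hL : M.Comp L₁) (hd : d ∈ L₁ ⊓ c.R)
    (hp : (orderOf d).Prime) (hCT : c.CT ≤ N[zpowers d]) (hi : c.i ∈ N[zpowers d])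
    (hU : c.U ≤ N[zpowers d]) : c.t ∈ C[𝒪[N[zpowers d]]] := by
  have := h.simple
  have hq := h.q5
  have hf := c.four
  have hT := c.T_le_CT.trans hCT
  have d1 := ne_one_of_orderOf_prime hp
  refine cent_O_of hf.ht (hT Four.t_mem) fun q pq q2 => ?_
  by_cases hm : q ∈ primesOf F[UU c.t]
  · exact bi_cent (nsol h) hf.ht hH hm ((inf_le_left.trans (Fitting_le _)).trans hU) (hT Four.t_mem)
  have oY := odd_of_pi q2 (pcore_pi {q} N[zpowers d])
  have nY := (pcore_nml {q} N[zpowers d]).norm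
  have key : O[{q}, N[zpowers d]] ⊓ C{c.s} ≤ C{c.t} := by
    have oX := odd_of_le oY (inf_le_left (b := C{c.s}))
    have nX : (c.cj c.ρ).CT ≤ N[O[{q}, N[zpowers d]] ⊓ C{c.s}] := (c.cj_CT' c.rot_ρ.mem_NT).le.trans
      (norm_inf (hCT.trans nY) (norm_C1 inf_le_right))
    have sX := nX ((c.cj c.ρ).T_le_CT Four.s_mem)
    have lX := (comm_le_left (zpowers_le.2 sX)).trans inf_le_left
    rcases (M.cj c.ρ).inv_cases hq oX (inf_le_right.trans (rH c.rot_ρ).ge) nX with e | ⟨r, e⟩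
    · have e1 : ⁅O[{q}, N[zpowers d]] ⊓ C{c.s}, zpowers (c.cj c.ρ).s⁆ ≤ cj c.ρ F[UU c.t] := by
        rw [← comm_idem oX (c.cj c.ρ).ord_s sX]
        exact (comm_mono_left e).trans ((c.cj_K c.ρ).le.trans
          (cj_mono _ ((H.comm_eq hf).le.trans (KK_le _ _))))
      have e2 := comm_zp_eq_bot.1 (by_contra fun k => hm (by
        have := ((pcore_pi _ _).of_le lX).mem_primesOf k e1
        rwa [mem_primesOf, card_cj, ← mem_primesOf] at this))
      exact fun y hy => hf.C_of_ts' hy.2 (rs c.rot_ρ ▸ e2 hy)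
    · have dH := R_le' c hd.2
      have od := odd_orderOf (odd_R c) hd.2
      have dC : zpowers d ≤ C[F[N[zpowers d]]] := prime_le_of_inf_ne (by rwa [card_zpowers'])
        ((Fitting_nil _).inf_C_ne_bot ((nml_N _).of_le (Fitting_max (nml_N _) (cyc_zpowers d).nil)
          (Fitting_le _)) (zpowers_ne_bot.2 d1))
      refine absurd (notU h hL hd Four.s_mem (ne_one_of hf.hs) (rU c.rot_ρ ▸ (M.cj c.ρ).mem_U dH
        (((M.cj c.ρ).root_e r e).2.1.eq_one (r.C.le (ap_mem_C _ (C_anti (lX.trans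
          (pcore_le_Fitting pq _)) (dC (mem_zpowers d))) dH)) (od.of_dvd_nat (orderOf_ap_dvd _ dH))
          (pcore_le _ _ (img_R' le_rfl (ap_mem_img _ hd.2 dH)))) od)) d1
  refine hf.gen oY (hT.trans nY) inf_le_right key ?_
  have := cj_mono c.i key
  rwa [cj_inf, cj_of_mem_N (nY hi), cj_C1, cj_C1, c.i_s, c.i_t] at this

/-- the end: `U` is cyclic and inverted by `s` -/
theorem fin_cyc (h : MC M) (hH : IsCoatom c.H) (hL : M.Comp L₁) (h0 : M.L0 = ⊤) (hU : c.U ≠ ⊥)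
    (cy : Cyc c.U) (iU : Inv c.s c.U) : False := by
  have := h.simple
  obtain ⟨p, hp, hd⟩ := exists_prime_dvd_card hU
  have hti : ∀ g, cj g O[{p}, c.U] ⊓ c.H ≠ ⊥ → g ∈ c.H := fun g hg => by
    obtain ⟨x, ⟨h1, h2⟩, x1⟩ := exists_ne_one hg
    have xU : g⁻¹ * x * g⁻¹⁻¹ ∈ c.U := by rw [inv_inv]; exact pcore_le _ _ (mem_cj.1 h1)
    have y1 : g⁻¹ * x * g⁻¹⁻¹ ≠ 1 := fun e => x1 (conj_eq_one_iff'.1 e)
    have hc := (cj_C1 _ _).le (conj_mem_cj g⁻¹ (mem_C1_comm.1 h2))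
    have tH := (N_eq (nsol h) hH (zpowers_ne_bot.2 y1) ⟨(zpowers_le.2 xU).trans c.U_le_H,
      H25.cyc_norm cy (zpowers_le.2 xU) c.U_nml.norm⟩).le (norm_zpowers_of_cent le_rfl hc)
    by_contra hn
    obtain ⟨k, hk, e⟩ := c.invol_H tH (two_conj c.four.ht _) fun e =>
      hn (inv_mem_iff.1 (mem_C1_iff_conj.2 e))
    have := iU.conj (c.U_nml.norm (inv_mem hk))
    rw [← e, show k⁻¹ * (k * (g⁻¹ * c.t * g⁻¹⁻¹) * k⁻¹) * k⁻¹⁻¹ = g⁻¹ * c.t * g⁻¹⁻¹ by group] at this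
    exact y1 (this.eq_one xU (odd_orderOf c.odd_U xU) (mem_C1_comm.1 hc))
  have P1 := cy.nil.pcore_ne_bot (π := {p}) hp rfl hd
  exact h.hiib hL h0 cy.abl hp P1 (iU.of_le (pcore_le _ _)) (not_dvd_index hp (pcore_pi _ _)
    ((pcore_le _ _).trans c.U_le_H) fun g hg => hti g (by rwa [inf_eq_left.2 hg, Ne, cj_eq_bot])) hti

theorem not_hii (h : MC M) (hK : c.K ≠ ⊥) (hH : IsCoatom c.H) (H : HII c.t) : False := by
  have hq := h.q5
  have hf := c.four
  obtain ⟨L₁, hL⟩ := exists_comp h hH H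
  have eK : c.K = KK c.t c.s := H.comm_eq hf
  have iK : Inv c.s c.K := eK ▸ KK_inv hf
  have oK := odd_of_le c.odd_U c.K_le
  have oK' : Odd ♯(cj c.ρ c.K) := by rwa [card_cj]
  have Ks : cj c.ρ c.K ≤ C{c.s} :=
    (cj_mono _ (c.K_le.trans c.U_le_H)).trans ((c.cj_H _).ge.trans (rH c.rot_ρ).le)
  have iK' : Inv c.t (cj c.ρ c.K) :=
    hf.ts_s ▸ (c.rot_ρ.2 ▸ iK.cj c.ρ).mul_cent (mem_C_iff_le_C1.2 Ks)
  by_cases hA : ∀ d ∈ L₁ ⊓ c.R, (orderOf d).Prime → cj c.ρ c.K ⊓ C{d} = ⊥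
  · obtain ⟨y, hy, hj⟩ := Mod.Comp.exists_y M hq hL
    have yH := (rH c.rot_ρ).ge hy.2
    refine (h.cj c.ρ).hiia (hL.cj c.ρ) ((cj_mono _ c.K_le).trans (c.cj_U _).ge) iK'.abl
      (by rwa [Ne, cj_eq_bot]) yH (norm_cj (eK ▸ KK_nml c.t c.s).norm c.ρ ((c.cj_H _).le yH)) fun j hm => ?_
    rcases hj j hm with e | ⟨d, hd, hp⟩
    · exact eq_bot_of_le (iK'.inf_C oK') (inf_le_inf_left _ ((C_zpowers _).ge.trans (C_le_C1 e)))
    · exact eq_bot_of_le (hA d hd.2 hp) (inf_le_inf_left _ ((C_zpowers _).ge.trans (C_le_C1 hd.1)))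
  push Not at hA
  obtain ⟨d, hd, hp, hx⟩ := hA
  obtain ⟨x, hx, x1⟩ := exists_ne_one hx
  have iD := Mod.Comp.D_inv M hq hL
  have cD := Mod.Comp.D_cyc M hq hL
  have hCT := (CT_D hL).trans (H25.cyc_N_le cD (zpowers_le.2 hd))
  have hT := c.T_le_CT.trans hCT
  have hi := (inv_zpowers (iD d hd)).norm
  have hU := norm_zpowers_of_cent ((cents_symm hL.cent).trans (C_le_C1 hd.1))
  have od := odd_of_le (odd_R c) (zpowers_le.2 hd.2)
  have d1 := ne_one_of_orderOf_prime hp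
  have hCD := (h.cov (h.N_ne_top' (zpowers_ne_bot.2 d1) od) hCT).resolve_right fun ⟨g, hg, hB⟩ =>
    d1 (notU h hL hd ((c.cj_T' hg).le Four.t_mem) (ne_one_of (c.cj g).four.ht)
      ((M.cj g).le_U_of_cov hq hB.cov od inf_le_left
        ⟨mem_zpowers d, (c.cj g).CT_le_H ((c.cj_CT' hg).ge (R_le_CT c hd.2))⟩))
  have hO := cent_Nd h hH H hL hd hp hCT hi hU
  obtain ⟨A, hE⟩ := exists_DE c hCD (not_sol_of hCD hf hT hO ⟨norm_zpowers_of_cent le_rfl hx.2, Ks hx.1⟩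
    (odd_orderOf oK' hx.1) x1 (iK' x hx.1)) (.inr hi) hO bot_le
    (inf_le_left.trans ((Fitting_le _).trans hU)) fun e => hK (iK.eq_bot oK ((eK.le.trans (KK_le _ _)).trans e))
  obtain ⟨e1, e2, -, ⟨r, hr, rot⟩, e4, -⟩ := hE.two M hq hCD hCT hi
  have eD := Mod.Comp.D_comm M hq hL
  rw [eD] at e1
  have hND := c.NT_le (CT_D hL) iD.norm rot (norm_of_cent (cents_symm e1) hr)
  have h0 := h.L0_eq_top (M.tw_of hq (by
    rw [(Mod.Comp.R_inf M hq hL).2]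
    exact norm_inf c.NT_le_NR (norm_C hND) c.rot_ρ.mem_NT))
  have aR : Abl c.R := by
    rw [R_eq h hL h0]
    exact cD.abl.sup (cyc_of h hL le_rfl ((img_R' inf_le_right).trans
      ((le_inf le_rfl (le_top.trans h0.ge)).trans (M.cj c.ρ).Rh_inf.le))).1.abl
      (inf_le_left.trans (hL.cent.trans (C_anti inf_le_left)))
  have RD := (R_le_CT c).trans (CT_D hL)
  have mW : ∀ g ∈ N[c.T], g ∈ coq (L₁ ⊓ c.R) C[quo c.R (L₁ ⊓ c.R)] ↔ ⁅c.R, zpowers g⁆ ≤ L₁ ⊓ c.R :=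
    fun g hg => by
      rw [mem_coq, and_iff_right (hND hg), ← quo_cents RD (zpowers_le.2 (hND hg)), centsC,
        quo_zpowers (hND hg), zpowers_le]
  have iW := (mW _ c.i_mem_NT).2 eD.le
  obtain ⟨r', hr', rot'⟩ := c.rot_of_swap (g := r * c.i * r⁻¹) (.inr (by
    calc _ = r * (c.i * (r⁻¹ * (c.t * r)) * c.i⁻¹) * r⁻¹ := by group
      _ = _ := by rw [← mul_inv_eq_iff_eq_mul.1 rot.ts, inv_mul_cancel_left, c.i_ts, rot.2])) (conj_mem (norm_self _ rot.mem_NT) c.i_mem_NT)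
    (conj_mem (norm_coq hND (norm_C (quo_norm _ c.NT_le_NR)) rot.mem_NT) iW) iW
  have rW := (mW _ rot.mem_NT).1 (c.NT_le (fun y hy => (mW y (C_le_N _ (c.C_T.ge hy))).2
    ((comm_eq_bot'.2 (zpowers_le.2 ((c.CT_dp.sup.ge.trans (sup_le (aR.cents le_rfl le_rfl)
      c.CT_dp.cent)) hy))).le.trans bot_le)) iW rot' hr' rot.mem_NT)
  have iU : Inv c.s c.U := inv_of_inf_C c.odd_U (sq_of hf.hs) c.s_mem_NU (eq_bot_iff.2 fun y hy => by
    have yR := c.le_R (odd_of_le c.odd_U inf_le_left) (inf_le_inf_right _ c.U_le_H) hy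
    have := comm_eq_bot.1 (eq_bot_of_le e4 (le_inf ((comm_mono_right (zpowers_le.2 hr)).trans
      (comm_le_right ((zpowers_le.2 (hU hy.1)).trans (res_nml _).norm)))
      (((comm_mono_left (zpowers_le.2 yR)).trans rW).trans e1))) (mem_zpowers y)
    rw [C_zpowers, mem_C1_comm, mem_C1_iff_conj] at this
    refine (h.UU_inf_of (covU hL)).le ⟨hy.1, ?_⟩
    rw [← rot.1, ← UU_cj, ← this]
    exact conj_mem_cj r hy.1)
  have UK := (iU.comm_eq c.odd_U).ge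
  refine fin_cyc h hH hL h0 (ne_bot_of_le hK c.K_le) (hE.cyc.of_le (UK.trans ((comm_mono_left
    ((le_inf (UK.trans (eK.le.trans (KK_le _ _))) hU).trans hE.F_le)).trans ?_))) iU
  rw [(isProd_sup (norm_of_cent (C_anti (hE.A_le.trans inf_le_left)))).comm_left_of_cent
    (C_anti (zpowers_le.2 (e2 Four.s_mem)))]
  exact comm_le_left (zpowers_le.2 (hE.inv _ (hT Four.s_mem) hf).norm)

end H7.QH

namespace H2.QD

open H13.Dih (HII)

universe u

variable {G : Type u} [Group G] [Finite G]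

theorem MC.not_hii {c : QC G} {M : Mod c} (h : MC M) (hK : c.K ≠ ⊥) (hH : IsCoatom c.H)
    (H : HII c.t) : False := H7.QH.not_hii h hK hH H

end H2.QD
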