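import Mathlib
import Cfsg.Agent.H2.QRoot
import Cfsg.Agent.H2.QCL
import Cfsg.Agent.H2.QSch
import Cfsg.Agent.H2.QPure
import Cfsg.Agent.H13.QN7

/-! The rooted case. -/

set_option autoImplicit false

namespace H2.QD

open H24 Cfsg Subgroup
open H13.Dih (Four V4 Inv CD UU PP FC res)
open scoped MatrixGroups

universe u

variable {G : Type u} [Group G] [Finite G]

theorem MC.rooted {c : QC G} {M : Mod c} (h : MC M) {p : ℕ} {B : Subgroup G} (hB : MinB c p B)
    (hr : ¬ c.Free B) : c.U ≤ C{c.s} :=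
  (H13.QN.exists_RS h hB hr).elim fun _ R => R.U_le

end H2.QD
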