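import Mathlib
import Cfsg.Agent.H2.QDefs3
import Cfsg.Agent.H13.ZJApps
import Cfsg.Agent.H2.QB2
import Cfsg.Agent.H2.QNat
import Cfsg.Agent.H2.QPure
import Cfsg.Agent.H2.QCh1
import Cfsg.Agent.H2.QBud
import Cfsg.Agent.H20.QK4

/-! # QKill: natural sections are excluded or rooted -/

set_option autoImplicit false
set_option linter.unusedVariables false
set_option linter.unusedSectionVars false

namespace H2.QD

open H24 H26 Cfsg Subgroup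
open H13.Dih (Four V4 Inv CD UU PP FC QS HII res)
open H20.QK (ST NS)
open scoped MatrixGroups

universe u

variable {G : Type u} [Group G] [Finite G]

/-- the upper unitriangular matrices -/
def kU (F : Type) [Field F] : Multiplicative F →* SL(2, F) :=
  MonoidHom.mk' (fun b => ⟨!![1, b.toAdd; 0, 1], by simp [Matrix.det_fin_two_of]⟩) fun a b =>
    Subtype.ext (show _ = !![1, a.toAdd; 0, 1] * !![1, b.toAdd; 0, 1] by simp [add_comm])

/-- the diagonal matrices -/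
def kD (F : Type) [Field F] : Fˣ →* SL(2, F) :=
  MonoidHom.mk' (fun a => ⟨!![(a : F), 0; 0, (a⁻¹ : Fˣ)], by simp [Matrix.det_fin_two_of]⟩)
    fun a b => Subtype.ext (show _ = !![(a : F), 0; 0, (a⁻¹ : Fˣ)] * !![(b : F), 0; 0, (b⁻¹ : Fˣ)] by
      simp [mul_comm])

theorem kU_inj {F : Type} [Field F] : Function.Injective (kU F) := fun a b e =>
  Multiplicative.toAdd.injective (congrArg (fun g : SL(2, F) => g 0 1) e)

theorem kD_inj {F : Type} [Field F] : Function.Injective (kD F) := fun a b e =>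
  Units.ext (congrArg (fun g : SL(2, F) => g 0 0) e)

theorem kD_conj {F : Type} [Field F] (a : Fˣ) (b : Multiplicative F) :
    kD F a * kU F b * (kD F a)⁻¹ = kU F (Multiplicative.ofAdd (a * a * b.toAdd)) := by
  rw [← map_inv]
  exact Subtype.ext (show !![(a : F), 0; 0, (a⁻¹ : Fˣ)] * !![1, b.toAdd; 0, 1] *
    !![((a⁻¹ : Fˣ) : F), 0; 0, (a⁻¹⁻¹ : Fˣ)] = !![1, a * a * b.toAdd; 0, 1] by simp; ring)

namespace Mod
variable {c : QC G} (M : Mod c) {J P R : Subgroup G}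

theorem k_p : (M.N.p : M.F) = 0 := by rw [← M.char_eq]; exact ringChar.Nat.cast_ringChar

theorem k_lam {x : G} (hx : x ∈ M.Lt) : ap M.lam x = 1 ↔ x ∈ c.U := by
  rw [ap_of_mem M.lam hx]; exact M.lam_ker _

theorem k_ns [Fintype G] (hJ : M.Cov J) (hR : R ≤ P) (h4 : J ≤ N[P]) (hn : M.NatSec J P R) :
    ∃ (W : Type u) (_ : AddCommGroup W) (_ : Module M.F W) (_ : Finite W) (φ : G → W × W),
      NS (ap M.lam) J P R φ := by
  obtain ⟨W, _, _, φ, e1, e2, e3⟩ := hn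
  have ns : NS (ap M.lam) J P R fun x => ((ap φ x).toAdd 0, (ap φ x).toAdd 1) :=
    { norm := h4
      le := hR
      add := fun x hx y hy => by rw [ap_mul _ hx hy]; rfl
      ker := fun x hx => by
        rw [← e2 ⟨x, hx⟩, ← ap_of_mem _ hx, Prod.ext_iff]
        refine ⟨fun e => Multiplicative.toAdd.injective (funext fun i => ?_), fun e => by simp [e]⟩
        fin_cases i
        exacts [e.1, e.2]
      surj := fun v => by
        obtain ⟨x, hx⟩ := e1 (Multiplicative.ofAdd ![v.1, v.2])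
        exact ⟨x, x.2, by rw [ap_coe, hx]; rfl⟩
      conj := fun j hj x hx => by simp only [e3 j hj x hx, Fin.sum_univ_two]
      lam_surj := fun g => by
        obtain ⟨j, hj⟩ := M.nat_surj hJ g
        exact ⟨j, j.2, (ap_of_mem _ (hJ.le j.2)).trans hj⟩ }
  refine ⟨W, _, _, Finite.of_surjective (fun x => (ap φ x).toAdd 0) fun v => ?_, _, ns⟩
  obtain ⟨x, -, e⟩ := ns.surj (v, 0)
  exact ⟨x, congrArg Prod.fst e⟩

theorem k_borel (hq : 5 ≤ M.N.q) (hJ : M.Cov J) {k : ℕ} (hk : 2 * k + 1 = M.N.q) :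
    ∃ P₀ ≤ J, ∃ y ∈ J, IsPi {M.N.p} P₀ ∧ y ∈ N[P₀] ∧
      (∀ j : ℕ, ¬ k ∣ j → ∀ x ∈ P₀, y ^ j * x * (y ^ j)⁻¹ * x⁻¹ ∈ Phi P₀ → x ∈ Phi P₀) ∧
      (∀ x ∈ P₀, ap M.lam x 1 0 = 0) ∧ ap M.lam y 1 0 = 0 ∧
      ∀ N ≤ J, J ≤ N[N] → P₀ ≤ N → c.t ∈ N := by
  obtain ⟨a, ha⟩ := IsCyclic.exists_generator (α := M.Fˣ)
  have oa : orderOf a = 2 * k := by
    rw [orderOf_eq_card_of_forall_mem_zpowers ha, Nat.card_units, ← M.hq]; omega
  have top : ∀ g, g ∈ img M.lam J := fun g => by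
    obtain ⟨j, hj⟩ := M.nat_surj hJ g
    exact mem_img.2 ⟨j, j.2, hJ.le j.2, (ap_of_mem _ (hJ.le j.2)).trans hj⟩
  obtain ⟨P₀, a1, y, a2, a3, a4, a5, a6, a7, -⟩ := H1.QP.cover M.lam M.N.hp (Y := J)
    (X := (kU M.F).range) (z := kD M.F a)
    ⟨⟨⟨by rintro ⟨_, x, rfl⟩ ⟨_, y, rfl⟩; exact Subtype.ext (by
        simp only [coe_mul, ← map_mul, mul_comm])⟩⟩, by
      rintro _ ⟨b, rfl⟩
      rw [← map_pow, ← map_one (kU M.F)]
      congr 1
      exact Multiplicative.toAdd.injective (by simp [M.k_p])⟩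
    (mem_N_of_finite (by rintro _ ⟨b, rfl⟩; exact ⟨_, (kD_conj a b).symm⟩))
    (by
      rw [orderOf_injective _ kD_inj, oa]
      intro e
      have e1 : M.N.p ∣ 2 * k + 1 := by rw [hk, M.N.hq]; exact dvd_pow_self _ M.N.f_pos.ne'
      exact M.N.hp.one_lt.ne' (Nat.dvd_one.1 ((Nat.dvd_add_right e).1 e1)))
    (fun g _ => top g) (top _)
  have hL : ∀ x ∈ P₀, x ∈ pre M.κ M.E.L := fun x hx => (a1 hx).2
  have hU : ∀ x ∈ P₀, ∃ b, kU M.F b = ap M.lam x := fun x hx => a4.le (ap_mem_img _ hx (hL x hx))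
  refine ⟨P₀, a1.trans inf_le_left, y, a2.1, a3, a6, fun j hj x hx e => ?_, fun x hx => ?_, ?_,
    fun N h1 h2 h3 => M.t_mem_of_cov (M.cov_of_norm hq hJ.cov (inf_le_left.trans h2) fun e => ?_)⟩
  · rw [← a5] at e ⊢
    refine ⟨hx, mem_pre_bot.2 ⟨hL x hx, ?_⟩⟩
    have e1 := (mem_pre_bot.1 e.2).2
    obtain ⟨b, hb⟩ := hU x hx
    have yj : y ^ j ∈ pre M.κ M.E.L := pow_mem a2.2 j
    rw [ap_mul _ (mul_mem (mul_mem yj (hL x hx)) (inv_mem yj)) (inv_mem (hL x hx)),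
      ap_conj _ yj (hL x hx), ap_inv _ (hL x hx), ap_pow _ a2.2, a7, ← hb, ← map_pow, kD_conj,
      mul_inv_eq_one] at e1
    have e2 : ((a ^ j * a ^ j : M.Fˣ) : M.F) * b.toAdd = b.toAdd := congrArg Multiplicative.toAdd (kU_inj e1)
    by_cases b0 : b.toAdd = 0
    · rw [← hb, show b = 1 from b0, map_one]
    have e3 : a ^ (2 * j) = 1 := by
      rw [two_mul, pow_add]; exact Units.ext ((mul_eq_right₀ b0).1 e2)
    rw [← orderOf_dvd_iff_pow_eq_one, oa] at e3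
    exact absurd (Nat.dvd_of_mul_dvd_mul_left two_pos e3) hj
  · obtain ⟨b, hb⟩ := hU x hx
    rw [← hb]; rfl
  · rw [a7]; rfl
  · obtain ⟨x, hx, xL, e1⟩ := mem_img.1 (a4.ge ⟨Multiplicative.ofAdd 1, rfl⟩)
    have xH := M.Lt_nml.le xL
    have := (M.k_lam xL).2 (M.mem_U xH (mem_bot.1 (e ▸ ap_mem_img _ (h3 hx) xH))
      (H13.Dih.odd_orderOf (H13.Dih.odd_of_pi M.N.p_ne a3) hx))
    rw [e1, ← map_one (kU M.F)] at this
    exact one_ne_zero (α := M.F) (congrArg Multiplicative.toAdd (kU_inj this))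

theorem k_tor (hq : 5 ≤ M.N.q) (hJ : M.Cov J) (hε : M.N.ε = -1) : ∃ (d : G) (r n : ℕ),
    d ∈ J ∧ d ∈ C{c.s} ∧ r.Prime ∧ d ^ r ^ n = 1 ∧ ap M.lam d 0 0 + ap M.lam d 1 1 ≠ 2 ∧
      ¬ M.N.q ≡ 1 [MOD r] := by
  obtain ⟨r, hr, r1⟩ := Nat.exists_prime_and_dvd (n := ♯M.Dh) (by have := M.three_le_Dh hq; omega)
  have := Fact.mk hr
  obtain ⟨g, hg⟩ := exists_prime_orderOf_dvd_card' r r1
  rw [← Subgroup.orderOf_coe] at hg
  have r2 : r ∣ M.N.q + 1 := by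
    have := M.card_Dh
    have := M.N.hm
    rw [show M.N.q + 1 = 2 * ♯M.Dh by omega]
    exact r1.mul_left 2
  have JH := hJ.le.trans M.Lt_nml.le
  obtain ⟨x, hx, xH, e⟩ := mem_img.1 ((M.img_inf_R' (X := J ⊔ c.S) (c.T_le_S.trans le_sup_right)).ge
    ⟨img_mono _ le_sup_left (hJ.cov (M.Dh_le_L g.2)), M.Dh_le_Rh g.2⟩)
  have xJ : x ∈ J := by
    obtain ⟨j, hj, σ, hσ, rfl⟩ := (mem_sup_of_norm hJ.norm).1 hx.1
    have : σ ∈ M.Lt := (M.Lt.mul_mem_cancel_left (hJ.le hj)).1 (M.mem_Lt.2 ⟨xH, e ▸ M.Dh_le_L g.2⟩)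
    exact mul_mem hj (hJ.Q_le (M.S_inf_Lt.le ⟨hσ, this⟩))
  obtain ⟨n, hn⟩ := (piElt_constt {r} x).exists_pow hr
  have dJ := constt_mem {r} xJ
  have e1 : ap M.κ (constt {r} x) = g := by
    rw [constt_ap _ _ xH, e, constt_eq_self (piElt_of_orderOf_prime hr hg)]
  refine ⟨_, r, n, dJ, constt_mem _ (c.mem_R.1 hx.2).1.2, hr, by rw [← hn, pow_orderOf_eq_one],
    fun e2 => ?_, fun e2 => ?_⟩
  · have e3 := H20.QK.pow_char_of_trace M.k_p e2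
    rw [← ap_pow M.lam (hJ.le dJ), M.k_lam (pow_mem (hJ.le dJ) _)] at e3
    have e4 := M.κ_U e3
    rw [ap_pow _ (JH dJ), e1, ← orderOf_dvd_iff_pow_eq_one, hg] at e4
    have e5 : r ∣ M.N.q := by rw [M.N.hq]; exact e4.trans (dvd_pow_self _ M.N.f_pos.ne')
    exact hr.one_lt.ne' (Nat.dvd_one.1 ((Nat.dvd_add_right e5).1 r2))
  · have e3 : 1 + 1 ≡ 0 [MOD r] := (e2.add_right 1).symm.trans (Nat.modEq_zero_iff_dvd.2 r2)
    have e4 := (Nat.prime_dvd_prime_iff_eq hr Nat.prime_two).1 (Nat.modEq_zero_iff_dvd.1 e3)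
    exact Nat.not_odd_iff_even.2 (even_iff_two_dvd.2 (e4 ▸ r1)) M.pg_odd_Dh

end Mod

namespace MC
variable {c : QC G} {M : Mod c} (h : MC M) {J P R : Subgroup G} (hJ : M.Cov J) (hR : R ≤ P)
  (h1 : R ≤ C[P]) (h2 : R ≤ c.U) (h3 : J ≤ C[R]) (h4 : J ≤ N[P]) (h5 : c.S ≤ N[P])
  (h6 : P ⊓ C{c.t} ≤ R)
include h hJ hR h1 h2 h3 h4 h5 h6

open H4 in
theorem k_st [Fintype G] (ho : Odd ♯P) : ∃ χ f, ST χ f M.N.q c.t J P R ∧
    ∀ g, c.t ∈ zpowers g → ∀ o ∈ c.U, χ (o * g) = χ g := by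
  obtain ⟨χ, f, δ, hχ⟩ := M.exists_bud
  have := h.simple
  have q5 := h.q5
  have hv : χ c.t = M.N.q ∨ χ c.t = -M.N.q := by
    have k2 := hχ.val 1 (one_mem _) (by simp)
    rw [mul_one, M.St_one, Mod.Qe] at k2
    rcases hχ.hδ with e | e <;> rcases M.N.hε with e' | e' <;> simp [k2, e, e']
  have hi : ∀ g, c.t ∈ zpowers g → ∀ o ∈ c.U, χ (o * g) = χ g := fun g hg o ho => by
    rw [hχ.irr.classFun.mul_comm, hχ.inv g hg o ho]
  refine ⟨χ, f, ⟨hχ.irr.isCharacter, hχ.deg, hχ.le, q5, hχ.real,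
    fun g => hχ.irr.eq_one_of_apply_eq_of_simple ?_, c.four.ht, hv,
    fun r hr => hi _ (mem_zpowers _) r (h2 hr), ho, hR, h1, h3, h4, hJ.Q_le c.t_mem_Q,
    hJ.le.trans M.Lt_nml.le, h6⟩, hi⟩
  rintro rfl
  rcases hv with e | e
  · have : 1 = M.N.q := by exact_mod_cast (show (1 : ℂ) = M.N.q from e)
    omega
  · have : 1 + M.N.q = 0 := by exact_mod_cast (show (1 : ℂ) + M.N.q = 0 from add_eq_zero_iff_eq_neg.2 e)
    omega

theorem k_abl [Fintype G] {χ : G → ℂ} {f : ℕ} (st : ST χ f M.N.q c.t J P R) {W : Type u}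
    [AddCommGroup W] [Module M.F W] [Finite W] {φ : G → W × W} (ns : NS (ap M.lam) J P R φ) :
    Abl P := by
  have m4 := M.m_mod
  have hm := M.N.hm
  obtain ⟨k, hk⟩ : ∃ k, 2 * k + 1 = M.N.q := ⟨M.N.q / 2, by rcases M.N.hε with e | e <;> omega⟩
  obtain ⟨P₀, a1, y, a2, a3, a4, a5, a6, a7, a8⟩ := M.k_borel h.q5 hJ hk
  refine st.pd ns M.hq.symm M.h2 M.N.hp M.N.p_ne a3 a1 a2 a4 hk a5 a6 a7 a8 ?_
  rcases M.N.hε with e | e
  · exact Or.inl (Nat.odd_iff.2 (by omega))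
  obtain ⟨d, r, n, b⟩ := M.k_tor h.q5 hJ e
  refine Or.inr ⟨c.s, c.i, d, r, n, h5 c.s_mem_S, mem_N_of_finite fun x hx => h6
    ⟨conj_mem (h5 c.s_mem_S) (hR hx), ?_⟩, H13.Dih.sq_of c.ord_s, hJ.Q_le c.i_mem_Q, c.i_s, b⟩
  have sH := c.S_le_H c.s_mem_S
  exact c.H.mul_mem (mul_mem sH (c.U_le_H (h2 hx))) (inv_mem sH)

/-- part PD of `kill` -/
theorem kill_pd (hP : IsPi {M.N.p} P) (hn : M.NatSec J P R) : ⁅P, zpowers c.t⁆ ⊓ R = ⊥ := by
  have := Fintype.ofFinite G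
  obtain ⟨χ, f, st, -⟩ := h.k_st hJ hR h1 h2 h3 h4 h5 h6 (H13.Dih.odd_of_pi M.N.p_ne hP)
  obtain ⟨W, _, _, _, φ, ns⟩ := M.k_ns hJ hR h4 hn
  exact st.B_inf (h.k_abl hJ hR h1 h2 h3 h4 h5 h6 st ns)

open H4 in
theorem kill (hP : IsPi {M.N.p} P) (hn : M.NatSec J P R) : ⁅P, zpowers c.t⁆ = ⊥ ∨
    (⁅P, zpowers c.t⁆ ⊓ R = ⊥ ∧ ¬ c.Free ⁅P, zpowers c.t⁆ ∧ N[P] ⊓ N[R] ≤ N[⁅P, zpowers c.t⁆] ∧
      ∀ x ∈ ⁅P, zpowers c.t⁆, ∀ y ∈ ⁅P, zpowers c.t⁆, x ≠ 1 → y ≠ 1 →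
        ∃ j ∈ J, j * x * j⁻¹ = y) := by
  have := Fintype.ofFinite G
  obtain ⟨χ, f, st, hi⟩ := h.k_st hJ hR h1 h2 h3 h4 h5 h6 (H13.Dih.odd_of_pi M.N.p_ne hP)
  obtain ⟨W, _, _, _, φ, ns⟩ := M.k_ns hJ hR h4 hn
  have hA := h.k_abl hJ hR h1 h2 h3 h4 h5 h6 st ns
  refine or_iff_not_imp_left.2 fun h0 => ⟨st.B_inf hA, fun hF => ?_, st.B_N hA ns M.hq.symm,
    fun x hx y hy => st.B_trans hA ns M.hq.symm hx hy⟩
  have hB := st.B_inv hA
  have ho := odd_of_le st.odd (st.B_le hA)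
  refine st.B_root hA ns M.hq.symm c.ord_s
    (H13.Dih.norm_comm_zp h5 c.S_le_H c.s_mem_S) (fun hs => h0 (hB.eq_bot ho fun x hx => ?_))
    fun x hx => ?_
  · have := (hs.conj (st.B_norm hA (hJ.Q_le c.i_mem_Q))).mul_mem_C hs
    rw [c.i_s, c.four.ts_s] at this
    exact mem_C1.2 (mem_C.1 this x hx)
  · have e1 := hF (H13.Dih.mem_comm_of_inv hx (H13.Dih.odd_orderOf ho hx.1) (hB x hx.1))
    have e2 : H24.cj c.ρ c.U = UU c.s := by rw [← c.cj_U, QC.U, c.cj_t, c.rot_ρ.1]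
    rw [← e2, mem_cj] at e1
    rw [← st.chr.classFun.conj_inv (x * c.s) c.ρ, ← st.chr.classFun.conj_inv c.s c.ρ,
      ← c.rot_ρ.1, show c.ρ⁻¹ * (c.ρ * c.t * c.ρ⁻¹) * c.ρ = c.t by group,
      ← hi _ (mem_zpowers _) _ e1]
    congr 1; group

theorem kill5 (hq : M.N.q = 5) (hP : IsPi {3} P) (hΦ : Phi P ≤ R) (hn : M.Fpf5 J P R) :
    ⁅P, zpowers c.t⁆ = ⊥ := by
  classical
  have := Fintype.ofFinite G
  obtain ⟨χ, f, st, hi⟩ := h.k_st hJ hR h1 h2 h3 h4 h5 h6 (H13.Dih.odd_of_pi (by decide) hP)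
  have h8 : 8 ∣ ♯c.Q := by rw [c.card_Q]; exact pow_dvd_pow 2 c.ha
  have hA := st.abl5 hq hP hΦ hJ.Q_le h8 fun g hg g1 r hr => hi g (by
    obtain ⟨z, hz, e⟩ := H13.Dih.exists_two_of_pi
      (c.S_pi.of_le ((zpowers_le.2 hg).trans c.Q_le_S)) (by simpa using g1)
    rcases c.Q_invol (zpowers_le.2 hg hz) (H13.Dih.sq_of e) with e' | e'
    · exact absurd e' (H13.Dih.ne_one_of e)
    · exact e' ▸ hz) r (h2 hr)
  by_contra h0
  have hB := st.B_inv hA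
  have BP := st.B_le hA
  have BA := st.B_abl hA
  have JB := st.B_norm hA
  have BR := st.B_inf hA
  set B := ⁅P, zpowers c.t⁆
  obtain ⟨⟨b, hb⟩, b1⟩ := ne_bot_iff_exists_ne_one.1 h0
  obtain ⟨l, l1, l0⟩ := H23.WR.exists_ne_one st.chr BA hb fun e => b1 (Subtype.ext (st.faith _ e))
  obtain ⟨m, hm, m1⟩ := H20.QK.one_le_of_ne st.chr l0
  obtain ⟨m₁, hm₁⟩ := H23.WR.tr_nat st.chr (1 : B →* ℂˣ)
  have k1 := st.m1 BP (JB st.tJ) hm₁
  have k2 := (H23.WR.orbit_bound st.chr l1 JB hm hm₁ st.deg).1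
  have JH := hJ.le.trans M.Lt_nml.le
  set K := H23.WR.stab l ⊓ J with hK
  have oK : Odd ♯K := H13.Dih.odd_of_forall fun z hz e => by
    rcases M.invol_Lt (hJ.le hz.2) (H13.Dih.sq_of e) with e' | e'
    · exact H13.Dih.ne_one_of e e'
    refine l1 (H20.QK.hom_ext fun a ha => ?_)
    have := hz.1.2 a ha
    rw [e', hB a ha, ap_inv _ ha] at this
    rw [H20.QK.ap_one_hom]
    refine H20.QK.ap_eq_one_of_sq l (st.oddP (BP ha)) ?_
    nth_rewrite 1 [← this]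
    exact inv_mul_cancel _
  have d8 : 8 ∣ (H23.WR.stab l).relIndex J := by
    refine Nat.Coprime.dvd_of_dvd_mul_left (m := ♯K) ?_ ?_
    · exact Nat.Coprime.pow_left 3 (Nat.coprime_two_left.2 oK)
    · rw [card_inf_mul_relIndex]; exact h8.trans (card_dvd hJ.Q_le)
  have d5 : 5 ∣ (H23.WR.stab l).relIndex J := by
    by_contra n5
    have cL : 5 ∣ ♯(img M.κ J) := by
      refine dvd_trans ?_ (card_dvd hJ.cov)
      have := M.card_L
      rw [hq, mul_assoc] at this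
      omega
    rw [← card_mul_relIndex (img_mono M.κ (inf_le_right : K ≤ J))] at cL
    have c5 : 5 ∣ ♯(img M.κ K) := ((Nat.Prime.dvd_mul Nat.prime_five).1 cL).resolve_right fun e =>
      n5 (by
        have := e.trans (relIndex_img_dvd M.κ (inf_le_right.trans JH) JH)
        rwa [inf_relIndex_right] at this)
    have := Fact.mk Nat.prime_five
    obtain ⟨g, hg⟩ := exists_prime_orderOf_dvd_card' 5 c5
    rw [← Subgroup.orderOf_coe] at hg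
    obtain ⟨j, hj, -, e⟩ := mem_img.1 g.2
    have := (H1.HH.fpf_iff (B.normalizerMonoidHom ⟨j, JB hj.2⟩) ⊥
      (fun x y => mem_bot.2 (Subtype.ext (by simp [BA.comm x.2 y.2])))
      (fun x hx => by rw [mem_bot.1 hx, map_one]; exact one_mem _)).1 (fun x hx => by
        have e1 : j * x * j⁻¹ * (x : G)⁻¹ = 1 := congrArg Subtype.val (mem_bot.1 hx)
        exact mem_bot.2 (Subtype.ext (mem_bot.1 (BR.le
          ⟨x.2, hn j hj.2 (by rwa [e]) x (BP x.2) (e1 ▸ one_mem _)⟩)))) l.ker bot_le fun x => by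
      have := hj.1.2 x x.2
      rw [ap_coe, ap_of_mem _ (conj_mem (JB hj.2) x.2)] at this
      rw [MonoidHom.mem_ker, map_mul, map_inv, mul_inv_eq_one]
      exact this
    exact l1 (MonoidHom.ker_eq_top_iff.1 this)
  have k3 := relIndex_pos (H23.WR.stab l) J
  have k4 := Nat.mul_le_mul_left ((H23.WR.stab l).relIndex J) m1
  have := st.le
  rw [hq] at k1 this
  omega
end MC

end H2.QD
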