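import Mathlib
import Cfsg.Agent.H2.QNat
import Cfsg.Agent.H2.QSch
import Cfsg.Agent.H13.WGen
import Cfsg.Agent.H16.QS1

/-! Quadratic action on a chief factor (quasi-dihedral case). -/

set_option autoImplicit false
set_option linter.unusedSectionVars false

namespace H16.QS

open H24 Cfsg Subgroup H2.QD
open H13.Dih (Four V4 Inv CD res sq_of odd_of_pi odd_orderOf eq_one_of_odd_of_sq isPi_odd piElt_odd
  le_O odd_pcore res_le res_perfect norm_res)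
open H12 (IsQuad QuadInvolved)
open scoped MatrixGroups commutatorElement

universe u

variable {G : Type u} [Group G] [Finite G] {X P R K : Subgroup G} {p : ℕ} {a x y : G}

theorem mem_ncl (X : Subgroup G) (a : G) : a ∈ ncl X a := subset_closure ⟨1, one_mem _, by simp⟩

theorem ncl_le (hK : X ≤ N[K]) (ha : a ∈ K) : ncl X a ≤ K :=
  (closure_le _).2 (by rintro _ ⟨x, hx, rfl⟩; exact conj_mem (hK hx) ha)

theorem ncl_nml (ha : a ∈ X) : ncl X a ⊴ X :=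
  ⟨ncl_le (norm_self X) ha, norm_closure (by
    rintro x hx _ ⟨y, hy, rfl⟩
    exact subset_closure ⟨x * y, mul_mem hx hy, by group⟩)⟩

theorem iso_dec {t : G} (h : X ≤ 𝒪[X] ⊔ (X ⊓ C{t})) (hx : x ∈ X) :
    ∃ o ∈ 𝒪[X], ∃ y ∈ X ⊓ C{t}, x = o * y :=
  (mem_sup_of_norm (inf_le_left.trans (pcore_nml _ X).norm)).1 (h hx)

theorem iso_le {t : G} (h : X ≤ 𝒪[X] ⊔ (X ⊓ C{t})) (ho : Odd ♯K) (hK : K ⊴ X ⊓ C{t}) : K ≤ 𝒪[X] := by
  have n := pcore_nml ({2} : Set ℕ)ᶜ X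
  have k := hK.le.trans inf_le_left
  exact le_sup_right.trans (pcore_max ((pcore_pi _ X).sup (isPi_odd.2 ho) (k.trans n.norm))
    ⟨sup_le n.le k, h.trans (sup_le (norm_of_le le_sup_left)
      (norm_sup (inf_le_left.trans n.norm) hK.norm))⟩)

theorem iso_nml {t : G} (h : X ≤ 𝒪[X] ⊔ (X ⊓ C{t})) (ht : t * t = 1) (hK : K ⊴ X) (htK : t ∈ K)
    (hx : x ∈ K) : ∃ o ∈ 𝒪[X] ⊓ K, o * x ∈ C{t} := by
  obtain ⟨o, ho, y, hy, e⟩ := iso_dec h (hK.le hx)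
  obtain ⟨k, hk, e'⟩ := H13.W.conj_of_coset (X := 𝒪[X] ⊓ K) (odd_of_le (odd_pcore X) inf_le_left)
    ht (a := x * t * x⁻¹) (by rw [conj_mul, ht]; simp) ⟨by
      rw [e, mul_inv_rev, ← mul_assoc, mul_assoc o, mul_assoc o, mem_C1_iff_conj.1 hy.2, mul_assoc,
        mul_assoc]
      simpa [mul_assoc] using mul_mem ho ((pcore_nml _ X).conj_mem (hK.le htK) (inv_mem ho)),
      K.mul_mem (conj_mem (norm_self K hx) htK) (inv_mem htK)⟩
  exact ⟨k, hk, mem_C1_iff_conj.2 (by rw [← e']; nth_rw 2 [← e']; group)⟩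

/-- the setting: `a` acts quadratically and nontrivially on the chief factor `V` -/
structure Cx {c : QC G} (M : Mod c) (X P R : Subgroup G) (p : ℕ) (a : G) {V : Type u} [Group V]
    (π : P →* V) (α : X →* MulAut V) : Prop extends Rep X P R p π α where
  hq : 5 ≤ M.N.q
  big : M.Big X
  iso : X ≤ 𝒪[X] ⊔ (X ⊓ c.H)
  h2 : p ≠ 2
  ha : a ∈ X
  hap : PiElt {p} a
  qa : Qd (ap α a)
  ne : ap α a ≠ 1

namespace Cx

variable {c : QC G} {M : Mod c} {V : Type u} [Group V] [Finite V] [IsMulCommutative V] {π : P →* V}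
  {α : X →* MulAut V} (h : Cx M X P R p a π α)
include h

theorem cO : ap α a ∈ C[img α 𝒪[X]] ∧ ap α a ∉ img α 𝒪[X] := by
  haveI := Fact.mk h.hp
  have n := (pcore_nml ({2} : Set ℕ)ᶜ X).img α
  have n1 := zpowers_le.2 (n.norm (ap_mem_img α h.ha h.ha))
  have h1 := h.qa.mem_pcore h.hp h.pow (K := img α 𝒪[X] ⊔ zpowers (ap α a))
    (H12.not_quadInvolved_of_odd h.h2 (isPi_odd.1 (((pcore_pi _ X).img α).sup
      ((h.hap.ap α h.ha).isPi.compl_of_ne h.h2) n1))) (mem_sup_right (mem_zpowers _))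
  have h3 := ((inf_pcore_le {p} (le_sup_left : _ ≤ img α 𝒪[X] ⊔ zpowers (ap α a))).trans
    (n.pcore_le _)).trans h.pcore_bot.le
  exact ⟨cents_of_inf_eq_bot ((pcore_le _ _).trans (sup_le (norm_self _) n1))
    (le_sup_left.trans (pcore_nml _ _).norm) (le_bot_iff.1 (by rwa [inf_comm])) h1,
    fun e => h.ne (h3 ⟨e, h1⟩)⟩

theorem nml : ncl X a ⊴ X := ncl_nml h.ha

theorem DO : img α (ncl X a) ≤ C[img α 𝒪[X]] :=
  (img_le_iff h.nml.le).2 (ncl_le (norm_pre le_rfl (norm_C ((pcore_nml _ X).img α).norm))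
    (mem_pre.2 ⟨h.ha, h.cO.1⟩))

theorem nO : a ∉ 𝒪[X] := fun e => h.cO.2 (ap_mem_img α e h.ha)

theorem tD : c.t ∈ ncl X a :=
  c.t_mem_of_norm (h.big.S_le.trans h.nml.norm) fun e => h.nO (le_O e h.nml (mem_ncl X a))

theorem tX : c.t ∈ X := h.nml.le h.tD

theorem UO : c.U ⊓ X ≤ 𝒪[X] :=
  iso_le h.iso (odd_of_le c.odd_U inf_le_left) ⟨le_inf inf_le_right
    (inf_le_left.trans c.U_le_H), norm_inf (inf_le_right.trans c.U_nml.norm) (norm_of_le inf_le_left)⟩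

theorem t_cent : img α X ≤ C{ap α c.t} := by
  rintro _ ⟨⟨x, hx⟩, -, rfl⟩
  obtain ⟨o, ho, y, hy, rfl⟩ := iso_dec h.iso hx
  rw [← ap_of_mem α hx, ap_mul _ (pcore_le _ _ ho) hy.1]
  exact mul_mem (mem_C1_comm.1 (C_le_C1 (ap_mem_img α ho (pcore_le _ _ ho))
    (h.DO (ap_mem_img α h.tD h.tX)))) (img_cent1 α inf_le_right h.tX (ap_mem_img α hy hy.1))

theorem t_ne : ap α c.t ≠ 1 := fun e => by
  haveI := Fact.mk h.hp
  have hS := (c.S_syl.of_le h.big.S_le le_top).img α.rangeRestrict le_rfl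
  rw [img_dom, MonoidHom.range_eq_top.2 α.rangeRestrict_surjective] at hS
  have e' : ap α.rangeRestrict c.t = 1 := by
    rw [ap_of_mem _ h.tX] at e ⊢
    exact Subtype.ext e
  have r := fun b => h.big.S_le (c.co.r_mem b)
  have s := fun b => h.big.S_le (c.co.s_mem b)
  have k1 : ∀ b, ap α.rangeRestrict (c.co.r b) ∈ zpowers (ap α.rangeRestrict (c.co.r 1)) := fun b => by
    rw [← ZMod.natCast_zmod_val b, c.co_nat, c.co_ω, ap_pow _ (h.big.S_le c.ω_mem_S)]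
    exact pow_mem (mem_zpowers _) _
  have k2 : ∀ g ∈ img α.rangeRestrict c.S, g ∉ zpowers (ap α.rangeRestrict (c.co.r 1)) →
      ∃ b, g = ap α.rangeRestrict (c.co.s b) := fun g hg n => by
    obtain ⟨x, hx, -, rfl⟩ := mem_img.1 hg
    rcases c.co.cases hx with ⟨b, rfl⟩ | ⟨b, rfl⟩
    exacts [absurd (k1 b) n, ⟨b, rfl⟩]
  have cd : CD α.range := H13.W.cd_of_syl hS (a := ap α.rangeRestrict (c.co.r 1)) fun g hg n => by
    obtain ⟨b, rfl⟩ := k2 g hg n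
    refine ⟨?_, ?_, fun g' hg' n' => ?_⟩
    · rw [← ap_mul _ (s b) (s b), c.co.s_mul_self]
      rcases H22.MC.sq_cases c.a1 c.co_tw (zero_mem _) b with k | k <;> rw [k]
      · rw [c.co.r_zero, ap_one]
      · rw [c.co_t, e']
    · rw [← ap_conj _ (s b) (r 1), c.co.s_conj_r, ← ap_inv _ (r 1), c.co.r_inv, H22.sig_apply, mul_one,
        sub_eq_add_neg, ← c.co.r_mul_r, ap_mul _ (r _) (r _), c.co_t, e', one_mul]
    · obtain ⟨b', rfl⟩ := k2 g' hg' n'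
      rw [← ap_mul _ (s b) (s b'), c.co.s_mul_s]
      exact k1 _
  have := h.qa.mem_pcore h.hp h.pow (cd.not_quad h.h2) (img_dom α ▸ ap_mem_img α h.ha h.ha)
  rw [← img_dom, h.pcore_bot] at this
  exact h.ne this

theorem t_fpf {v : V} (hv : ap α c.t v = v) : v = 1 := by
  refine mem_bot.1 (((h.fx_cases (norm_zpowers_of_cent h.t_cent)).resolve_right fun e =>
    h.t_ne (zpowers_eq_bot.1 e)).le ?_)
  exact fun g hg => (zpowers_le.2 (MulAction.mem_stabilizer_iff.2 hv) : _ ≤ MulAction.stabilizer _ v) hg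

theorem inf_le : P ⊓ C{c.t} ≤ R := fun b hb => (h.ker b hb.1).1 (h.t_fpf (by
  rw [h.act _ h.tX b hb.1, mem_C1_iff_conj.1 (mem_C1_comm.1 hb.2)]))

theorem ker_U (hx : x ∈ X ⊓ c.H) (e : ap α x = 1) : x ∈ c.U := by
  have h1 : img M.κ (pre α ⊥) = ⊥ := by_contra fun n => h.t_ne (mem_pre_bot.1 (M.t_mem_of_cov
    (M.cov_of_norm h.hq h.big.cov (inf_le_left.trans (ker_nml α).norm) n))).2
  have h2 := ap_mem_img M.κ (mem_pre_bot.2 ⟨hx.1, e⟩) hx.2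
  rw [h1] at h2
  refine (M.b2_cases hx.2 h2).resolve_right fun k => h.t_ne (eq_one_of_odd_of_sq ?_ ?_)
  · rw [← one_mul (ap α c.t), ← e, ← ap_mul _ hx.1 h.tX]
    exact (odd_orderOf c.odd_U k).of_dvd_nat (orderOf_ap_dvd _ (mul_mem hx.1 h.tX))
  · rw [← ap_mul _ h.tX h.tX, sq_of c.pg_t, ap_one]

theorem OD (ho : x ∈ 𝒪[X] ⊓ ncl X a) : ap α x ∈ Z[img α (ncl X a)] :=
  ⟨ap_mem_img α ho.2 (h.nml.le ho.2), cents_symm h.DO (ap_mem_img α ho.1 (h.nml.le ho.2))⟩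

theorem Z_pi : IsPi {p}ᶜ Z[img α (ncl X a)] := isPi_iff_piElt.2 fun z hz => by
  rw [← constt_eq_one_iff]
  have n : Z[img α (ncl X a)] ⊴ img α X := ⟨inf_le_left.trans (h.nml.img α).le, norm_Z (h.nml.img α).norm⟩
  exact mem_bot.1 (h.pcore_bot.le (n.pcore_le _ ((abl_center _).nil.mem_pcore (piElt_constt _ _)
    (constt_mem _ hz))))

theorem κZ (hx : x ∈ ncl X a ⊓ c.H) (e : ap M.κ x = 1) : ap α x ∈ Z[img α (ncl X a)] := by
  have k : ∀ y ∈ ncl X a, y ∈ c.U → ap α y ∈ Z[img α (ncl X a)] := fun y h1 h2 =>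
    h.OD ⟨h.UO ⟨h2, h.nml.le h1⟩, h1⟩
  refine (M.b2_cases hx.2 e).elim (k x hx.1) fun e' => ?_
  have := k _ (mul_mem hx.1 h.tD) e'
  rw [ap_mul _ (h.nml.le hx.1) h.tX] at this
  exact (mul_mem_cancel_right (mem_inf.2 ⟨ap_mem_img α h.tD h.tX, mem_C_iff_le_C1.2
    ((h.nml.img α).le.trans h.t_cent)⟩)).1 this

theorem constt_eq (hx : x ∈ ncl X a) (hy : y ∈ ncl X a) (hp : PiElt {p} x)
    (e : ap α (x⁻¹ * y) ∈ Z[img α (ncl X a)]) : ap α (constt {p} y) = ap α x := by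
  have hx' := h.nml.le hx
  have hy' := h.nml.le hy
  rw [constt_ap _ _ hy', ← mul_inv_cancel_left x y, ap_mul _ hx' (mul_mem (inv_mem hx') hy')]
  exact constt_mul_of (hp.ap α hx') (h.Z_pi.piElt e) (mem_C.1 e.2 _ (ap_mem_img α hx hx'))

theorem constt_κ (hx : x ∈ ncl X a ⊓ c.H) (hy : y ∈ ncl X a ⊓ c.H) (hp : PiElt {p} x)
    (e : ap M.κ x = ap M.κ y) : ap α (constt {p} y) = ap α x :=
  h.constt_eq hx.1 hy.1 hp (h.κZ (mul_mem (inv_mem hx) hy) (by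
    rw [ap_mul _ (inv_mem hx.2) hy.2, ap_inv _ hx.2, e, inv_mul_cancel]))

/-- good elements -/
structure Gd (_ : Cx M X P R p a π α) (x : G) : Prop where
  mem : x ∈ ncl X a ⊓ c.H
  pi : PiElt {p} x
  qd : Qd (ap α x)
  ord : orderOf (ap M.κ x) = p

theorem exists_gd : ∃ x, h.Gd x := by
  haveI := Fact.mk h.hp
  obtain ⟨o, ho, e⟩ := iso_nml h.iso (sq_of c.pg_t) h.nml h.tD (mem_ncl X a)
  have m : o * a ∈ ncl X a ⊓ c.H := ⟨mul_mem ho.2 (mem_ncl X a), e⟩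
  have k := h.constt_eq (mem_ncl X a) m.1 h.hap (by
    rw [← mul_assoc]
    exact h.OD (conj_mem' (norm_inf (pcore_nml _ X).norm h.nml.norm h.ha) ho))
  have m' := constt_mem {p} m
  have m2 := h.nml.le m'.1
  refine ⟨_, m', piElt_constt _ _, k ▸ h.qa, orderOf_eq_prime ?_ fun e => h.cO.2 ?_⟩
  · rw [← ap_pow _ m'.2]
    exact M.κ_U (h.ker_U (pow_mem (mem_inf.2 ⟨m2, m'.2⟩) p) (by rw [ap_pow _ m2, k, h.qa.pow h.pow]))
  · exact k ▸ ap_mem_img α (h.UO ⟨M.mem_U m'.2 e (piElt_odd.1 ((piElt_constt _ _).isPi.compl_of_ne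
      h.h2 |>.piElt (mem_zpowers _))), m2⟩) m2

variable {h}

theorem Gd.ne (g : h.Gd x) : ap M.κ x ≠ 1 := ne_one_of_orderOf_prime (g.ord ▸ h.hp)

theorem Gd.mX (g : h.Gd x) : x ∈ X ⊓ c.H := ⟨h.nml.le g.mem.1, g.mem.2⟩

theorem Gd.conj (g : h.Gd x) (hy : y ∈ X ⊓ c.H) : h.Gd (y * x * y⁻¹) :=
  ⟨⟨h.nml.conj_mem hy.1 g.mem.1, conj_mem (norm_self c.H hy.2) g.mem.2⟩, g.pi.conj y,
    by rw [ap_conj _ hy.1 g.mX.1]; exact g.qd.conj _, by rw [ap_conj _ hy.2 g.mem.2, orderOf_conj, g.ord]⟩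

variable (h)

theorem cov : M.L ≤ img M.κ (ncl X a) := by
  obtain ⟨x, g⟩ := h.exists_gd
  exact M.cov_of_norm h.hq h.big.cov (inf_le_left.trans h.nml.norm)
    (ne_bot_of_mem (ap_mem_img _ g.mem.1 g.mem.2) g.ne)

theorem covJ : M.Cov (c.J X a) := M.exists_cov h.hq h.cov (h.big.S_le.trans h.nml.norm)

omit h in
theorem J_le : c.J X a ≤ ncl X a ⊓ c.H := res_le _

theorem JX : c.J X a ≤ X := J_le.trans (inf_le_left.trans h.nml.le)

theorem normJ : X ⊓ c.H ≤ N[c.J X a] :=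
  norm_res (norm_inf (inf_le_left.trans h.nml.norm) (norm_of_le inf_le_right))

theorem lift {γ : M.Γ} (hγ : γ ∈ M.L0) : ∃ y ∈ X ⊓ c.H, ap M.κ y = γ := by
  obtain ⟨y, h1, h2, e⟩ := mem_img.1 (sup_le h.big.cov (zpowers_le.2 (ap_mem_img _
    (h.big.S_le c.s_mem_S) c.pg_s)) (M.L_sup_e.ge hγ))
  exact ⟨y, ⟨h1, h2⟩, e⟩

variable {h}

/-- a good element centralises the odd `p'`-subgroups of `L` which it normalises -/
theorem Gd.cent (g : h.Gd x) {Y : Subgroup M.Γ} (hY : Y ≤ M.L) (ho : Odd ♯Y) (hp : IsPi {p}ᶜ Y)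
    (hn : ap M.κ x ∈ N[Y]) : ap M.κ x ∈ C[Y] := by
  haveI := Fact.mk h.hp
  set K := X ⊓ pre M.κ (Y ⊔ zpowers (ap M.κ x))
  have hK : ∀ U : Subgroup K, IsPGroup 2 U → IsMulCommutative U := fun U hU => by
    have : ∀ u : U, (u : G) = 1 ∨ (u : G) = c.t := fun u => by
      have h1 : PiElt {2} (u : G) := ((isPi_of_isPGroup Nat.prime_two hU).piElt u.2).map K.subtype
      obtain ⟨h2, h3⟩ := mem_pre.1 (u : K).2.2
      exact M.b2_two h2 ((h1.ap _ h2).eq_one (((isPi_odd.2 ho).sup ((g.pi.ap _ g.mem.2).isPi.compl_of_ne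
        h.h2) (zpowers_le.2 hn)).piElt h3)) h1
    refine ⟨⟨fun u w => Subtype.ext (Subtype.ext ?_)⟩⟩
    rcases this u with e | e <;> rcases this w with e' | e' <;> simp [e, e']
  have xK : x ∈ K := ⟨g.mX.1, mem_pre.2 ⟨g.mem.2, mem_sup_right (mem_zpowers _)⟩⟩
  have e : img α K = (α.comp (inclusion (inf_le_left : K ≤ X))).range := by
    ext z
    rw [mem_img_of_le (inf_le_left : K ≤ X)]
    exact ⟨fun ⟨y, k1, k2⟩ => ⟨⟨y, k1⟩, (ap_of_mem α k1.1).symm.trans k2⟩,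
      fun ⟨y, k2⟩ => ⟨y, y.2, (ap_of_mem α y.2.1).trans k2⟩⟩
  have h1 := g.qd.mem_pcore h.hp h.pow (K := img α K) (e ▸ fun q => q.not_abelian_two h.h2
    (H12.abelian_two_subgroups_of_surjective _ (MonoidHom.rangeRestrict_surjective _) hK))
    (ap_mem_img α xK g.mX.1)
  refine mem_C.2 fun z hz => ?_
  obtain ⟨y, hy, hy', rfl⟩ := mem_img.1 (h.big.cov (hY hz))
  have yK : y ∈ K := ⟨hy, mem_pre.2 ⟨hy', mem_sup_left hz⟩⟩
  have m : ⁅y, x⁆ ∈ X ⊓ c.H := mul_mem (conj_mem (norm_self _ (mem_inf.2 ⟨hy, hy'⟩)) g.mX) (inv_mem g.mX)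
  have h2 := M.κ_U (h.ker_U (constt_mem {p}ᶜ m) (by
    rw [constt_ap _ _ m.1, constt_eq_one_iff, compl_compl, ap_commutator _ hy g.mX.1]
    exact (pcore_pi _ _).piElt (mul_mem ((pcore_nml _ _).conj_mem (ap_mem_img α yK hy) h1) (inv_mem h1))))
  rw [constt_ap _ _ m.2, ap_commutator _ hy' g.mem.2, constt_eq_self] at h2
  · exact commutatorElement_eq_one_iff_mul_comm.1 h2
  · rw [commutatorElement_def, mul_assoc, mul_assoc, ← mul_assoc (ap M.κ x)]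
    exact hp.piElt (mul_mem hz (conj_mem hn (inv_mem hz)))

theorem Gd.mem_L (g : h.Gd x) : ap M.κ x ∈ M.L :=
  M.odd_mem_L (by_contra fun n => by
    obtain ⟨y, h1, h2, h3, h4, h5⟩ := M.fix h.hq h.hp h.h2 g.ord n
    exact h5 (C_zpowers y ▸ g.cent (zpowers_le.2 h1) (card_zpowers' y ▸ h2)
      (piElt_iff.1 ((piNat_compl_singleton h.hp).2 h3)) h4))
    (g.ord ▸ h.hp.odd_of_ne_two h.h2)

theorem Gd.not_norm (g : h.Gd x) (hp : p ≠ M.N.p) {Y : Subgroup M.Γ} (hY : M.Root Y) :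
    ap M.κ x ∉ N[Y] := fun n => by
  have := g.cent hY.1 (odd_of_pi M.N.p_ne hY.2.1) (hY.2.1.compl_of_ne hp.symm) n
  rw [hY.C] at this
  exact g.ne ((g.pi.ap _ g.mem.2).eq_one ((hY.2.1.compl_of_ne hp.symm).piElt this))

theorem Gd.cases (g : h.Gd x) : p = M.N.p ∨ p ∣ M.N.q + 1 := or_iff_not_imp_left.2 fun hp => by
  have h1 : ¬ p ∣ M.N.q - 1 := fun e => by
    obtain ⟨Y, hY, n⟩ := M.norm_root h.hq (M.L_le g.mem_L) (g.ord ▸ h.hp.odd_of_ne_two h.h2) (g.ord ▸ e)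
    exact g.not_norm hp hY n
  have h2 := orderOf_dvd_card' (M.L_le g.mem_L)
  have h3 : M.N.m * M.N.n = (M.N.q - 1) * (M.N.q + 1) := by
    have := h.hq
    zify [show 1 ≤ M.N.q by omega]
    rw [M.N.hm, M.N.hn]
    rcases M.N.hε with e | e <;> rw [e] <;> ring
  rw [g.ord, M.card_L0, mul_assoc, h3, h.hp.dvd_mul, h.hp.dvd_mul, M.N.hq] at h2
  exact M.N.hq ▸ (h2.resolve_left fun e => hp ((Nat.prime_dvd_prime_iff_eq h.hp M.N.hp).1
    (h.hp.dvd_of_dvd_pow e))).resolve_left (M.N.hq ▸ h1)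

variable (h)

theorem exists_gdJ : ∃ x ∈ c.J X a, h.Gd x := by
  obtain ⟨x, g⟩ := h.exists_gd
  obtain ⟨j, hj, hj', e⟩ := mem_img.1 (h.covJ.cov g.mem_L)
  refine ⟨constt {p} j, constt_mem _ hj, constt_mem _ (J_le hj), piElt_constt _ _,
    h.constt_κ g.mem (J_le hj) g.pi e.symm ▸ g.qd, ?_⟩
  rw [constt_ap _ _ hj', e, constt_eq_self (g.pi.ap _ g.mem.2), g.ord]

theorem JU (h9 : M.N.q = 9 → p = 3) (hx : x ∈ c.J X a ⊓ c.U) : ap α x = 1 := by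
  let β := α.comp (inclusion h.JX)
  have hβ : ∀ j : c.J X a, β j = ap α j := fun j => (ap_of_mem α (h.JX j.2)).symm
  let f : β.range →* SL(2, M.F) := β.rangeRestrict.liftOfSurjective β.rangeRestrict_surjective
    ⟨M.lam.comp (inclusion h.covJ.le), fun j hj => (M.lam_ker _).2 (h.ker_U ⟨h.JX j.2, (J_le j.2).2⟩
      (hβ j ▸ congrArg Subtype.val hj))⟩
  have hf : ∀ j, f (β.rangeRestrict j) = M.lam (inclusion h.covJ.le j) := fun j =>
    MonoidHom.liftOfRightInverse_comp_apply _ _ _ _ j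
  have k : ∀ z, z ∈ pre f ⊥ ↔ ∃ j ∈ c.J X a ⊓ c.U, ap α j = z := fun z => by
    refine ⟨fun hz => ?_, ?_⟩
    · obtain ⟨⟨j, rfl⟩, e⟩ := mem_pre_bot.1 hz
      exact ⟨j, ⟨j.2, (M.lam_ker _).1 ((hf j).symm.trans ((ap_of_mem f _).symm.trans e))⟩, (hβ j).symm⟩
    · rintro ⟨j, hj, rfl⟩
      rw [← hβ ⟨j, hj.1⟩]
      exact mem_pre_bot.2 ⟨⟨_, rfl⟩, (ap_of_mem f ⟨_, rfl⟩).trans ((hf _).trans ((M.lam_ker _).2 hj.2))⟩
  have kZ : pre f ⊥ ≤ Z[img α (ncl X a)] := fun z hz => by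
    obtain ⟨j, hj, rfl⟩ := (k z).1 hz
    exact h.κZ (J_le hj.1) (M.κ_U hj.2)
  have h1 := sch M.h2 f (fun g => by
      obtain ⟨j, rfl⟩ := M.nat_surj h.covJ g
      exact ⟨_, hf j⟩)
    (by rw [← img_dom, ← img_comm _ le_rfl le_rfl]; exact congrArg _ (res_perfect _))
    (kZ.trans (inf_le_right.trans (C_anti (by
      rintro _ ⟨j, rfl⟩
      exact hβ j ▸ ap_mem_img α (J_le j.2).1 (h.JX j.2)))))
    (isPi_odd.1 (isPi_iff_piElt.2 fun z hz => by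
      obtain ⟨j, hj, rfl⟩ := (k z).1 hz
      exact (piElt_odd.2 (odd_orderOf c.odd_U hj.2)).ap α (h.JX hj.1)))
  have h2 := (k _).2 ⟨x, hx, rfl⟩
  rcases h1 with e | ⟨e, e'⟩
  · exact mem_bot.1 (e ▸ h2)
  · obtain rfl := h9 (M.hq.trans e)
    exact (e'.piElt h2).eq_one (h.Z_pi.piElt (kZ h2))

theorem natSec (hP : IsPi {p} P) (e : p = M.N.p) : M.NatSec (c.J X a) P R := by
  obtain ⟨x, g⟩ := h.exists_gd
  subst e
  obtain ⟨Y, hY, hx⟩ := M.le_root (g.pi.ap _ g.mem.2).isPi (zpowers_le.2 (M.L_le g.mem_L))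
  refine M.natSec h.hq h.covJ hP h.ch.lt.le h.phi (h.JX.trans h.ch.nP.norm) (h.JX.trans h.ch.nR.norm)
    h.inf_le (h.comm_le (inf_le_left.trans h.JX) fun y hy => h.JU (fun e => ?_) hy) hY
    fun y hy hp hy' => h.of_qd (h.JX hy) ?_
  · exact (Nat.prime_dvd_prime_iff_eq M.N.hp Nat.prime_three).1
      (M.N.hp.dvd_of_dvd_pow (n := 2) (by rw [show 3 ^ 2 = 9 from rfl, ← e]; exact M.N.p_dvd_q))
  by_cases h1 : ap M.κ y = 1
  · rw [← constt_eq_self hp, h.constt_κ (one_mem _) (J_le hy) (piElt_one _) (by rw [h1, ap_one]), ap_one]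
    exact fun v => rfl
  obtain ⟨γ, hγ, e⟩ := hY.conj (hx (mem_zpowers _)) hy' g.ne h1
  obtain ⟨k, hk, rfl⟩ := h.lift hγ.1
  have g' := g.conj hk
  rw [← constt_eq_self hp, h.constt_κ g'.mem (J_le hy) g'.pi (by rw [ap_conj _ hk.2 g.mem.2, e])]
  exact g'.qd

theorem q_eq (hp : p ≠ M.N.p) : M.N.q = 5 := by
  classical
  haveI := Fact.mk h.hp
  by_contra h5
  obtain ⟨x, g⟩ := h.exists_gd
  obtain ⟨γ, hγ, e⟩ := M.gen h.hq h.hp h.h2 g.mem_L g.ord (g.cases.resolve_left hp) h5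
  obtain ⟨k, hk, rfl⟩ := h.lift hγ
  have g' := g.conj hk
  rw [← ap_conj _ hk.2 g.mem.2] at e
  generalize k * x * k⁻¹ = y at g' e
  set K := closure ({x, y} : Set G)
  have KD : K ≤ ncl X a ⊓ c.H := (closure_le _).2 (by rintro _ (rfl | rfl); exacts [g.mem, g'.mem])
  have KH : K ≤ c.H := KD.trans inf_le_right
  have KX : K ≤ X := KD.trans (inf_le_left.trans h.nml.le)
  have xK : x ∈ K := subset_closure (by simp)
  have yK : y ∈ K := subset_closure (by simp)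
  have cov : M.L ≤ img M.κ K := e ▸ sup_le (zpowers_le.2 (ap_mem_img _ xK g.mem.2))
    (zpowers_le.2 (ap_mem_img _ yK g'.mem.2))
  have hβ : ∀ j : K, α.comp (inclusion KX) j = ap α j := fun j => (ap_of_mem α (KX j.2)).symm
  obtain ⟨F, _, _, _, φ, u1, u2, u3, u4⟩ := H12.exists_sl_two_of_action h.pow (α.comp (inclusion KX))
    (H12.closure_pair_subtype_eq_top x y) (fun v => by rw [hβ]; exact g.qd v)
    (fun v => by rw [hβ]; exact g'.qd v) fun n => by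
      obtain ⟨m, hm⟩ := n ⟨_, ⟨_, M.t_mem_of_cov cov⟩, rfl⟩
      have hm' : α.comp (inclusion KX) ⟨_, M.t_mem_of_cov cov⟩ ^ p ^ m = 1 := congrArg Subtype.val hm
      rw [hβ] at hm'
      exact h.t_ne (eq_one_of_odd_of_sq ((h.hp.odd_of_ne_two h.h2).pow.of_dvd_nat
        (orderOf_dvd_of_pow_eq_one hm')) (by rw [← ap_mul _ h.tX h.tX, sq_of c.pg_t, ap_one]))
  have x1 := H12.isUnip_ne_one_of_not_isUnip_mul u2 u3
  let θ := H16.slPGL.comp φ
  have k1 : ∀ j ∈ K, ap M.κ j = 1 → ap θ j = 1 := fun j hj e => by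
    have hz := h.κZ (KD hj) e
    rw [ap_of_mem _ hj]
    refine (H16.slPGL_eq_one_iff _).2 ((H12.eq_one_or_neg_one_of_isScal
      (H12.isScal_of_commute_isUnip h.h2 u1 x1 ?_ ?_)).imp Subtype.ext Subtype.ext)
    · refine ((piNat_compl_iff_coprime h.hp).1 (h.Z_pi.piElt hz)).symm.coprime_dvd_left
        (orderOf_dvd_of_pow_eq_one ?_)
      rw [← map_pow]
      exact u4 (by rw [MonoidHom.mem_ker, map_pow, hβ, pow_orderOf_eq_one])
    · rw [← map_mul, ← map_mul, ← mul_inv_eq_one, ← map_inv, ← map_mul]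
      refine u4 ?_
      rw [MonoidHom.mem_ker, map_mul, map_inv, map_mul, map_mul, mul_inv_eq_one, hβ, hβ]
      exact (mem_C.1 hz.2 _ (ap_mem_img α g.mem.1 g.mX.1)).symm
  have k2 : ∀ j ∈ K, ap θ j = 1 → ap M.κ j = 1 := fun j hj e => by
    by_contra n
    obtain ⟨z, hz, -, e'⟩ := mem_img.1 (M.cov_of_norm h.hq cov (inf_le_left.trans (ker_nml θ).norm)
      (ne_bot_of_mem (ap_mem_img _ (mem_pre_bot.2 ⟨hj, e⟩) (KH hj)) n) g.mem_L)
    obtain ⟨h1, h2⟩ := mem_pre_bot.1 hz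
    have h3 := k1 _ (mul_mem (inv_mem h1) xK) (by
      rw [ap_mul _ (inv_mem (KH h1)) g.mem.2, ap_inv _ (KH h1), e', inv_mul_cancel])
    rw [ap_mul _ (inv_mem h1) xK, ap_inv _ h1, h2, inv_one, one_mul, ap_of_mem _ xK] at h3
    rcases (H16.slPGL_eq_one_iff _).1 h3 with e | e
    · exact x1 e
    · have := u1.pow_char (p := p)
      rw [e, (h.hp.odd_of_ne_two h.h2).neg_one_pow] at this
      exact H16.sl2_neg_one_ne (H16.two_ne_zero_of_charP p h.h2) this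
  obtain ⟨Y, w, hY, hw, ow, reg⟩ := M.exists_borel
  have hq := h.hq
  obtain ⟨z, hz, z1⟩ := (bot_or_exists_ne_one Y).resolve_left fun e => by
    have := hY.2.2
    rw [e, card_bot] at this
    omega
  obtain ⟨j, hj, jH, rfl⟩ := mem_img.1 (cov (hY.1 hz))
  obtain ⟨n, hn, nH, en⟩ := mem_img.1 (cov (M.pg_sq hw.1))
  have pi : IsPi {M.N.p} (img θ (K ⊓ pre M.κ Y)) := isPi_iff_piElt.2 fun z hz => by
    obtain ⟨i, hi, iK, rfl⟩ := mem_img.1 hz
    refine piElt_of_pow_eq_one (piNat_self M.N.hp) ?_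
    rw [← ap_pow _ iK, k1 _ (pow_mem iK _) (by rw [ap_pow _ (KH iK), hY.elem.2 _ (mem_pre.1 hi.2).2])]
  have hF : ringChar F = p := ringChar.eq F p
  have mj := ap_mem_img θ (mem_inf.2 ⟨hj, mem_pre.2 ⟨jH, hz⟩⟩) hj
  have j1 : ap θ j ≠ 1 := fun e => z1 (k2 j hj e)
  have h6 := H16.QP.norm_inv' (x := ap θ j) (y := ap θ n) (fun e => j1 ((piElt_of_pow_eq_one
    (piNat_self h.hp) (hF ▸ e)).eq_one ((pi.compl_of_ne (Ne.symm hp)).piElt mj)))
    (conj_mem (H25.cyc_N_le (H0.WM.cyc_of_odd _ (odd_of_pi M.N.p_ne pi) (hF ▸ pi.not_dvd h.hp hp))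
      (zpowers_le.2 mj) (ap_mem_N θ (norm_inf (norm_of_le (zpowers_le.2 hn)) (norm_pre (zpowers_le.2 nH)
        (by rw [img_zpowers _ nH, en]; exact zpowers_le.2 (N[Y].mul_mem hw.2 hw.2))) (mem_zpowers n)) hn))
      (mem_zpowers _))
  have h7 := k2 ⁅n * n, j⁆ (mul_mem (conj_mem (norm_self K (mul_mem hn hn)) hj) (inv_mem hj)) (by
    rw [ap_commutator _ (mul_mem hn hn) hj, ap_mul _ hn hn, commutatorElement_def, mul_inv_eq_one]
    generalize ap θ n = s at h6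
    generalize ap θ j = r at h6
    rcases h6 with e | e
    · rw [show s * s * r * (s * s)⁻¹ = s * (s * r * s⁻¹) * s⁻¹ by group, e, e]
    · rw [show s * s * r * (s * s)⁻¹ = s * (s * r * s⁻¹) * s⁻¹ by group, e,
        show s * r⁻¹ * s⁻¹ = (s * r * s⁻¹)⁻¹ by group, e, inv_inv])
  rw [ap_commutator _ (mul_mem nH nH) jH, ap_mul _ nH nH, en, commutatorElement_eq_one_iff_mul_comm] at h7
  have h8 : w ^ 4 = 1 := by_contra fun n => z1 (mem_bot.1 ((reg _ (pow_mem (mem_zpowers w) 4) n).le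
    ⟨hz, mem_C1.2 (by rw [show w ^ 4 = w * w * (w * w) by simp [pow_succ, mul_assoc], h7])⟩))
  have := Nat.le_of_dvd four_pos (orderOf_dvd_of_pow_eq_one h8)
  omega

theorem fpf5 (hp : p ≠ M.N.p) : p = 3 ∧ M.Fpf5 (c.J X a) P R := by
  have hq := h.q_eq hp
  obtain ⟨x, xJ, g⟩ := h.exists_gdJ
  obtain rfl : p = 3 := by
    have := g.cases.resolve_left hp
    rw [hq, show 5 + 1 = 2 * 3 from rfl, h.hp.dvd_mul, Nat.prime_dvd_prime_iff_eq h.hp Nat.prime_two,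
      Nat.prime_dvd_prime_iff_eq h.hp Nat.prime_three] at this
    exact this.resolve_left h.h2
  have p5 : M.N.p = 5 := (Nat.prime_dvd_prime_iff_eq M.N.hp Nat.prime_five).1 (hq ▸ M.N.p_dvd_q)
  refine ⟨rfl, fun j hj oj b hb hb' => ?_⟩
  have JH : c.J X a ≤ c.H := J_le.trans inf_le_right
  obtain ⟨x', ex⟩ := M.L_le g.mem_L
  obtain ⟨z, w, hw, w1, ht⟩ := exists_unip (x := x') fun e => g.ne (eq_one_of_odd_of_sq
    (g.ord ▸ by decide) (by rw [← ex, ← map_mul, e, map_one]))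
  obtain ⟨k, hk, ek⟩ := h.lift (γ := M.E.ι (x'⁻¹ * w)) ⟨_, rfl⟩
  have g' := g.conj hk
  have yJ := conj_mem (h.normJ hk) xJ
  have e : ap M.κ (x * (k * x * k⁻¹)) = M.E.ι w * M.E.ι w := by
    rw [ap_mul _ g.mem.2 g'.mem.2, ap_conj _ hk.2 g.mem.2, ek, ← ex, ← map_inv,
      inv_eq_of_mul_eq_one_right ht]
    simp only [← map_mul, mul_assoc, mul_inv_cancel_left]
  generalize k * x * k⁻¹ = y at g' yJ e
  have hY := M.root_pU z
  have wY : M.E.ι w ∈ M.pU z := mem_map_of_mem _ hw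
  have w2 : M.E.ι w * M.E.ι w ≠ 1 := fun e => w1 ((map_eq_one_iff _ M.E.ι_inj).1
    (eq_one_of_odd_of_sq (odd_orderOf (odd_of_pi M.N.p_ne hY.2.1) wY) e))
  have gen : ∀ u ∈ M.pU z, u ≠ 1 → zpowers u = M.pU z := fun u hu u1 =>
    zpowers_eq_of_prime (by rw [hY.2.2, hq]; exact Nat.prime_five) hu u1
  have xy := mul_mem xJ yJ
  have sq : ∀ u ∈ c.J X a, ap M.κ u = 1 → ap α (u * u) = 1 := fun u hu e =>
    h.JU (fun _ => rfl) ⟨mul_mem hu hu, (M.b2_cases (JH hu) e).elim (fun k => mul_mem k k) fun k => by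
      have := mul_mem k k
      rwa [mul_assoc, ← mul_assoc c.t, ← mem_C1.1 (JH hu), mul_assoc, sq_of c.pg_t, mul_one] at this⟩
  obtain ⟨Y, hY', jY⟩ := M.le_root (X := zpowers (ap M.κ j)) (p5 ▸ (piElt_of_orderOf_prime Nat.prime_five
    oj).isPi) (zpowers_le.2 (M.L_le (M.mem_Lt.1 (h.covJ.le hj)).2))
  obtain ⟨γ, hγ, e1⟩ := hY'.trans hY
  obtain ⟨n, hn, nH, rfl⟩ := mem_img.1 (h.covJ.cov hγ)
  have j' := conj_mem (norm_self _ hn) hj
  obtain ⟨m, hm⟩ := mem_zpowers_iff.1 ((gen (ap M.κ (n * j * n⁻¹)) (by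
    rw [ap_conj _ nH (JH hj), e1]; exact conj_mem_cj _ (jY (mem_zpowers _))) (by
    rw [ap_conj _ nH (JH hj), Ne, conj_eq_one_iff]
    exact ne_one_of_orderOf_prime (oj ▸ Nat.prime_five))).ge (mul_mem wY wY))
  have hv : ap α (n * j * n⁻¹) (ap α n (ap π b)) = ap α n (ap π b) := by
    have := (h.ker _ (h.cm (h.JX hj) hb)).2 hb'
    rw [h.act' (h.JX hj) hb, mul_inv_eq_one] at this
    rw [ap_conj _ (h.JX hn) (h.JX hj), MulAut.mul_apply, MulAut.mul_apply, MulAut.inv_def,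
      MulEquiv.symm_apply_apply, this]
  generalize n * j * n⁻¹ = i at j' hm hv
  have h10 : (ap α x * ap α y) ^ 10 = 1 := by
    rw [← ap_mul _ g.mX.1 g'.mX.1, ← ap_pow _ (h.JX xy), show 10 = 5 + 5 from rfl, pow_add]
    exact sq _ (pow_mem xy 5) (by rw [ap_pow _ (JH xy), e, ← p5, hY.elem.2 _ (mul_mem wY wY)])
  have h2 : ((ap α x * ap α y) ^ 2) (ap α n (ap π b)) = ap α n (ap π b) := by
    have u := mul_mem (inv_mem (zpow_mem j' m)) xy
    have k1 := sq _ u (by rw [ap_mul _ (JH (inv_mem (zpow_mem j' m))) (JH xy), ap_inv _ (JH (zpow_mem j' m)),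
      ap_zpow _ (JH j'), hm, e, inv_mul_cancel])
    have k2 := (h.κZ (J_le u) (by rw [ap_mul _ (JH (inv_mem (zpow_mem j' m))) (JH xy),
      ap_inv _ (JH (zpow_mem j' m)), ap_zpow _ (JH j'), hm, e, inv_mul_cancel])).2
    have k3 := mem_C.1 k2 _ (ap_mem_img α (J_le (zpow_mem j' m)).1 (h.JX (zpow_mem j' m)))
    rw [ap_mul _ (h.JX u) (h.JX u), ← pow_two] at k1
    rw [← ap_mul _ g.mX.1 g'.mX.1, ← mul_inv_cancel_left (i ^ m) (x * y), ap_mul _ (h.JX (zpow_mem j' m))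
      (h.JX u), (show Commute _ _ from k3).mul_pow, k1, mul_one, ap_zpow _ (h.JX j')]
    exact pow_mem (zpow_mem (show ap α i ∈ MulAction.stabilizer _ (ap α n (ap π b)) from hv) m) 2
  let W := Fx {(ap α x * ap α y) ^ 2}
  set K := closure ({x, y} : Set G)
  have KJ : K ≤ c.J X a := (closure_le _).2 (by rintro _ (rfl | rfl); exacts [xJ, yJ])
  have xK : x ∈ K := subset_closure (by simp)
  have xyK : x * y ∈ K := mul_mem xK (subset_closure (by simp))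
  have YK : M.pU z ≤ img M.κ K := by
    rw [← gen _ (mul_mem wY wY) w2, ← e]
    exact zpowers_le.2 (ap_mem_img _ xyK (JH xy))
  have cov : M.L ≤ img M.κ K := by
    rw [← hY.sup (hY.cj (ap M.κ x)) fun e => g.not_norm hp hY (mem_N_iff_cj.2 e.symm)]
    exact sup_le YK (cj_le_of_mem_N YK (norm_self _ (ap_mem_img _ xK g.mem.2)))
  have nm : K ≤ N[pre α (fixingSubgroup (MulAut V) (W : Set V))] := by
    have : ∀ u ∈ X, (∀ v ∈ W, ap α u v ∈ W) → u ∈ N[pre α (fixingSubgroup (MulAut V) (W : Set V))] :=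
      fun u hu k => (inv_mem_iff (x := u)).1 (mem_N_of_finite fun l hl => by
        obtain ⟨l1, l2⟩ := mem_pre.1 hl
        refine mem_pre.2 ⟨conj_mem (norm_self X (inv_mem hu)) l1, (mem_fixingSubgroup_iff _).2 fun v hv => ?_⟩
        rw [ap_conj _ (inv_mem hu) l1, ap_inv _ hu, inv_inv, mul_smul, mul_smul,
          (mem_fixingSubgroup_iff _).1 l2 (ap α u • v) (k v hv), inv_smul_smul])
    refine (closure_le _).2 ?_
    rintro _ (rfl | rfl)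
    · exact this _ g.mX.1 fun v hv => mem_Fx1.2 (fix_ten h.pow g.qd g'.qd h10 (mem_Fx1.1 hv)).1
    · exact this _ g'.mX.1 fun v hv => mem_Fx1.2 (fix_ten h.pow g.qd g'.qd h10 (mem_Fx1.1 hv)).2
  have := (mem_pre.1 (M.t_mem_of_cov (M.cov_of_norm h.hq cov (inf_le_left.trans nm) (ne_bot_of_mem
    (ap_mem_img _ (x := (x * y) ^ 2) (mem_pre.2 ⟨h.JX (pow_mem xy 2), (mem_fixingSubgroup_iff _).2
      fun v hv => by rw [ap_pow _ (h.JX xy), ap_mul _ g.mX.1 g'.mX.1]; exact mem_Fx1.1 hv⟩)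
      (JH (pow_mem xy 2))) fun k => w2 (eq_one_of_odd_of_sq (odd_orderOf (odd_of_pi M.N.p_ne hY.2.1)
        (mul_mem wY wY)) (by rwa [ap_pow _ (JH xy), e, pow_two] at k)))))).2
  exact (h.ker b hb).1 ((map_eq_one_iff _ (ap α n).injective).1
    (h.t_fpf ((mem_fixingSubgroup_iff _).1 this _ (mem_Fx1.2 h2))))

end Cx

end H16.QS

namespace H2.QD

open H24 H26 Cfsg Subgroup
open H13.Dih (Four V4 Inv CD UU PP FC QS HII res)

universe u

variable {G : Type u} [Group G] [Finite G]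

theorem Mod.ps1 {c : QC G} (M : Mod c) (hq : 5 ≤ M.N.q) {X P R : Subgroup G} {p : ℕ} {a : G}
    (hX : M.Big X) (hiso : X ≤ 𝒪[X] ⊔ (X ⊓ c.H)) (hp : p.Prime) (h2 : p ≠ 2) (hP : IsPi {p} P)
    (hc : Chief X P R) (ha : a ∈ X) (hap : PiElt {p} a)
    (hquad : ⁅⁅P, zpowers a⁆, zpowers a⁆ ≤ R) (hne : ¬ ⁅P, zpowers a⁆ ≤ R) :
    a ∉ 𝒪[X] ∧ P ⊓ C{c.t} ≤ R ∧ M.Cov (c.J X a) ∧ ⁅P, ⁅𝒪[X], c.J X a⁆⁆ ≤ R ∧
      ((p = M.N.p ∧ M.NatSec (c.J X a) P R) ∨ (M.N.q = 5 ∧ p = 3 ∧ M.Fpf5 (c.J X a) P R)) := by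
  obtain ⟨V, _, _, _, π, α, r⟩ := H16.QS.exists_rep hc hp hP
  have h : H16.QS.Cx M X P R p a π α := ⟨r, hq, hX, hiso, h2, ha, hap, r.qd ha hquad, r.ne_one ha hne⟩
  have h1 := comm_le_of_le (pcore_le ({2} : Set ℕ)ᶜ X) h.JX
  refine ⟨h.nO, h.inf_le, h.covJ, r.comm_le h1 fun y hy => ?_, (em _).imp (fun e => ⟨e, h.natSec hP e⟩)
    fun e => ⟨h.q_eq e, h.fpf5 e⟩⟩
  have := ap_mem_img α hy (h1 hy)
  rwa [img_comm _ (pcore_le _ _) h.JX, comm_eq_bot'.2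
    ((img_mono _ (H16.QS.Cx.J_le.trans inf_le_left)).trans h.DO)] at this

end H2.QD
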