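import Mathlib
import Cfsg.Agent.H2.QB2
import Cfsg.Agent.H2.QFC
import Cfsg.Agent.H2.QKill
import Cfsg.Agent.H2.QPS1

/-! Quadratic action: the consequences of `ps1` and `kill`. -/

set_option autoImplicit false
set_option linter.unusedSectionVars false

namespace H7.PS

open H24 hiding Chief
open H26 Cfsg Subgroup H2.QD
open H13.Dih hiding MC

universe u

variable {G : Type u} [Group G] [Finite G] {c : QC G} {M : Mod c} {X W A B P R : Subgroup G} {a x : G}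
  {p : ℕ}

theorem mem_ncl : a ∈ ncl X a := subset_closure ⟨1, one_mem _, by simp⟩

theorem ncl_le (hW : X ≤ N[W]) (ha : a ∈ W) : ncl X a ≤ W :=
  (closure_le _).2 fun _ ⟨_, hx, e⟩ => e ▸ conj_mem (hW hx) ha

theorem ncl_nml (ha : a ∈ X) : ncl X a ⊴ X :=
  ⟨ncl_le (norm_self X) ha, norm_closure fun g hg _ ⟨x, hx, e⟩ =>
    subset_closure ⟨g * x, mul_mem hg hx, by rw [e]; group⟩⟩

theorem J_le (ha : a ∈ X) : c.J X a ≤ X ⊓ c.H := (res_le _).trans (inf_le_inf_right _ (ncl_nml ha).le)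

theorem mem_W (hA : A ≤ N[B]) (hx : x ∈ N[B]) : x ∈ coq B C[quo A B] ↔ ⁅A, zpowers x⁆ ≤ B := by
  rw [mem_coq, and_iff_right hx, ← quo_cents hA (zpowers_le.2 hx), centsC, quo_zpowers hx, zpowers_le]

theorem norm_W (hA : X ≤ N[A]) (hB : X ≤ N[B]) : X ≤ N[coq B C[quo A B]] :=
  norm_coq hB (norm_C (quo_norm _ hA))

theorem cm_ncl (hA : A ⊴ X) (hB : X ≤ N[B]) (ha : a ∈ X) (h : ⁅A, zpowers a⁆ ≤ B) :
    ⁅A, ncl X a⁆ ≤ B := by
  have h1 := (ncl_nml ha).le.trans hB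
  rw [← quo_cents (hA.le.trans hB) h1, centsC, quo_le_iff h1]
  exact ncl_le (norm_W hA.norm hB) ((mem_W (hA.le.trans hB) (hB ha)).2 h)

theorem ind {Q : Subgroup G → Prop} (hR : R ⊴ X) (h0 : Q ⊥)
    (hs : ∀ A B, Chief X A B → A ≤ R → Q B → Q A) : Q R :=
  chief_ind (Nml.bot X) hR bot_le h0 fun _ _ h _ h2 => hs _ _ ⟨h.nmlU, h.nmlV, h.lt, h.max⟩ h2

theorem J_cent (M : Mod c) (hq : 5 ≤ M.N.q) (hX : M.Big X) (hiso : X ≤ 𝒪[X] ⊔ (X ⊓ c.H)) (hp : p.Prime)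
    (h2 : p ≠ 2) (hR : IsPi {p} R) (hn : R ⊴ X) (ht : R ≤ C{c.t}) (ha : a ∈ X) (hap : PiElt {p} a)
    (hquad : ∀ A B, Chief X A B → A ≤ R → ⁅⁅A, zpowers a⁆, zpowers a⁆ ≤ B) : c.J X a ≤ C[R] := by
  refine ind (Q := fun A => c.J X a ≤ C[A]) hn (cents_symm bot_le) fun A B hc hA hB => ?_
  have h1 : ⁅A, zpowers a⁆ ≤ B := by_contra fun k => hc.lt.not_ge ((le_inf le_rfl (hA.trans ht)).trans
    (M.ps1 hq hX hiso hp h2 (hR.of_le hA) hc ha hap (hquad A B hc hA) k).2.1)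
  have h3 : ⁅⁅A, c.J X a⁆, c.J X a⁆ = ⊥ := comm_eq_bot'.2 (hB.trans (C_anti ((comm_mono_right ((res_le _).trans inf_le_left)).trans
    (cm_ncl hc.nP hc.nR.norm ha h1))))
  have h4 := three_subgroup (by rwa [commC _ A] : ⁅⁅c.J X a, A⁆, c.J X a⁆ = ⊥) h3
  rwa [QC.J, res_perfect, comm_eq_bot] at h4

/-- a quadratic `p`-element acting nontrivially on a chief factor -/
theorem of_not_stab (hp : p.Prime) (hs : ¬ Stab p X) : ∃ P a, P ⊴ X ∧ IsPi {p} P ∧ a ∈ X ∧ PiElt {p} a ∧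
    ⁅⁅P, zpowers a⁆, zpowers a⁆ = ⊥ ∧ ∃ A B, Chief X A B ∧ A ≤ P ∧ ¬ ⁅A, zpowers a⁆ ≤ B := by
  by_contra k
  refine hs fun P _ hP a ha => ?_
  have nP := nml_map_subtype P
  have pP := (isPi_of_isPGroup hp hP).map X.subtype
  have q := congrArg (map X.subtype) ha
  rw [map_commutator, map_commutator, MonoidHom.map_zpowers, Subgroup.map_bot, subtype_apply] at q
  have qq : ∀ y ∈ zpowers (a : G), ⁅⁅P.map X.subtype, zpowers y⁆, zpowers y⁆ = ⊥ := fun y hy =>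
    eq_bot_of_le q (commutator_mono (comm_mono_right (zpowers_le.2 hy)) (zpowers_le.2 hy))
  have one : ∀ y : X, (y : G) ∈ C[P.map X.subtype] → QuotientGroup.mk' C[P] y = 1 := fun y hy =>
    (QuotientGroup.eq_one_iff y).2 (mem_C'.2 fun x hx => Subtype.ext (mem_C'.1 hy _ (mem_map_of_mem _ hx)))
  have cop : ∀ {A : Subgroup G} {y : G}, IsPi {p} A → PiElt {p}ᶜ y → (♯A).Coprime ♯(zpowers y) :=
    fun h1 h2 => h1.coprime (piElt_iff.1 h2)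
  have b1 := constt_mem_zpowers {p} (a : G)
  have bX := zpowers_le.2 a.2 b1
  have key : ∀ y ∈ ncl X (constt {p} (a : G)), PiElt {p}ᶜ y → y ∈ C[P.map X.subtype] := fun y hy h1 =>
    zpowers_le.1 (ind (Q := fun A => zpowers y ≤ C[A]) nP (cents_symm bot_le) fun A B hc hA hB =>
      stable_factor_cent hB ((comm_mono_right (zpowers_le.2 hy)).trans (cm_ncl hc.nP hc.nR.norm bX
        (by_contra fun e => k ⟨_, _, nP, pP, bX, piElt_constt _ _, qq _ b1, A, B, hc, hA, e⟩))) hc.lt.le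
        (cop (pP.of_le (hc.lt.le.trans hA)) h1) (.inr (cyc_zpowers y).sol))
  have dec : ∀ y : X, (constt {p}ᶜ y : X).1 ∈ C[P.map X.subtype] →
      QuotientGroup.mk' C[P] y = QuotientGroup.mk' C[P] (constt {p} y) := fun y hy => by
    conv_lhs => rw [← constt_mul_constt {p} y, map_mul, one _ hy, mul_one]
  have := (ncl_nml bX).normal
  have e : (constt {p}ᶜ a : X).1 = constt {p}ᶜ (a : G) := constt_map X.subtype {p}ᶜ a
  rw [← pcore_singleton_top hp]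
  refine pcore_max (isPi_iff_piElt.2 ?_) (nml_top_iff.2 (this.map _ (QuotientGroup.mk'_surjective C[P])))
    ⟨constt {p} a, mem_subgroupOf.2 ((constt_map X.subtype {p} a).symm ▸ mem_ncl), (dec a ?_).symm⟩
  · rintro _ ⟨y, hy, rfl⟩
    rw [dec y (key _ (constt_mem _ hy) ((piElt_constt _ y).map X.subtype))]
    exact (piElt_constt _ y).map _
  · have b2 : (constt {p}ᶜ a : X).1 ∈ zpowers (a : G) := e.symm ▸ constt_mem_zpowers _ _
    exact zpowers_le.1 (coprime_commGG1P' (zpowers_le.2 (nP.norm (Subtype.mem _)))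
      (cop pP ((piElt_constt _ a).map X.subtype)) (.inr (cyc_zpowers _).sol) (qq _ b2))

theorem ps2 (h : MC M) (hX : M.Big X) (hiso : X ≤ 𝒪[X] ⊔ (X ⊓ c.H)) (hp : p.Prime) (h2 : p ≠ 2)
    (hs : ¬ Stab p X) : p = M.N.p ∧ ∃ P, P ⊴ X ∧ IsPi {p} P ∧ P ⊓ C{c.t} = ⊥ ∧ ¬ c.Free P ∧
      (∀ A ≤ P, X ⊓ c.H ≤ N[A] → A = ⊥ ∨ A = P) ∧ ∀ x ∈ 𝒪[X], PiElt {p} x → x ∈ C[P] := by
  have hq := h.q5
  have ht := c.four.ht
  obtain ⟨P', a, nP', pP', ha, hap, q, A, B, hc, hA, hne⟩ := of_not_stab hp hs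
  have qd : ∀ {A B}, A ≤ P' → ⁅⁅A, zpowers a⁆, zpowers a⁆ ≤ B := fun h =>
    ((comm_mono_left (comm_mono_left h)).trans q.le).trans bot_le
  obtain ⟨aO, h1, -⟩ := M.ps1 hq hX hiso hp h2 (pP'.of_le hA) hc ha hap (qd hA) hne
  obtain ⟨P, hP, ⟨nP, tP⟩, hm⟩ := exists_min (P := fun A => X ≤ N[A] ∧ ¬ A ≤ C{c.t}) (H := P')
    ⟨nP'.norm, fun e => hc.lt.not_ge ((le_inf le_rfl (hA.trans e)).trans h1)⟩
  have tX := hX.S_le (c.T_le_S Four.t_mem)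
  have pP := pP'.of_le hP
  have oP := odd_of_pi h2 pP
  have PX := hP.trans nP'.le
  have nE := ncl_nml tX
  have Rt : P ⊓ C[ncl X c.t] ≤ C{c.t} := inf_le_right.trans (C_le_C1 mem_ncl)
  have nR := norm_inf nP (norm_C nE.norm)
  have sm : ∀ A ≤ P, X ≤ N[A] → A = P ∨ A ≤ P ⊓ C[ncl X c.t] := fun A h1 h2 =>
    (em _).symm.imp (fun e => hm A ⟨h2, e⟩ h1) fun e =>
      le_inf h1 (cents_symm (ncl_le (norm_C h2) (mem_C_iff_le_C1.2 e)))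
  have nt : ∀ {A}, ⁅P, zpowers c.t⁆ ≤ A → ¬ A ≤ C{c.t} := fun h1 h2 => tP (comm_zp_eq_bot.1
    ((comm_idem oP ht (nP tX)).symm.trans (comm_zp_eq_bot.2 (h1.trans h2))))
  have ch : Chief X P (P ⊓ C[ncl X c.t]) := ⟨⟨PX, nP⟩, ⟨inf_le_left.trans PX, nR⟩,
    lt_of_le_not_ge inf_le_left fun e => tP (e.trans Rt),
    fun A h1 h2 h3 => ((sm A h2 h3).imp_right fun e => le_antisymm e h1).symm⟩
  have RC : P ⊓ C[ncl X c.t] ≤ C[P] := by
    have e := (sm _ (comm_le_left (nE.le.trans nP)) (norm_comm nP nE.norm)).resolve_right fun e =>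
      nt (comm_mono_right (zpowers_le.2 mem_ncl)) (e.trans Rt)
    have := three_subgroup (A := ncl X c.t) (B := P ⊓ C[ncl X c.t]) (K := P)
      (by rw [comm_eq_bot'.2 inf_le_right, commutator_bot_left])
      (comm_eq_bot.2 ((comm_le_left (PX.trans nR)).trans inf_le_right))
    rwa [e, comm_eq_bot'] at this
  have hne' : ¬ ⁅P, zpowers a⁆ ≤ P ⊓ C[ncl X c.t] := fun e => by
    have nW := nml_inf_of_norm (norm_W nP nR)
    refine aO (le_O (by_contra fun o => ?_) nW ⟨ha, (mem_W (PX.trans nR) (nR ha)).2 e⟩)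
    exact nt ((mem_W (PX.trans nR) (nR tX)).1 (c.t_mem_of_norm (hX.S_le.trans nW.norm) o).2) Rt
  obtain ⟨-, h6, hJ, hO, hn⟩ := M.ps1 hq hX hiso hp h2 pP ch ha hap (qd hP) hne'
  have h3 := J_cent M hq hX hiso hp h2 (pP.of_le inf_le_left) ch.nR Rt ha hap fun A B _ h =>
    qd (h.trans (inf_le_left.trans hP))
  have RU := (le_inf le_rfl Rt).trans
    (M.le_U_of_cov hq hX.cov (odd_of_le oP inf_le_left) (inf_le_left.trans nR))
  have JX := J_le (c := c) ha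
  have h4 := (JX.trans inf_le_left).trans nP
  have n1 : ⁅P, zpowers c.t⁆ ≠ ⊥ := fun e => tP (comm_zp_eq_bot.1 e)
  rcases hn with ⟨rfl, hn⟩ | ⟨q5, rfl, hn⟩
  swap
  · refine absurd (h.kill5 hJ inf_le_left RC RU h3 h4 (hX.S_le.trans nP) h6 q5 pP
      ((sm _ (chr_Phi P).le ((chr_Phi P).norm nP)).resolve_left (Phi_lt fun e => tP ?_).ne) hn) n1
    exact e.le.trans bot_le
  obtain ⟨k1, k2, k3, k4⟩ :=
    (h.kill hJ inf_le_left RC RU h3 h4 (hX.S_le.trans nP) h6 pP hn).resolve_left n1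
  have e := hm _ ⟨(le_inf nP nR).trans k3, nt le_rfl⟩ (comm_le_left (zpowers_le.2 (nP tX)))
  rw [e] at k1 k2 k4
  rw [inf_eq_right.2 inf_le_left] at k1
  have tr : ∀ A ≤ P, c.J X a ≤ N[A] → A = ⊥ ∨ A = P := fun A h1 h2 => or_iff_not_imp_left.2 fun n => by
    obtain ⟨v, hv, v1⟩ := exists_ne_one n
    refine le_antisymm h1 fun y hy => (em (y = 1)).elim (fun e => e ▸ one_mem A) fun y1 => ?_
    obtain ⟨j, hj, rfl⟩ := k4 v (h1 hv) y hy v1 y1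
    exact conj_mem (h2 hj) hv
  refine ⟨rfl, P, ⟨PX, nP⟩, pP, eq_bot_of_le k1 h6, k2, fun A h1 h2 => tr A h1 (JX.trans h2),
    fun x hx px => mem_C_iff_le_C1.2 (inf_eq_left.1 ((tr _ inf_le_left fun j hj =>
      mem_N_of_finite fun v hv => ?_).resolve_left ?_))⟩
  · have v1 := conj_mem (h4 hj) hv.1
    have := comm_of_cent (comm_eq_bot.1 (eq_bot_of_le k1 hO)) v1
      (commutator_mem_commutator (inv_mem hx) hj)
    refine ⟨v1, mem_C1.2 ?_⟩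
    have h7 := mem_C1.1 hv.2
    rw [commutatorElement_def, inv_inv] at this
    calc _ = x * (x⁻¹ * j * x * j⁻¹ * (j * v * j⁻¹)) * (j * x⁻¹ * j⁻¹ * x) := by
          rw [show x * (x⁻¹ * j * x * j⁻¹ * (j * v * j⁻¹)) = j * (x * v) * j⁻¹ by group, ← h7]; group
      _ = _ := by
          rw [← this, show x * (j * v * j⁻¹ * (x⁻¹ * j * x * j⁻¹)) * (j * x⁻¹ * j⁻¹ * x) =
            x * (j * v * j⁻¹) by group]
  · rw [← C_zpowers]
    exact IsPi.inf_C_ne_bot hp (piElt_iff.1 px) pP (zpowers_le.2 (nP (pcore_le _ _ hx)))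
      fun e => tP (e.le.trans bot_le)

theorem ps3 (h : MC M) (hB : MinB c p B) (hx : x ∈ c.H) (hp : PiElt {p} x)
    (hi : c.s * x * c.s⁻¹ = x⁻¹) (h1 : ap M.κ x ≠ 1) (hc : B ⊓ C{c.s} ≤ C{x}) : ¬ c.Free B := by
  have hq := h.q5
  obtain ⟨b1, b2, b3, b4, b5, -, b7, b8⟩ := hB.str
  have oB := odd_of_pi hB.ne2 hB.pi
  have B1 : B ≠ ⊥ := fun e => hB.ne (e.le.trans bot_le)
  have nB : B ⊔ c.H ≤ N[B] := sup_le (norm_self B) hB.norm
  have lB : ⁅B, B⁆ ≤ B := comm_le_left (norm_self B)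
  have hX := M.big_H.mono (le_sup_right (a := B))
  have hiso : B ⊔ c.H ≤ 𝒪[B ⊔ c.H] ⊔ ((B ⊔ c.H) ⊓ c.H) :=
    sup_le_sup (le_O oB ⟨le_sup_left, nB⟩) (le_inf le_sup_right le_rfl)
  have xX : x ∈ B ⊔ c.H := mem_sup_right hx
  have sX : c.s ∈ B ⊔ c.H := hX.S_le c.s_mem_S
  have ox := (odd_of_pi hB.ne2 (piElt_iff.1 hp)).of_dvd_nat (orderOf_dvd_card' (mem_zpowers x))
  have qd : ∀ {A R}, Chief (B ⊔ c.H) A R → A ≤ B → ⁅A, A⁆ ≤ R → ⁅⁅A, zpowers x⁆, zpowers x⁆ ≤ R :=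
    fun hc' hA h' => quad_of_inv (odd_of_le oB hA) hc'.lt.le h' (sq_of c.ord_s) (hc'.nP.norm sX)
      (hc'.nR.norm sX) (hc'.nP.norm xX) (hc'.nR.norm xX) ox hi ((inf_le_inf_right _ hA).trans hc)
  have ch : Chief (B ⊔ c.H) B ⁅B, B⁆ := ⟨⟨le_sup_left, nB⟩, ⟨lB.trans le_sup_left, norm_der1 nB⟩,
    (sol_of_odd oB).der1_lt B1, fun A h1 h2 h3 => b7 A h1 h2 (le_sup_right.trans h3)⟩
  obtain ⟨-, h6, hJ, -, hn⟩ := M.ps1 hq hX hiso hB.prime hB.ne2 hB.pi ch xX hp (qd ch le_rfl le_rfl)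
    fun e => hB.ne (mem_C_iff_le_C1.1 (M.t_mem_of_cov (M.cov_of_norm hq (le_top.trans M.img_H.ge)
      (inf_le_left.trans (norm_C hB.norm)) (ne_bot_of_mem (ap_mem_img _ (b8 x hx e) hx) h1))))
  have h3 := J_cent M hq hX hiso hB.prime hB.ne2 (hB.pi.of_le lB) ch.nR (b2.ge.trans inf_le_right) xX hp
    fun A R hc' hA => qd hc' (hA.trans lB) ((comm_eq_bot.2 (hA.trans (b4.trans (C_anti (hA.trans lB))))).le.trans
      bot_le)
  have h4 := ((J_le (c := c) xX).trans inf_le_left).trans nB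
  have h5 := c.S_le_H.trans hB.norm
  rcases hn with ⟨rfl, hn⟩ | ⟨q5, rfl, hn⟩
  · exact b1 ▸ ((h.kill hJ lB b4 b5 h3 h4 h5 h6 hB.pi hn).resolve_left (b1.symm ▸ B1)).2.1
  · exact absurd (b1.symm.trans (h.kill5 hJ lB b4 b5 h3 h4 h5 h6 q5 hB.pi b3.le hn)) B1

end H7.PS

namespace H2.QD

open H24 Cfsg Subgroup

universe u

variable {G : Type u} [Group G] [Finite G]

/-- `a` is quadratic on all chief factors below `R ≤ C(t)` -/
theorem Mod.J_cent {c : QC G} (M : Mod c) (hq : 5 ≤ M.N.q) {X R : Subgroup G} {p : ℕ} {a : G}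
    (hX : M.Big X) (hiso : X ≤ 𝒪[X] ⊔ (X ⊓ c.H)) (hp : p.Prime) (h2 : p ≠ 2) (hR : IsPi {p} R)
    (hn : R ⊴ X) (ht : R ≤ C{c.t}) (ha : a ∈ X) (hap : PiElt {p} a)
    (hquad : ∀ A B, Chief X A B → A ≤ R → ⁅⁅A, zpowers a⁆, zpowers a⁆ ≤ B) : c.J X a ≤ C[R] :=
  H7.PS.J_cent M hq hX hiso hp h2 hR hn ht ha hap hquad

theorem MC.ps2 {c : QC G} {M : Mod c} (h : MC M) {X : Subgroup G} {p : ℕ} (hX : M.Big X)
    (hiso : X ≤ 𝒪[X] ⊔ (X ⊓ c.H)) (hp : p.Prime) (h2 : p ≠ 2) (hs : ¬ Stab p X) :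
    p = M.N.p ∧ ∃ P, P ⊴ X ∧ IsPi {p} P ∧ P ⊓ C{c.t} = ⊥ ∧ ¬ c.Free P ∧
      (∀ A ≤ P, X ⊓ c.H ≤ N[A] → A = ⊥ ∨ A = P) ∧ ∀ x ∈ 𝒪[X], PiElt {p} x → x ∈ C[P] :=
  H7.PS.ps2 h hX hiso hp h2 hs

theorem MC.ps3 {c : QC G} {M : Mod c} (h : MC M) {p : ℕ} {B : Subgroup G} (hB : MinB c p B) {x : G}
    (hx : x ∈ c.H) (hp : PiElt {p} x) (hi : c.s * x * c.s⁻¹ = x⁻¹) (h1 : ap M.κ x ≠ 1)
    (hc : B ⊓ C{c.s} ≤ C{x}) : ¬ c.Free B := H7.PS.ps3 h hB hx hp hi h1 hc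

end H2.QD
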