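import Mathlib
import Cfsg.Agent.H2.QFC
import Cfsg.Agent.H2.QB3
import Cfsg.Agent.H2.QCL
import Cfsg.Agent.H2.QNS
import Cfsg.Agent.H2.QPS2

/-! The centraliser of an involution is a maximal subgroup (quasi-dihedral case). -/

set_option autoImplicit false
set_option linter.unusedSectionVars false

namespace H2.QD

open H24 H26 H13 H13.Dih Cfsg Subgroup

universe u

variable {G : Type u} [Group G] [Finite G]

/-- transport of a `C(t)`-invariant subgroup to the conjugates of `t` -/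
def tr (t : G) (X : Subgroup G) (v : G) : Subgroup G :=
  ⨆ g : {g : G // g * t * g⁻¹ = v}, H24.cj g.1 X

theorem tr_cj (t : G) (X : Subgroup G) (k v : G) :
    H24.cj k (tr t X v) = tr t X (k * v * k⁻¹) := by
  have key : ∀ k v, H24.cj k (tr t X v) ≤ tr t X (k * v * k⁻¹) := fun k v => by
    rw [cj_le_iff]
    refine iSup_le fun g => cj_le_iff.1 ?_
    rw [← cj_mul]
    exact le_iSup (fun g : {g : G // g * t * g⁻¹ = k * v * k⁻¹} => H24.cj g.1 X)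
      ⟨k * g, by obtain ⟨g, rfl⟩ := g; group⟩
  refine le_antisymm (key k v) (le_cj_iff.2 ((key _ _).trans_eq ?_))
  congr 1; group

theorem tr_self {t : G} {X : Subgroup G} (h : C{t} ≤ N[X]) : tr t X t = X :=
  le_antisymm (iSup_le fun g => (cj_of_mem_N (h (mem_C1_iff_conj.2 g.2))).le)
    (le_iSup_of_le (⟨1, by simp⟩ : {g : G // g * t * g⁻¹ = t}) (cj_one X).ge)

/-- the configuration coming from a minimal `B` -/
structure II {c : QC G} (M : Mod c) (p : ℕ) (B W : G → Subgroup G) : Prop where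
  mc : MC M
  hK : c.K ≠ ⊥
  cjB : ∀ g v, H24.cj g (B v) = B (g * v * g⁻¹)
  cjW : ∀ g v, H24.cj g (W v) = W (g * v * g⁻¹)
  min : MinB c p (B c.t)
  coatom : IsCoatom (W c.t)
  le : B c.t ≤ W c.t

theorem MC.free {c : QC G} {M : Mod c} (h : MC M) (hK : c.K ≠ ⊥) {p : ℕ} {B : Subgroup G}
    (hB : MinB c p B) : c.Free B := by
  by_contra e
  exact hK (c.K_eq_bot.2 (h.rooted hB e))

theorem MC.nsol {c : QC G} {M : Mod c} (h : MC M) : ¬ Sol (⊤ : Subgroup G) := fun e =>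
  ne_bot_of_mem M.σ_mem (ne_one_of M.four_eσ.hs) (eq_bot_of_perfect (M.perfect h.q5)
    ((e.img M.κ).of_le (M.big_H.cov.trans (img_mono _ le_top))))

theorem MC.fix_t {c : QC G} {M : Mod c} (h : MC M) {N : Subgroup G} (hN : N ≠ ⊤) (hB : M.Big N)
    (hO : 𝒪[N] ≠ ⊥) {j : G} (hj : j ∈ N) (hT : j ∈ N[c.T]) : j * c.t * j⁻¹ = c.t := by
  rcases c.conj_T hT Four.t_mem (ne_one_of c.four.ht) with e | e
  · exact e
  · obtain ⟨r, hr, hr'⟩ := c.rot_of_swap e hT hj (hB.S_le (c.Q_le_S c.i_mem_Q))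
    exact absurd (h.zero hN hB hr hr') hO

namespace II

variable {c : QC G} {M : Mod c} {p : ℕ} {B W : G → Subgroup G} (h : II M p B W)
  {v w : G} {L N : Subgroup G}
include h

theorem cj (g : G) : II (M.cj g) p B W :=
  ⟨h.mc.cj g, by rw [c.cj_K, Ne, cj_eq_bot]; exact h.hK, h.cjB, h.cjW,
    by rw [c.cj_t, ← h.cjB]; exact h.min.cj g,
    by rw [c.cj_t, ← h.cjW]; exact isCoatom_cj h.coatom g,
    by rw [c.cj_t, ← h.cjB, ← h.cjW]; exact cj_mono g h.le⟩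

theorem sn : SN G := ⟨h.mc.simple, h.mc.nsol⟩

theorem H_le : c.H ≤ W c.t := fun g hg =>
  h.sn.N_self h.coatom ▸ mem_N_iff_cj.2 (by rw [h.cjW, mem_C1_iff_conj.1 hg])

theorem at_t {P : G → Prop} (H : ∀ (c : QC G) (M : Mod c), II M p B W → P c.t)
    (hv : orderOf v = 2) : P v := by
  obtain ⟨g, e⟩ := c.invol_G hv
  have := H _ _ (h.cj g⁻¹)
  rwa [c.cj_t, ← e, show g⁻¹ * (g * v * g⁻¹) * g⁻¹⁻¹ = v by group] at this

theorem at_ts {P : G → G → Prop} (H : ∀ (c : QC G) (M : Mod c), II M p B W → P c.t c.s)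
    (hv : Four v w) : P v w := by
  obtain ⟨g, e1, e2⟩ := c.exists_four hv
  have := H _ _ (h.cj g)
  rwa [c.cj_t, c.cj_s, e1, e2] at this

theorem C_le (hv : orderOf v = 2) : C{v} ≤ W v :=
  h.at_t (P := fun v => C{v} ≤ W v) (fun _ _ h => h.H_le) hv

theorem lb (hv : orderOf v = 2) (hL : L ≠ ⊤) (hvL : v ∈ L) : ⁅B v ⊓ L, zpowers v⁆ ≤ O[{p}, L] :=
  h.at_t (P := fun v => v ∈ L → ⁅B v ⊓ L, zpowers v⁆ ≤ O[{p}, L]) (fun _ _ h => h.mc.lb h.min.prime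
    h.min.ne2 h.min.pi h.min.norm (h.mc.free h.hK h.min) hL) hv hvL

theorem B_le (hv : orderOf v = 2) : B v ≤ O[{p}, W v] :=
  h.at_t (P := fun v => B v ≤ O[{p}, W v]) (fun c _ h => by
    have := h.lb c.four.ht h.coatom.1 (h.H_le (self_mem_C1 _))
    rwa [inf_of_le_left h.le, h.min.str.1] at this) hv

theorem fc (hv : orderOf v = 2) : FC (W v) :=
  h.at_t (P := fun v => FC (W v)) (fun c _ h => h.sn.fc_of h.coatom fun z hz h2 hc => by
    have hD := (pcore_nml {2}ᶜ (W c.t)).Fitting.infC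
    have := c.t_mem_of_norm (c.S_le_H.trans (h.H_le.trans hD.norm))
      fun e => not_mem_of_odd e h2 ⟨hz, hc⟩
    exact h.min.ne ((h.B_le c.four.ht).trans ((pcore_le_FO h.min.prime h.min.ne2 _).trans
      (mem_C_iff_le_C1.1 this.2)))) hv

theorem W_ne (hf : Four v w) : W v ≠ W w :=
  h.at_ts (P := fun v w => W v ≠ W w) (fun c _ h e => by
    obtain ⟨j, -, h2, h1⟩ := c.exists_NT c.four.mul'.symm Four.ts_mem Four.s_mem
    have h3 := (h.mc.f2 h.coatom.1 h.H_le h.hK).2.2.2 _ (e ▸ h.C_le c.four.hs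
      (mem_C1_iff_conj.2 h1)) (h2 ▸ c.four.mul.s_mem_C)
    exact c.four.ts_ne_t (h2 ▸ mem_C1_iff_conj.1 h3)) hf

theorem B_pi (hv : orderOf v = 2) : IsPi {p} (B v) := (pcore_pi _ _).of_le (h.B_le hv)

theorem B_odd (hv : orderOf v = 2) : Odd ♯(B v) := odd_of_pi h.min.ne2 (h.B_pi hv)

theorem B_norm (v : G) : C{v} ≤ N[B v] := fun g hg =>
  mem_N_iff_cj.2 (by rw [h.cjB, mem_C1_iff_conj.1 hg])

theorem X_norm (hf : Four v w) : v ∈ N[B v ⊓ C{w}] := zpowers_le.1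
  (norm_inf (zpowers_le.2 (h.B_norm v (self_mem_C1 v))) (norm_of_le (zpowers_le.2 hf.t_mem_C)))

theorem X_le (hf : Four v w) : ⁅B v ⊓ C{w}, zpowers v⁆ ≤ B v ⊓ C{w} :=
  comm_le_left (zpowers_le.2 (h.X_norm hf))

theorem X_idem (hf : Four v w) :
    ⁅⁅B v ⊓ C{w}, zpowers v⁆, zpowers v⁆ = ⁅B v ⊓ C{w}, zpowers v⁆ :=
  comm_idem (odd_of_le (h.B_odd hf.ht) inf_le_left) hf.ht (h.X_norm hf)

theorem X_not (hf : Four v w) : ¬ ⁅B v ⊓ C{w}, zpowers v⁆ ≤ C{v} := by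
  rw [← comm_zp_eq_bot, h.X_idem hf, comm_zp_eq_bot]
  exact h.at_ts (P := fun v w => ¬ B v ⊓ C{w} ≤ C{v}) (fun _ _ h => h.min.str.2.2.2.2.2.1) hf

theorem X_le_O (hf : Four v w) (hL : L ≠ ⊤) (hv : v ∈ L) (hX : ⁅B v ⊓ C{w}, zpowers v⁆ ≤ L) :
    ⁅B v ⊓ C{w}, zpowers v⁆ ≤ O[{p}, L] := (h.X_idem hf).ge.trans
  ((comm_mono_left (le_inf ((h.X_le hf).trans inf_le_left) hX)).trans (h.lb hf.ht hL hv))

theorem X_le_D (hf : Four v w) : ⁅B v ⊓ C{w}, zpowers v⁆ ≤ O[{p}, W v] ⊓ O[{p}, W w] :=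
  le_inf ((h.X_le hf).trans (inf_le_left.trans (h.B_le hf.ht))) (h.X_le_O hf (h.fc hf.hs).coatom.1
    (h.C_le hf.hs hf.t_mem_C) ((h.X_le hf).trans (inf_le_right.trans (h.C_le hf.hs))))

theorem stab (hv : orderOf v = 2) : Stab p (W v) :=
  h.at_t (P := fun v => Stab p (W v)) (fun c M h => by
    by_contra hs
    obtain ⟨-, P, h1, h2, h3, h4, h5, -⟩ := h.mc.ps2 (M.big_H.mono h.H_le) (by
      rw [inf_of_le_right h.H_le]; exact (h.mc.f2 h.coatom.1 h.H_le h.hK).1)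
      h.min.prime h.min.ne2 hs
    refine h4 (h.mc.free h.hK (p := p) ⟨h.min.prime, h.min.ne2, h2, h.H_le.trans h1.norm,
      fun e => h4 ?_, fun A hA hN => ((h5 A hA.le (inf_le_right.trans hN)).resolve_right
        hA.ne).le.trans bot_le⟩)
    rw [inf_of_le_left e] at h3
    simp [QC.Free, h3]) hv

theorem primes_eq (hv : orderOf v = 2) (hw : orderOf w = 2) : primesOf F[W v] = primesOf F[W w] := by
  have key : ∀ {v}, orderOf v = 2 → primesOf F[W v] = primesOf F[W c.t] := fun hv => by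
    obtain ⟨g, e⟩ := c.invol_G hv
    rw [← e, ← h.cjW, Fitting_cj, primesOf_cj]
  rw [key hv, key hw]

theorem not_cd (hN : FC N) (h1 : IsPi {p} F[N]) (h2 : IsPi {p} F[W c.t]) : ¬ CD N := fun e => by
  have := h.mc.simple
  obtain ⟨g, rfl⟩ := conj_of_stab h.mc.nsol (h.fc c.four.ht) hN h.min.prime h2 h1
    (h.stab c.four.ht) (stab_of_cd h.min.prime h.min.ne2 e)
  refine (c.cj g).not_cd_Q (H8.QC.CD.mono e ?_)
  rw [c.cj_Q]
  exact cj_mono g (c.Q_le_S.trans (c.S_le_H.trans h.H_le))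

theorem eq_of_big (hN : FC N) (hT : c.CT ≤ N) (hB : M.Big N) (h1 : IsPi {p} F[N])
    (h2 : IsPi {p} F[W c.t]) (hX : ⁅B c.s ⊓ C{c.t * c.s}, zpowers c.s⁆ ≤ N) : N = W c.t := by
  have := h.mc.simple
  have hf := c.four
  have hp := h.min.prime
  have hTN := c.T_le_CT.trans hT
  have h3 := h.X_le_O hf.mul' hN.coatom.1 (hTN Four.s_mem) hX
  have hPO : O[{p}, N] ≤ 𝒪[N] := pcore_mono N (singleton_subset_compl h.min.ne2)
  have hO : 𝒪[N] ≠ ⊥ := fun e => h.X_not hf.mul' ((h3.trans (hPO.trans e.le)).trans bot_le)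
  have hiso := h.mc.iso hN.coatom.1 hB hO
  by_cases hs : Stab p N
  · obtain ⟨g, e⟩ := conj_of_stab h.mc.nsol (h.fc hf.ht) hN hp h2 h1 (h.stab hf.ht) hs
    rw [h.cjW] at e
    have hu := two_conj hf.ht g
    obtain ⟨k, hk, e'⟩ := c.invol_cases hB.S_le (e ▸ h.C_le hu (self_mem_C1 _)) hu
    have e2 := h.cjW k (g * c.t * g⁻¹)
    rw [← e, cj_of_mem hk] at e2
    rcases e' with e' | e'
    · rw [e2, e']
    · obtain ⟨j, hj, j1, j2⟩ := c.exists_NT hf.mul'.symm Four.ts_mem Four.s_mem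
      exact absurd (j1 ▸ h.mc.fix_t hN.coatom.1 hB hO (e2 ▸ e' ▸ h.C_le hf.hs
        (mem_C1_iff_conj.2 j2)) hj) hf.ts_ne_t
  obtain ⟨e, P, a1, a2, a3, a4, -, a5⟩ := h.mc.ps2 hB hiso hp h.min.ne2 hs
  have hPo := odd_of_pi h.min.ne2 a2
  have a6 := inv_of_inf_C hPo (sq_of hf.ht) (a1.norm (hTN Four.t_mem)) a3
  obtain ⟨x, hx, hx'⟩ := SetLike.not_le_iff_exists.1 fun e : P ⊓ C{c.s} ≤ UU c.s =>
    a4 ((comm_le_left (zpowers_le.2 (a6.of_le inf_le_left).norm)).trans e)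
  have h' := h.cj c.ρ
  have e1 : (c.cj c.ρ).t = c.s := by rw [c.cj_t, c.rot_ρ.1]
  have e2 : (c.cj c.ρ).s = c.t * c.s := c.rot_ρ.2
  have hxH : x ∈ (c.cj c.ρ).H := by rw [QC.H, e1]; exact hx.2
  refine absurd (h'.mc.free h'.hK h'.min) (h'.mc.ps3 h'.min hxH (a2.piElt hx.1) ?_ (fun e => hx' ?_) ?_)
  · rw [e2, ← a6 x hx.1]
    conv_rhs => rw [← mem_C1_iff_conj.1 (mem_C1_comm.1 hx.2)]
    group
  · have := (M.cj c.ρ).mem_U hxH e (odd_orderOf hPo hx.1)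
    rwa [QC.U, e1] at this
  rw [e1, e2, ← (cent_prod (odd_of_le (h.B_odd hf.hs) inf_le_left) hf.hs (h.X_norm hf.mul')).sup_eq]
  have key : ∀ {Y : Subgroup G}, IsPi {p} Y → Y ≤ 𝒪[N] → Y ≤ C{x} := fun h1 h2 y hy =>
    C_le_C1 hx.1 (a5 y (h2 hy) (h1.piElt hy))
  refine sup_le (key ((pcore_pi _ _).of_le h3) (h3.trans hPO)) (key (((h.B_pi hf.hs).inf_left _).inf_left _) ?_)
  have b1 : B c.s ⊓ C{c.t * c.s} ⊓ C{c.s} ≤ B c.s ⊓ c.CT :=
    fun y hy => ⟨hy.1.1, hf.C_of_ts' hy.2 hy.1.2, hy.2⟩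
  exact (le_inf (b1.trans (M.p0_inv h.mc.q5 (e ▸ h.B_pi hf.hs) (inf_le_right.trans (h.B_norm _))))
    (b1.trans (inf_le_right.trans hT))).trans ((M.U_inf_le h.mc.q5 hB.cov hiso).ge.trans inf_le_left)

/-- the first step: one prime, and `O_p(W t) ⊓ O_p(W s) ⊓ O_p(W ts) ≠ 1` -/
theorem step : IsPi {p} F[W c.t] ∧ ⁅B c.s ⊓ C{c.t * c.s}, zpowers c.s⁆ ≤ O[{p}, W c.t] := by
  have := h.mc.simple
  have hf := c.four
  have hg := hf.mul'
  have hp := h.min.prime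
  have nW := fun v => (pcore_nml {p} (W v)).norm
  set D := O[{p}, W c.s] ⊓ O[{p}, W (c.t * c.s)] with hD
  have hD1 : D ≠ ⊥ := fun e => h.X_not hg (((h.X_le_D hg).trans e.le).trans bot_le)
  obtain ⟨N, hN, hDN⟩ := exists_coatom (h.mc.N_ne_top' hD1
    (odd_of_pi h.min.ne2 ((pcore_pi {p} _).inf_left _)))
  have hT : c.CT ≤ N := (norm_inf (inf_le_right.trans ((h.C_le hf.hs).trans (nW _)))
    fun y hy => nW _ (h.C_le hf.hts (Four.C_mul hy.1 hy.2))).trans hDN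
  have hTN := c.T_le_CT.trans hT
  have hi : c.i ∈ N := hDN (mem_N_iff_cj.2 (by
    rw [cj_inf, ← pcore_cj, ← pcore_cj, h.cjW, h.cjW, c.i_s, c.i_ts, inf_comm]))
  have hDN' := (norm_self D).trans hDN
  have x1 := (h.X_le_D hg).trans hDN'
  have x2 := ((h.X_le_D hg.symm).trans (inf_comm _ _).le).trans hDN'
  have b0 := h.X_le_O hg hN.1 (hTN Four.s_mem) x1
  have b1 := h.X_le_O hg.symm hN.1 (hTN Four.ts_mem) x2
  have hfc : FC N := h.sn.fc_of hN fun z hz h2 hc => by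
    have hC := (pcore_nml {2}ᶜ N).Fitting.infC
    obtain ⟨v, hv, v1⟩ := c.mem_T_of_norm (hTN.trans hC.norm) fun e => not_mem_of_odd e h2 ⟨hz, hc⟩
    have e := (pcore_le_FO hp h.min.ne2 _).trans (mem_C_iff_le_C1.1 hv.2.2)
    rcases hf.mem_V.1 hv.1 with rfl | rfl | rfl | rfl
    · exact v1 rfl
    · exact h.X_not hg fun y hy => hf.C_of_ts (e (b0 hy)) (h.X_le hg hy).2
    · exact h.X_not hg (b0.trans e)
    · exact h.X_not hg.symm (b1.trans e)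
  have hP := ne_bot_of_le hD1 inf_le_left
  have hπ := primes_sub h.mc.nsol hp hg (h.fc hf.hs) (h.fc hf.hts) (h.fc hg.hts) (h.C_le hf.hs)
    (h.C_le hf.hts) (h.C_le hg.hts) hP (h.primes_eq hf.hts hf.hs) (h.primes_eq hg.hts hf.hs) hfc
    (Four.V_le.2 ⟨hTN Four.s_mem, hTN Four.ts_mem⟩) hDN
  have h1 : IsPi {p} F[W c.s] := by
    by_contra hn
    have h2 : ∀ q, ¬ IsPi {q} F[W c.s] := fun q hq => hn (by
      have : p = q := isPi_iff_primesOf.1 hq ⟨hp, (pcore_ne_bot_iff_dvd_Fitting hp).1 hP⟩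
      rwa [this])
    refine h.W_ne hg ((ul_multi h.mc.nsol (h.fc hf.hs) hfc hπ h2
      (inf_le_left.trans (pcore_le_Fitting hp _)) hDN).trans (ul_multi h.mc.nsol (h.fc hf.hts) hfc
      (h.primes_eq hf.hts hf.hs ▸ hπ) (fun q hq => h2 q ?_)
      (inf_le_right.trans (pcore_le_Fitting hp _)) hDN).symm)
    rwa [isPi_iff_primesOf, h.primes_eq hf.hts hf.hs, ← isPi_iff_primesOf] at hq
  have h2 : ∀ v, orderOf v = 2 → IsPi {p} F[W v] := fun v hv => by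
    rwa [isPi_iff_primesOf, h.primes_eq hv hf.hs, ← isPi_iff_primesOf]
  have h3 : IsPi {p} F[N] := isPi_iff_primesOf.2 (hπ.trans (isPi_iff_primesOf.1 h1))
  refine ⟨h2 _ hf.ht, ?_⟩
  obtain ⟨g, hgT, hB⟩ := (h.mc.cov hN.1 hT).resolve_left (h.not_cd hfc h3 (h2 _ hf.ht))
  have h' := h.cj g
  have hO : 𝒪[N] ≠ ⊥ := fun e => h.X_not hg ((b0.trans ((pcore_mono N
    (singleton_subset_compl h.min.ne2)).trans e.le)).trans bot_le)
  have e1 : (c.cj g).t = c.t := by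
    have := h'.mc.fix_t hN.1 hB hO hi (by rw [c.cj_T' hgT]; exact c.i_mem_NT)
    rw [c.cj_t] at this ⊢
    rcases c.conj_T hgT Four.t_mem (ne_one_of hf.ht) with e | e | e
    · exact e
    · rw [e, c.i_s] at this; exact absurd this hf.ts_ne_s
    · rw [e, c.i_ts] at this; exact absurd this.symm hf.ts_ne_s
  have e2 := h'.eq_of_big hfc (c.cj_CT' hgT ▸ hT) hB h3 (h2 _ (c.cj g).four.ht) (by
    have := (c.cj g).four.ne
    rw [e1, c.cj_s] at this ⊢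
    rcases c.conj_T hgT Four.s_mem (ne_one_of hf.hs) with e | e | e
    · exact absurd e this
    · rw [e]; exact x1
    · rw [e, hf.t_ts]; exact x2)
  rw [e1] at e2
  rwa [← e2]

theorem elim : False := by
  have := h.mc.simple
  have hf := c.four
  have hg := hf.mul'
  have hp := h.min.prime
  have h2 : ∀ {v}, orderOf v = 2 → IsPi {p} F[W v] :=
    h.at_t (P := fun v => IsPi {p} F[W v]) fun _ _ h => h.step.1
  set D := ⨅ v : {v : G // v ∈ c.T ∧ v ≠ 1}, O[{p}, W v] with hD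
  have d1 : ∀ v ∈ c.T, v ≠ 1 → D ≤ O[{p}, W v] := fun v a b =>
    iInf_le (fun v : {v : G // v ∈ c.T ∧ v ≠ 1} => O[{p}, W v]) ⟨v, a, b⟩
  have d2 : ⁅B c.s ⊓ C{c.t * c.s}, zpowers c.s⁆ ≤ D := le_iInf fun ⟨v, a, b⟩ => by
    rcases hf.mem_V.1 a with rfl | rfl | rfl | rfl
    exacts [absurd rfl b, h.step.2, (h.X_le_D hg).trans inf_le_left,
      (h.X_le_D hg).trans inf_le_right]
  have d3 : N[c.T] ≤ N[D] := fun g hg => mem_N_of_le_cj (le_cj_iff.2 (le_iInf fun ⟨v, a, b⟩ => by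
    rw [cj_le_iff, inv_inv, ← pcore_cj, h.cjW]
    exact d1 _ (conj_mem hg a) (mt conj_eq_one_iff'.1 b)))
  have hD1 : D ≠ ⊥ := fun e => h.X_not hg ((d2.trans e.le).trans bot_le)
  obtain ⟨N, hN, hDN⟩ := exists_coatom (h.mc.N_ne_top' hD1 (odd_of_pi h.min.ne2
    ((pcore_pi {p} _).of_le (d1 _ Four.t_mem (ne_one_of hf.ht)))))
  have hT := d3.trans hDN
  have hTN := (norm_self _).trans hT
  have b0 := h.X_le_O hg hN.1 (hTN Four.s_mem) (d2.trans ((norm_self D).trans hDN))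
  have hfc : FC N := h.sn.fc_of hN fun z hz h2 hc => by
    have hC := (pcore_nml {2}ᶜ N).Fitting.infC
    obtain ⟨v, hv, v1⟩ := c.mem_T_of_norm (hTN.trans hC.norm) fun e => not_mem_of_odd e h2 ⟨hz, hc⟩
    have : ∃ g ∈ N[c.T], g * c.s * g⁻¹ = v := by
      rcases hf.mem_V.1 hv.1 with rfl | rfl | rfl | rfl
      exacts [absurd rfl v1, ⟨c.ρ * c.ρ, mul_mem c.rot_ρ.mem_NT c.rot_ρ.mem_NT, by
        rw [← c.rot_ρ.ts, ← c.rot_ρ.2]; group⟩, ⟨1, one_mem _, by simp⟩, ⟨_, c.i_mem_NT, c.i_s⟩]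
    obtain ⟨g, a, rfl⟩ := this
    exact h.X_not hg (b0.trans ((pcore_le_FO hp h.min.ne2 _).trans
      (mem_C_iff_le_C1.1 ((conj_mem_iff (hC.norm (hT a))).1 hv.2).2)))
  have hRN : N ≤ N[O[{p}ᶜ, F[N]]] := (pcore_Fitting_nml _ _).norm
  have hRo : Odd ♯O[{p}ᶜ, F[N]] := odd_of_le hfc.odd (pcore_le _ _)
  have r : ∀ v ∈ c.T, v ≠ 1 → O[{p}ᶜ, F[N]] ⊓ C{v} = ⊥ := fun v a b => by
    have hv := hf.V_two a b
    refine eq_bot_of_le ((h.fc hv).inf_eq_bot ((d1 v a b).trans (pcore_le_Fitting hp _))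
      (hDN.trans hRN) ((pcore_pi _ _).mono (Set.compl_subset_compl.2 (isPi_iff_primesOf.1 (h2 hv)))))
      (inf_le_inf_left _ (h.C_le hv))
  have i0 := inv_of_inf_C hRo (sq_of hf.ht) (hRN (hTN Four.t_mem)) (r _ Four.t_mem (ne_one_of hf.ht))
  have i1 := inv_of_inf_C hRo (sq_of hf.hs) (hRN (hTN Four.s_mem)) (r _ Four.s_mem (ne_one_of hf.hs))
  have r0 := r _ Four.ts_mem hf.mul_ne_one
  rw [inf_of_le_left (mem_C_iff_le_C1.1 (i0.mul_mem_C i1))] at r0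
  have h3 := ((Fitting_nil N).pcore_hall _).isPi_compl_of_eq_bot r0
  rw [compl_compl] at h3
  obtain ⟨g, hgT, hB⟩ := (h.mc.cov hN.1 (c.C_T ▸ (C_le_N _).trans hT)).resolve_left
    (h.not_cd hfc h3 (h2 hf.ht))
  exact h.X_not hg ((b0.trans ((pcore_mono N (singleton_subset_compl h.min.ne2)).trans
    ((h.cj g).mc.zero hN.1 hB (hT (c.cj_T' hgT ▸ (c.cj g).rot_ρ.mem_NT)) (c.cj g).rot_ρ).le)).trans
      bot_le)

end II

theorem MC.coatom {c : QC G} {M : Mod c} (h : MC M) (hK : c.K ≠ ⊥) : IsCoatom c.H := by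
  have ht := c.four.ht
  refine ⟨fun e => h.N_ne_top (zpowers_ne_bot.2 (ne_one_of ht)) (fun e' => h.nsol (e' ▸
    (cyc_zpowers _).sol)) (eq_top_iff.2 (e.ge.trans (norm_zpowers_of_cent le_rfl))),
    fun X hX => by_contra fun h1 => ?_⟩
  obtain ⟨p, B, hB⟩ := MinB.exists (odd_pcore X) (hX.le.trans (pcore_nml _ _).norm)
    fun e => hX.not_ge ((h.f2 h1 hX.le hK).1.trans (sup_le e le_rfl))
  obtain ⟨W, hW, h2⟩ := exists_coatom (h.N_ne_top' (fun e => hB.ne (e.le.trans bot_le))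
    (odd_of_pi hB.ne2 hB.pi))
  have e1 := tr_self hB.norm
  have e2 := tr_self (hB.norm.trans (h2.trans (norm_self W)))
  exact II.elim (M := M) (p := p) ⟨h, hK, tr_cj c.t B, tr_cj c.t W, e1.symm ▸ hB, e2.symm ▸ hW,
    by rw [e1, e2]; exact (norm_self B).trans h2⟩

end H2.QD
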