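import Mathlib
import Cfsg.Agent.H2.QDefs
import Cfsg.Agent.H5.QI1
import Cfsg.Agent.H17.NG5
import Cfsg.Agent.H17.NG6

/-! Quasi-dihedral case: identification. -/

set_option autoImplicit false
set_option linter.unusedSectionVars false
set_option maxRecDepth 100000

universe u

namespace H5.QI

open Cfsg H24 Subgroup H4 H2.QD H17.NG

variable {G : Type u} [Group G] [Finite G] {c : QC G} (M : Mod c)

theorem mem_core {x : c.H} : x ∈ oddCore c.H ↔ (x : G) ∈ c.U := by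
  have : c.U = (oddCore c.H).map c.H.subtype := pcore_compl_singleton Nat.prime_two _
  rw [this]
  exact ⟨fun h => ⟨x, h, rfl⟩, fun ⟨y, hy, e⟩ => (Subtype.ext e : y = x) ▸ hy⟩

theorem L0_top (h : M.N.q = 3) : M.L0 = ⊤ := by
  have h1 := M.N.hq
  have h2 : M.N.f = 1 := by
    by_contra h3
    have h4 := M.N.f_pos
    have h5 := Nat.pow_le_pow_left M.N.three_le_p 2
    have h6 := Nat.pow_le_pow_right M.N.hp.pos (show 2 ≤ M.N.f by omega)
    omega
  exact index_eq_one.1 (Nat.dvd_one.1 (h2 ▸ M.index_dvd))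

theorem bar_K1 (h : M.N.q = 3) : Nonempty ((c.H ⧸ oddCore c.H) ≃* K1) := by
  have h0 := L0_top M h
  let _ : Fintype M.F := Fintype.ofFinite _
  obtain ⟨φ⟩ := exists_SL (F := M.F) (by rw [← Nat.card_eq_fintype_card, ← M.hq, h])
  let π := QuotientGroup.mk' (oddCore c.H)
  let ι : pre M.κ M.E.L →* c.H := inclusion (pre_le _ _)
  let j₀ := M.lam.liftOfSurjective M.lam_surj ⟨π.comp ι, fun x hx => by
    rw [MonoidHom.mem_ker] at hx ⊢
    exact (QuotientGroup.eq_one_iff _).2 (mem_core.2 ((M.lam_ker x).1 hx))⟩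
  have hj₀ : ∀ x, j₀ (M.lam x) = π (ι x) := fun x =>
    M.lam.liftOfRightInverse_comp_apply _ _ _ x
  let j : L3 →* c.H ⧸ oddCore c.H := j₀.comp φ.toMonoidHom
  have hj : ∀ l, ∃ x, φ l = M.lam x ∧ j l = π (ι x) := fun l => by
    obtain ⟨x, e⟩ := M.lam_surj (φ l)
    exact ⟨x, e.symm, by rw [← hj₀, e]; rfl⟩
  let κ : c.H ⧸ oddCore c.H →* M.Γ := QuotientGroup.lift _ M.κ fun x hx => by
    rw [MonoidHom.mem_ker, M.ker]; exact mem_sup_left (mem_core.1 hx)
  have hκ : ∀ x : c.H, κ (π x) = ap M.κ x := fun x => by rw [ap_coe]; rfl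
  have hr : ∀ z, z ∈ j.range ↔ κ z ∈ M.L := fun z => by
    constructor
    · rintro ⟨l, rfl⟩
      obtain ⟨x, -, e⟩ := hj l
      rw [e, hκ]; exact (mem_pre.1 x.2).2
    · intro hz
      obtain ⟨x, rfl⟩ := QuotientGroup.mk'_surjective _ z
      refine ⟨φ.symm (M.lam ⟨x, mem_pre.2 ⟨x.2, hκ x ▸ hz⟩⟩), ?_⟩
      show j₀ (φ (φ.symm _)) = _
      rw [φ.apply_symm_apply, hj₀]; rfl
  have := M.L_nml
  have E : Emb j := ⟨(injective_iff_map_eq_one _).2 fun l hl => by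
      obtain ⟨x, e, e'⟩ := hj l
      rw [e'] at hl
      rw [← φ.map_eq_one_iff, e, M.lam_ker]
      exact mem_core.1 ((QuotientGroup.eq_one_iff _).1 hl),
    ⟨fun x hx g => by
      rw [hr] at hx ⊢
      simpa using this.conj_mem _ hx (κ g)⟩⟩
  let s := π ⟨c.s, s_H c⟩
  have es : κ s = M.e := hκ _
  have s2 : s ^ 2 = 1 := by
    rw [← map_pow, pow_two, show (⟨c.s, s_H c⟩ : c.H) * ⟨c.s, s_H c⟩ = 1 from Subtype.ext (s_sq c),
      map_one]
  obtain ⟨g, hg⟩ := mdl1.surj (E.cj s)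
  rcases (by decide +kernel : ∀ g : K1, (∀ l, g ^ 2 * i1 l * (g ^ 2)⁻¹ = i1 l) → (∃ l, g = i1 l) ∨
      ∃ l, ∀ x, i1 l * g * (i1 l)⁻¹ * i1 x * (i1 l * g * (i1 l)⁻¹)⁻¹ =
        TG.mk 24 * i1 x * (TG.mk 24)⁻¹) g
    (mdl1.emb.cj_one.1 (by rw [map_pow, hg, ← map_pow, s2, map_one])) with ⟨l, rfl⟩ | ⟨l, hl⟩
  · exfalso
    have h1 := E.cj_one.1 (show E.cj ((j l)⁻¹ * s) = 1 by simp [← hg, Emb.cj_j])
    obtain ⟨X, -, hX, -⟩ := M.exists_borel
    have h2 : κ ((j l)⁻¹ * s) ∈ C[X] := mem_centralizer_iff.2 fun y hy => by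
      obtain ⟨y, hy', rfl⟩ := M.exists_ap y
      obtain ⟨l', e⟩ := (hr (π ⟨y, hy'⟩)).2 (hκ ⟨y, hy'⟩ ▸ hX.1 hy)
      have := congrArg κ (h1 l')
      rw [e, map_mul, map_mul, map_inv, hκ, mul_inv_eq_iff_eq_mul] at this
      exact this.symm
    rw [hX.C] at h2
    have h3 := hX.1 h2
    rw [map_mul, map_inv, mul_mem_cancel_left (inv_mem ((hr _).1 ⟨l, rfl⟩)), es] at h3
    exact M.e_not h3
  · refine mdl1.iso E (s := j l * s * (j l)⁻¹) (by rw [conj_pow, s2]; simp) ?_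
      fun K hK hs z _ => ?_
    · rw [← mdl1.emb.cj_eq.2 hl]
      simp [← hg, Emb.cj_j]
    · rw [mul_mem_cancel_right (inv_mem (hK ⟨l, rfl⟩)), mul_mem_cancel_left (hK ⟨l, rfl⟩)] at hs
      by_cases hz : z ∈ j.range
      · exact hK hz
      refine (mul_mem_cancel_right hs).1 (hK ((hr _).2 ?_))
      rw [hr] at hz
      rw [map_mul, es, mul_mem_iff_of_index_two (L_index M h0)]
      exact ⟨fun h => absurd h hz, fun h => absurd h M.e_not⟩

theorem U_bot [IsSimpleGroup G] (h : M.N.q = 3) : c.U = ⊥ := by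
  obtain ⟨e⟩ := bar_K1 M h
  have := Fintype.ofFinite G
  obtain ⟨π, hπ, hτ⟩ := St.of_bar (t := c.t) c.four.ht e (τ := TG.mk 15) (by decide +kernel)
  have hk := hπ.ker_eq_bot (fun s h1 h2 => by
      obtain ⟨g, e⟩ := c.invol_G (x := s) (orderOf_eq_prime (by
        rw [pow_two]; exact congrArg Subtype.val h1) fun e => h2 (Subtype.ext e))
      exact isConj_iff.2 ⟨g, e⟩)
    (S := S1) (IsPGroup.of_card (n := 4) (by rw [card_sub]; decide +kernel))
    (w := TG.mk 26) (by decide +kernel) (by decide +kernel) (hτ ▸ by decide +kernel)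
    (fun x hx => mem_zp (by revert x; decide +kernel)) (by rw [isConj_iff]; decide +kernel)
    (Or.inl (by rw [isConj_iff]; decide +kernel)) (Q := Q1) (by rw [card_sub]; decide +kernel)
    (hτ ▸ by decide +kernel) (fun q hq h1 => hτ ▸ mem_zp (by revert q; decide +kernel))
    (by decide +kernel) (hτ ▸ arith1)
  have h1 : ♯c.H = 48 := (Nat.card_eq_of_bijective π
    ⟨(MonoidHom.ker_eq_bot_iff π).1 hk, hπ.surj⟩).trans TG.card
  have h2 := M.N.m_mul_n
  rw [M.card_H, card_Γ M (L0_top M h), mul_assoc M.N.q, show M.N.m * M.N.n = 8 by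
    rw [h] at h2; omega, h] at h1
  exact card_eq_one.1 (by omega)

end H5.QI

namespace H2.QD

open H24 Cfsg Subgroup
open H13.Dih (Four V4 Inv CD UU PP FC res)
open scoped MatrixGroups

variable {G : Type u} [Group G] [Finite G]

theorem concl_of_central [IsSimpleGroup G] {c : QC G} (M : Mod c) (h0 : M.L0 = ⊤)
    (h1 : c.U ≤ C[c.H]) (h2 : Cyc c.U) (h3 : ♯c.U ∣ M.N.m) : Concl G :=
  H5.QI.concl M h1 h3 h0 h2

theorem concl_three [IsSimpleGroup G] {c : QC G} (M : Mod c) (h : M.N.q = 3) : Concl G := by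
  have hU := H5.QI.U_bot M h
  exact concl_of_central M (H5.QI.L0_top M h) (hU ▸ bot_le) (hU ▸ cyc_bot) (by rw [hU]; simp)

theorem Concl.final [IsSimpleGroup G] (h : Concl G) :
    (∃ (F : Type) (_ : Field F) (_ : Fintype F), Fintype.card F % 4 = 3 ∧
      Nonempty (G ≃* Matrix.ProjectiveSpecialLinearGroup (Fin 3) F)) ∨
    (∃ (F : Type) (_ : Field F) (_ : Fintype F) (q : ℕ), Fintype.card F = q ^ 2 ∧ q % 4 = 1 ∧
      Nonempty (G ≃* Cfsg.PSU 3 F q)) ∨ Cfsg.IsM11 G := by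
  obtain ⟨N, D, h, h4, hP⟩ := h
  rcases N.cases with ⟨hε, h1, h2⟩ | ⟨hε, h1, h2⟩
  · obtain ⟨F, _, _, hq, ⟨P⟩⟩ := hP hε
    rcases h.cfg.psl3 hε hq P h.cfg.dvd_three with e | e
    · exact Or.inl ⟨F, inferInstance, inferInstance, by omega, e⟩
    · exact Or.inr (Or.inr ⟨inferInstance, e⟩)
  · have : Fact N.p.Prime := ⟨N.hp⟩
    let F := GaloisField N.p (N.f * 2)
    let _ : Fintype F := Fintype.ofFinite F
    have hF : Fintype.card F = N.q ^ 2 := by
      rw [← Nat.card_eq_fintype_card, GaloisField.card _ _ (by have := N.f_pos; omega), pow_mul,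
        ← N.hq]
    have hg := h.cfg.g_list h.cfg.dvd_three
    rw [hε] at hg
    refine Or.inr (Or.inl ⟨F, inferInstance, inferInstance, N.q, hF, by omega,
      h.cfg.psu hε h.cfg.dvd_three (h.cfg.cent_W' h.cfg.dvd_three) ?_ F hF⟩)
    rcases hg with e | e | e
    exacts [Or.inl (by rw [e]; ring), Or.inr (Or.inl (by rw [e]; ring)), Or.inr (Or.inr e.2)]

end H2.QD
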