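import Mathlib
import Cfsg.Agent.H27.QNa
import Cfsg.Agent.H2.QPS1

/-! If `H` is maximal, then `s` centralises or inverts each `O_p(U)`. -/

set_option autoImplicit false
set_option linter.unusedSectionVars false

namespace H27.QN

open H24 H26 Cfsg Subgroup H2.QD H13.Dih
open scoped commutatorElement

universe u

variable {G : Type u} [Group G] [Finite G] {c : QC G} {M : Mod c} {X Y E A P R : Subgroup G}
  {p : ℕ} {a d : G}

theorem mem_ncl (X : Subgroup G) (a : G) : a ∈ ncl X a :=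
  subset_closure ⟨1, one_mem _, by simp⟩

theorem ncl_le (hY : X ≤ N[Y]) (ha : a ∈ Y) : ncl X a ≤ Y := (closure_le _).2 <| by
  rintro _ ⟨x, hx, rfl⟩
  exact conj_mem (hY hx) ha

theorem ncl_norm (X : Subgroup G) (a : G) : X ≤ N[ncl X a] := fun g hg =>
  mem_N_of_finite fun y hy => by
    induction hy using closure_induction with
    | mem y hy =>
      obtain ⟨x, hx, rfl⟩ := hy
      exact subset_closure ⟨g * x, mul_mem hg hx, by group⟩
    | one => simp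
    | mul x y _ _ h1 h2 => rw [← conj_mul]; exact mul_mem h1 h2
    | inv x _ h1 => rw [← conj_inv]; exact inv_mem h1

/-- the centraliser in `X` of the section `P / R` -/
def secC (X P R : Subgroup G) (hR : X ≤ N[R]) : Subgroup G where
  carrier := {g | g ∈ X ∧ ∀ z ∈ P, ⁅z, g⁆ ∈ R}
  one_mem' := ⟨one_mem _, fun z _ => by simp⟩
  mul_mem' := fun {g h} hg hh => ⟨mul_mem hg.1 hh.1, fun z hz => by
    rw [show ⁅z, g * h⁆ = ⁅z, g⁆ * (g * ⁅z, h⁆ * g⁻¹) by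
      simp only [commutatorElement_def]; group]
    exact mul_mem (hg.2 z hz) (conj_mem (hR hg.1) (hh.2 z hz))⟩
  inv_mem' := fun {g} hg => ⟨inv_mem hg.1, fun z hz => by
    rw [show ⁅z, g⁻¹⁆ = g⁻¹ * ⁅z, g⁆⁻¹ * g⁻¹⁻¹ by simp only [commutatorElement_def]; group]
    exact conj_mem (hR (inv_mem hg.1)) (inv_mem (hg.2 z hz))⟩

theorem comm_ncl_le (hP : X ≤ N[P]) (hR : X ≤ N[R]) (ha : a ∈ X) (h : ⁅P, zpowers a⁆ ≤ R) :
    ⁅P, ncl X a⁆ ≤ R := by
  have h1 : ncl X a ≤ secC X P R hR := ncl_le (fun g hg => mem_N_of_finite fun y hy =>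
    ⟨mul_mem (mul_mem hg hy.1) (inv_mem hg), fun z hz => by
      rw [show ⁅z, g * y * g⁻¹⁆ = g * ⁅g⁻¹ * z * g⁻¹⁻¹, y⁆ * g⁻¹ by
        simp only [commutatorElement_def]; group]
      exact conj_mem (hR hg) (hy.2 _ (conj_mem (hP (inv_mem hg)) hz))⟩)
    ⟨ha, fun z hz => h (commutator_mem_commutator hz (mem_zpowers a))⟩
  exact commutator_le.2 fun z hz g hg => (h1 hg).2 z hz

theorem perfect_le_of_sol (hp : ⁅A, A⁆ = A) (hn : A ≤ N[Y]) (hK : A ≤ X ⊔ Y) (hX : X ≤ N[Y])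
    (hs : Sol X) : A ≤ Y :=
  (quo_eq_bot hn).1 (eq_bot_of_perfect (by rw [← quo_comm hn hn, hp])
    ((hs.quo Y).of_le ((quo_le_quo_iff hn hX).2 hK)))

theorem cov_of (h5 : 5 ≤ M.N.q) (hd : d ∈ c.H) (h1 : ap M.κ d ≠ 1) (hN : c.H ≤ N[Y])
    (hY : d ∈ Y) : M.L ≤ img M.κ Y :=
  M.cov_of_norm h5 (X := c.H) (M.img_H ▸ le_top) (inf_le_left.trans hN) fun e =>
    h1 (mem_bot.1 (e ▸ ap_mem_img M.κ hY hd))

theorem cov_of_inv (h5 : 5 ≤ M.N.q) (hN : c.H ≤ N[Y]) (h : Inv c.s Y) : M.L ≤ img M.κ C[Y] := by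
  have h1 : ¬ M.L ≤ C{M.e} := fun e => ne_one_of M.four_eσ.ht (by
    rw [← mem_bot, ← M.C_L h5]; exact mem_C_iff_le_C1.2 e)
  obtain ⟨g, hg, h2⟩ := SetLike.not_le_iff_exists.1 h1
  obtain ⟨x, hx, rfl⟩ := M.exists_ap g
  have hs : c.s ∈ c.H := c.four.s_mem_C
  refine cov_of h5 (d := ⁅x, c.s⁆) (comm_le_of_le le_rfl le_rfl (commutator_mem_commutator hx hs))
    (fun e => h2 ?_) (norm_C hN)
    (h.comm_le_C (sq_of c.four.hs) hN (commutator_mem_commutator hx (mem_zpowers _)))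
  rw [ap_commutator _ hx hs, commutatorElement_eq_one_iff_mul_comm] at e
  exact mem_C1.2 e

namespace NH

variable (B : NH M p E A)
include B

theorem p_case (hd : d ∈ ⁅c.R, zpowers c.i⁆) (hH : d ∈ c.H) (hp : PiElt {p} d)
    (h1 : ap M.κ d ≠ 1) : False := by
  have h5 := B.mc.q5
  have hP : PP p c.t ⊴ c.H := PP_nml p c.t
  have hc := M.cov_res h5 (cov_of h5 hH h1 (ncl_norm _ _) (mem_ncl c.H d))
  have hJn : c.H ≤ N[res (ncl c.H d ⊓ c.H)] := norm_res (norm_inf (ncl_norm _ _) (norm_self _))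
  have hJl : res (ncl c.H d ⊓ c.H) ≤ ncl c.H d := (res_le _).trans inf_le_left
  have hJH : res (ncl c.H d ⊓ c.H) ≤ c.H := (res_le _).trans inf_le_right
  have hJp := res_perfect (ncl c.H d ⊓ c.H)
  generalize res (ncl c.H d ⊓ c.H) = J at hc hJn hJl hJH hJp
  have hR : PP p c.t ⊓ C[J] ⊴ c.H := ⟨inf_le_left.trans hP.le, norm_inf hP.norm (norm_C hJn)⟩
  have hlt : PP p c.t ⊓ C[J] < PP p c.t := inf_lt_left.2 fun e =>
    B.not_cov (hc.1.trans (img_mono _ (cents_symm e)))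
  have hRX : PP p c.t ⊓ C[J] ⊓ C{c.s} = ⊥ := by
    by_contra e
    exact B.not_Q_le ((M.Q_le_of_cov hc.1 ((c.Q_le_S.trans c.S_le_H).trans hJn)).trans
      ((B.le_E (inf_le_inf_right _ inf_le_left) e hJp (inf_le_left.trans inf_le_right)).trans
        B.E_le))
  have hRi := inv_of_inf_C (odd_of_le (PP_odd p c.t) inf_le_left) (sq_of c.four.hs)
    (hR.norm c.four.s_mem_C) hRX
  obtain ⟨P2, hch, hP2⟩ := exists_chief_above hR hP hlt
  have hn2 := hch.nmlU.norm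
  have hnc : ¬ P2 ≤ C[J] := fun e => hch.lt.not_ge (le_inf hP2 e)
  have hJ2 : ¬ ⁅P2, J⁆ ≤ PP p c.t ⊓ C[J] := fun e => hnc (by
    have h2 : ⁅⁅P2, J⁆, J⁆ = ⊥ := comm_eq_bot.2 (e.trans inf_le_right)
    have h3 := three_subgroup (A := J) (B := P2) (K := J) (by rwa [commC J P2]) h2
    rwa [hJp, comm_eq_bot'] at h3)
  have hPP : ⁅P2, PP p c.t⁆ ≤ PP p c.t ⊓ C[J] :=
    (comm_mono_right (PP_le_F B.hp c.t)).trans (Fitting_stab_chief c.U_nml hch)
  have hZ : P2 ≤ C[PP p c.t ⊓ C[J]] := by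
    have h2 : ⁅P2, J⁆ ≤ P2 := comm_le_left (hJH.trans hn2)
    have h3 := (hch.max (⁅P2, J⁆ ⊔ PP p c.t ⊓ C[J]) le_sup_right (sup_le h2 hch.le)
      (norm_sup (norm_comm hn2 hJn) hR.norm)).resolve_left fun e => hJ2 (le_sup_left.trans e.le)
    refine h3.ge.trans (sup_le ?_ hRi.abl.le_C)
    rw [← comm_eq_bot, commC P2 J]
    refine three_subgroup (comm_eq_bot.2 ?_) ?_
    · exact (comm_le_right (hch.nmlU.le.trans hR.norm)).trans inf_le_right
    · rw [comm_eq_bot.2 inf_le_right, commutator_bot_left]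
  have hX : P2 ⊓ C{c.s} ≠ ⊥ := fun e => by
    have h2 := M.b2_sup (cov_of_inv h5 hn2 (inv_of_inf_C (odd_of_le (PP_odd p c.t) hP2)
      (sq_of c.four.hs) (hn2 c.four.s_mem_C) e))
    exact hnc (cents_symm (perfect_le_of_sol hJp (norm_C (hJH.trans hn2))
      (hc.2.trans (h2.ge.trans (sup_le_sup_left inf_le_left _))) (norm_C (c.U_le_H.trans hn2))
      (sol_of_odd c.odd_U)))
  obtain ⟨⟨x, hx⟩, hx1⟩ := ne_bot_iff_exists_ne_one.1 hX
  have hx1' : x ≠ 1 := fun e => hx1 (Subtype.ext e)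
  have hxX : x ∈ XX c p := ⟨hP2 hx.1, hx.2⟩
  have hC : PP p c.t ⊓ C{x} ≤ C[zpowers d] :=
    (B.C_le hxX hx1').trans (B.D_cent.trans (C_anti (zpowers_le.2 hd)))
  have hq : ⁅P2, zpowers d⁆ ≤ PP p c.t ⊓ C{x} := by
    refine le_inf ((comm_le_left (zpowers_le.2 (hn2 hH))).trans hP2) ?_
    rw [← C_zpowers, ← comm_eq_bot]
    refine three_subgroup (A := zpowers d) (B := zpowers x) ?_ (comm_eq_bot.2 ?_)
    · rw [comm_eq_bot'.2 (zpowers_le.2 (hC ⟨hxX.1, mem_C1.2 rfl⟩)), commutator_bot_left]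
    · rw [commC]
      exact ((comm_mono_right (zpowers_le.2 hxX.1)).trans hPP).trans ((le_inf inf_le_left
        (mem_C_iff_le_C1.1 (hZ hx.1))).trans hC)
  refine hJ2 ((comm_mono_right hJl).trans (comm_ncl_le hn2 hR.norm hH ?_))
  by_contra hne
  have h2 := (M.ps1 h5 M.big_H (le_sup_of_le_right (le_inf le_rfl le_rfl)) B.hp (p_ne_two B.ne)
    ((pcore_pi {p} (UU c.t)).of_le hP2) ⟨hch.nmlU, hch.nmlV, hch.lt, hch.max⟩ hH hp
    ((comm_eq_bot.2 (hq.trans hC)).le.trans bot_le) hne).2.1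
  exact hch.lt.not_ge ((le_inf le_rfl hch.nmlU.le).trans h2)

theorem false : False := by
  have h5 := B.mc.q5
  have hD : ⁅c.R, zpowers c.i⁆ ≤ c.H :=
    comm_le_of_le ((pcore_le _ _).trans inf_le_left) (zpowers_le.2 i_mem_H)
  obtain ⟨⟨g, hg⟩, hg1⟩ := ne_bot_iff_exists_ne_one.1 (show M.Dh ≠ ⊥ from fun e => by
    have := M.three_le_Dh h5
    rw [e, card_bot] at this
    omega)
  rw [← M.img_comm_i h5] at hg
  obtain ⟨d, hd, hH, rfl⟩ := mem_img.1 hg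
  obtain ⟨a, b, ha, hb, ha', hb', e⟩ := exists_piElt_decomp {p} d
  have haD := zpowers_le.2 hd ha'
  have hbD := zpowers_le.2 hd hb'
  by_cases h1 : ap M.κ b = 1
  · refine B.p_case haD (hD haD) ha fun h2 => hg1 (Subtype.ext ?_)
    change ap M.κ d = 1
    rw [e, ap_mul _ (hD haD) (hD hbD), h1, h2, mul_one]
  · have hP : PP p c.t ⊴ c.H := PP_nml p c.t
    exact B.not_cov (cov_of h5 (hD hbD) h1 (norm_C hP.norm) (cent_of_cent_norm
      ((pcore_pi {p} (UU c.t)).nil B.hp) (zpowers_le.2 (hP.norm (hD hbD)))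
      ((pcore_pi {p} (UU c.t)).coprime hb.isPi) inf_le_left
      (B.D_cent.trans (C_anti (zpowers_le.2 hbD))) (mem_zpowers b)))

end NH

end H27.QN

namespace H2.QD

open H24 H26 Cfsg Subgroup
open H13.Dih (Four V4 Inv CD UU PP FC QS HII res)

universe u

variable {G : Type u} [Group G] [Finite G]

theorem MC.hii {c : QC G} {M : Mod c} (h : MC M) (hH : IsCoatom c.H) : HII c.t := by
  intro p hp s hf
  obtain ⟨g, hg, e⟩ := c.invol_H hf.s_mem_C hf.hs hf.ne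
  have h1 := cj_of_mem_N ((H13.Dih.PP_nml p c.t).norm hg)
  by_contra! hn
  have h2 : H27.QN.XX c p ≠ ⊥ := fun e' => hn.1 (by
    rw [H27.QN.XX, ← e, ← cj_C1, ← h1, ← cj_inf, cj_eq_bot] at e'; exact e')
  have h3 : ¬ PP p c.t ≤ C{c.s} := fun e' => hn.2 (by
    rw [← e, ← cj_C1, ← h1, cj_le_cj] at e'; exact e')
  obtain ⟨h4, A, D⟩ := H27.QN.exists_de h hH hp h2 h3
  exact H27.QN.NH.false ⟨h, hH, hp, h2, h3, h4, D⟩

end H2.QD
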