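import Mathlib
import Cfsg.Agent.H7.QH0
import Cfsg.Agent.H2.QId

/-! The case `K = [U, s] = 1` of the quasi-dihedral analysis. -/

set_option autoImplicit false

namespace H7.QH

open H24 H26 Cfsg Subgroup H2.QD
open H13.Dih (Four V4 Inv CD UU PP FC QS HII res ne_one_of)

universe u

variable {G : Type u} [Group G] [Finite G]

theorem concl_of_K {c : QC G} {M : Mod c} (h : MC M) (hK : c.K = ⊥) : Concl G := by
  have := h.simple
  have hq := h.q5
  have Us := c.K_eq_bot.1 hK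
  have UR : c.U ≤ c.R := c.le_R c.odd_U (le_inf c.U_le_H Us)
  obtain ⟨L₁, n, -, ce, su, hi⟩ := M.exists_L1 hq (M.cov_of_norm hq (le_top.trans M.img_H.ge)
    (inf_le_left.trans (norm_C c.U_nml.norm)) fun e => ne_one_of M.four_eσ.ht
      (mem_bot.1 (e.le (ap_mem_img _ (mem_C_iff_le_C1.2 Us) (c.S_le_H c.s_mem_S)))))
  have hL : M.Comp L₁ := ⟨n, ce, su, hi.resolve_right fun k => k.2.2 (inf_le_right.trans Us)⟩
  have hL' := hL.cj c.ρ
  have hR := c.cj_R' c.rot_ρ.mem_NT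
  have DR : cj c.ρ L₁ ⊓ (c.cj c.ρ).R ≤ c.R := inf_le_right.trans hR.le
  have iD := Mod.Comp.D_img (M.cj c.ρ) hq hL'
  have h1 : img (M.cj c.ρ).κ c.U ≤ (M.cj c.ρ).Dh := by
    rw [← (M.cj c.ρ).fld_eq hq]
    refine le_inf (img_R' UR) (iD ▸ img_cent _ (cents_of_inf_eq_bot
      ((UR.trans hR.ge).trans ((R_le_CT _).trans (CT_D hL'))) ((DR.trans (R_le_H c)).trans c.U_nml.norm) ?_))
    exact eq_bot_iff.2 fun x hx => notU (h.cj _) hL' hx.2 ((c.cj_T' c.rot_ρ.mem_NT).ge Four.t_mem)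
      (ne_one_of c.four.ht) hx.1
  obtain ⟨cy, dv⟩ := cyc_of h hL (le_inf le_rfl UR) h1
  have h0 := h.L0_eq_top (M.tw_of hq (inv_mem_iff.1 (mem_N_of_cj_le (cj_le_iff.2 (by
    have e : cj c.ρ (pre M.κ M.L0) = pre (M.cj c.ρ).κ (M.cj c.ρ).L0 :=
      Subgroup.ext fun x => mem_cj.trans M.mem_pre_toH.symm
    rw [inv_inv, cj_inf, ← c.cj_R, hR, e]
    refine le_inf inf_le_left ((Mod.Comp.R_inf M hq hL).1.le.trans (sup_le (fun d hd => ?_) ?_))
    · have dH := R_le' c hd.2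
      refine mem_pre.2 ⟨dH, (M.cj c.ρ).L_le ((M.cj c.ρ).Dh_le_L ((M.cj c.ρ).le_Dh_of_comm hq
        (img_R' le_rfl (ap_mem_img _ hd.2 dH)) ?_))⟩
      rw [← iD, ← img_zpowers _ dH, ← img_comm _ (DR.trans (R_le' c)) (zpowers_le.2 dH)]
      exact img_cent1 _ (((comm_mono_right (zpowers_le.2 hd)).trans (comm_le_right
        ((DR.trans (R_le_CT c)).trans (CT_D hL)))).trans
          (mem_C_iff_le_C1.1 ((Mod.Comp.D_cyc M hq hL).abl.cents le_rfl le_rfl hd))) dH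
    · exact inf_le_left.trans ((img_le_iff (UR.trans (R_le' c))).1
        (h1.trans ((M.cj c.ρ).Dh_le_L.trans (M.cj c.ρ).L_le))))))))
  refine concl_of_central M h0 (cents_symm (M.H_le (cy.abl.cents le_rfl le_rfl) ?_ (covU hL))) cy dv
  rw [← c.CT_dp.sup]
  refine sup_le ((R_eq h hL h0).le.trans (sup_le (inf_le_left.trans ce)
    (cy.abl.cents inf_le_left le_rfl))) (cents_symm ?_)
  exact (UR.trans (R_le_CT c)).trans c.C_T.ge

end H7.QH

namespace H2.QD

universe u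

variable {G : Type u} [Group G] [Finite G]

theorem MC.concl_of_K {c : QC G} {M : Mod c} (h : MC M) (hK : c.K = ⊥) : Concl G :=
  H7.QH.concl_of_K h hK

end H2.QD
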