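import Mathlib
import Cfsg.Agent.H2.QCoord
import Cfsg.Agent.H2.QMod
import Cfsg.Agent.H2.QId
import Cfsg.Agent.H2.QII
import Cfsg.Agent.H2.QNH
import Cfsg.Agent.H2.QHII
import Cfsg.Agent.H2.QU1

/-! Simple groups with quasi-dihedral Sylow 2-subgroups. -/

set_option autoImplicit false

namespace H2.QD

open H24 Cfsg Subgroup

universe u

theorem concl (n : ℕ) : ∀ (X : Type u) [Group X] [Finite X], Nat.card X = n → IsSimpleGroup X →
    Nonempty (QC X) → Concl X := by
  induction n using Nat.strong_induction_on with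
  | _ n ih =>
    rintro X _ _ rfl hs ⟨c⟩
    obtain ⟨M⟩ := exists_Mod c
    rcases M.q_cases with h3 | h5
    · exact concl_three M h3
    have h : MC M := ⟨hs, fun Y _ _ hY => ih _ hY Y rfl, h5⟩
    by_cases hK : c.K = ⊥
    · exact h.concl_of_K hK
    · exact (h.not_hii hK (h.coatom hK) (h.hii (h.coatom hK))).elim

theorem exists_QC_of_simple {G : Type u} [Group G] [Finite G] [IsSimpleGroup G] (S : Sylow 2 G)
    (hS : IsQuasiDihedral (S : Subgroup G)) : Nonempty (QC G) := by
  refine exists_QC S hS fun H e => ?_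
  rcases (normal_of_index_eq_two e).eq_bot_or_eq_top with rfl | rfl
  · rw [index_bot] at e
    have h1 := card_subgroup_dvd_card (S : Subgroup G)
    obtain ⟨n, hn, h2, -⟩ := hS
    rw [e, h2] at h1
    have := (Nat.pow_dvd_pow_iff_le_right (k := n + 1) (l := 1) one_lt_two).1 h1
    omega
  · simp at e

end H2.QD
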