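import Mathlib
import Cfsg.Agent.H24.Base5
import Cfsg.Prelude.Def_TwoFusion

/-!
# A `2`-local subgroup `2^6 . L₂(8)` in a thin group of order `7 · 3^a · 2^b`
-/

set_option autoImplicit false
set_option linter.unusedSectionVars false

open Cfsg H24 Subgroup

namespace H2.K3E

universe u

variable {G : Type u} [Group G] [Finite G]

/-- the conjugates of `z` under `M` -/
def cls (M : Subgroup G) (z : G) : Set G := {v | ∃ m ∈ M, v = m * z * m⁻¹}

theorem card_cls (M : Subgroup G) (z : G) : ♯M = ♯(M ⊓ C{z} : Subgroup G) * (cls M z).ncard := by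
  let _ : MulAction M G := MulAction.compHom G ((MulAut.conj (G := G)).comp M.subtype)
  have h1 : MulAction.stabilizer M z = (C{z}).subgroupOf M := by
    ext m
    rw [MulAction.mem_stabilizer_iff, mem_subgroupOf, mem_C1_iff_conj]
    rfl
  have h2 : MulAction.orbit M z = cls M z := by
    ext v
    constructor
    · rintro ⟨m, rfl⟩
      exact ⟨m, m.2, rfl⟩
    · rintro ⟨m, hm, rfl⟩
      exact ⟨⟨m, hm⟩, rfl⟩
  have h3 := MulAction.index_stabilizer M z
  rw [h1, h2] at h3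
  rw [← h3, inf_comm]
  exact (card_inf_mul_relIndex _ _).symm

theorem cls_eq {M : Subgroup G} {z : G} {X : Set G} (h : cls M z ⊆ X)
    (hc : ♯(M ⊓ C{z} : Subgroup G) * X.ncard ≤ ♯M) : cls M z = X := by
  refine Set.eq_of_subset_of_ncard_le h ?_ (Set.toFinite _)
  rw [card_cls M z] at hc
  exact Nat.le_of_mul_le_mul_left hc (card_pos _)

theorem ncard_ne_one (V : Subgroup G) : ((V : Set G) \ {1}).ncard = ♯V - 1 := by
  rw [Set.ncard_sdiff_singleton_of_mem V.one_mem]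
  rfl

theorem ncard_coset (V : Subgroup G) (s : G) : {v | s⁻¹ * v ∈ V}.ncard = ♯V := by
  have : {v | s⁻¹ * v ∈ V} = (fun w => s * w) '' (V : Set G) := by
    ext v
    constructor
    · intro hv
      exact ⟨s⁻¹ * v, hv, by simp⟩
    · rintro ⟨w, hw, rfl⟩
      simpa using hw
  rw [this, Set.ncard_image_of_injective _ (mul_right_injective s)]
  rfl

theorem ea_sq {V : Subgroup G} (hV : IsElementaryAbelian 2 V) {v : G} (hv : v ∈ V) : v * v = 1 := by
  rw [← pow_two]; exact hV.2 v hv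

theorem ea_le {V : Subgroup G} (hV : IsElementaryAbelian 2 V) : V ≤ C[V] := Abl.le_C hV.1

theorem ea_cj {V : Subgroup G} (hV : IsElementaryAbelian 2 V) (g : G) :
    IsElementaryAbelian 2 (cj g V) := by
  refine ⟨Abl.cj hV.1 g, fun a ha => ?_⟩
  obtain ⟨y, hy, rfl⟩ := mem_cj'.1 ha
  rw [conj_pow, hV.2 y hy]; simp

theorem ea_of_le {V W : Subgroup G} (hV : IsElementaryAbelian 2 V) (h : W ≤ V) :
    IsElementaryAbelian 2 W := ⟨Abl.of_le hV.1 h, fun a ha => hV.2 a (h ha)⟩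

/-- two involutions with an involutory product commute -/
theorem comm_of_sq {a b : G} (ha : a * a = 1) (hb : b * b = 1) (h : a * b * (a * b) = 1) :
    a * b = b * a := by
  have e1 : a⁻¹ = a := inv_eq_of_mul_eq_one_right ha
  have e2 : b⁻¹ = b := inv_eq_of_mul_eq_one_right hb
  rw [← inv_eq_of_mul_eq_one_right h, mul_inv_rev, e1, e2]

theorem cls_coset {V : Subgroup G} (hV : IsElementaryAbelian 2 V) {k : G} (hk : k ∈ N[V])
    (h2 : k * k = 1) : cls V k ⊆ {v | k⁻¹ * v ∈ V ⊓ C{k}} := by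
  rintro _ ⟨m, hm, rfl⟩
  have h1 : k⁻¹ * (m * k * m⁻¹) ∈ V := by
    have := V.mul_mem (conj_mem' hk hm) (V.inv_mem hm)
    simpa [mul_assoc] using this
  refine ⟨h1, mem_C1.2 (comm_of_sq h2 (ea_sq hV h1) ?_).symm⟩
  have : k * (k⁻¹ * (m * k * m⁻¹)) = m * k * m⁻¹ := by group
  rw [this]
  calc m * k * m⁻¹ * (m * k * m⁻¹) = m * (k * k) * m⁻¹ := by group
    _ = 1 := by rw [h2]; simp

theorem sq_le {V : Subgroup G} (hV : IsElementaryAbelian 2 V) {k : G} (hk : k ∈ N[V])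
    (h2 : k * k = 1) : ♯V ≤ ♯(V ⊓ C{k} : Subgroup G) * ♯(V ⊓ C{k} : Subgroup G) := by
  conv_lhs => rw [card_cls V k]
  refine Nat.mul_le_mul_left _ ?_
  rw [← ncard_coset (V ⊓ C{k}) k]
  exact Set.ncard_le_ncard (cls_coset hV hk h2) (Set.toFinite _)

/-- `D₁₄` does not act on `2³` with the `7`-element acting fixed point freely -/
theorem d14 {Z : Subgroup G} {x k : G} (hZ : IsElementaryAbelian 2 Z) (cZ : ♯Z = 8)
    (hx : orderOf x = 7) (hc : C{x} = zpowers x) (xZ : x ∈ N[Z]) (kZ : k ∈ N[Z])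
    (hk : k * x * k⁻¹ = x⁻¹) : False := by
  have sq : ∀ k : G, k * x * k⁻¹ = x⁻¹ → k * k = 1 := by
    intro k hk
    have h1 : k * k ∈ zpowers x := by
      rw [← hc, mem_C1_iff_conj]
      calc k * k * x * (k * k)⁻¹ = k * (k * x * k⁻¹) * k⁻¹ := by group
        _ = k * x⁻¹ * k⁻¹ := by rw [hk]
        _ = (k * x * k⁻¹)⁻¹ := by group
        _ = x := by rw [hk, inv_inv]
    obtain ⟨m, hm⟩ := mem_zpowers_iff.1 h1
    have h2 : k * (k * k) * k⁻¹ = (k * k)⁻¹ := by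
      rw [← hm, ← conj_zpow, hk, inv_zpow]
    have h3 : (k * k) ^ 2 = 1 := by
      have : k * (k * k) * k⁻¹ = k * k := by group
      rw [this] at h2
      rw [pow_two]
      exact mul_eq_one_iff_eq_inv.2 h2
    have h4 := orderOf_dvd_of_mem_zpowers h1
    rw [hx] at h4
    have h5 := orderOf_dvd_of_pow_eq_one h3
    exact orderOf_eq_one_iff.1 (Nat.eq_one_of_dvd_coprimes (by norm_num : Nat.Coprime 7 2) h4 h5)
  have hk' : k * x * x * (k * x)⁻¹ = x⁻¹ := by rw [← hk]; group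
  have four : ∀ k ∈ N[Z], k * k = 1 → 4 ≤ ♯(Z ⊓ C{k} : Subgroup G) := by
    intro k kZ h2
    have h1 := sq_le hZ kZ h2
    have h3 := card_dvd (inf_le_left : Z ⊓ C{k} ≤ Z)
    rw [cZ] at h1 h3
    have h4 := Nat.le_of_dvd (by norm_num) h3
    generalize ♯(Z ⊓ C{k} : Subgroup G) = n at *
    interval_cases n <;> omega
  have a1 := four k kZ (sq k hk)
  have a2 := four (k * x) (mul_mem kZ xZ) (sq _ hk')
  have a3 := card_sup (A := Z ⊓ C{k}) (B := Z ⊓ C{k * x})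
    (Abl.norm hZ.1 inf_le_left inf_le_left)
  have a4 : ♯((Z ⊓ C{k}) ⊔ (Z ⊓ C{k * x}) : Subgroup G) ≤ 8 :=
    cZ ▸ card_le (sup_le inf_le_left inf_le_left)
  have a5 : (Z ⊓ C{k}) ⊓ (Z ⊓ C{k * x}) = ⊥ := by
    rw [eq_bot_iff]
    rintro c ⟨⟨c1, c2⟩, -, c3⟩
    have c4 : c ∈ zpowers x := by
      rw [← hc, mem_C1_comm]
      have := mul_mem (inv_mem (mem_C1_comm.1 c2)) (mem_C1_comm.1 c3)
      simpa using this
    have h4 := orderOf_dvd_of_mem_zpowers c4
    rw [hx] at h4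
    have h5 := orderOf_dvd_of_pow_eq_one (hZ.2 c c1)
    exact orderOf_eq_one_iff.1 (Nat.eq_one_of_dvd_coprimes (by norm_num : Nat.Coprime 7 2) h4 h5)
  rw [a5, card_bot] at a3
  nlinarith

theorem cube_mem {Z : Subgroup G} {x k : G} (hZ : IsElementaryAbelian 2 Z) (cZ : ♯Z = 8)
    (hx : orderOf x = 7) (hc : C{x} = zpowers x) (xZ : x ∈ N[Z]) (kZ : k ∈ N[Z])
    (hk : k ∈ N[zpowers x]) : k ^ 3 ∈ zpowers x := by
  have h1 := conj_mem hk (mem_zpowers x)
  obtain ⟨j, hj⟩ := (mem_powers_iff_mem_zpowers.2 h1)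
  simp only at hj
  have h7 : x ^ 7 = 1 := by rw [← hx, pow_orderOf_eq_one]
  have h3 : k ^ 3 * x * (k ^ 3)⁻¹ = x ^ (j ^ 3 % 7) := by
    rw [← hx, pow_mod_orderOf]
    calc k ^ 3 * x * (k ^ 3)⁻¹ = k * (k * (k * x * k⁻¹) * k⁻¹) * k⁻¹ := by
          simp only [pow_succ, pow_zero, one_mul]; group
      _ = x ^ (j ^ 3) := by
          rw [← hj, ← conj_pow, ← hj, ← conj_pow, ← conj_pow, ← hj, ← pow_mul, ← pow_mul]
          congr 1; ring
  have x1 : x ≠ 1 := fun e => by rw [e, orderOf_one] at hx; omega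
  have h4 : j ^ 3 % 7 = 0 ∨ j ^ 3 % 7 = 1 ∨ j ^ 3 % 7 = 6 := by
    rw [Nat.pow_mod]
    have := Nat.mod_lt j (by norm_num : 7 > 0)
    generalize j % 7 = i at *
    interval_cases i <;> simp
  rcases h4 with e | e | e <;> rw [e] at h3
  · exact absurd (by simpa using h3) x1
  · rw [← hc, mem_C1_iff_conj]; simpa using h3
  · refine (d14 hZ cZ hx hc xZ (pow_mem kZ 3) ?_).elim
    rw [h3]
    refine eq_inv_of_mul_eq_one_left ?_
    rw [← pow_succ, h7]

end H2.K3E
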