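import Mathlib
import Cfsg.Agent.H2.K3E0

/-!
# A `2`-local subgroup `2^6 . L₂(8)` in a thin group of order `7 · 3^a · 2^b`, II
-/

set_option autoImplicit false
set_option linter.unusedSectionVars false

open Cfsg H24 Subgroup

namespace H2.K3E

universe u

variable {G : Type u} [Group G] [Finite G]

/-- the configuration -/
structure L8 (Q T : Subgroup G) (x : G) : Prop where
  loc : ∀ t : G, t ≠ 1 → t * t = 1 → C{t} ⊓ C[O[{2}, C{t}]] ≤ O[{2}, C{t}]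
  ix : ∀ t : G, t ≠ 1 → t * t = 1 → Q ≤ C{t} → ∀ a ∈ Q, ∀ b ∈ Q, a ∉ O[{2}, C{t}] →
    b ∉ O[{2}, C{t}] → a * b ∈ O[{2}, C{t}]
  three : ∀ t : G, t ≠ 1 → t * t = 1 → ∀ N : Subgroup G, N ≤ C{t} →
    IsPi {2} N ∨ ∃ y ∈ N, orderOf y = 3
  rk : ∀ y : G, orderOf y = 3 → ∀ a ∈ C{y}, ∀ b ∈ C{y}, a ≠ 1 → a * a = 1 → b ≠ 1 → b * b = 1 →
    a * b = b * a → a = b
  c7 : C{x} = zpowers x
  n49 : ¬ 49 ∣ Nat.card G
  ea : IsElementaryAbelian 2 Q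
  cQ : ♯Q = 64
  cM : ♯N[Q] = 64 * 504
  QT : Q ≤ T
  TM : T ≤ N[Q]
  cT : ♯T = 512
  hx : orderOf x = 7
  xQ : x ∈ N[Q]
  xT : x ∈ N[T]
  cZ : ♯(Q ⊓ C[T] : Subgroup G) = 8
  hs : ∀ s ∈ T, s ∉ Q → Q ⊓ C{s} = Q ⊓ C[T]
  hy : ∀ y ∈ N[Q], orderOf y = 3 → Q ⊓ C{y} = ⊥

namespace L8

variable {Q T A B : Subgroup G} {x g z s i : G}

theorem piT (h : L8 Q T x) : IsPi {2} T := isPi_of_card (n := 9) Nat.prime_two h.cT

theorem fpf (h : L8 Q T x) (hg : g ∈ T) (hc : g ∈ C{x}) : g = 1 := by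
  rw [h.c7] at hc
  have h4 := orderOf_dvd_of_mem_zpowers hc
  have h5 := orderOf_dvd_card' hg
  rw [h.hx] at h4
  rw [h.cT] at h5
  exact orderOf_eq_one_iff.1 (Nat.eq_one_of_dvd_coprimes (by norm_num : Nat.Coprime 7 512) h4 h5)

theorem eaZ (h : L8 Q T x) : IsElementaryAbelian 2 (Q ⊓ C[T]) := ea_of_le h.ea inf_le_left

theorem zT (h : L8 Q T x) : T ⊓ C[T] = Q ⊓ C[T] := by
  refine le_antisymm (fun c hc => ⟨?_, hc.2⟩) (inf_le_inf_right _ h.QT)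
  by_contra hn
  have h1 := h.hs c hc.1 hn
  rw [inf_eq_left.2 (h.QT.trans (mem_C_iff_le_C1.1 hc.2))] at h1
  have := h.cZ
  rw [← h1, h.cQ] at this
  omega

theorem nZ (h : L8 Q T x) : N[T] ≤ N[Q ⊓ C[T]] := by
  rw [← h.zT]
  exact norm_inf le_rfl (norm_C le_rfl)

theorem e64 (h : L8 Q T x) (hA : IsElementaryAbelian 2 A) (cA : ♯A = 64) (AT : A ≤ T)
    (hn : ¬ A ≤ Q) : Q ⊓ A = Q ⊓ C[T] ∧ ∀ s ∈ T, s ∉ Q → s * s = 1 → s ∈ A := by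
  obtain ⟨a, ha, aQ⟩ := SetLike.not_le_iff_exists.1 hn
  have h1 : Q ⊓ A ≤ Q ⊓ C[T] := by
    rw [← h.hs a (AT ha) aQ]
    exact inf_le_inf_left _ (mem_C_iff_le_C1.1 (ea_le hA ha))
  have h2 := card_sup (A := Q) (B := A) (AT.trans h.TM)
  have h3 : ♯(Q ⊔ A : Subgroup G) ≤ 512 := h.cT ▸ card_le (sup_le h.QT AT)
  have h4 : ♯(Q ⊓ A : Subgroup G) ≤ 8 := h.cZ ▸ card_le h1
  rw [h.cQ, cA] at h2
  have h5 : Q ⊓ A = Q ⊓ C[T] := eq_of_card_ge h1 (by rw [h.cZ]; nlinarith)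
  have h6 : Q ⊔ A = T := eq_of_card_ge (sup_le h.QT AT) (by rw [h.cT]; nlinarith)
  refine ⟨h5, fun s hs sQ s2 => ?_⟩
  rw [← h6] at hs
  obtain ⟨q, hq, b, hb, rfl⟩ := (mem_sup_of_norm (AT.trans h.TM)).1 hs
  have bQ : b ∉ Q := fun e => sQ (mul_mem hq e)
  have h7 : q ∈ Q ⊓ A := by
    rw [h5, ← h.hs b (AT hb) bQ]
    exact ⟨hq, mem_C1.2 (comm_of_sq (ea_sq h.ea hq) (ea_sq hA hb) s2)⟩
  exact mul_mem h7.2 hb

theorem uniq (h : L8 Q T x) (hA : IsElementaryAbelian 2 A) (cA : ♯A = 64) (AT : A ≤ T)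
    (hn : ¬ A ≤ Q) (hB : IsElementaryAbelian 2 B) (cB : ♯B = 64) (BT : B ≤ T)
    (hn' : ¬ B ≤ Q) : A = B := by
  obtain ⟨a1, -⟩ := h.e64 hA cA AT hn
  obtain ⟨b1, b2⟩ := h.e64 hB cB BT hn'
  refine eq_of_card_eq (fun a ha => ?_) (by rw [cA, cB])
  by_cases e : a ∈ Q
  · have : a ∈ Q ⊓ B := by rw [b1, ← a1]; exact ⟨e, ha⟩
    exact this.2
  · exact b2 a (AT ha) e (ea_sq hA ha)

theorem uniq' (h : L8 Q T x) {g k : G} (hg : g ∈ N[T]) (gQ : g ∉ N[Q]) (hk : k ∈ N[T])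
    (kQ : k ∉ N[Q]) : cj g Q = cj k Q :=
  h.uniq (ea_cj h.ea g) (by rw [card_cj, h.cQ]) (cj_le_of_mem_N h.QT hg)
    (fun e => gQ (mem_N_of_cj_le e)) (ea_cj h.ea k) (by rw [card_cj, h.cQ])
    (cj_le_of_mem_N h.QT hk) (fun e => kQ (mem_N_of_cj_le e))

theorem mul_N (h : L8 Q T x) {g k : G} (hg : g ∈ N[T]) (gQ : g ∉ N[Q]) (hk : k ∈ N[T])
    (kQ : k ∉ N[Q]) : g * k ∈ N[Q] := by
  have := h.uniq' (inv_mem hg) (fun e => gQ (by simpa using inv_mem e)) hk kQ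
  have h2 := cj_eq_cj_iff.1 this.symm
  simpa using h2

theorem nT (h : L8 Q T x) : N[T] ≤ N[Q] := by
  intro g hg
  by_contra gQ
  have syl : ∀ y ∈ N[T] ⊓ N[Q], orderOf y = 7 → Syl 7 (N[T] ⊓ N[Q]) (zpowers y) := by
    intro y hy ho
    have c : ♯(zpowers y) = 7 := by rw [card_zpowers', ho]
    refine Syl.mk' (by norm_num) (zpowers_le.2 hy) (isPi_of_card_prime (by norm_num) c) fun hd => ?_
    have h1 := card_mul_relIndex (zpowers_le.2 hy)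
    rw [c] at h1
    refine h.n49 (dvd_trans ?_ (card_subgroup_dvd_card (N[T] ⊓ N[Q])))
    rw [← h1]
    exact mul_dvd_mul_left 7 hd
  have h1 : g * x * g⁻¹ ∈ N[T] ⊓ N[Q] := by
    refine mem_inf.2 ⟨mul_mem (mul_mem hg h.xT) (inv_mem hg), ?_⟩
    refine h.mul_N (mul_mem hg h.xT) (fun e => gQ ?_) (inv_mem hg)
      (fun e => gQ (by simpa using inv_mem e))
    simpa using mul_mem e (inv_mem h.xQ)
  have h2 : orderOf (g * x * g⁻¹) = 7 := by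
    rw [← h.hx]
    exact (MulAut.conj g).orderOf_eq x
  obtain ⟨k, hk, e⟩ := Sylow_trans (by norm_num) (syl x ⟨h.xT, h.xQ⟩ h.hx) (syl _ h1 h2)
  rw [← cj_zpowers] at e
  have h3 : k⁻¹ * g ∈ N[zpowers x] := cj_eq_cj_iff.1 e
  have h4 : k⁻¹ * g ∈ N[T] := mul_mem (inv_mem hk.1) hg
  have h5 : k⁻¹ * g ∉ N[Q] := fun e => gQ (by simpa using mul_mem hk.2 e)
  have h6 := cube_mem h.eaZ h.cZ h.hx h.c7 (h.nZ h.xT) (h.nZ h4) h3
  have h7 := zpowers_le.2 h.xQ h6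
  have h8 := h.mul_N h4 h5 h4 h5
  refine h5 ?_
  have := mul_mem h7 (inv_mem h8)
  rwa [show (k⁻¹ * g) ^ 3 * (k⁻¹ * g * (k⁻¹ * g))⁻¹ = k⁻¹ * g by
    simp only [pow_succ, pow_zero, one_mul]; group] at this

theorem sylM (h : L8 Q T x) : Syl 2 N[Q] T := by
  refine Syl.mk' Nat.prime_two h.TM h.piT fun hd => ?_
  have h1 := card_mul_relIndex h.TM
  rw [h.cT, h.cM] at h1
  omega

theorem syl (h : L8 Q T x) : Syl 2 ⊤ T :=
  h.sylM.of_norm_le Nat.prime_two le_top (inf_le_right.trans h.nT)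

theorem exZ (h : L8 Q T x) : ∃ z ∈ Q ⊓ C[T], z ≠ 1 := by
  by_contra hn
  push Not at hn
  have : Q ⊓ C[T] = ⊥ := eq_bot_iff.2 fun z hz => hn z hz
  have h2 := h.cZ
  rw [this, card_bot] at h2
  omega

theorem cZ_eq (h : L8 Q T x) : C[Q ⊓ C[T]] = T := by
  obtain ⟨z, hz, z1⟩ := h.exZ
  rcases h.three z z1 (ea_sq h.ea hz.1) _ (C_le_C1 hz) with e | ⟨y, hy, ho⟩
  · exact h.syl.eq_of_le e (cents_symm inf_le_right) le_top
  · exfalso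
    have h1 : Q ⊓ C[T] ≤ zpowers z := by
      intro w hw
      by_cases w1 : w = 1
      · rw [w1]; exact one_mem _
      · rw [h.rk y ho w (mem_C_iff_le_C1.1 hy hw) z (mem_C_iff_le_C1.1 hy hz) w1
          (ea_sq h.ea hw.1) z1 (ea_sq h.ea hz.1) (Abl.comm h.ea.1 hw.1 hz.1)]
        exact mem_zpowers z
    have h2 := card_le h1
    rw [h.cZ, card_zpowers'] at h2
    have := orderOf_le_of_pow_eq_one (by norm_num) (h.ea.2 z hz.1)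
    omega

theorem nZ' (h : L8 Q T x) : N[Q ⊓ C[T]] ≤ N[Q] := by
  refine le_trans ?_ h.nT
  conv_rhs => rw [← h.cZ_eq]
  exact N_le_NC _

theorem cz_le (h : L8 Q T x) (hz : z ∈ Q ⊓ C[T]) (z1 : z ≠ 1) : C{z} ≤ N[Q] := by
  have z2 := ea_sq h.ea hz.1
  have TC : T ≤ C{z} := mem_C_iff_le_C1.1 hz.2
  have QC := h.QT.trans TC
  have UT : O[{2}, C{z}] ≤ T := pcore_le_Hall (h.syl.of_le TC le_top)
  have nU : C{z} ≤ N[O[{2}, C{z}]] := (pcore_nml _ _).norm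
  by_cases hU : O[{2}, C{z}] ≤ Q
  · have : Q ≤ O[{2}, C{z}] := le_trans (le_inf QC ((ea_le h.ea).trans (C_anti hU))) (h.loc z z1 z2)
    rw [le_antisymm this hU]
    exact nU
  obtain ⟨u, hu, uQ⟩ := SetLike.not_le_iff_exists.1 hU
  have hZU : Q ⊓ C[T] ≤ O[{2}, C{z}] ⊓ C[O[{2}, C{z}]] := by
    have : Q ⊓ C[T] ≤ C[O[{2}, C{z}]] := inf_le_right.trans (C_anti UT)
    exact le_inf (le_trans (le_inf (inf_le_left.trans QC) this) (h.loc z z1 z2)) this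
  have hE : O[{2}, C{z}] ⊓ C[O[{2}, C{z}]] = Q ⊓ C[T] := by
    refine le_antisymm (fun c hc => ?_) hZU
    by_cases cQ : c ∈ Q
    · rw [← h.hs u (UT hu) uQ]
      exact ⟨cQ, C_le_C1 hu hc.2⟩
    exfalso
    have h1 : O[{2}, C{z}] ⊓ Q ≤ Q ⊓ C[T] := by
      rw [← h.hs c (UT hc.1) cQ]
      exact fun a ha => ⟨ha.2, mem_C_iff_le_C1.1 hc.2 ha.1⟩
    have h2 : ♯(O[{2}, C{z}] ⊓ Q : Subgroup G) ≤ 8 := h.cZ ▸ card_le h1
    have h3 := card_inf_mul_relIndex O[{2}, C{z}] Q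
    rw [h.cQ] at h3
    by_cases hQU : Q ≤ O[{2}, C{z}]
    · rw [inf_eq_right.2 hQU, h.cQ] at h2
      omega
    obtain ⟨a, ha, aU⟩ := SetLike.not_le_iff_exists.1 hQU
    have h4 : (O[{2}, C{z}]).relIndex Q = 2 :=
      relIndex_eq_two_iff_exists_notMem_and.2 ⟨a, ha, aU, fun b hb => by
        by_cases e : b ∈ O[{2}, C{z}]
        · exact .inr e
        · exact .inl (h.ix z z1 z2 QC b hb a ha e aU)⟩
    rw [h4] at h3
    omega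
  refine le_trans ?_ h.nZ'
  rw [← hE]
  exact norm_inf nU (norm_C nU)

theorem cz_eq (h : L8 Q T x) (hz : z ∈ Q ⊓ C[T]) (z1 : z ≠ 1) : C{z} = T := by
  rcases h.three z z1 (ea_sq h.ea hz.1) _ le_rfl with e | ⟨y, hy, ho⟩
  · exact h.syl.eq_of_le e (mem_C_iff_le_C1.1 hz.2) le_top
  · have := h.hy y (h.cz_le hz z1 hy) ho
    exact absurd (mem_bot.1 (this ▸ (⟨hz.1, mem_C1_comm.1 hy⟩ : z ∈ Q ⊓ C{y}))) z1

theorem clsQ (h : L8 Q T x) (hz : z ∈ Q ⊓ C[T]) (z1 : z ≠ 1) :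
    cls N[Q] z = (Q : Set G) \ {1} := by
  refine cls_eq ?_ ?_
  · rintro _ ⟨m, hm, rfl⟩
    exact ⟨conj_mem hm hz.1, fun e => z1 (by simpa using e)⟩
  · rw [ncard_ne_one, h.cz_eq hz z1, inf_eq_right.2 h.TM, h.cT, h.cQ, h.cM]

/-- the involutions of a coset are conjugate under `Q` -/
theorem cls_cos (h : L8 Q T x) (hs : s ∈ T) (sQ : s ∉ Q) (s2 : s * s = 1) :
    cls Q s = {v | s⁻¹ * v ∈ Q ⊓ C{s}} := by
  refine cls_eq (cls_coset h.ea (h.TM hs) s2) ?_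
  rw [ncard_coset, h.hs s hs sQ, h.cZ, h.cQ]

theorem no_fix (h : L8 Q T x) (hi : i ∈ T) (hc : i⁻¹ * (x * i * x⁻¹) ∈ Q) : i ∈ Q := by
  let ψ : Q → Q := fun q => ⟨q * (x * q⁻¹ * x⁻¹), mul_mem q.2 (conj_mem h.xQ (inv_mem q.2))⟩
  have inj : Function.Injective ψ := by
    intro q r e
    have e1 : (q : G) * (x * (q : G)⁻¹ * x⁻¹) = r * (x * (r : G)⁻¹ * x⁻¹) := congrArg Subtype.val e
    have e2 : (r : G)⁻¹ * q = 1 := by
      refine h.fpf (h.QT (mul_mem (inv_mem r.2) q.2)) (mem_C1.2 ?_)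
      calc (r : G)⁻¹ * q * x = (r : G)⁻¹ * (q * (x * (q : G)⁻¹ * x⁻¹)) * x * q := by group
        _ = x * ((r : G)⁻¹ * q) := by rw [e1]; group
    exact Subtype.ext (inv_mul_eq_one.1 e2).symm
  obtain ⟨q, hq⟩ := Finite.injective_iff_surjective.1 inj ⟨_, hc⟩
  have e1 : (q : G) * (x * (q : G)⁻¹ * x⁻¹) = i⁻¹ * (x * i * x⁻¹) := congrArg Subtype.val hq
  have e2 : i * q = 1 := by
    refine h.fpf (mul_mem hi (h.QT q.2)) (mem_C1.2 ?_)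
    calc i * q * x = i * (q * (x * (q : G)⁻¹ * x⁻¹)) * x * q := by group
      _ = x * (i * q) := by rw [e1]; group
  rw [mul_eq_one_iff_eq_inv.1 e2]
  exact inv_mem q.2

theorem cs_mul {K : Subgroup G} {a b : G} (ha : a ∈ N[K]) (hb : b ∈ N[K]) :
    cs K (a * b) = cs K a * cs K b := ap_mul _ ha hb

theorem cs_inv {K : Subgroup G} {a : G} (ha : a ∈ N[K]) : cs K a⁻¹ = (cs K a)⁻¹ := ap_inv _ ha

/-- `x` is transitive on the non-trivial cosets -/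
theorem cos_tr (h : L8 Q T x) (hi : i ∈ T) (iQ : i ∉ Q) (hs : s ∈ T) (sQ : s ∉ Q) :
    ∃ m ∈ N[T], s⁻¹ * (m * i * m⁻¹) ∈ Q := by
  have c7 : ♯(zpowers x) = 7 := by rw [card_zpowers', h.hx]
  have xM : zpowers x ≤ N[Q] := zpowers_le.2 h.xQ
  have c1 : ♯(quo (zpowers x) Q) = 7 := by
    rw [card_quo_of_inf xM (inf_eq_bot_of_cop (by rw [c7, h.cQ]; norm_num)), c7]
  have c2 : ♯(quo T Q) = 8 := by
    have := Nml.card_quo (⟨h.QT, h.TM⟩ : Q ⊴ T)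
    rw [h.cQ, h.cT] at this
    omega
  have i1 : cs Q i ≠ 1 := fun e => iQ ((cs_eq_one (h.TM hi)).1 e)
  have c3 : quo (zpowers x) Q ⊓ C{cs Q i} = ⊥ := by
    refine prime_inf_of_not_le (by rw [c1]; norm_num) fun e => iQ (h.no_fix hi ?_)
    have h1 := mem_C1_iff_conj.1 (e (cs_mem_quo (mem_zpowers x) h.xQ))
    rw [← cs_inv h.xQ, ← cs_mul h.xQ (h.TM hi),
      ← cs_mul (mul_mem h.xQ (h.TM hi)) (inv_mem h.xQ)] at h1
    exact (cs_eq_cs (h.TM hi) (mul_mem (mul_mem h.xQ (h.TM hi)) (inv_mem h.xQ))).1 h1.symm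
  have c4 : cls (quo (zpowers x) Q) (cs Q i) = (quo T Q : Set (QN Q)) \ {1} := by
    refine cls_eq ?_ ?_
    · rintro _ ⟨m, hm, rfl⟩
      exact ⟨conj_mem (quo_norm Q (zpowers_le.2 h.xT) hm) (cs_mem_quo hi (h.TM hi)),
        fun e => i1 (by simpa using e)⟩
    · rw [ncard_ne_one, c3, card_bot, c1, c2]
  have h5 : cs Q s ∈ cls (quo (zpowers x) Q) (cs Q i) := by
    rw [c4]
    exact ⟨cs_mem_quo hs (h.TM hs), fun e => sQ ((cs_eq_one (h.TM hs)).1 e)⟩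
  obtain ⟨m', hm', e⟩ := h5
  obtain ⟨m, hm, mQ, rfl⟩ := mem_quo.1 hm'
  refine ⟨m, zpowers_le.2 h.xT hm, ?_⟩
  rw [← cs_inv mQ, ← cs_mul mQ (h.TM hi), ← cs_mul (mul_mem mQ (h.TM hi)) (inv_mem mQ)] at e
  exact (cs_eq_cs (h.TM hs) (mul_mem (mul_mem mQ (h.TM hi)) (inv_mem mQ))).1 e

theorem conj_out (h : L8 Q T x) (hi : i ∈ T) (iQ : i ∉ Q) (i2 : i * i = 1) (hs : s ∈ T)
    (sQ : s ∉ Q) (s2 : s * s = 1) : IsConj i s := by
  obtain ⟨m, hm, e⟩ := h.cos_tr hi iQ hs sQ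
  have h1 : m * i * m⁻¹ ∈ cls Q s := by
    rw [h.cls_cos hs sQ s2]
    refine ⟨e, mem_C1.2 (comm_of_sq s2 (ea_sq h.ea e) ?_).symm⟩
    have : s * (s⁻¹ * (m * i * m⁻¹)) = m * i * m⁻¹ := by group
    rw [this]
    calc m * i * m⁻¹ * (m * i * m⁻¹) = m * (i * i) * m⁻¹ := by group
      _ = 1 := by rw [i2]; simp
  obtain ⟨q, -, e2⟩ := h1
  exact (isConj_iff.2 ⟨m, rfl⟩).trans (isConj_iff.2 ⟨q, e2.symm⟩).symm

theorem main (h : L8 Q T x) : (∃ S : Sylow 2 G, IsStronglyClosed Q (S : Subgroup G)) ∨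
    ∀ t : G, orderOf t = 2 → IsPGroup 2 C{t} := by
  obtain ⟨S, hS⟩ := h.syl.exists_sylow_top Nat.prime_two
  by_cases hsc : IsStronglyClosed Q T
  · exact .inl ⟨S, hS ▸ hsc⟩
  right
  obtain ⟨z, hz, z1⟩ := h.exZ
  have cQ : ∀ q ∈ Q, q ≠ 1 → IsConj z q := by
    intro q hq q1
    have : q ∈ cls N[Q] z := by rw [h.clsQ hz z1]; exact ⟨hq, q1⟩
    obtain ⟨m, -, e⟩ := this
    exact isConj_iff.2 ⟨m, e.symm⟩
  have hi : ∃ i ∈ T, i ∉ Q ∧ i * i = 1 ∧ IsConj z i := by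
    by_contra hn
    refine hsc ⟨h.QT, fun q hq g hg => ?_⟩
    by_contra hn'
    refine hn ⟨_, hg, hn', ?_, (cQ q hq fun e => hn' (by simp [e])).trans (isConj_iff.2 ⟨g, rfl⟩)⟩
    calc g * q * g⁻¹ * (g * q * g⁻¹) = g * (q * q) * g⁻¹ := by group
      _ = 1 := by rw [ea_sq h.ea hq]; simp
  obtain ⟨i, hi, iQ, i2, zi⟩ := hi
  intro t ht
  have t1 : t ≠ 1 := fun e => by rw [e, orderOf_one] at ht; omega
  have t2 : t * t = 1 := by rw [← pow_two, ← ht, pow_orderOf_eq_one]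
  obtain ⟨g, -, hg⟩ := Sylow_Jsub Nat.prime_two h.syl
    (isPi_of_card_prime Nat.prime_two (by rw [card_zpowers', ht]) : IsPi {2} (zpowers t)) le_top
  have h1 : g * t * g⁻¹ ∈ T := hg (conj_mem_cj g (mem_zpowers t))
  have h2 : IsConj z (g * t * g⁻¹) := by
    by_cases e : g * t * g⁻¹ ∈ Q
    · exact cQ _ e fun e => t1 (by simpa using e)
    · refine zi.trans (h.conj_out hi iQ i2 h1 e ?_)
      calc g * t * g⁻¹ * (g * t * g⁻¹) = g * (t * t) * g⁻¹ := by group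
        _ = 1 := by rw [t2]; simp
  obtain ⟨c, hc⟩ := isConj_iff.1 (h2.trans (isConj_iff.2 ⟨g, rfl⟩ : IsConj t _).symm)
  rw [← hc, ← cj_C1, h.cz_eq hz z1]
  exact (h.piT.cj c).isPGroup Nat.prime_two

end L8

end H2.K3E
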