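import Mathlib
import Cfsg.Agent.H2.K3E1
import Cfsg.Agent.H4.K3TH

/-!
# A `2`-local subgroup `2^6 . L₂(8)` in a thin group of order `7 · 3^a · 2^b`, III
-/

set_option autoImplicit false
set_option linter.unusedSectionVars false

open Cfsg H24 Subgroup

namespace H2.K3E

universe u

theorem l28 {G : Type u} [Group G] [Finite G] {p a b : ℕ} (h : H18.K3.KT G p a b)
    (thin : ∀ t : G, orderOf t = 2 → ∀ B : Subgroup G, IsElementaryAbelian 3 B → B ≤ C{t} → ♯B < 9)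
    {Q T : Subgroup G} {x : G} (hQ : IsElementaryAbelian 2 Q) (cQ : ♯Q = 64)
    (cM : ♯N[Q] = 64 * 504) (QT : Q ≤ T) (TM : T ≤ N[Q]) (cT : ♯T = 512) (hx : orderOf x = 7)
    (xQ : x ∈ N[Q]) (xT : x ∈ N[T]) (cZ : ♯(Q ⊓ C[T] : Subgroup G) = 8)
    (hs : ∀ s ∈ T, s ∉ Q → Q ⊓ C{s} = Q ⊓ C[T])
    (hy : ∀ y ∈ N[Q], orderOf y = 3 → Q ⊓ C{y} = ⊥) :
    (∃ S : Sylow 2 G, IsStronglyClosed Q (S : Subgroup G)) ∨
      ∀ t : G, orderOf t = 2 → IsPGroup 2 (C{t}) := by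
  have th := H4.K3.th_of h thin
  have c7 : Nat.Coprime 7 (3 ^ a * 2 ^ b) :=
    Nat.Coprime.mul_right (Nat.Coprime.pow_right _ (by norm_num))
      (Nat.Coprime.pow_right _ (by norm_num))
  have p7 : p = 7 := by
    have h1 : 7 ∣ Nat.card G := hx ▸ orderOf_dvd_natCard x
    rw [h.card, mul_assoc] at h1
    exact ((Nat.prime_dvd_prime_iff_eq (by norm_num) h.prime).1
      (c7.dvd_of_dvd_mul_right h1)).symm
  subst p7
  refine L8.main (T := T) (x := x) ⟨th.loc, fun t t1 t2 hc => th.ix t t1 t2 Q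
    (isPi_of_card (n := 6) Nat.prime_two cQ) hc, th.three, th.rk, h.cent_p hx, fun hd => ?_, hQ, cQ,
    cM, QT, TM, cT, hx, xQ, xT, cZ, hs, hy⟩
  rw [h.card, mul_assoc, show 49 = 7 * 7 by norm_num] at hd
  have := c7.eq_one_of_dvd (Nat.dvd_of_mul_dvd_mul_left (by norm_num) hd)
  omega

end H2.K3E
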