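import Mathlib
import Cfsg.Agent.H24.Base5
import Cfsg.Agent.H2.FpfAction
import Cfsg.Agent.H2.Frobenius
import Cfsg.Prelude.Def_LieExceptional

/-!
# CN-groups (Gorenstein, ch. 14.1)
-/

set_option autoImplicit false

namespace H2.CN

open Cfsg Subgroup H24

universe u v

variable {G : Type u} [Group G] {G' : Type v} [Group G']

theorem nil_C1 (h : IsCNGroup G) {x : G} (hx : x ≠ 1) : Nil C{x} := h x hx

theorem nil_C (h : IsCNGroup G) {B : Subgroup G} (hB : B ≠ ⊥) : Nil C[B] := by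
  obtain ⟨b, hb, h1⟩ := exists_ne_one hB
  exact (nil_C1 h h1).of_le (C_le_C1 hb)

/-- key lemma: a `π'`-element centralising a nontrivial element of a nilpotent `π`-subgroup
centralises all of it. -/
theorem key [Finite G] (h : IsCNGroup G) {π : Set ℕ} {P : Subgroup G} (hP : Nil P) (hπ : IsPi π P)
    {x y : G} (hx : x ∈ P) (h1 : x ≠ 1) (hy : PiElt πᶜ y) (hc : y * x = x * y) : P ≤ C{y} := by
  obtain ⟨z, hz, hz1⟩ := exists_ne_one (hP.center_ne_bot (ne_bot_of_mem hx h1))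
  have hzx : z ∈ C{x} := mem_C1.2 (mem_C'.1 hz.2 x hx)
  have hzy : z * y = y * z :=
    (nil_C1 h h1).comm_of_coprime hzx (mem_C1.2 hc) ((hπ.piElt hz.1).coprime hy)
  intro g hg
  exact mem_C1.2 ((nil_C1 h hz1).comm_of_coprime (mem_C1.2 (mem_C.1 hz.2 g hg))
    (mem_C1.2 hzy.symm) ((hπ.piElt hg).coprime hy))

theorem syl_nml_of_cent [Finite G] (h : IsCNGroup G) {B P : Subgroup G} (hB : B ⊴ ⊤) (h1 : B ≠ ⊥)
    {p : ℕ} (hP : Syl p ⊤ P) (hc : P ≤ C[B]) : ⊤ ≤ N[P] := by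
  have hn := nil_C h h1
  exact hn.norm_hall (hP.of_le hc le_top) (norm_C hB.norm)

theorem nil_of_comm [Finite G] {H : Subgroup G}
    (h : ∀ p q : ℕ, p.Prime → q.Prime → p ≠ q → ∀ a ∈ H, ∀ b ∈ H, PiElt {p} a → PiElt {q} b →
      a * b = b * a) : Nil H := by
  refine nil_of_syl_nml fun p P hp hP => le_of_syl_le fun q hq _ => ?_
  by_cases e : q = p
  · subst e; exact ⟨P, hP, norm_self P⟩
  · obtain ⟨Q, hQ⟩ := Sylow_exists hq H
    refine ⟨Q, hQ, norm_of_cent (le_C_iff.2 fun a ha b hb => ?_)⟩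
    exact h q p hq hp e a (hQ.le ha) b (hP.le hb) (hQ.pi.piElt ha) (hP.pi.piElt hb)

theorem exists_lift [Finite G] [Finite G'] {f : G →* G'} (hf : Function.Surjective f) {π : Set ℕ}
    {a : G'} (ha : PiElt π a) : ∃ x, f x = a ∧ PiElt π x := by
  obtain ⟨g, rfl⟩ := hf a
  exact ⟨constt π g, by rw [constt_map, constt_eq_self ha], piElt_constt π g⟩

theorem exists_lift_comm [Finite G] (f : G →* G') {p : ℕ} (hp : p.Prime) (hk : IsPi {p} f.ker)
    {b g : G} (hb : PiElt {p}ᶜ b) (hc : f g * f b = f b * f g) :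
    ∃ g', f g' = f g ∧ g' * b = b * g' := by
  have hn : zpowers b ≤ N[f.ker] := norm_of_normal _ _
  have hcop : (♯f.ker).Coprime ♯(zpowers b) := hk.coprime hb.isPi
  have hm : g * b * g⁻¹ * b⁻¹ ∈ f.ker := by
    rw [MonoidHom.mem_ker]; simp only [map_mul, map_inv, hc]; group
  have hL : cj g (zpowers b) ≤ f.ker ⊔ zpowers b := by
    rw [cj_zpowers, zpowers_le]
    have : g * b * g⁻¹ = (g * b * g⁻¹ * b⁻¹) * b := by group
    rw [this]
    exact mul_mem_sup hm (mem_zpowers b)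
  obtain ⟨k, hk', e⟩ := H26.SchurZassenhaus_trans_sol (hk.sol hp) hn hL hcop (card_cj _ _)
  have hN : k⁻¹ * g ∈ N[zpowers b] := cj_eq_cj_iff.1 e
  have hfk : f k = 1 := hk'
  refine ⟨k⁻¹ * g, by simp [hfk], ?_⟩
  have h1 : k⁻¹ * g * b * (k⁻¹ * g)⁻¹ * b⁻¹ ∈ f.ker ⊓ zpowers b := by
    refine Subgroup.mem_inf.2 ⟨?_, mul_mem (conj_mem hN (mem_zpowers b)) (inv_mem (mem_zpowers b))⟩
    show f _ = 1
    simp only [map_mul, map_inv, hfk, inv_one, one_mul, hc]; group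
  rw [inf_eq_bot_of_cop hcop, mem_bot] at h1
  calc k⁻¹ * g * b = (k⁻¹ * g * b * (k⁻¹ * g)⁻¹ * b⁻¹) * (b * (k⁻¹ * g)) := by group
    _ = b * (k⁻¹ * g) := by rw [h1, one_mul]

theorem cn_of_pi_ker [Finite G] [Finite G'] (h : IsCNGroup G) {f : G →* G'}
    (hf : Function.Surjective f) {p : ℕ} (hp : p.Prime) (hk : IsPi {p} f.ker) : IsCNGroup G' := by
  intro x0 hx0
  obtain ⟨r, hr, hrd⟩ := Nat.exists_prime_and_dvd (n := orderOf x0) (by simpa using hx0)
  set x := constt {r} x0 with hxdef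
  have hxr : PiElt {r} x := piElt_constt _ _
  have hx1 : x ≠ 1 := fun e => (constt_eq_one_iff.1 e).not_dvd' hr rfl hrd
  refine Nil.of_le (H := C{x}) ?_ (C1_le_C1_constt _ _)
  clear_value x
  obtain ⟨y, rfl, hy⟩ := exists_lift hf hxr
  have hy1 : y ≠ 1 := fun e => hx1 (by simp [e])
  by_cases e : r = p
  swap
  · refine ((nil_C1 h hy1).map f).of_le fun a ha => ?_
    obtain ⟨g, rfl⟩ := hf a
    obtain ⟨g', e1, e2⟩ := exists_lift_comm f hp hk (PiNat.compl_of_ne hy e) (mem_C1.1 ha)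
    exact ⟨g', mem_C1.2 e2, e1⟩
  subst e
  by_cases hV : f.ker = ⊥
  · refine ((nil_C1 h hy1).map f).of_le fun a ha => ?_
    obtain ⟨g, rfl⟩ := hf a
    refine ⟨g, mem_C1.2 ((f.ker_eq_bot_iff.1 hV) ?_), rfl⟩
    simpa using mem_C1.1 ha
  obtain ⟨v, hv, hv1⟩ := exists_ne_one hV
  -- `r'`-elements lying over `C(f y)` centralise the kernel
  have hcent : ∀ b, PiElt {r}ᶜ b → f b ∈ C{f y} → b * v = v * b := by
    intro b hb hc
    obtain ⟨g', e1, e2⟩ := exists_lift_comm f hp hk hb (mem_C1.1 hc).symm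
    have hg1 : constt {r} g' ≠ 1 := fun e => hx1 (by
      have := constt_map f {r} g'
      rw [e, map_one, e1, constt_eq_self hxr] at this
      exact this.symm)
    obtain ⟨P, hP, hle⟩ := Sylow_superset hp (piElt_constt {r} g').isPi (le_top)
    have hc2 : b ∈ C{constt {r} g'} := C1_le_C1_constt _ _ (mem_C1.2 e2.symm)
    have := key h (hP.pi.nil hp) hP.pi (hle (mem_zpowers _)) hg1 hb (mem_C1.1 hc2)
    exact (mem_C1.1 (this (hP.nml_le hk (nml_top _) hv))).symm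
  have aux : ∀ s q : ℕ, s.Prime → q.Prime → s ≠ q → q ≠ r → ∀ a ∈ C{f y}, ∀ b ∈ C{f y},
      PiElt {s} a → PiElt {q} b → a * b = b * a := by
    intro s q hs hq hsq hqr a ha b hb hsa hqb
    obtain ⟨a', rfl, ha'⟩ := exists_lift hf hsa
    obtain ⟨b', rfl, hb'⟩ := exists_lift hf hqb
    have hb2 : PiElt {r}ᶜ b' := PiNat.compl_of_ne hb' hqr
    have hbv := hcent b' hb2 hb
    rw [← map_mul, ← map_mul]
    congr 1
    by_cases e : s = r
    · subst e
      obtain ⟨P, hP, hle⟩ := Sylow_superset hp ha'.isPi (le_top)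
      have := key h (hP.pi.nil hp) hP.pi (hP.nml_le hk (nml_top _) hv) hv1 hb2 hbv
      exact mem_C1.1 (this (hle (mem_zpowers _)))
    · have hav := hcent a' (PiNat.compl_of_ne ha' e) ha
      exact (nil_C1 h hv1).comm_of_coprime (mem_C1.2 hav) (mem_C1.2 hbv)
        (ha'.coprime (PiNat.compl_of_ne hb' (Ne.symm hsq)))
  refine nil_of_comm fun s q hs hq hsq a ha b hb hsa hqb => ?_
  by_cases e : q = r
  · exact (aux q s hq hs (Ne.symm hsq) (e ▸ hsq) b hb a ha hqb hsa).symm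
  · exact aux s q hs hq hsq e a ha b hb hsa hqb

theorem cn_of_sol_ker_aux [Finite G'] (n : ℕ) : ∀ (G : Type u) [Group G] [Finite G] (f : G →* G'),
    Nat.card G = n → IsCNGroup G → Function.Surjective f → Sol f.ker → IsCNGroup G' := by
  induction n using Nat.strong_induction_on with
  | _ n ih =>
  intro G _ _ f hn h hf hs
  by_cases hV : f.ker = ⊥
  · exact cn_of_pi_ker h hf Nat.prime_two (isPi_of_eq_bot hV)
  obtain ⟨p, hp, hO⟩ := exists_pcore_ne_bot hs hV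
  set V := O[{p}, f.ker] with hVdef
  have : V.Normal := nml_top_iff.1 ((nml_top f.ker).pcore _)
  have hle : V ≤ f.ker := pcore_le _ _
  have hk : IsPi {p} (QuotientGroup.mk' V).ker := by
    rw [QuotientGroup.ker_mk']; exact pcore_pi _ _
  have h2 := cn_of_pi_ker h (QuotientGroup.mk'_surjective V) hp hk
  refine ih (Nat.card (G ⧸ V)) ?_ (G ⧸ V) (QuotientGroup.lift V f hle) rfl h2 ?_ ?_
  · rw [← hn, Subgroup.card_eq_card_quotient_mul_card_subgroup V]
    have := one_lt_card hO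
    have h0 : 0 < Nat.card (G ⧸ V) := Nat.card_pos
    nlinarith
  · intro a
    obtain ⟨g, rfl⟩ := hf a
    exact ⟨g, rfl⟩
  · rw [QuotientGroup.ker_lift]
    exact hs.map _

theorem cn_quotient [Finite G] (h : IsCNGroup G) (H : Subgroup G) [H.Normal] (hH : Sol H) :
    IsCNGroup (G ⧸ H) :=
  cn_of_sol_ker_aux _ G (QuotientGroup.mk' H) rfl h (QuotientGroup.mk'_surjective H)
    (by rwa [QuotientGroup.ker_mk'])

theorem exists_central_of_semireg [Finite G] {K E : Subgroup G} (hK : K ≠ ⊥) (hE : E ≠ ⊥)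
    (hn : E ≤ N[K]) (hr : Semireg K E) : ∃ z ∈ E, z ≠ 1 ∧ E ≤ C{z} := by
  obtain ⟨z, hz, hz1⟩ := exists_ne_one (center_ne_bot_of_fpf hK hE hn hr)
  refine ⟨z, z.2, fun e => hz1 (Subtype.ext e), fun g hg => mem_C1.2 ?_⟩
  exact congrArg Subtype.val (mem_center_iff.1 hz ⟨g, hg⟩)

theorem nil_of_semireg [Finite G] (h : IsCNGroup G) {K E : Subgroup G} (hK : K ≠ ⊥)
    (hn : E ≤ N[K]) (hr : Semireg K E) : Nil E := by
  by_cases hE : E = ⊥
  · rw [hE]; exact nil_bot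
  obtain ⟨z, -, hz1, hle⟩ := exists_central_of_semireg hK hE hn hr
  exact (nil_C1 h hz1).of_le hle

theorem semireg_Fcore [Finite G] (h : IsCNGroup G) {E : Subgroup G}
    (hE : SD (fittingHallOf ⊤) E ⊤) : Semireg (fittingHallOf ⊤) E := by
  set H := fittingHallOf (⊤ : Subgroup G) with hH
  have hhall := Fcore_hall (⊤ : Subgroup G)
  rw [← hH] at hhall
  have hEpi := hE.isPi_right hhall
  refine semireg_iff.2 fun e he he1 y hy hc => by_contra fun hy1 => ?_
  have h1 : H ≤ C{e} := key h (Fcore_nil _) hhall.pi hy hy1 (hEpi.piElt he) hc.symm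
  obtain ⟨r, hr, hrd⟩ := Nat.exists_prime_and_dvd (n := orderOf e) (by simpa using he1)
  have hrπ : r ∉ primesOf H := hEpi.piElt he r hr hrd
  have hx1 : constt {r} e ≠ 1 := fun e => (constt_eq_one_iff.1 e).not_dvd' hr rfl hrd
  obtain ⟨R, hR, hle⟩ := Sylow_superset hr (piElt_constt {r} e).isPi (le_top)
  have h2 : R ≤ C[H] := cents_symm fun g hg => mem_C_iff_le_C1.2
    (key h (hR.pi.nil hr) hR.pi (hle (mem_zpowers _)) hx1
      ((hhall.pi.compl_of_not_mem hrπ).piElt hg) (mem_C1.1 (C1_le_C1_constt _ _ (h1 hg))))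
  have h3 := syl_le_Fcore hr hR (syl_nml_of_cent h (Fcore_nml _) (ne_bot_of_mem hy hy1) hR h2)
  have : constt {r} e ∈ H ⊓ E := ⟨h3 (hle (mem_zpowers _)), constt_mem _ he⟩
  rw [hE.inf] at this
  exact hx1 this

theorem SD.isComplement' {K E : Subgroup G} (h : SD K E ⊤) : IsComplement' K E := by
  have : K.Normal := nml_top_iff.1 h.nml
  exact isComplement'_of_disjoint_and_mul_eq_univ (disjoint_iff.2 h.inf) (by
    rw [← Subgroup.normal_mul, h.sup]; rfl)

theorem frob_structure [Finite G] (h : IsCNGroup G) (hnn : ¬ Group.IsNilpotent G)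
    (h1 : fittingHall G ≠ ⊥) : fittingHall G ≠ ⊤ ∧ ∃ E, IsComplement' (fittingHall G) E ∧
      IsFrobeniusComplement E ∧ Semireg (fittingHall G) E ∧ Nil E := by
  have ht : fittingHall G ≠ ⊤ := fun e => hnn (nil_top_iff.1 (e ▸ (fittingHall_spec G).1))
  obtain ⟨E, hE⟩ := H26.SchurZassenhaus_split (Fcore_nml (⊤ : Subgroup G)) (Fcore_isHall _)
  have hr := semireg_Fcore h hE
  rw [Fcore_top] at hE hr
  have hE1 : E ≠ ⊥ := fun e => ht (SD.eq_of_right_bot (e ▸ hE))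
  have hc := SD.isComplement' hE
  exact ⟨ht, E, hc, (isFrobeniusComplement_iff_fpf hc h1 hE1).2 hr, hr,
    nil_of_semireg h h1 hE.norm hr⟩

theorem nil_quotient_of_compl {K E : Subgroup G} [K.Normal] (hc : IsComplement' K E) (hE : Nil E) :
    Group.IsNilpotent (G ⧸ K) := by
  have : E.map (QuotientGroup.mk' K) = ⊤ := by
    rw [eq_top_iff]
    rintro a -
    obtain ⟨g, rfl⟩ := QuotientGroup.mk'_surjective K a
    obtain ⟨⟨k, e⟩, rfl⟩ := hc.2 g
    refine ⟨e, e.2, ?_⟩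
    have : (QuotientGroup.mk' K) (k : G) = 1 := (QuotientGroup.eq_one_iff _).2 k.2
    simp only [map_mul, this, one_mul]
  exact nil_top_iff.1 (this ▸ hE.map _)

theorem cyc_of_DP [Finite G] {A B M : Subgroup G} (h : DP A B M) (hA : Cyc A) (hB : Cyc B)
    (hc : (♯A).Coprime ♯B) : Cyc M := by
  obtain ⟨a, ha, rfl⟩ := hA.exists_gen
  obtain ⟨b, hb, rfl⟩ := hB.exists_gen
  rw [card_zpowers', card_zpowers'] at hc
  have hab : a * b = b * a := (comm_of_cent h.cent hb ha).symm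
  refine (cyc_zpowers (a * b)).of_le ?_
  rw [← h.sup]
  exact sup_le (zpowers_le.2 (mem_zpowers_mul_left hab hc))
    (zpowers_le.2 (mem_zpowers_mul_right hab hc))

theorem cyc_of_semireg_odd [Finite G] {K E : Subgroup G} (hK : K ≠ ⊥) (hn : E ≤ N[K])
    (hr : Semireg K E) (hE : Nil E) (ho : ¬ 2 ∣ ♯E) : Cyc E :=
  H25.nil_Zgroup_cyclic (isZGroup_of_fpf_of_odd hK hn hr ho) hE

theorem nil_compl_structure [Finite G] {K E : Subgroup G} (hK : K ≠ ⊥) (hn : E ≤ N[K])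
    (hr : Semireg K E) (hE : Nil E) : IsCyclic E ∨ ∃ C Q : Subgroup G, C ⊔ Q = E ∧
      (∀ a ∈ C, ∀ b ∈ Q, a * b = b * a) ∧ IsCyclic C ∧ Odd (Nat.card C) ∧
      ∃ n : ℕ, Nonempty (↥Q ≃* QuaternionGroup (2 ^ n)) := by
  have hd := hE.pcoreC' {2}
  have hodd : ¬ 2 ∣ ♯O[{2}ᶜ, E] := (isPi_compl_iff Nat.prime_two).1 (pcore_pi _ _)
  have hC : Cyc O[{2}ᶜ, E] := cyc_of_semireg_odd hK ((pcore_le _ _).trans hn)
    (hr.mono le_rfl (pcore_le _ _)) (hE.of_le (pcore_le _ _)) hodd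
  rcases isCyclic_or_quaternion_of_fpf (P := O[{2}, E]) (p := 2) hK ((pcore_le _ _).trans hn)
    (hr.mono le_rfl (pcore_le _ _)) ((pcore_pi _ _).isPGroup Nat.prime_two) with h2 | ⟨-, n, h2⟩
  · exact Or.inl (cyc_of_DP hd hC h2 ((pcore_pi _ _).coprime' (pcore_pi _ _)))
  · refine Or.inr ⟨_, _, hd.sup, fun a ha b hb => (comm_of_cent hd.cent hb ha).symm, hC, ?_,
      n + 1, h2⟩
    exact Nat.odd_iff.2 (by omega)

theorem three_step [Finite G] (hs : Sol (⊤ : Subgroup G)) (h : IsCNGroup G)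
    (hnn : ¬ Group.IsNilpotent G) (h1 : fittingHall G = ⊥) :
    ∃ p : ℕ, p.Prime ∧ IsThreeStepGroup p G := by
  classical
  have hT : (⊤ : Subgroup G) ≠ ⊥ := fun e => hnn (nil_top_iff.1 (e ▸ nil_bot))
  obtain ⟨p, hp, hV1⟩ := exists_pcore_ne_bot hs hT
  set V := O[{p}, (⊤ : Subgroup G)] with hVdef
  have hVpi : IsPi {p} V := pcore_pi _ _
  have hVn : V ⊴ ⊤ := pcore_nml _ _
  obtain ⟨P, hP⟩ := Sylow_exists hp (⊤ : Subgroup G)
  have hVP : V ≤ P := pcore_le_Hall hP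
  have hPn : ¬ ⊤ ≤ N[P] := fun e => by
    have := syl_le_Fcore hp hP e
    rw [Fcore_top, h1] at this
    exact hV1 (le_bot_iff.1 (hVP.trans this))
  obtain ⟨v, hv, hv1⟩ := exists_ne_one hV1
  have hB : O[{p}ᶜ, F[(⊤ : Subgroup G)]] = ⊥ := by
    by_contra hB
    refine hPn (syl_nml_of_cent h (pcore_Fitting_nml _ _) hB hP (cents_symm fun b hb => ?_))
    refine mem_C_iff_le_C1.2 (key h (hP.pi.nil hp) hP.pi (hVP hv) hv1 ((pcore_pi _ _).piElt hb) ?_)
    exact comm_of_cent (pcore_compl_cent_pcore {p} ⊤) (pcore_Fitting_le _ _ hb) hv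
  have hF : F[(⊤ : Subgroup G)] = V := by
    have := ((Fitting_nil (⊤ : Subgroup G)).pcoreC {p}).sup
    rw [hB, sup_bot_eq, p_core_Fitting hp] at this
    exact this.symm
  have hCV : C[V] ≤ V := by
    have := cent_sub_Fitting hs
    rwa [top_inf_eq, hF] at this
  obtain ⟨D, hD⟩ := H26.Hall_exists {p}ᶜ hs
  have hVD : V ⊓ D = ⊥ := hVpi.inf_eq_bot hD.pi
  have hr : Semireg V D := semireg_iff.2 fun d hd hd1 y hy hc => by_contra fun hy1 => by
    have := key h (hVpi.nil hp) hVpi hy hy1 (hD.pi.piElt hd) hc.symm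
    have h2 : d ∈ V ⊓ D := ⟨hCV (mem_C_iff_le_C1.2 this), hd⟩
    rw [hVD] at h2
    exact hd1 h2
  have hDV : D ≤ N[V] := le_top.trans hVn.norm
  have hDn : Nil D := nil_of_semireg h hV1 hDV hr
  have : V.Normal := nml_top_iff.1 hVn
  set f := QuotientGroup.mk' V with hf
  have hfs : Function.Surjective f := QuotientGroup.mk'_surjective V
  have hker : ∀ g, f g = 1 ↔ g ∈ V := fun g => QuotientGroup.eq_one_iff g
  have hq : IsCNGroup (G ⧸ V) := cn_quotient h V (hVpi.sol hp)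
  have hmt : (⊤ : Subgroup G).map f = ⊤ := map_top_of_surjective f hfs
  have hsq : Sol (⊤ : Subgroup (G ⧸ V)) := hmt ▸ hs.map f
  have hPq : Syl p ⊤ (P.map f) := hmt ▸ hP.map f
  have hDq : Hall {p}ᶜ ⊤ (D.map f) := hmt ▸ hD.map f
  -- a normal `p`-subgroup of the quotient is trivial
  have hOq : ∀ X : Subgroup (G ⧸ V), IsPi {p} X → X ⊴ ⊤ → X = ⊥ := by
    intro X hX hXn
    have : X.Normal := nml_top_iff.1 hXn
    have h2 : IsPi {p} (X.comap f) := isPi_iff_piElt.2 fun g hg => by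
      obtain ⟨k, hk⟩ := (hX.piElt hg).exists_pow hp
      have h3 : g ^ p ^ k ∈ V := (hker _).1 (by rw [map_pow, ← hk, pow_orderOf_eq_one])
      obtain ⟨l, hl⟩ := (hVpi.piElt h3).exists_pow hp
      refine piElt_of_pow_eq_one (piNat_self_pow hp (k + l)) ?_
      rw [pow_add, pow_mul, ← hl, pow_orderOf_eq_one]
    have h3 : X.comap f ≤ V := pcore_max h2 (nml_top _)
    rw [eq_bot_iff]
    intro a ha
    obtain ⟨g, rfl⟩ := hfs a
    exact (hker g).2 (h3 ha)
  have hPq1 : P.map f ≠ ⊥ := fun e => by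
    have : P = V := le_antisymm (fun g hg => (hker g).1 (by
      have : f g ∈ P.map f := mem_map_of_mem f hg
      rwa [e] at this)) hVP
    exact hPn (this ▸ hVn.norm)
  have hqnn : ¬ Nil (⊤ : Subgroup (G ⧸ V)) := fun e => hPq1 (hOq _ hPq.pi (e.hall_nml hPq))
  set Fq := F[(⊤ : Subgroup (G ⧸ V))] with hFq
  have hFn : Fq ⊴ ⊤ := Fitting_nml _
  have hF1 : Fq ≠ ⊥ := Fitting_ne_bot hsq (fun e => hqnn (e ▸ nil_bot))
  have hFpi : IsPi {p}ᶜ Fq := by
    have := ((Fitting_nil (⊤ : Subgroup (G ⧸ V))).pcoreC {p}).sup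
    rw [hOq _ (pcore_pi _ _) (pcore_Fitting_nml _ _), bot_sup_eq] at this
    exact isPi_of_pcore_eq this
  have hFD : Fq ≤ D.map f := hDq.nml_le hFpi hFn
  set A := D ⊓ Fq.comap f with hA
  have hAm : A.map f = Fq := le_antisymm (map_le_iff_le_comap.2 inf_le_right) fun a ha => by
    obtain ⟨d, hd, rfl⟩ := hFD ha
    exact ⟨d, ⟨hd, ha⟩, rfl⟩
  have hinj : ∀ d ∈ D, f d = 1 → d = 1 := fun d hd e => by
    have : d ∈ V ⊓ D := ⟨(hker d).1 e, hd⟩
    rwa [hVD] at this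
  have hAodd : ¬ 2 ∣ ♯A := by
    intro h2
    obtain ⟨a, ha, ho⟩ := exists_orderOf_eq Nat.prime_two h2
    have ha1 : a ≠ 1 := fun e => by simp [e] at ho
    have ha2 : a ^ 2 = 1 := ho ▸ pow_orderOf_eq_one a
    have hU := uniqueOrderP_of_fpf (P := O[{2}, D]) (p := 2) hV1 ((pcore_le _ _).trans hDV)
      (hr.mono le_rfl (pcore_le _ _)) ((pcore_pi _ _).isPGroup Nat.prime_two)
    have hmem : ∀ b ∈ D, b ^ 2 = 1 → b ∈ O[{2}, D] := fun b hb e =>
      hDn.mem_pcore (piElt_of_pow_eq_one (piNat_self Nat.prime_two) e) hb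
    refine hqnn ((nil_C1 hq (x := f a) fun e => ha1 (hinj a ha.1 e)).of_le fun g _ => ?_)
    have hc : g * f a * g⁻¹ ∈ A.map f := by
      rw [hAm]; exact hFn.conj_mem (mem_top g) ha.2
    obtain ⟨b, hb, e⟩ := hc
    have hb2 : b ^ 2 = 1 := hinj _ (pow_mem hb.1 2) (by
      rw [map_pow, e, conj_pow, ← map_pow, ha2]; simp)
    have hz := hU ⟨a, hmem a ha.1 ha2⟩ ⟨b, hmem b hb.1 hb2⟩ (fun e => ha1 (congrArg Subtype.val e))
      (Subtype.ext ha2) (Subtype.ext hb2)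
    have hz' : b ∈ zpowers a := by
      obtain ⟨k, hk⟩ := hz
      exact ⟨k, congrArg Subtype.val hk⟩
    rw [mem_zpowers_iff_mem_range_orderOf, ho] at hz'
    simp only [Finset.mem_image, Finset.mem_range] at hz'
    obtain ⟨k, hk, rfl⟩ := hz'
    interval_cases k
    · exfalso
      simp only [pow_zero, map_one] at e
      exact ha1 (hinj a ha.1 (conj_eq_one_iff'.1 e.symm))
    · rw [pow_one] at e
      exact mem_C1_iff_conj.2 e.symm
  have hAc : Cyc A := cyc_of_semireg_odd hV1 (inf_le_left.trans hDV) (hr.mono le_rfl inf_le_left)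
    (hDn.of_le inf_le_left) hAodd
  have hFc : Cyc Fq := hAm ▸ hAc.map f
  have hCF : ∀ a ∈ Fq, a ≠ 1 → C{a} ≤ Fq := fun a ha ha1 => by
    have h2 : zpowers a ⊴ ⊤ := ⟨le_top, H25.cyc_norm hFc (zpowers_le.2 ha) hFn.norm⟩
    refine Fitting_max ⟨le_top, ?_⟩ (nil_C1 hq ha1)
    rw [← C_zpowers]; exact norm_C h2.norm
  have hDF : D.map f ≤ Fq := by
    obtain ⟨a, ha, ha1⟩ := exists_ne_one ((hDn.map f).inf_C_ne_bot (hFn.of_le hFD le_top) hF1)
    exact (mem_C_iff_le_C1.1 ha.2).trans (hCF a ha.1 ha1)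
  have hAD : A = D := inf_eq_left.2 (map_le_iff_le_comap.1 hDF)
  have hsup : V ⊔ D = Fq.comap f := by
    rw [← hAm, hAD, comap_map_eq, QuotientGroup.ker_mk', sup_comm]
  have : Fq.Normal := nml_top_iff.1 hFn
  refine ⟨p, hp, ?_⟩
  unfold IsThreeStepGroup
  rw [← pcore_singleton_top hp, ← hVdef]
  refine ⟨hV1, D, fun e => hF1 ?_, hAD ▸ hAc, ?_, ?_, ?_, fun e => ?_, ?_, hr, ?_⟩
  · rw [← hAm, hAD, e, Subgroup.map_bot]
  · rw [hAD] at hAodd; exact Nat.odd_iff.2 (by omega)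
  · exact ((piNat_compl_iff_coprime hp).1 hD.pi).symm
  · rw [hsup]; infer_instance
  · have : Fq = ⊤ := by
      rw [eq_top_iff]; intro a _
      obtain ⟨g, rfl⟩ := hfs a
      have : g ∈ Fq.comap f := by rw [← hsup, e]; trivial
      exact this
    exact hqnn (this ▸ Fitting_nil _)
  · have := hD.idx_of_ge (L := V ⊔ D) le_sup_right
    rw [compl_compl, relIndex_top_right] at this
    exact (piNat_singleton hp index_ne_zero_of_finite).1 this
  · intro x hx a ha ha1 hm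
    refine hx ?_
    rw [hsup]
    refine hCF (f a) (hDF (mem_map_of_mem f ha)) (fun e => ha1 (hinj a ha e)) (mem_C1.2 ?_)
    have := (hker _).2 hm
    simp only [map_mul, map_inv] at this
    calc f x * f a = (f x * f a * (f x)⁻¹ * (f a)⁻¹) * (f a * f x) := by group
      _ = f a * f x := by rw [this, one_mul]

theorem two_primes [Finite G] (hs : Sol (⊤ : Subgroup G))
    (h : ∀ g : G, IsPrimePow (orderOf g) ∨ g = 1) : (Nat.card G).primeFactors.card ≤ 2 := by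
  have hcomm : ∀ x y : G, x ≠ 1 → y ≠ 1 → x * y = y * x → ¬ (orderOf x).Coprime (orderOf y) := by
    intro x y hx hy hc hcop
    have ho := (show Commute x y from hc).orderOf_mul_eq_mul_orderOf_of_coprime hcop
    rcases h (x * y) with h1 | h1
    · rw [ho] at h1
      rcases (hcop.isPrimePow_dvd_mul h1).1 dvd_rfl with h2 | h2
      · have := Nat.le_of_dvd (orderOf_pos x) h2
        have h3 : 1 < orderOf y := by
          have := orderOf_pos y; have : orderOf y ≠ 1 := by simpa using hy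
          omega
        nlinarith [orderOf_pos x]
      · have := Nat.le_of_dvd (orderOf_pos y) h2
        have h3 : 1 < orderOf x := by
          have := orderOf_pos x; have : orderOf x ≠ 1 := by simpa using hx
          omega
        nlinarith [orderOf_pos y]
    · rw [h1, orderOf_one] at ho
      exact hx (orderOf_eq_one_iff.1 (Nat.eq_one_of_mul_eq_one_right ho.symm))
  by_cases hT : (⊤ : Subgroup G) = ⊥
  · have : Nat.card G = 1 := by rw [← card_top, hT, card_bot]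
    simp [this]
  obtain ⟨p, hp, hV1⟩ := exists_pcore_ne_bot hs hT
  obtain ⟨D, hD⟩ := H26.Hall_exists {p}ᶜ hs
  have hr : Semireg O[{p}, (⊤ : Subgroup G)] D :=
    semireg_iff.2 fun d hd hd1 y hy hc => by_contra fun hy1 =>
      hcomm y d hy1 hd1 hc (((pcore_pi _ _).piElt hy).coprime (hD.pi.piElt hd))
  have hdv : ∀ s ∈ (Nat.card G).primeFactors, s ≠ p → s ∣ ♯D := fun s hs' e =>
    hD.prime_dvd (Nat.prime_of_mem_primeFactors hs') e
      (by rw [card_top]; exact Nat.dvd_of_mem_primeFactors hs')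
  by_cases hD1 : D = ⊥
  · refine (Finset.card_le_card (t := {p}) fun s hs' => ?_).trans (by simp)
    by_contra e
    have := hdv s hs' (by simpa using e)
    rw [hD1, card_bot, Nat.dvd_one] at this
    exact (Nat.prime_of_mem_primeFactors hs').ne_one this
  obtain ⟨z, hz, hz1, hle⟩ := exists_central_of_semireg hV1 hD1 (le_top.trans (pcore_nml _ _).norm) hr
  obtain ⟨r, k, hr', -, hk⟩ := (isPrimePow_nat_iff _).1 ((h z).resolve_right hz1)
  refine (Finset.card_le_card (t := {p, r}) fun s hs' => ?_).trans Finset.card_le_two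
  by_contra e
  simp only [Finset.mem_insert, Finset.mem_singleton, not_or] at e
  have hsp := Nat.prime_of_mem_primeFactors hs'
  obtain ⟨y, hy, ho⟩ := exists_orderOf_eq hsp (hdv s hs' e.1)
  refine hcomm y z (fun e => hsp.ne_one (by simp [← ho, e])) hz1 (mem_C1.1 (hle hy)) ?_
  rw [ho, ← hk]
  exact ((Nat.coprime_primes hsp hr').2 e.2).pow_right k

section maxnil

variable [Finite G] {H : Subgroup G}

theorem C1_eq (h : IsCNGroup G) (hmax : ∀ L : Subgroup G, Nil L → H ≤ L → L = H) {z : G}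
    (hz : z ∈ C[H]) (h1 : z ≠ 1) : C{z} = H :=
  hmax _ (nil_C1 h h1) (mem_C_iff_le_C1.1 hz)

theorem exists_central_elt (hH : Nil H) {q : ℕ} (hq : q.Prime) (hd : q ∣ ♯H) :
    ∃ z ∈ O[{q}, H], z ∈ C[H] ∧ z ≠ 1 := by
  obtain ⟨z, hz, h1⟩ := exists_ne_one (hH.inf_C_ne_bot (pcore_nml {q} H)
    (hH.pcore_ne_bot hq rfl hd))
  exact ⟨z, hz.1, hz.2, h1⟩

theorem syl_pcore (h : IsCNGroup G) (hH : Nil H) (hmax : ∀ L : Subgroup G, Nil L → H ≤ L → L = H)
    {p : ℕ} (hp : p.Prime) (hd : p ∣ ♯H) : Syl p ⊤ O[{p}, H] := by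
  obtain ⟨P, hP, hle⟩ := Sylow_superset hp (pcore_pi {p} H) le_top
  suffices hPH : P ≤ H from hP.of_ge le_top (pcore_pi _ _) (hH.le_pcore hP.pi hPH)
  by_cases hπ : IsPi {p} H
  · rw [hπ.pcore_eq] at hle
    exact (hmax P (hP.pi.nil hp) hle).le
  · obtain ⟨q, hq, hqd, hqp⟩ : ∃ q, q.Prime ∧ q ∣ ♯H ∧ q ≠ p := by
      by_contra hn
      push Not at hn
      exact hπ fun q hq hqd => hn q hq hqd
    obtain ⟨z, hz, hzc, hz1⟩ := exists_central_elt hH hq hqd
    obtain ⟨x, hx, hx1⟩ := exists_ne_one (hH.pcore_ne_bot (π := {p}) hp rfl hd)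
    rw [← C1_eq h hmax hzc hz1]
    exact key h (hP.pi.nil hp) hP.pi (hle hx) hx1 (((pcore_pi _ _).compl_of_ne hqp).piElt hz)
      (mem_C'.1 hzc x (pcore_le _ _ hx))

theorem hall_maxnil (h : IsCNGroup G) (hH : Nil H)
    (hmax : ∀ L : Subgroup G, Nil L → H ≤ L → L = H) : Hall (primesOf H) ⊤ H :=
  hall_of_syl le_top (isPi_primesOf H) fun _ hp hπ _ =>
    ⟨_, syl_pcore h hH hmax hp hπ.2, pcore_le _ _⟩

theorem ti_maxnil (h : IsCNGroup G) (hH : Nil H)
    (hmax : ∀ L : Subgroup G, Nil L → H ≤ L → L = H) (hpp : ¬ IsPrimePow (♯H)) (g : G)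
    (hg : cj g H ≠ H) : H ⊓ cj g H = ⊥ := by
  by_contra hne
  obtain ⟨p, hp, hd⟩ := exists_prime_dvd_card hne
  obtain ⟨x, hx, ho⟩ := exists_orderOf_eq hp hd
  have hx1 : x ≠ 1 := fun e => hp.ne_one (by simp [← ho, e])
  have hxp : PiElt {p} x := piElt_of_orderOf_prime hp ho
  obtain ⟨q, hq, hqd, hqp⟩ : ∃ q, q.Prime ∧ q ∣ ♯H ∧ q ≠ p := by
    by_contra hn
    push Not at hn
    obtain ⟨k, hk⟩ := IsPi.card_eq_pow (H := H) hp fun q hq hqd => hn q hq hqd
    refine hpp ((isPrimePow_nat_iff _).2 ⟨p, k, hp, Nat.pos_of_ne_zero fun e => ?_, hk.symm⟩)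
    have := hd.trans (card_dvd inf_le_left)
    rw [hk, e, pow_zero, Nat.dvd_one] at this
    exact hp.ne_one this
  have hmax' : ∀ L : Subgroup G, Nil L → cj g H ≤ L → L = cj g H := fun L hL hle => by
    have := hmax _ (hL.cj g⁻¹) (cj_le_iff.1 hle)
    rw [← this, cj_cj_inv]
  have hqd' : q ∣ ♯(cj g H) := by rwa [card_cj]
  have hle : ∀ K : Subgroup G, Nil K → x ∈ K → O[{q}, K] ≤ C{x} := fun K hK hxK y hy =>
    mem_C1.2 (hK.comm_of_coprime (pcore_le _ _ hy) hxK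
      (((pcore_pi _ _).piElt hy).coprime (PiNat.compl_of_ne hxp (Ne.symm hqp))))
  have e1 := (nil_C1 h hx1).hall_eq_pcore
    ((syl_pcore h hH hmax hq hqd).of_le (hle H hH hx.1) le_top)
  have e2 := (nil_C1 h hx1).hall_eq_pcore
    ((syl_pcore h (hH.cj g) hmax' hq hqd').of_le (hle _ (hH.cj g) hx.2) le_top)
  obtain ⟨z, hz, hzc, hz1⟩ := exists_central_elt hH hq hqd
  have hz2 : z ∈ C[cj g H] := by
    rw [(hH.cj g).C_eq {q}]
    refine ⟨?_, ?_⟩
    · rw [e2, ← e1]; exact C_anti (pcore_le _ _) hzc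
    · refine pcore_cent_pcore_compl {q} _ ?_
      rw [e2, ← e1]; exact hz
  exact hg ((C1_eq h hmax' hz2 hz1).symm.trans (C1_eq h hmax hzc hz1))

theorem cent_le_maxnil (h : IsCNGroup G) (hH : Nil H)
    (hmax : ∀ L : Subgroup G, Nil L → H ≤ L → L = H) (hti : ∀ g, cj g H ≠ H → H ⊓ cj g H = ⊥)
    {x : G} (hx : x ∈ H) (hx1 : x ≠ 1) : C{x} ≤ H := by
  have hN : C{x} ≤ N[H] := fun c hc => mem_N_iff_cj.2 (by_contra fun hne => by
    have : x ∈ H ⊓ cj c H := ⟨hx, mem_C1_iff_conj.1 hc ▸ conj_mem_cj c hx⟩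
    rw [hti c hne] at this
    exact hx1 this)
  intro y hy
  refine mem_of_constt_mem fun s hs _ => ?_
  have hy' : constt {s} y ∈ C{x} := constt_mem _ hy
  have hall := hall_maxnil h hH hmax
  by_cases e : s ∈ primesOf H
  · exact (hall.of_le (norm_self H) le_top).mem_of_nml le_rfl ((piElt_constt _ _).of_mem e) (hN hy')
  · have hle := key h hH hall.pi hx hx1 (π := primesOf H) ((piElt_constt {s} y).of_mem e)
      (mem_C1.1 hy')
    obtain ⟨z, hz, hz1⟩ := exists_ne_one (hH.center_ne_bot (ne_bot_of_mem hx hx1))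
    rw [← C1_eq h hmax hz.2 hz1]
    exact mem_C1_comm.1 (hle hz.1)

end maxnil

end H2.CN
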