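import Mathlib
import Cfsg.Agent.H2.FpfAction
import Cfsg.Agent.H4.Frobenius

/-! Consequences of Frobenius' theorem on the kernel. -/

set_option autoImplicit false

namespace H2
open Cfsg Subgroup
open scoped Pointwise

variable {G : Type*} [Group G]

theorem Malnormal.exists_kernel [Finite G] {H : Subgroup G} (hH : Malnormal H) :
    ∃ K : Subgroup G, K.Normal ∧ IsComplement' K H ∧ (K : Set G) = frobeniusKernel H ∧
      ∀ h ∈ H, h ≠ 1 → K ⊓ centralizer {h} = ⊥ := by
  obtain ⟨K, hK, -, -, -, hc⟩ := H4.frobenius_kernel H fun g hg x hx hx' => by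
    by_contra h1
    exact hg (hH g x hx h1 hx')
  exact ⟨K, hK, hc, hH.coe_eq_kernel hc, (malnormal_iff_fpf hc).mp hH⟩

theorem IsFrobeniusComplement.center_ne_bot [Finite G] {H : Subgroup G}
    (hH : IsFrobeniusComplement H) : center H ≠ ⊥ := by
  obtain ⟨K, hK, hc, -, hf⟩ := (IsFrobeniusComplement.malnormal hH).exists_kernel
  refine center_ne_bot_of_fpf (K := K) (fun e => hH.2.1 ?_) hH.1 le_normalizer_of_normal hf
  rw [e] at hc
  exact isComplement'_bot_left.mp hc

theorem IsFrobeniusComplement.eq_of_le [Finite G] {H H₀ : Subgroup G}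
    (hH : IsFrobeniusComplement H) (hH₀ : IsFrobeniusComplement H₀) (hle : H₀ ≤ H) : H₀ = H := by
  by_contra hne
  refine IsFrobeniusComplement.center_ne_bot hH
    (((IsFrobeniusComplement.malnormal hH₀).subgroupOf H).center_eq_bot (fun e => hH₀.1 ?_)
      fun e => hne (le_antisymm hle (subgroupOf_eq_top.mp e)))
  rw [subgroupOf_eq_bot, disjoint_iff, inf_eq_left.mpr hle] at e
  exact e

/-- All Frobenius complements are conjugate. -/
theorem IsFrobeniusComplement.exists_conj_eq [Finite G] {H H₀ : Subgroup G}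
    (hH : IsFrobeniusComplement H) (hH₀ : IsFrobeniusComplement H₀) :
    ∃ g : G, MulAut.conj g • H₀ = H := by
  rcases le_total (Nat.card H₀) (Nat.card H) with h | h
  · obtain ⟨g, hg⟩ := exists_conj_le_of_le_conj ((IsFrobeniusComplement.malnormal
      hH).exists_le_conj_of_card_le (IsFrobeniusComplement.malnormal hH₀) h)
    exact ⟨g, IsFrobeniusComplement.eq_of_le hH (IsFrobeniusComplement.conj hH₀ g) hg⟩
  · obtain ⟨g, hg⟩ := (IsFrobeniusComplement.malnormal
      hH₀).exists_le_conj_of_card_le (IsFrobeniusComplement.malnormal hH) h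
    exact ⟨g, (IsFrobeniusComplement.eq_of_le (IsFrobeniusComplement.conj hH₀ g) hH hg).symm⟩

/-- the automorphism of `K` induced by an element of prime order acting fixed-point-freely -/
theorem exists_fpf_aut_of_prime {K : Subgroup G} {s : G} {p : ℕ} (hp : p.Prime) (hK : K ≠ ⊥)
    (hs : s ∈ normalizer (K : Set G)) (hsp : orderOf s = p) (hf : K ⊓ centralizer {s} = ⊥) :
    ∃ φ : K ≃* K, MonoidHom.FixedPointFree (φ : K →* K) ∧ orderOf φ = p := by
  let φ : MulAut K := K.normalizerMonoidHom ⟨s, hs⟩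
  have hφ : ∀ k : K, (φ k : G) = s * k * s⁻¹ := fun k => rfl
  have h1 : MonoidHom.FixedPointFree (φ : K →* K) := fun k hk => by
    have : (k : G) ∈ K ⊓ centralizer {s} := ⟨k.2, mem_centralizer_singleton_iff.mpr (by
      rw [← mul_inv_eq_iff_eq_mul.mp ((hφ k).symm.trans (congrArg Subtype.val hk))])⟩
    rw [hf, mem_bot] at this
    exact Subtype.ext this
  refine ⟨φ, h1, ?_⟩
  have : Fact p.Prime := ⟨hp⟩
  refine orderOf_eq_prime ?_ fun e => ?_
  · rw [← map_pow, show (⟨s, hs⟩ : normalizer (K : Set G)) ^ p = 1 from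
      Subtype.ext (by simp [← hsp]), map_one]
  · obtain ⟨k, hk⟩ := ne_bot_iff_exists_ne_one.mp hK
    exact hk (h1 k (by rw [e]; rfl))

end H2
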