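import Mathlib
import Cfsg.Agent.H27.PF2
import Cfsg.Agent.H24.Base5

/-! The facts about the Dade isometry (Peterfalvi §2) used in §7. -/

set_option autoImplicit false

namespace H2
open Cfsg H24 H27

universe u
variable {Γ : Type u} [Group Γ] [Finite Γ] {A : Set Γ} {L : Subgroup Γ} {R : Γ → Subgroup Γ}

theorem Dade_CF' (hD : DadeHypothesis A L R) {α : Γ → ℂ} (hα : α ∈ CF L) : Dade A L R α ∈ CF ⊤ :=
  Dade_mem_CF hD hα

theorem Dade_cfOn' (α : Γ → ℂ) : Dade A L R α ∈ cfOn (dadeSupp A R) := Dade_mem_cfOn A L R α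

theorem Dade_apply' (hD : DadeHypothesis A L R) {α : Γ → ℂ} (hα : α ∈ CF L) {a u : Γ} (ha : a ∈ A)
    (hu : u ∈ R a) : Dade A L R α (a * u) = α a := Dade_mul hD hα ha hu

theorem Dade_reciprocity' (hD : DadeHypothesis A L R) {α χ : Γ → ℂ} (hα : α ∈ CFon L A)
    (hχ : χ ∈ CF ⊤) : cfdot ⊤ (Dade A L R α) χ = cfdot L α (invDade A R χ) :=
  general_Dade_reciprocity hD hα hχ fun _ ha => if_pos ha

theorem invDade_CFon' (hD : DadeHypothesis A L R) {χ : Γ → ℂ}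
    (hχ : χ ∈ CF ⊤) : invDade A R χ ∈ CFon L A := by
  have h0 : invDade A R χ ∈ cfOn A := fun _ ha => if_neg ha
  refine ⟨mem_CF_of (fun x hx => h0 x fun h => hx (hD.subset h)) fun g hg x _ => ?_, h0⟩
  by_cases ha : x ∈ A
  · have ha' : g * x * g⁻¹ ∈ A := hD.conj_mem g hg x ha
    have e1 : invDade A R χ (g * x * g⁻¹) = (Nat.card (R (g * x * g⁻¹)) : ℂ)⁻¹ *
        ∑ u ∈ fs (R (g * x * g⁻¹) : Set Γ), χ (g * x * g⁻¹ * u) := if_pos ha'
    have e2 : invDade A R χ x = (Nat.card (R x) : ℂ)⁻¹ *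
        ∑ u ∈ fs (R x : Set Γ), χ (x * u) := if_pos ha
    rw [e1, e2, DadeJ hD ha hg, card_cj]
    congr 1
    have hb : Set.BijOn (fun u => g * u * g⁻¹) (R x : Set Γ) (cj g (R x) : Set Γ) := by
      refine ⟨fun u hu => conj_mem_cj g hu, fun u _ v _ e => by simpa using e, fun v hv => ?_⟩
      obtain ⟨y, hy, rfl⟩ := mem_cj'.1 hv
      exact ⟨y, hy, rfl⟩
    rw [← sum_fs_bij _ hb]
    refine sum_fs_congr fun u _ => ?_
    rw [← hχ.2 g (Subgroup.mem_top g) (x * u)]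
    congr 1; group
  · have ha' : g * x * g⁻¹ ∉ A := fun h => ha (by
      have := hD.conj_mem g⁻¹ (L.inv_mem hg) _ h
      simpa [mul_assoc] using this)
    rw [h0 _ ha, h0 _ ha']

theorem Dade_vchar' (hD : DadeHypothesis A L R) {α : Γ → ℂ} (hα : α ∈ vchar L) (hA : α ∈ cfOn A) :
    Dade A L R α ∈ vchar ⊤ := Dade_vchar hD hα hA

theorem Dade_aut' (u : ℂ →+* ℂ) (α : Γ → ℂ) :
    Dade A L R (cfAut u α) = cfAut u (Dade A L R α) := Dade_aut u A L R α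

theorem NTI_dade' (h : NTI ⊤ L A) (h1 : (1 : Γ) ∉ A) : DadeHypothesis A L (fun _ => ⊥) :=
  normedTI_Dade h h1

theorem Dade_Ind' (h : NTI ⊤ L A) (h1 : (1 : Γ) ∉ A) {α : Γ → ℂ} (hα : α ∈ CFon L A) :
    Dade A L (fun _ => ⊥) α = cfInd ⊤ L α :=
  Dade_Ind (normedTI_Dade h h1) subset_rfl h hα

end H2
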