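import Mathlib
import Cfsg.Agent.H2.PF7Dade

/-! Peterfalvi §7, (7.1)–(7.5): the inverse Dade map. -/

set_option autoImplicit false

namespace H2
open Cfsg H24 H27
open scoped ComplexConjugate

universe u
variable {Γ : Type u} [Group Γ] [Finite Γ]

section InverseDade
variable {A : Set Γ} {L : Subgroup Γ} {R : Γ → Subgroup Γ}

omit [Finite Γ] in
theorem mul_mem_dadeSupp {a u : Γ} (ha : a ∈ A) (hu : u ∈ R a) : a * u ∈ dadeSupp A R :=
  ⟨a, ha, u, hu, 1, by simp⟩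

omit [Finite Γ] in
theorem conj_mem_dadeSupp {x : Γ} (g : Γ) : g * x * g⁻¹ ∈ dadeSupp A R ↔ x ∈ dadeSupp A R :=
  ⟨fun ⟨a, ha, u, hu, y, e⟩ => ⟨a, ha, u, hu, y * g, by rw [← e]; group⟩,
    fun ⟨a, ha, u, hu, y, e⟩ => ⟨a, ha, u, hu, y * g⁻¹, by rw [← e]; group⟩⟩

omit [Finite Γ] in
theorem indicator_mem_cfOn (A : Set Γ) (φ : Γ → ℂ) : A.indicator φ ∈ cfOn A :=
  fun _ hx => Set.indicator_of_notMem hx _

omit [Finite Γ] in
theorem indicator_mem_CF {G : Subgroup Γ} {φ : Γ → ℂ} (hφ : φ ∈ CF G)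
    (hA : ∀ g ∈ G, ∀ a ∈ A, g * a * g⁻¹ ∈ A) : A.indicator φ ∈ CF G := by
  refine ⟨fun x hx => ?_, fun g hg x => ?_⟩
  · by_cases h : x ∈ A
    · rw [Set.indicator_of_mem h, CF_zero hφ hx]
    · exact Set.indicator_of_notMem h _
  · by_cases h : x ∈ A
    · rw [Set.indicator_of_mem h, Set.indicator_of_mem (hA g hg x h), CF_conj hφ hg]
    · rw [Set.indicator_of_notMem h, Set.indicator_of_notMem fun h' => h (by
        simpa [mul_assoc] using hA g⁻¹ (inv_mem hg) _ h')]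

theorem cfnorm_of_cfOn {G : Subgroup Γ} (hA : A ⊆ G) {φ : Γ → ℂ} (hφ : φ ∈ cfOn A) :
    cfnorm G φ = (♯G : ℝ)⁻¹ * ∑ x ∈ fs A, ‖φ x‖ ^ 2 := by
  rw [cfnorm, ← sum_fs_subset hA _ fun x _ hx => by simp [hφ x hx]]

theorem cfnorm_indicator {G : Subgroup Γ} (hA : A ⊆ G) (φ : Γ → ℂ) :
    cfnorm G (A.indicator φ) = (♯G : ℝ)⁻¹ * ∑ x ∈ fs A, ‖φ x‖ ^ 2 := by
  rw [cfnorm_of_cfOn hA (indicator_mem_cfOn A φ),
    sum_fs_congr fun x hx => by rw [Set.indicator_of_mem hx]]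

theorem cfnorm_indicator_one {G : Subgroup Γ} (hA : A ⊆ G) :
    cfnorm G (A.indicator 1) = (Nat.card A : ℝ) / ♯G := by
  rw [cfnorm_indicator hA]
  simp [card_fs, div_eq_inv_mul]

theorem card_top_eq : ♯(⊤ : Subgroup Γ) = Nat.card Γ := Subgroup.card_top

theorem invDade_apply (χ : Γ → ℂ) {a : Γ} (ha : a ∈ A) :
    invDade A R χ a = (♯(R a) : ℂ)⁻¹ * ∑ u ∈ fs (R a : Set Γ), χ (a * u) := if_pos ha

theorem invDade_cfOn (χ : Γ → ℂ) : invDade A R χ ∈ cfOn A := fun _ ha => if_neg ha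

theorem invDade_apply_of_const {χ : Γ → ℂ} {a : Γ} (ha : a ∈ A) {c : ℂ}
    (h : ∀ u ∈ R a, χ (a * u) = c) : invDade A R χ a = c := by
  rw [invDade_apply χ ha, sum_fs_congr h, sum_fs_const, nsmul_eq_mul]
  exact inv_mul_cancel_left₀ (cardC_ne_zero _) c

theorem invDade_congr {χ ψ : Γ → ℂ} (h : ∀ x ∈ dadeSupp A R, χ x = ψ x) :
    invDade A R χ = invDade A R ψ :=
  ext_on (invDade_cfOn χ) (invDade_cfOn ψ) fun a ha => by
    rw [invDade_apply χ ha, invDade_apply ψ ha,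
      sum_fs_congr fun u hu => h _ (mul_mem_dadeSupp ha hu)]

theorem invDade_cfOne : invDade A R (cfOne ⊤) = A.indicator 1 :=
  ext_on (invDade_cfOn _) (indicator_mem_cfOn A 1) fun a ha => by
    rw [Set.indicator_of_mem ha]
    exact invDade_apply_of_const ha fun u _ => cfOne_top_apply _

theorem invDade_aut (u : ℂ →+* ℂ) (χ : Γ → ℂ) :
    invDade A R (cfAut u χ) = cfAut u (invDade A R χ) :=
  ext_on (invDade_cfOn _) (cfAut_mem_cfOn u (invDade_cfOn _)) fun a ha => by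
    rw [cfAut_apply, invDade_apply _ ha, invDade_apply _ ha]
    simp [cfAut_apply]

variable (hD : DadeHypothesis A L R)
include hD

theorem invDade_on {χ : Γ → ℂ} (hχ : χ ∈ CF ⊤) : invDade A R χ ∈ CFon L A := invDade_CFon' hD hχ

/-- Peterfalvi (2.7). -/
theorem invDade_reciprocity {α χ : Γ → ℂ} (hα : α ∈ CFon L A) (hχ : χ ∈ CF ⊤) :
    cfdot ⊤ (Dade A L R α) χ = cfdot L α (invDade A R χ) := Dade_reciprocity' hD hα hχ

/-- Peterfalvi (7.2)(a). -/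
theorem DadeK {α : Γ → ℂ} (hα : α ∈ CFon L A) : invDade A R (Dade A L R α) = α :=
  ext_on (invDade_cfOn _) hα.2 fun _ ha =>
    invDade_apply_of_const ha fun _ hu => Dade_apply' hD hα.1 ha hu

theorem Dade_dot {α β : Γ → ℂ} (hα : α ∈ CFon L A) (hβ : β ∈ CFon L A) :
    cfdot ⊤ (Dade A L R α) (Dade A L R β) = cfdot L α β := by
  rw [invDade_reciprocity hD hα (Dade_CF' hD hβ.1), DadeK hD hβ]

theorem Dade_norm {α : Γ → ℂ} (hα : α ∈ CFon L A) : cfnorm ⊤ (Dade A L R α) = cfnorm L α :=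
  cfnorm_congr_dot (Dade_dot hD hα hα)

theorem Dade_dot_cfOne {α : Γ → ℂ} (hα : α ∈ CFon L A) :
    cfdot ⊤ (Dade A L R α) (cfOne ⊤) = cfdot L α (cfOne L) := by
  rw [invDade_reciprocity hD hα (cfOne_mem_CF _), invDade_cfOne]
  exact cfdot_congr_on hα.2 fun x hx hxL => by rw [Set.indicator_of_mem hx, cfOne_of_mem hxL]; rfl

theorem cfnorm_eq_invDade_add {χ : Γ → ℂ} (hχ : χ ∈ CF ⊤) :
    cfnorm ⊤ χ = cfnorm L (invDade A R χ) + cfnorm ⊤ (χ - Dade A L R (invDade A R χ)) := by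
  have hρ := invDade_on hD hχ
  rw [← Dade_norm hD hρ, ← cfnorm_add_orth, add_sub_cancel]
  rw [cfdot_sub_right, invDade_reciprocity hD hρ hχ, Dade_dot hD hρ hρ, sub_self]

/-- Peterfalvi (7.2)(b). -/
theorem leC_norm_invDade {χ : Γ → ℂ} (hχ : χ ∈ CF ⊤) : cfnorm L (invDade A R χ) ≤ cfnorm ⊤ χ := by
  rw [cfnorm_eq_invDade_add hD hχ]
  exact le_add_of_nonneg_right (cfnorm_nonneg _ _)

theorem norm_invDade_eq_iff {χ : Γ → ℂ} (hχ : χ ∈ CF ⊤) :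
    cfnorm L (invDade A R χ) = cfnorm ⊤ χ ↔ χ = Dade A L R (invDade A R χ) := by
  rw [cfnorm_eq_invDade_add hD hχ, left_eq_add,
    cfnorm_eq_zero_CF (sub_mem hχ (Dade_CF' hD (invDade_on hD hχ).1)), sub_eq_zero]

omit hD in
theorem indicator_dadeSupp_CF {χ : Γ → ℂ} (hχ : χ ∈ CF ⊤) : (dadeSupp A R).indicator χ ∈ CF ⊤ :=
  indicator_mem_CF hχ fun g _ _ ha => (conj_mem_dadeSupp g).mpr ha

omit hD in
theorem invDade_indicator (χ : Γ → ℂ) :
    invDade A R ((dadeSupp A R).indicator χ) = invDade A R χ :=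
  invDade_congr fun _ hx => Set.indicator_of_mem hx _

/-- Peterfalvi (7.3). -/
theorem leC_cfnorm_invDade_support {χ : Γ → ℂ} (hχ : χ ∈ CF ⊤) :
    cfnorm L (invDade A R χ) ≤ (Nat.card Γ : ℝ)⁻¹ * ∑ g ∈ fs (dadeSupp A R), ‖χ g‖ ^ 2 := by
  have := leC_norm_invDade hD (indicator_dadeSupp_CF (A := A) (R := R) hχ)
  rwa [invDade_indicator, cfnorm_indicator (G := ⊤) (fun _ _ => trivial), card_top_eq] at this

/-- the equality case of Peterfalvi (7.3). -/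
theorem cfnorm_invDade_support_eq_iff {χ : Γ → ℂ} (hχ : χ ∈ CF ⊤) :
    cfnorm L (invDade A R χ) = (Nat.card Γ : ℝ)⁻¹ * ∑ g ∈ fs (dadeSupp A R), ‖χ g‖ ^ 2 ↔
      ∀ a ∈ A, ∀ u ∈ R a, χ (a * u) = χ a := by
  have := norm_invDade_eq_iff hD (indicator_dadeSupp_CF (A := A) (R := R) hχ)
  rw [invDade_indicator, cfnorm_indicator (G := ⊤) (fun _ _ => trivial), card_top_eq] at this
  rw [this]
  have hρ := invDade_on hD hχ
  constructor
  · intro h a ha u hu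
    have h1 := congrFun h (a * u)
    have h2 := congrFun h (a * 1)
    rw [Set.indicator_of_mem (mul_mem_dadeSupp ha hu), Dade_apply' hD hρ.1 ha hu] at h1
    rw [Set.indicator_of_mem (mul_mem_dadeSupp ha (one_mem _)),
      Dade_apply' hD hρ.1 ha (one_mem _), mul_one] at h2
    rw [h1, h2]
  · intro h
    refine ext_on (indicator_mem_cfOn _ _) (Dade_cfOn' _) fun x hx => ?_
    rw [Set.indicator_of_mem hx]
    obtain ⟨a, ha, u, hu, g, e⟩ := hx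
    rw [← CF_conj hχ (Subgroup.mem_top g), ← CF_conj (Dade_CF' hD hρ.1) (Subgroup.mem_top g), e,
      Dade_apply' hD hρ.1 ha hu, h a ha u hu, invDade_apply_of_const ha (h a ha)]

theorem card_dadeSupp : (Nat.card (dadeSupp A R) : ℝ) / Nat.card Γ = Nat.card A / ♯L := by
  have := (cfnorm_invDade_support_eq_iff hD (cfOne_mem_CF ⊤)).mpr fun a _ u _ => by
    rw [cfOne_top_apply, cfOne_top_apply]
  rw [invDade_cfOne, cfnorm_indicator_one hD.subset] at this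
  rw [this]
  simp [cfOne_top_apply, card_fs, div_eq_inv_mul]

end InverseDade

theorem sum_fs_iUnion {α ι M : Type*} [Finite α] [Fintype ι] [AddCommMonoid M] (S : ι → Set α)
    (h : ∀ i j, i ≠ j → Disjoint (S i) (S j)) (f : α → M) :
    ∑ x ∈ fs (⋃ i, S i), f x = ∑ i, ∑ x ∈ fs (S i), f x := by
  classical
  rw [← Finset.sum_biUnion fun i _ j _ hij => Finset.disjoint_left.mpr fun x hi hj =>
    Set.disjoint_left.mp (h i j hij) (mem_fs.mp hi) (mem_fs.mp hj)]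
  congr 1
  ext x
  simp

theorem cfnorm_top_eq_cover {ι : Type*} [Fintype ι] (S : ι → Set Γ)
    (h : ∀ i j, i ≠ j → Disjoint (S i) (S j)) (χ : Γ → ℂ) :
    cfnorm ⊤ χ = (Nat.card Γ : ℝ)⁻¹ * ∑ g ∈ fs (⋃ i, S i)ᶜ, ‖χ g‖ ^ 2 +
      ∑ i, (Nat.card Γ : ℝ)⁻¹ * ∑ g ∈ fs (S i), ‖χ g‖ ^ 2 := by
  rw [cfnorm, card_top_eq, ← Finset.mul_sum, ← sum_fs_iUnion S h, ← mul_add,
    ← sum_fs_union disjoint_compl_left, Set.compl_union_self]
  rfl

/-- Peterfalvi (7.5). -/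
theorem Dade_cover_inequality {ι : Type*} [Fintype ι] {A : ι → Set Γ} {L : ι → Subgroup Γ}
    {R : ι → Γ → Subgroup Γ} (hD : ∀ i, DadeHypothesis (A i) (L i) (R i))
    (hdis : ∀ i j, i ≠ j → Disjoint (dadeSupp (A i) (R i)) (dadeSupp (A j) (R j)))
    {χ : Γ → ℂ} (hχ : χ ∈ CF ⊤) (h1 : cfnorm ⊤ χ = 1) :
    (Nat.card Γ : ℝ)⁻¹ * (∑ g ∈ fs (⋃ i, dadeSupp (A i) (R i))ᶜ, ‖χ g‖ ^ 2 -
        Nat.card ((⋃ i, dadeSupp (A i) (R i))ᶜ : Set Γ)) +
      ∑ i, (cfnorm (L i) (invDade (A i) (R i) χ) - Nat.card (A i) / ♯(L i)) ≤ 0 := by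
  have e1 := cfnorm_top_eq_cover _ hdis χ
  have e2 := cfnorm_top_eq_cover _ hdis (cfOne ⊤)
  simp only [cfOne_top_apply, norm_one, one_pow, sum_fs_const, nsmul_eq_mul, mul_one,
    cfnorm_cfOne] at e2
  have e3 : ∑ i, (cfnorm (L i) (invDade (A i) (R i) χ) - Nat.card (A i) / ♯(L i)) ≤
      ∑ i, ((Nat.card Γ : ℝ)⁻¹ * ∑ g ∈ fs (dadeSupp (A i) (R i)), ‖χ g‖ ^ 2 -
        (Nat.card Γ : ℝ)⁻¹ * Nat.card (dadeSupp (A i) (R i))) :=
    Finset.sum_le_sum fun i _ => sub_le_sub (leC_cfnorm_invDade_support (hD i) hχ)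
      (by rw [← card_dadeSupp (hD i), div_eq_inv_mul])
  rw [Finset.sum_sub_distrib (f := fun i => (Nat.card Γ : ℝ)⁻¹ * _)] at e3
  rw [mul_sub]
  linarith

end H2
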