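import Mathlib
import Cfsg.Agent.H2.PF7a
import Cfsg.Agent.H2.SeqInd1

/-! Peterfalvi §7, (7.7)–(7.9). -/

set_option autoImplicit false

namespace H2
open Cfsg H24 H27
open scoped ComplexConjugate

universe u
variable {Γ : Type u} [Group Γ] [Finite Γ]

omit [Finite Γ] in
theorem odd_sub (hodd : Odd (Nat.card Γ)) (L : Subgroup Γ) : Odd ♯L :=
  hodd.of_dvd_nat L.card_subgroup_dvd_card

omit [Finite Γ] [Group Γ] in
theorem conjC_add' (φ ψ : Γ → ℂ) : conjC (φ + ψ) = conjC φ + conjC ψ := map_add _ _ _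

omit [Finite Γ] [Group Γ] in
theorem conjC_sub' (φ ψ : Γ → ℂ) : conjC (φ - ψ) = conjC φ - conjC ψ := map_sub _ _ _

theorem conjC_Dade (A : Set Γ) (L : Subgroup Γ) (R : Γ → Subgroup Γ) (φ : Γ → ℂ) :
    conjC (Dade A L R φ) = Dade A L R (conjC φ) := (Dade_aut' _ φ).symm

theorem conjC_ind1 (L H : Subgroup Γ) : conjC (cfInd L H (cfOne H)) = cfInd L H (cfOne H) :=
  (cfAut_cfInd _ L H _).trans (by rw [cfAut_cfOne])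

section Dade_seqIndC1
variable {H L : Subgroup Γ} {R : Γ → Subgroup Γ}

omit [Finite Γ] in
theorem nml_of_dade (hD : DadeHypothesis ((H : Set Γ) \ {1}) L R) : H ⊴ L := by
  refine ⟨fun x hx => ?_, le_N_iff.mpr fun a ha x hx => ?_⟩ <;> by_cases h1 : x = 1
  · simp [h1]
  · exact hD.subset ⟨hx, h1⟩
  · simp [h1]
  · exact (hD.conj_mem a ha x ⟨hx, h1⟩).1

theorem card_sharp (H : Subgroup Γ) : (Nat.card ((H : Set Γ) \ {1} : Set Γ) : ℝ) = ♯H - 1 := by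
  rw [Nat.card_coe_set_eq, eq_sub_iff_add_eq]
  have := Set.ncard_sdiff_singleton_add_one (s := (H : Set Γ)) H.one_mem
  rw [← Nat.card_coe_set_eq (H : Set Γ)] at this
  exact_mod_cast this

theorem cfnorm_cfOne_sub (hH : H ≤ L) : cfnorm L (cfOne H) = (♯H : ℝ) / ♯L := by
  rw [cfnorm_of_cfOn hH (cfOne_mem_CF H).1, sum_fs_congr fun x hx => by rw [cfOne_of_mem hx]]
  simp [card_fs_subgroup, div_eq_inv_mul]

variable (hD : DadeHypothesis ((H : Set Γ) \ {1}) L R)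
include hD

theorem invDade_eq_of_dot {ξ₀ χ φ : Γ → ℂ} (h0 : ξ₀ ∈ seqIndT H L) (hχ : χ ∈ CF ⊤) (hφ : φ ∈ CF L)
    (h : ∀ ξ ∈ seqIndT H L, cfdot ⊤ (Dade ((H : Set Γ) \ {1}) L R (ξ - (ξ 1 / ξ₀ 1) • ξ₀)) χ =
      cfdot L (ξ - (ξ 1 / ξ₀ 1) • ξ₀) φ) {x : Γ} (hx : x ∈ H) (hx1 : x ≠ 1) :
    invDade ((H : Set Γ) \ {1}) R χ x = φ x := by
  have hH := nml_of_dade hD
  refine sub_eq_zero.mp (eq_zero_of_dot_seqIndT hH (ξ₀ := ξ₀) (sub_mem (invDade_on hD hχ).1 hφ)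
    (fun ξ hξ => ?_) hx hx1)
  rw [cfdot_sub_right, ← invDade_reciprocity hD (sub_mem_CFon1 hH hξ h0
    (div_mul_cancel₀ _ (seqIndT_one_ne hH.le h0)).symm) hχ, h ξ hξ, sub_self]

/-- Peterfalvi (7.7). -/
theorem invDade_seqInd_sum {ξ₀ χ : Γ → ℂ} (h0 : ξ₀ ∈ seqIndT H L) (hχ : χ ∈ CF ⊤)
    (c : (Γ → ℂ) → ℂ)
    (hc : ∀ ξ ∈ seqIndT H L,
      c ξ = cfdot ⊤ (Dade ((H : Set Γ) \ {1}) L R (ξ - (ξ 1 / ξ₀ 1) • ξ₀)) χ) :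
    (∀ x ∈ H, x ≠ 1 → invDade ((H : Set Γ) \ {1}) R χ x =
      (∑ ξ ∈ seqIndT H L, (conj (c ξ) / cfnorm L ξ) • ξ) x) ∧
    cfnorm L (invDade ((H : Set Γ) \ {1}) R χ) = ∑ ξ ∈ seqIndT H L, ‖c ξ‖ ^ 2 / cfnorm L ξ -
      ‖∑ ξ ∈ seqIndT H L, conj (c ξ) / cfnorm L ξ * ξ 1‖ ^ 2 / ♯L := by
  have hH := nml_of_dade hD
  have hdot : ∀ ζ ∈ seqIndT H L,
      cfdot L ζ (∑ ξ ∈ seqIndT H L, (conj (c ξ) / cfnorm L ξ) • ξ) = c ζ := fun ζ hζ => by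
    rw [← conj_cfdot, cfdot_sum_orth_left (φ := fun ξ => ξ) (seqIndT_orth hH) _ hζ, cfdot_self,
      div_mul_cancel₀ _ (seqIndT_normC_ne hH.le hζ), Complex.conj_conj]
  have h1 : ∀ x ∈ H, x ≠ 1 → invDade ((H : Set Γ) \ {1}) R χ x =
      (∑ ξ ∈ seqIndT H L, (conj (c ξ) / cfnorm L ξ) • ξ) x := fun x hx hx1 => by
    refine invDade_eq_of_dot hD h0 hχ (Submodule.sum_mem _ fun ξ hξ =>
      Submodule.smul_mem _ _ (seqIndT_CF hξ)) (fun ξ hξ => ?_) hx hx1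
    rw [cfdot_sub_left, cfdot_smul_left, hdot ξ hξ, hdot ξ₀ h0, hc ξ₀ h0,
      div_self (seqIndT_one_ne hH.le h0), ← hc ξ hξ]
    simp
  refine ⟨h1, ?_⟩
  rw [cfnorm_eq_sub_one hH.le (invDade_cfOn χ) (Submodule.sum_mem _ fun ξ hξ =>
    Submodule.smul_mem _ _ (seqIndT_cfOn hH hξ)) h1, cfnorm_sum_orth _ _ fun ξ hξ ζ hζ hne => by
      rw [cfdot_smul_left, cfdot_smul_right, seqIndT_orth hH ξ hξ ζ hζ hne, mul_zero, mul_zero],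
    Finset.sum_apply]
  congr 1
  refine Finset.sum_congr rfl fun ξ hξ => ?_
  have := seqIndT_norm_pos hH.le hξ
  rw [cfnorm_smul, norm_div, Complex.norm_conj, Complex.norm_real, Real.norm_of_nonneg this.le]
  field_simp

variable {ν : (Γ → ℂ) →ₗ[ℂ] (Γ → ℂ)} {ζ : Γ → ℂ}
  (hν : CohWith L ⊤ (seqIndD H L H ⊥) (Dade ((H : Set Γ) \ {1}) L R) ν)
include hν

omit hD in
theorem cohC1_vchar {ξ : Γ → ℂ} (hξ : ξ ∈ seqIndD H L H ⊥) : ν ξ ∈ vchar ⊤ :=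
  hν.isom.vchar ξ (mem_zsp_of_mem hξ)

omit hD in
theorem cohC1_dot {ξ φ : Γ → ℂ} (hξ : ξ ∈ seqIndD H L H ⊥) (hφ : φ ∈ seqIndD H L H ⊥) :
    cfdot ⊤ (ν ξ) (ν φ) = cfdot L ξ φ := hν.isom.dot ξ (mem_zsp_of_mem hξ) φ (mem_zsp_of_mem hφ)

omit hD in
theorem cohC1_dirr (hζ : ζ ∈ Irr L) (hζS : ζ ∈ seqIndD H L H ⊥) : IsDirr ⊤ (ν ζ) :=
  vchar_norm_one (cohC1_vchar hν hζS)
    (cfnorm_eq_one_iff.mpr ((cohC1_dot hν hζS hζS).trans (irr_dot_self hζ)))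

theorem cohC1_sub (hζS : ζ ∈ seqIndD H L H ⊥) (hζ1 : ζ 1 = H.relIndex L) {ξ : Γ → ℂ}
    (hξ : ξ ∈ seqIndD H L H ⊥) :
    Dade ((H : Set Γ) \ {1}) L R (ξ - (ξ 1 / H.relIndex L) • ζ) =
      ν ξ - (ξ 1 / H.relIndex L) • ν ζ := by
  obtain ⟨d, -, hd⟩ := seqIndT_one (nml_of_dade hD).le (seqIndC1_sub hξ)
  rw [hd, mul_div_cancel_right₀ _ (relIndexC_ne_zero H L), ← map_smul, ← map_sub]
  exact (hν.ext _ (sub_mem_zsp0 (mem_zsp_of_mem hξ) (natCast_smul_mem d (mem_zsp_of_mem hζS))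
    (by simp [hd, hζ1]))).symm

/-- Peterfalvi (7.8)(a), first part: `S^ν ⊥ 1_G`. -/
theorem Dade_Ind1_orth1 (hS : 1 < (seqIndD H L H ⊥).card) (hζ : ζ ∈ Irr L)
    (hζS : ζ ∈ seqIndD H L H ⊥) (hζ1 : ζ 1 = H.relIndex L) {ξ : Γ → ℂ}
    (hξ : ξ ∈ seqIndD H L H ⊥) : cfdot ⊤ (ν ξ) (cfOne ⊤) = 0 := by
  have hH := nml_of_dade hD
  have key : ∀ ξ ∈ seqIndD H L H ⊥, cfdot ⊤ (ν ξ) (cfOne ⊤) =
      (ξ 1 / H.relIndex L) * cfdot ⊤ (ν ζ) (cfOne ⊤) := fun ξ hξ => by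
    have := Dade_dot_cfOne hD (sub_mem_CFon1 hH (seqIndC1_sub hξ) (seqIndC1_sub hζS)
      (c := ξ 1 / H.relIndex L) (by rw [hζ1, div_mul_cancel₀ _ (relIndexC_ne_zero H L)]))
    rw [cohC1_sub hD hν hζS hζ1 hξ, cfdot_sub_left, cfdot_sub_left, cfdot_smul_left,
      cfdot_smul_left, seqIndC1_dot_cfOne hH.le hξ, seqIndC1_dot_cfOne hH.le hζS] at this
    linear_combination this
  suffices h : cfdot ⊤ (ν ζ) (cfOne ⊤) = 0 by rw [key ξ hξ, h, mul_zero]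
  obtain ⟨φ, hφ, hne⟩ := Finset.exists_mem_ne hS ζ
  have h1 : cfdot ⊤ (ν φ) (ν ζ) = 0 := by
    rw [cohC1_dot hν hφ hζS, seqIndC1_orth hH φ hφ ζ hζS hne]
  have h2 : φ 1 / H.relIndex L ≠ 0 :=
    div_ne_zero (seqIndT_one_ne hH.le (seqIndC1_sub hφ)) (relIndexC_ne_zero H L)
  rcases (cohC1_dirr hν hζ hζS).cases (irr_dirr (cfOne_mem_Irr ⊤)) with h | h | h
  · rw [h, key φ hφ] at h1
    exact (mul_eq_zero.mp h1).resolve_left h2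
  · rw [h, cfdot_neg_right, neg_eq_zero, key φ hφ] at h1
    exact (mul_eq_zero.mp h1).resolve_left h2
  · exact h

omit hν in
theorem Ind1_sub_CFon (hζS : ζ ∈ seqIndD H L H ⊥) (hζ1 : ζ 1 = H.relIndex L) :
    cfInd L H (cfOne H) - ζ ∈ CFon L ((H : Set Γ) \ {1}) := by
  have hH := nml_of_dade hD
  simpa using sub_mem_CFon1 hH (ind1_mem_seqIndT H L) (seqIndC1_sub hζS) (c := 1)
    (by rw [ind1_apply_one hH.le, hζ1, one_mul])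

omit hν in
theorem Dade_Ind1_dot_cfOne (hζS : ζ ∈ seqIndD H L H ⊥) (hζ1 : ζ 1 = H.relIndex L) :
    cfdot ⊤ (Dade ((H : Set Γ) \ {1}) L R (cfInd L H (cfOne H) - ζ)) (cfOne ⊤) = 1 := by
  have hH := nml_of_dade hD
  rw [Dade_dot_cfOne hD (Ind1_sub_CFon hD hζS hζ1), cfdot_sub_left, ind1_dot_cfOne hH.le,
    seqIndC1_dot_cfOne hH.le hζS, sub_zero]

omit hν in
theorem Dade_Ind1_vchar (hζS : ζ ∈ seqIndD H L H ⊥) (hζ1 : ζ 1 = H.relIndex L) :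
    Dade ((H : Set Γ) \ {1}) L R (cfInd L H (cfOne H) - ζ) ∈ vchar ⊤ := by
  have hH := nml_of_dade hD
  exact Dade_vchar' hD (sub_mem (seqIndT_char hH.le (ind1_mem_seqIndT H L)).vchar
    (seqIndT_char hH.le (seqIndC1_sub hζS)).vchar) (Ind1_sub_CFon hD hζS hζ1).2

omit hν in
theorem Dade_Ind1_norm (hζ : ζ ∈ Irr L) (hζS : ζ ∈ seqIndD H L H ⊥) (hζ1 : ζ 1 = H.relIndex L) :
    cfnorm ⊤ (Dade ((H : Set Γ) \ {1}) L R (cfInd L H (cfOne H) - ζ)) = H.relIndex L + 1 := by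
  have hH := nml_of_dade hD
  rw [Dade_norm hD (Ind1_sub_CFon hD hζS hζ1),
    cfnorm_sub_orth (cfdot_symm_zero (seqIndC1_dot_ind1 hH hζS)), ind1_norm hH, irr_norm hζ]

/-- the inner products of `β` with `S^ν`. -/
theorem Dade_Ind1_dot (hζ : ζ ∈ Irr L) (hζS : ζ ∈ seqIndD H L H ⊥) (hζ1 : ζ 1 = H.relIndex L)
    {a : ℤ} (ha : cfdot ⊤ (Dade ((H : Set Γ) \ {1}) L R (cfInd L H (cfOne H) - ζ)) (ν ζ) = a - 1)
    {ξ : Γ → ℂ} (hξ : ξ ∈ seqIndD H L H ⊥) :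
    cfdot ⊤ (Dade ((H : Set Γ) \ {1}) L R (cfInd L H (cfOne H) - ζ)) (ν ξ) =
      a * (ξ 1 / H.relIndex L) - cfdot L ζ ξ := by
  have hH := nml_of_dade hD
  have := Dade_dot hD (Ind1_sub_CFon hD hζS hζ1) (sub_mem_CFon1 hH (seqIndC1_sub hξ)
    (seqIndC1_sub hζS) (c := ξ 1 / H.relIndex L)
    (by rw [hζ1, div_mul_cancel₀ _ (relIndexC_ne_zero H L)]))
  rw [cohC1_sub hD hν hζS hζ1 hξ, cfdot_sub_right, cfdot_smul_right, ha, cfdot_sub_right,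
    cfdot_smul_right, cfdot_sub_left, cfdot_sub_left, cfdot_symm_zero (seqIndC1_dot_ind1 hH hξ),
    cfdot_symm_zero (seqIndC1_dot_ind1 hH hζS), irr_dot_self hζ, map_div₀,
    vchar_conj_one (seqIndT_char hH.le (seqIndC1_sub hξ)).vchar, Complex.conj_natCast] at this
  linear_combination this

theorem sumS_dot {ξ : Γ → ℂ} (hξ : ξ ∈ seqIndD H L H ⊥) :
    cfdot ⊤ (∑ φ ∈ seqIndD H L H ⊥, (φ 1 / H.relIndex L / cfnorm L φ) • ν φ) (ν ξ) =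
      ξ 1 / H.relIndex L := by
  have hH := nml_of_dade hD
  rw [cfdot_sum_orth_left (φ := fun φ => ν φ) (fun φ h1 ψ h2 hne => by
    rw [cohC1_dot hν h1 h2, seqIndC1_orth hH φ h1 ψ h2 hne]) _ hξ, cohC1_dot hν hξ hξ,
    cfdot_self, div_mul_cancel₀ _ (seqIndT_normC_ne hH.le (seqIndC1_sub hξ))]

theorem sumS_norm :
    cfnorm ⊤ (∑ φ ∈ seqIndD H L H ⊥, (φ 1 / H.relIndex L / cfnorm L φ) • ν φ) =
      (♯H - 1) / H.relIndex L := by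
  have hH := nml_of_dade hD
  have he : (H.relIndex L : ℝ) ≠ 0 := by exact_mod_cast (H27.relIndex_pos H L).ne'
  rw [cfnorm_sum_orth _ _ fun φ h1 ψ h2 hne => by
    rw [cfdot_smul_left, cfdot_smul_right, cohC1_dot hν h1 h2,
      seqIndC1_orth hH φ h1 ψ h2 hne, mul_zero, mul_zero],
    Finset.sum_congr rfl (g := fun φ => ((deg φ : ℝ) ^ 2 / cfnorm L φ) / (H.relIndex L) ^ 2)
      fun φ hφ => ?_, ← Finset.sum_div, sum_seqIndC1_square hH]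
  · field_simp
  · have := seqIndT_norm_pos hH.le (seqIndC1_sub hφ)
    rw [cfnorm_smul, hν.isom.norm (mem_zsp_of_mem hφ),
      (seqIndT_char hH.le (seqIndC1_sub hφ)).one_eq, norm_div, norm_div, Complex.norm_natCast,
      Complex.norm_natCast, Complex.norm_real, Real.norm_of_nonneg this.le]
    field_simp

/-- the value of `(ζ^ν)^ρ`. -/
theorem invDade_coh_apply (hζ : ζ ∈ Irr L) (hζS : ζ ∈ seqIndD H L H ⊥) (hζ1 : ζ 1 = H.relIndex L)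
    {a : ℤ} (ha : cfdot ⊤ (Dade ((H : Set Γ) \ {1}) L R (cfInd L H (cfOne H) - ζ)) (ν ζ) = a - 1)
    {x : Γ} (hx : x ∈ H) (hx1 : x ≠ 1) : invDade ((H : Set Γ) \ {1}) R (ν ζ) x = ζ x + a := by
  have hH := nml_of_dade hD
  have he := relIndexC_ne_zero H L
  rw [invDade_eq_of_dot hD (ind1_mem_seqIndT H L) (vchar_CF (cohC1_vchar hν hζS))
    (φ := ζ + (a : ℂ) • cfOne L) (add_mem (irr_CF hζ) (Submodule.smul_mem _ _ (cfOne_mem_CF L)))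
    (fun ξ hξ => ?_) hx hx1]
  · simp [cfOne_of_mem (hH.le hx)]
  rw [ind1_apply_one hH.le]
  rcases seqIndT_cases hξ with rfl | hξ
  · rw [ind1_apply_one hH.le, div_self he]; simp
  rw [show ξ - (ξ 1 / H.relIndex L) • cfInd L H (cfOne H) = (ξ - (ξ 1 / H.relIndex L) • ζ) -
    (ξ 1 / H.relIndex L) • (cfInd L H (cfOne H) - ζ) by rw [smul_sub]; abel, map_sub, map_smul,
    cohC1_sub hD hν hζS hζ1 hξ]
  simp only [cfdot_sub_left, cfdot_smul_left, cfdot_add_right, cfdot_smul_right, ha,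
    cohC1_dot hν hξ hζS, cohC1_dot hν hζS hζS, irr_dot_self hζ, ind1_dot_cfOne hH.le,
    seqIndC1_dot_cfOne hH.le hξ, seqIndC1_dot_cfOne hH.le hζS,
    cfdot_symm_zero (seqIndC1_dot_ind1 hH hζS), map_intCast]
  ring

theorem invDade_coh_norm (hζ : ζ ∈ Irr L) (hζS : ζ ∈ seqIndD H L H ⊥) (hζ1 : ζ 1 = H.relIndex L)
    {a : ℤ} (ha : cfdot ⊤ (Dade ((H : Set Γ) \ {1}) L R (cfInd L H (cfOne H) - ζ)) (ν ζ) = a - 1) :
    cfnorm L (invDade ((H : Set Γ) \ {1}) R (ν ζ)) = 1 - H.relIndex L / ♯H +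
      a * (a * (♯H - 1) - 2 * H.relIndex L) / (H.relIndex L * ♯H) := by
  have hH := nml_of_dade hD
  have he : (H.relIndex L : ℝ) ≠ 0 := by exact_mod_cast (H27.relIndex_pos H L).ne'
  have hh := (cardR_pos H).ne'
  have h0 : cfdot L ζ (cfOne H) = 0 := by
    have := seqIndC1_dot_ind1 hH hζS
    rw [cfInd_cfOne_nml hH, cfdot_smul_right, Complex.conj_natCast] at this
    exact (mul_eq_zero.mp this).resolve_left (relIndexC_ne_zero H L)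
  rw [cfnorm_eq_sub_one hH.le (invDade_cfOn _) (φ := ζ + (a : ℂ) • cfOne H)
    (add_mem (seqIndT_cfOn hH (seqIndC1_sub hζS)) (Submodule.smul_mem _ _ (cfOne_mem_CF H).1))
    fun x hx hx1 => by rw [invDade_coh_apply hD hν hζ hζS hζ1 ha hx hx1]; simp [cfOne_of_mem hx],
    cfnorm_add_orth (by rw [cfdot_smul_right, h0, mul_zero]), irr_norm hζ, cfnorm_intCast_smul,
    cfnorm_cfOne_sub hH.le, card_eq_mul_relIndex hH.le]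
  have : (ζ + (a : ℂ) • cfOne H) 1 = ((H.relIndex L + a : ℝ) : ℂ) := by simp [hζ1]
  rw [this, Complex.norm_real, Real.norm_eq_abs, sq_abs]
  push_cast
  field_simp
  ring

/-- Peterfalvi (7.8)(a),(b), with the exact values of the norms. -/
theorem Dade_Ind1_decomp (hS : 1 < (seqIndD H L H ⊥).card) (hζ : ζ ∈ Irr L)
    (hζS : ζ ∈ seqIndD H L H ⊥) (hζ1 : ζ 1 = H.relIndex L) :
    ∃ (a : ℤ) (γ : Γ → ℂ), γ ∈ CF ⊤ ∧ (∀ ξ ∈ seqIndD H L H ⊥, cfdot ⊤ γ (ν ξ) = 0) ∧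
      cfdot ⊤ γ (cfOne ⊤) = 0 ∧
      cfdot ⊤ (Dade ((H : Set Γ) \ {1}) L R (cfInd L H (cfOne H) - ζ)) (ν ζ) = a - 1 ∧
      Dade ((H : Set Γ) \ {1}) L R (cfInd L H (cfOne H) - ζ) = cfOne ⊤ - ν ζ +
        (a : ℂ) • ∑ φ ∈ seqIndD H L H ⊥, (φ 1 / H.relIndex L / cfnorm L φ) • ν φ + γ ∧
      cfnorm ⊤ γ = H.relIndex L - 1 - a * (a * (♯H - 1) - 2 * H.relIndex L) / H.relIndex L := by
  have hH := nml_of_dade hD
  have hβ := Dade_Ind1_vchar hD hζS hζ1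
  obtain ⟨n, hn⟩ := vchar_dot_int hβ (cohC1_vchar hν hζS)
  have ha : cfdot ⊤ (Dade ((H : Set Γ) \ {1}) L R (cfInd L H (cfOne H) - ζ)) (ν ζ) =
      (n + 1 : ℤ) - 1 := by rw [hn]; push_cast; ring
  have hdot := fun ξ hξ => Dade_Ind1_dot hD hν hζ hζS hζ1 ha (ξ := ξ) hξ
  have ho := fun ξ hξ => Dade_Ind1_orth1 hD hν hS hζ hζS hζ1 (ξ := ξ) hξ
  have hnorm := Dade_Ind1_norm hD hζ hζS hζ1
  have h1 := Dade_Ind1_dot_cfOne hD hζS hζ1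
  have hσ := fun ξ hξ => sumS_dot hD hν (ξ := ξ) hξ
  have hσn := sumS_norm hD hν
  have hσCF : ∑ φ ∈ seqIndD H L H ⊥, (φ 1 / H.relIndex L / cfnorm L φ) • ν φ ∈ CF ⊤ :=
    Submodule.sum_mem _ fun φ hφ => Submodule.smul_mem _ _ (vchar_CF (cohC1_vchar hν hφ))
  have hσ1 : cfdot ⊤ (∑ φ ∈ seqIndD H L H ⊥, (φ 1 / H.relIndex L / cfnorm L φ) • ν φ)
      (cfOne ⊤) = 0 := by
    rw [cfdot_sum_left]
    exact Finset.sum_eq_zero fun φ hφ => by rw [cfdot_smul_left, ho φ hφ, mul_zero]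
  have hσγ : ∀ γ : Γ → ℂ, (∀ ξ ∈ seqIndD H L H ⊥, cfdot ⊤ γ (ν ξ) = 0) →
      cfdot ⊤ γ (∑ φ ∈ seqIndD H L H ⊥, (φ 1 / H.relIndex L / cfnorm L φ) • ν φ) = 0 :=
    fun γ hγ => by
      rw [cfdot_sum_right]
      exact Finset.sum_eq_zero fun φ hφ => by rw [cfdot_smul_right, hγ φ hφ, mul_zero]
  generalize Dade ((H : Set Γ) \ {1}) L R (cfInd L H (cfOne H) - ζ) = β at *
  generalize ∑ φ ∈ seqIndD H L H ⊥, (φ 1 / H.relIndex L / cfnorm L φ) • ν φ = σ at *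
  generalize n + 1 = a at *
  have g1 : ∀ ξ ∈ seqIndD H L H ⊥, cfdot ⊤ (β - (cfOne ⊤ - ν ζ + (a : ℂ) • σ)) (ν ξ) = 0 :=
    fun ξ hξ => by
      simp only [cfdot_sub_left, cfdot_add_left, cfdot_smul_left, hdot ξ hξ, hσ ξ hξ,
        cfdot_symm_zero (ho ξ hξ), cohC1_dot hν hζS hξ]
      ring
  have g2 : cfdot ⊤ (β - (cfOne ⊤ - ν ζ + (a : ℂ) • σ)) (cfOne ⊤) = 0 := by
    simp only [cfdot_sub_left, cfdot_add_left, cfdot_smul_left, h1, hσ1, ho ζ hζS,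
      cfdot_cfOne_cfOne]
    ring
  refine ⟨a, β - (cfOne ⊤ - ν ζ + (a : ℂ) • σ), sub_mem (vchar_CF hβ) (add_mem (sub_mem
    (cfOne_mem_CF _) (vchar_CF (cohC1_vchar hν hζS))) (Submodule.smul_mem _ _ hσCF)), g1, g2,
    ha, by abel, ?_⟩
  have g3 := cfnorm_add_orth (H := ⊤) (φ := β - (cfOne ⊤ - ν ζ + (a : ℂ) • σ))
    (ψ := cfOne ⊤ - ν ζ + (a : ℂ) • σ) (by
      rw [cfdot_add_right, cfdot_sub_right, cfdot_smul_right, g2, g1 ζ hζS, hσγ _ g1]; simp)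
  rw [sub_add_cancel, hnorm, cfnorm_add ⊤ (cfOne ⊤ - ν ζ),
    cfnorm_sub_orth (cfdot_symm_zero (ho ζ hζS)), cfnorm_cfOne,
    (cohC1_dirr hν hζ hζS).norm, cfnorm_intCast_smul, hσn, cfdot_smul_right, cfdot_sub_left,
    cfdot_symm_zero hσ1, ← conj_cfdot, hσ ζ hζS, hζ1, div_self (relIndexC_ne_zero H L)] at g3
  have he : (H.relIndex L : ℝ) ≠ 0 := by exact_mod_cast (H27.relIndex_pos H L).ne'
  simp only [map_intCast, map_one, zero_sub, mul_neg, mul_one, Complex.neg_re,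
    Complex.intCast_re] at g3
  rw [eq_sub_of_add_eq g3.symm]
  field_simp
  ring

omit hD hν [Finite Γ] [Group Γ] in
theorem int_mul_sub_nonneg (a : ℤ) {h e : ℕ} (he : 2 * e + 1 ≤ h) :
    (0 : ℝ) ≤ a * (a * (h - 1) - 2 * e) := by
  have h1 : (0 : ℤ) ≤ a * (a * (h - 1) - 2 * e) := by
    have : (2 * e + 1 : ℤ) ≤ h := by exact_mod_cast he
    rcases le_or_gt a 0 with ha | ha
    · exact mul_nonneg_of_nonpos_of_nonpos ha (by nlinarith)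
    · exact mul_nonneg ha.le (by nlinarith)
  exact_mod_cast h1

/-- Peterfalvi (7.8)(a),(b) (MathComp `Dade_Ind1_sub_lin`). -/
theorem Dade_Ind1_sub_lin (hS : 1 < (seqIndD H L H ⊥).card) (hζ : ζ ∈ Irr L)
    (hζS : ζ ∈ seqIndD H L H ⊥) (hζ1 : ζ 1 = H.relIndex L) :
    ∃ γ : Γ → ℂ, γ ∈ CF ⊤ ∧ (∀ ξ ∈ seqIndD H L H ⊥, cfdot ⊤ γ (ν ξ) = 0) ∧
      cfdot ⊤ γ (cfOne ⊤) = 0 ∧
      (∃ a : ℤ, Dade ((H : Set Γ) \ {1}) L R (cfInd L H (cfOne H) - ζ) = cfOne ⊤ - ν ζ +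
        (a : ℂ) • ∑ φ ∈ seqIndD H L H ⊥, (φ 1 / H.relIndex L / cfnorm L φ) • ν φ + γ) ∧
      (2 * H.relIndex L + 1 ≤ ♯H →
        1 - (H.relIndex L : ℝ) / ♯H ≤ cfnorm L (invDade ((H : Set Γ) \ {1}) R (ν ζ)) ∧
        cfnorm ⊤ γ ≤ H.relIndex L - 1) := by
  obtain ⟨a, γ, h1, h2, h3, h4, h5, h6⟩ := Dade_Ind1_decomp hD hν hS hζ hζS hζ1
  refine ⟨γ, h1, h2, h3, ⟨a, h5⟩, fun he => ?_⟩
  have := int_mul_sub_nonneg a he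
  rw [invDade_coh_norm hD hν hζ hζS hζ1 h4, h6]
  exact ⟨le_add_of_nonneg_right (by positivity), sub_le_self _ (by positivity)⟩

/-- Peterfalvi (7.8)(c). -/
theorem Dade_Ind1_orth_rho (hζS : ζ ∈ seqIndD H L H ⊥) (hζ1 : ζ 1 = H.relIndex L) {χ : Γ → ℂ}
    (hχ : χ ∈ CF ⊤) (hχS : ∀ ξ ∈ seqIndD H L H ⊥, cfdot ⊤ χ (ν ξ) = 0) :
    (∀ x ∈ H, x ≠ 1 → invDade ((H : Set Γ) \ {1}) R χ x =
      cfdot ⊤ χ (Dade ((H : Set Γ) \ {1}) L R (cfInd L H (cfOne H) - ζ))) ∧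
    cfnorm L (invDade ((H : Set Γ) \ {1}) R χ) = (♯H - 1) / ♯L *
      ‖cfdot ⊤ (Dade ((H : Set Γ) \ {1}) L R (cfInd L H (cfOne H) - ζ)) χ‖ ^ 2 := by
  have hH := nml_of_dade hD
  have he := relIndexC_ne_zero H L
  obtain ⟨b, hb⟩ : ∃ b, cfdot ⊤ (Dade ((H : Set Γ) \ {1}) L R (cfInd L H (cfOne H) - ζ)) χ = b :=
    ⟨_, rfl⟩
  have h1 : ∀ x ∈ H, x ≠ 1 → invDade ((H : Set Γ) \ {1}) R χ x = conj b := fun x hx hx1 => by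
    rw [invDade_eq_of_dot hD (ind1_mem_seqIndT H L) hχ
      (φ := conj b • cfOne L) (Submodule.smul_mem _ _ (cfOne_mem_CF L)) (fun ξ hξ => ?_) hx hx1]
    · simp [cfOne_of_mem (hH.le hx)]
    rw [ind1_apply_one hH.le]
    rcases seqIndT_cases hξ with rfl | hξ
    · rw [ind1_apply_one hH.le, div_self he]; simp
    rw [show ξ - (ξ 1 / H.relIndex L) • cfInd L H (cfOne H) = (ξ - (ξ 1 / H.relIndex L) • ζ) -
      (ξ 1 / H.relIndex L) • (cfInd L H (cfOne H) - ζ) by rw [smul_sub]; abel, map_sub, map_smul,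
      cohC1_sub hD hν hζS hζ1 hξ]
    simp only [cfdot_sub_left, cfdot_smul_left, cfdot_smul_right, hb,
      cfdot_symm_zero (hχS ξ hξ), cfdot_symm_zero (hχS ζ hζS), ind1_dot_cfOne hH.le,
      seqIndC1_dot_cfOne hH.le hξ, seqIndC1_dot_cfOne hH.le hζS, Complex.conj_conj]
    ring
  rw [← conj_cfdot, hb]
  refine ⟨h1, ?_⟩
  rw [cfnorm_of_cfOn hD.subset (invDade_cfOn _), sum_fs_congr fun x hx => by rw [h1 x hx.1 hx.2],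
    sum_fs_const, nsmul_eq_mul, card_sharp, Complex.norm_conj]
  ring

/-- a special case of Peterfalvi (5.9)(a). -/
theorem cohC1_conjC (hodd : Odd (Nat.card Γ)) (hζ : ζ ∈ Irr L) (hζS : ζ ∈ seqIndD H L H ⊥) :
    conjC (ν ζ) = ν (conjC ζ) ∧ cfdot ⊤ (ν ζ) (conjC (ν ζ)) = 0 ∧
      Dade ((H : Set Γ) \ {1}) L R (ζ - conjC ζ) = ν ζ - conjC (ν ζ) := by
  have hH := nml_of_dade hD
  have hoL : Odd ♯L := odd_sub hodd L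
  have hc := seqIndC1_conjC hζS
  have h0 : ζ - conjC ζ ∈ zsp0 (seqIndD H L H ⊥) := sub_mem_zsp0 (mem_zsp_of_mem hζS)
    (mem_zsp_of_mem hc) (vchar_conj_one (irr_vchar hζ)).symm
  have h1 := hν.ext _ h0
  have ha := cohC1_dirr hν hζ hζS
  have hb := cohC1_dirr hν (irr_conjC hζ) hc
  have hab : cfdot ⊤ (ν ζ) (ν (conjC ζ)) = 0 := by
    rw [cohC1_dot hν hζS hc, seqIndC1_dot_conjC hH hoL hζS]
  have h2 : conjC (ν ζ) - conjC (ν (conjC ζ)) = ν (conjC ζ) - ν ζ := by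
    rw [← conjC_sub', ← map_sub, h1, conjC_Dade, conjC_sub', conjC_conjC, ← neg_sub, map_neg, ← h1,
      map_sub, neg_sub]
  have h3 : cfdot ⊤ (ν ζ - ν (conjC ζ)) (cfOne ⊤) = 0 := by
    rw [← map_sub, h1, Dade_dot_cfOne hD (zsp0_seqIndT_CFon1 hH (fun _ => seqIndC1_sub) h0),
      cfdot_sub_left, seqIndC1_dot_cfOne hH.le hζS, seqIndC1_dot_cfOne hH.le hc, sub_zero]
  rw [cfdot_sub_left, sub_eq_zero] at h3
  have h4 : cfdot ⊤ (ν ζ) (cfOne ⊤) = 0 := by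
    rcases ha.cases (irr_dirr (cfOne_mem_Irr ⊤)) with h | h | h
    · rw [h3, ← h]; exact cfdot_symm_zero hab
    · rw [h3, ← neg_eq_iff_eq_neg.mpr h, cfdot_neg_right, cfdot_symm_zero hab, neg_zero]
    · exact h
  have h5 := odd_dirr_dot_conjC (odd_sub hodd ⊤) ha h4
  have h6 := congrArg (cfdot ⊤ (ν ζ)) h2
  rw [cfdot_sub_right, cfdot_sub_right, h5, hab, ha.dot_self, sub_right_inj] at h6
  have h7 := ha.eq_of_dot_one (hb.aut _) h6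
  have h8 : conjC (ν ζ) = ν (conjC ζ) := by rw [h7, conjC_conjC]
  exact ⟨h8, h5, by rw [h8, ← map_sub, h1]⟩

end Dade_seqIndC1

/-- the reformulation of Peterfalvi (1.1) used in (7.9), (13.15), (14.11). -/
theorem cfdot_real_vchar_even {G : Subgroup Γ} (hodd : Odd ♯G) {φ ψ : Γ → ℂ} (hφ : φ ∈ vchar G)
    (hψ : ψ ∈ vchar G) (rφ : conjC φ = φ) (rψ : conjC ψ = ψ) :
    ∃ n : ℤ, cfdot G φ ψ = cfdot G φ (cfOne G) * cfdot G ψ (cfOne G) + 2 * n := by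
  classical
  obtain ⟨a, ha, -, -⟩ := vchar_coeff hφ
  obtain ⟨b, hb, -, -⟩ := vchar_coeff hψ
  have hc : ∀ (θ : Γ → ℂ) (n : (Γ → ℂ) → ℤ), conjC θ = θ → (∀ χ ∈ Irr G, cfdot G θ χ = n χ) →
      ∀ χ ∈ Irr G, n (conjC χ) = n χ := fun θ n r hn χ hχ => by
    have := cfdot_conjC_conjC G θ χ
    rw [r, hn _ (irr_conjC hχ), hn χ hχ, map_intCast] at this
    exact_mod_cast this
  have h1 : ((∑ χ ∈ (Irr G).erase (cfOne G), a χ * b χ : ℤ) : ZMod 2) = 0 := by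
    push_cast
    refine Finset.sum_involution (fun χ _ => conjC χ) (fun χ hχ => ?_) (fun χ hχ _ => ?_)
      (fun χ hχ => ?_) fun χ _ => conjC_conjC χ
    · rw [hc φ a rφ ha χ (Finset.mem_of_mem_erase hχ), hc ψ b rψ hb χ (Finset.mem_of_mem_erase hχ)]
      exact CharTwo.add_self_eq_zero _
    · exact odd_conjC_ne hodd (Finset.mem_of_mem_erase hχ) (Finset.ne_of_mem_erase hχ)
    · exact Finset.mem_erase.mpr ⟨fun e => Finset.ne_of_mem_erase hχ (conjC_injective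
        (e.trans (cfAut_cfOne _ G).symm)), irr_conjC (Finset.mem_of_mem_erase hχ)⟩
  obtain ⟨n, hn⟩ := (ZMod.intCast_zmod_eq_zero_iff_dvd _ 2).mp h1
  refine ⟨n, ?_⟩
  rw [cfdot_eq_sum (vchar_CF hφ), ← Finset.add_sum_erase _ _ (cfOne_mem_Irr G),
    conj_vchar_dot hψ (cfOne_vchar G), Finset.sum_congr rfl fun χ hχ => by
      rw [ha χ (Finset.mem_of_mem_erase hχ), hb χ (Finset.mem_of_mem_erase hχ), map_intCast]]
  congr 1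
  exact_mod_cast hn

theorem disjoint_Dade_ortho {A₁ A₂ : Set Γ} {L₁ L₂ : Subgroup Γ} {R₁ R₂ : Γ → Subgroup Γ}
    (hdis : Disjoint (dadeSupp A₁ R₁) (dadeSupp A₂ R₂)) (φ ψ : Γ → ℂ) :
    cfdot ⊤ (Dade A₁ L₁ R₁ φ) (Dade A₂ L₂ R₂ ψ) = 0 :=
  cfdot_eq_zero_of_disjoint (Dade_cfOn' φ) (Dade_cfOn' ψ) hdis

/-- the instance of Peterfalvi (4.1) for conjugate pairs. -/
theorem dirr_orth_of_sub_conjC {G : Subgroup Γ} {a b : Γ → ℂ} (ha : IsDirr G a) (hb : IsDirr G b)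
    (hbb : cfdot G b (conjC b) = 0) (h : cfdot G (a - conjC a) (b - conjC b) = 0) :
    cfdot G a b = 0 := by
  have h1 : cfdot G (conjC a) (conjC b) = cfdot G a b := cfdot_cfAut_vchar _ ha.vchar hb.vchar
  have h2 : cfdot G (conjC a) b = cfdot G a (conjC b) := by
    rw [← cfdot_cfAut_vchar (starRingEnd ℂ) ha.vchar (vchar_conjC hb.vchar)]
    exact congrArg _ (conjC_conjC b).symm
  rw [cfdot_sub_left, cfdot_sub_right, cfdot_sub_right, h1, h2] at h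
  have h3 : cfdot G a b = cfdot G a (conjC b) := by linear_combination h / 2
  rcases ha.cases hb with e | e | e
  · rw [h3, e, hbb]
  · rw [h3, e, cfdot_neg_left, hbb, neg_zero]
  · exact e

section DisjointDadeOrtho
variable {H₁ L₁ H₂ L₂ : Subgroup Γ} {R₁ R₂ : Γ → Subgroup Γ}
  {ν₁ ν₂ : (Γ → ℂ) →ₗ[ℂ] (Γ → ℂ)} (hodd : Odd (Nat.card Γ))
  (hD₁ : DadeHypothesis ((H₁ : Set Γ) \ {1}) L₁ R₁)
  (hD₂ : DadeHypothesis ((H₂ : Set Γ) \ {1}) L₂ R₂)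
  (hdis : Disjoint (dadeSupp ((H₁ : Set Γ) \ {1}) R₁) (dadeSupp ((H₂ : Set Γ) \ {1}) R₂))
  (hν₁ : CohWith L₁ ⊤ (seqIndD H₁ L₁ H₁ ⊥) (Dade ((H₁ : Set Γ) \ {1}) L₁ R₁) ν₁)
  (hν₂ : CohWith L₂ ⊤ (seqIndD H₂ L₂ H₂ ⊥) (Dade ((H₂ : Set Γ) \ {1}) L₂ R₂) ν₂)
include hodd hD₁ hD₂ hdis hν₁ hν₂

theorem disjoint_coherent_ortho {χ₁ χ₂ : Γ → ℂ} (h₁ : χ₁ ∈ Irr L₁) (hS₁ : χ₁ ∈ seqIndD H₁ L₁ H₁ ⊥)
    (h₂ : χ₂ ∈ Irr L₂) (hS₂ : χ₂ ∈ seqIndD H₂ L₂ H₂ ⊥) : cfdot ⊤ (ν₁ χ₁) (ν₂ χ₂) = 0 := by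
  obtain ⟨-, -, a⟩ := cohC1_conjC hD₁ hν₁ hodd h₁ hS₁
  obtain ⟨-, b', b⟩ := cohC1_conjC hD₂ hν₂ hodd h₂ hS₂
  refine dirr_orth_of_sub_conjC (cohC1_dirr hν₁ h₁ hS₁) (cohC1_dirr hν₂ h₂ hS₂) b' ?_
  rw [← a, ← b]
  exact disjoint_Dade_ortho hdis _ _

omit hD₂ hdis hν₂ in
theorem Dade_Ind1_add_real {ζ : Γ → ℂ} (hζ : ζ ∈ Irr L₁) (hζS : ζ ∈ seqIndD H₁ L₁ H₁ ⊥) :
    conjC (Dade ((H₁ : Set Γ) \ {1}) L₁ R₁ (cfInd L₁ H₁ (cfOne H₁) - ζ) + ν₁ ζ) =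
      Dade ((H₁ : Set Γ) \ {1}) L₁ R₁ (cfInd L₁ H₁ (cfOne H₁) - ζ) + ν₁ ζ := by
  obtain ⟨-, -, a⟩ := cohC1_conjC hD₁ hν₁ hodd hζ hζS
  rw [map_sub] at a
  rw [conjC_add', conjC_Dade, conjC_sub', conjC_ind1, map_sub, map_sub]
  linear_combination (exp := 1) a

/-- Peterfalvi (7.9). -/
theorem Dade_sub_lin_nonorthogonal {ζ₁ ζ₂ : Γ → ℂ} (h₁ : ζ₁ ∈ Irr L₁)
    (hS₁ : ζ₁ ∈ seqIndD H₁ L₁ H₁ ⊥) (e₁ : ζ₁ 1 = H₁.relIndex L₁) (h₂ : ζ₂ ∈ Irr L₂)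
    (hS₂ : ζ₂ ∈ seqIndD H₂ L₂ H₂ ⊥) (e₂ : ζ₂ 1 = H₂.relIndex L₂) :
    cfdot ⊤ (Dade ((H₁ : Set Γ) \ {1}) L₁ R₁ (cfInd L₁ H₁ (cfOne H₁) - ζ₁)) (ν₂ ζ₂) ≠ 0 ∨
    cfdot ⊤ (Dade ((H₂ : Set Γ) \ {1}) L₂ R₂ (cfInd L₂ H₂ (cfOne H₂) - ζ₂)) (ν₁ ζ₁) ≠ 0 := by
  by_contra hne
  push Not at hne
  have oL : ∀ L : Subgroup Γ, Odd ♯L := odd_sub hodd
  obtain ⟨n, hn⟩ := cfdot_real_vchar_even (oL ⊤)
    (add_mem (Dade_Ind1_vchar hD₁ hS₁ e₁) (cohC1_vchar hν₁ hS₁))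
    (add_mem (Dade_Ind1_vchar hD₂ hS₂ e₂) (cohC1_vchar hν₂ hS₂))
    (Dade_Ind1_add_real hodd hD₁ hν₁ h₁ hS₁) (Dade_Ind1_add_real hodd hD₂ hν₂ h₂ hS₂)
  simp only [cfdot_add_left, cfdot_add_right, disjoint_Dade_ortho hdis, hne.1,
    cfdot_symm_zero hne.2, disjoint_coherent_ortho hodd hD₁ hD₂ hdis hν₁ hν₂ h₁ hS₁ h₂ hS₂,
    Dade_Ind1_dot_cfOne hD₁ hS₁ e₁, Dade_Ind1_dot_cfOne hD₂ hS₂ e₂,
    Dade_Ind1_orth1 hD₁ hν₁ (seqIndC1_one_lt_card (nml_of_dade hD₁) (oL _) hS₁) h₁ hS₁ e₁ hS₁,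
    Dade_Ind1_orth1 hD₂ hν₂ (seqIndC1_one_lt_card (nml_of_dade hD₂) (oL _) hS₂) h₂ hS₂ e₂ hS₂]
    at hn
  have : (0 : ℤ) = 1 + 2 * n := by exact_mod_cast (by simpa using hn : (0 : ℂ) = 1 + 2 * n)
  omega

end DisjointDadeOrtho

end H2
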