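import Mathlib
import Cfsg.Agent.H2.PF7b
import Cfsg.Agent.H27.PF6

/-! Peterfalvi §7, (7.10) and (7.11). -/

set_option autoImplicit false

namespace H2
open Cfsg H24 H27
open scoped ComplexConjugate

universe u
variable {Γ : Type u} [Group Γ] [Finite Γ]

/-- the inner products of an element of the image of one Dade isometry with the coherent
extension for a second one, with disjoint support. -/
theorem disjoint_Dade_dot_coh {A₁ : Set Γ} {L₁ H₂ L₂ : Subgroup Γ} {R₁ R₂ : Γ → Subgroup Γ}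
    {ν₂ : (Γ → ℂ) →ₗ[ℂ] (Γ → ℂ)} (hD₂ : DadeHypothesis (shp H₂) L₂ R₂)
    (hdis : Disjoint (dadeSupp A₁ R₁) (dadeSupp (shp H₂) R₂))
    (hν₂ : CohWith L₂ ⊤ (seqIndD H₂ L₂ H₂ ⊥) (Dade (shp H₂) L₂ R₂) ν₂) {ζ φ : Γ → ℂ}
    (hζ : ζ ∈ seqIndD H₂ L₂ H₂ ⊥) (hζ1 : ζ 1 = H₂.relIndex L₂) (hφ : φ ∈ seqIndD H₂ L₂ H₂ ⊥)
    (α : Γ → ℂ) :
    cfdot ⊤ (Dade A₁ L₁ R₁ α) (ν₂ φ) =
      (φ 1 / H₂.relIndex L₂) * cfdot ⊤ (Dade A₁ L₁ R₁ α) (ν₂ ζ) := by
  have h := disjoint_Dade_ortho (L₁ := L₁) (L₂ := L₂) hdis α (φ - (φ 1 / H₂.relIndex L₂) • ζ)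
  rw [cohC1_sub hD₂ hν₂ hζ hζ1 hφ, cfdot_sub_right, cfdot_smul_right] at h
  obtain ⟨d, -, hd⟩ := seqIndT_one (nml_of_dade hD₂).le (seqIndC1_sub hφ)
  rw [hd, mul_div_cancel_right₀ _ (relIndexC_ne_zero H₂ L₂)] at h ⊢
  rw [map_natCast] at h
  linear_combination h

theorem cfnorm_le_of_dot_sub {G : Subgroup Γ} {γ X : Γ → ℂ} (h : cfdot G (γ - X) X = 0) :
    cfnorm G X ≤ cfnorm G γ := by
  have := cfnorm_add_orth h
  rw [sub_add_cancel] at this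
  rw [this]
  exact le_add_of_nonneg_left (cfnorm_nonneg _ _)

theorem one_le_sq_norm_of_int {z : ℂ} (h : ∃ n : ℤ, z = n) (h0 : z ≠ 0) : 1 ≤ ‖z‖ ^ 2 := by
  obtain ⟨n, rfl⟩ := h
  have hn : n ≠ 0 := fun e => h0 (by simp [e])
  rw [Complex.norm_intCast, sq_abs]
  exact_mod_cast (one_le_sq_iff_one_le_abs n).mpr (Int.one_le_abs hn)

omit [Finite Γ] in
theorem disjoint_classSupp_shp {H K : Subgroup Γ} (h : (♯H).Coprime ♯K) :
    Disjoint (classSupp (shp H) ⊤) (classSupp (shp K) ⊤) := by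
  rw [Set.disjoint_left]
  rintro x ⟨a, ha, g, -, rfl⟩ ⟨b, hb, k, -, e⟩
  have h1 : orderOf a = orderOf b := by
    rw [← orderOf_injective (MulAut.conj g).toMonoidHom (MulAut.conj g).injective a,
      ← orderOf_injective (MulAut.conj k).toMonoidHom (MulAut.conj k).injective b]
    exact congrArg orderOf e
  have h2 : orderOf a ∣ ♯H := Subgroup.orderOf_dvd_natCard H ha.1
  have h3 : orderOf a ∣ ♯K := h1 ▸ Subgroup.orderOf_dvd_natCard K hb.1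
  exact ha.2 (orderOf_eq_one_iff.mp (Nat.eq_one_of_dvd_coprimes h h2 h3))

section Partition
variable {I : Type*} [Fintype I] {L H : I → Subgroup Γ}

/-- Peterfalvi (7.10). -/
theorem coherent_Frobenius_bound (hodd : Odd (Nat.card Γ))
    (hI : 2 ≤ Fintype.card I) (hF : ∀ i, FrobK (L i) (H i)) (hn : ∀ i, Nil (H i))
    (hTI : ∀ i, NormedTI (shp (H i)) (L i))
    (hc : ∀ i j, i ≠ j → (♯(H i)).Coprime ♯(H j)) :
    ∃ i, ∀ e h : ℝ, e = (H i).relIndex (L i) → h = ♯(H i) →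
      (e - 1) * ((h - 2 * e - 1) / (e * h) + 2 / (h * (h + 2))) ≤
        ((((⋃ i, classSupp (shp (H i)) ⊤)ᶜ).ncard : ℝ) - 1) / Nat.card Γ := by
  classical
  have hN : ∀ i, NTI ⊤ (L i) (shp (H i)) := fun i => nti_of_normedTI (hTI i)
  have hD : ∀ i, DadeHypothesis (shp (H i)) (L i) (fun _ => ⊥) := fun i =>
    NTI_dade' (hN i) fun h => h.2 rfl
  have hH : ∀ i, H i ⊴ L i := fun i => (hF i).nml
  have hsupp : ∀ i, dadeSupp (shp (H i)) (fun _ => ⊥) = classSupp (shp (H i)) ⊤ := fun i =>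
    dadeSupp_of_bot fun _ _ => rfl
  have hdis : ∀ i j, i ≠ j →
      Disjoint (dadeSupp (shp (H i)) (fun _ => ⊥)) (dadeSupp (shp (H j)) (fun _ => ⊥)) :=
    fun i j hij => by rw [hsupp, hsupp]; exact disjoint_classSupp_shp (hc i j hij)
  have hν : ∀ i, ∃ ν, CohWith (L i) ⊤ (seqIndD (H i) (L i) (H i) ⊥)
      (Dade (shp (H i)) (L i) (fun _ => ⊥)) ν := fun i => by
    obtain ⟨ν, hν⟩ := Sibley_coherence (odd_sub hodd _) (hn i) (hTI i) (Or.inl (hF i).choose_spec)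
    exact ⟨ν, hν.isom, fun φ hφ => (hν.ext φ hφ).trans (Dade_Ind' (hN i) (fun h => h.2 rfl)
      (zsp0_seqIndT_CFon1 (hH i) (fun _ => seqIndC1_sub) hφ)).symm⟩
  choose ν hν using hν
  have hirr : ∀ i, ∀ ξ ∈ seqIndD (H i) (L i) (H i) ⊥, ξ ∈ Irr (L i) := fun i ξ hξ => by
    obtain ⟨θ, hθ, h1, rfl⟩ := mem_seqIndC1.mp hξ
    exact irr_induced_Frobenius_ker (hH i) (fun x hx hx1 => (hF i).cent_le hx hx1) hθ h1
  have hζ : ∀ i, ∃ ζ ∈ seqIndD (H i) (L i) (H i) ⊥, ζ 1 = (H i).relIndex (L i) := fun i =>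
    exists_seqIndC1_lin (hH i).le (hn i).sol (hF i).choose_spec.ker_ne
  choose ζ hζS hζ1 using hζ
  have hS : ∀ i, 1 < (seqIndD (H i) (L i) (H i) ⊥).card := fun i =>
    seqIndC1_one_lt_card (hH i) (odd_sub hodd _) (hζS i)
  have : Nonempty I := Fintype.card_pos_iff.mp (by omega)
  obtain ⟨i₀, -, hmin⟩ := Finset.exists_min_image Finset.univ (fun i => ♯(H i)) Finset.univ_nonempty
  refine ⟨i₀, ?_⟩
  rintro e h rfl rfl
  have hlt : ∀ i, i ≠ i₀ → ♯(H i₀) + 2 ≤ ♯(H i) := fun i hi => by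
    have h1 := hmin i (Finset.mem_univ i)
    have h2 := hc i i₀ hi
    have h3 : 1 < ♯(H i₀) := Subgroup.one_lt_card_iff_ne_bot _ |>.mpr (hF i₀).choose_spec.ker_ne
    obtain ⟨a, ha⟩ := odd_sub hodd (H i)
    obtain ⟨b, hb⟩ := odd_sub hodd (H i₀)
    rcases h1.eq_or_lt with h1 | h1
    · rw [← h1, Nat.coprime_self] at h2; omega
    · omega
  obtain ⟨γ, -, hγS, hγ1, ⟨a, hβ⟩, hb⟩ :=
    Dade_Ind1_sub_lin (hD i₀) (hν i₀) (hS i₀) (hirr i₀ _ (hζS i₀)) (hζS i₀) (hζ1 i₀)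
  obtain ⟨hb1, hb2⟩ := hb (odd_Frobenius_index_ler (odd_sub hodd _) (hF i₀))
  have hχd := cohC1_dirr (hν i₀) (hirr i₀ _ (hζS i₀)) (hζS i₀)
  have horth : ∀ i j, i ≠ j → ∀ ξ ∈ seqIndD (H i) (L i) (H i) ⊥,
      ∀ φ ∈ seqIndD (H j) (L j) (H j) ⊥, cfdot ⊤ (ν i ξ) (ν j φ) = 0 := fun i j hij ξ hξ φ hφ =>
    disjoint_coherent_ortho hodd (hD i) (hD j) (hdis i j hij) (hν i) (hν j) (hirr i _ hξ) hξ
      (hirr j _ hφ) hφ
  set β : I → Γ → ℂ := fun i =>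
    Dade (shp (H i)) (L i) (fun _ => ⊥) (cfInd (L i) (H i) (cfOne (H i)) - ζ i) with hβdef
  have hβv : ∀ i, β i ∈ vchar ⊤ := fun i => Dade_Ind1_vchar (hD i) (hζS i) (hζ1 i)
  set B : Finset I := (Finset.univ.erase i₀).filter (fun i => cfdot ⊤ (β i) (ν i₀ (ζ i₀)) = 0)
    with hB
  have hBne : ∀ i ∈ B, i ≠ i₀ := fun i hi => Finset.ne_of_mem_erase (Finset.mem_filter.mp hi).1
  set x : I → ℂ := fun i => cfdot ⊤ (β i₀) (ν i (ζ i)) with hx
  set Y : I → Γ → ℂ := fun i => ∑ φ ∈ seqIndD (H i) (L i) (H i) ⊥,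
    (φ 1 / (H i).relIndex (L i) / cfnorm (L i) φ) • ν i φ with hY
  have hYo : ∀ i j, i ≠ j → ∀ φ ∈ seqIndD (H j) (L j) (H j) ⊥, cfdot ⊤ (Y i) (ν j φ) = 0 :=
    fun i j hij φ hφ => by
      rw [hY, cfdot_sum_left]
      exact Finset.sum_eq_zero fun ξ hξ => by rw [cfdot_smul_left, horth i j hij ξ hξ φ hφ, mul_zero]
  have hYr : ∀ ψ i, (∀ φ ∈ seqIndD (H i) (L i) (H i) ⊥, cfdot ⊤ ψ (ν i φ) = 0) →
      cfdot ⊤ ψ (Y i) = 0 := fun ψ i hψ => by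
    rw [hY, cfdot_sum_right]
    exact Finset.sum_eq_zero fun ξ hξ => by rw [cfdot_smul_right, hψ ξ hξ, mul_zero]
  have hx1 : ∀ i ∈ B, 1 ≤ ‖x i‖ ^ 2 := fun i hi =>
    one_le_sq_norm_of_int (vchar_dot_int (hβv i₀) (cohC1_vchar (hν i) (hζS i)))
      ((Dade_sub_lin_nonorthogonal hodd (hD i₀) (hD i) (hdis _ _ (hBne i hi).symm) (hν i₀) (hν i)
        (hirr _ _ (hζS i₀)) (hζS i₀) (hζ1 i₀) (hirr _ _ (hζS i)) (hζS i) (hζ1 i)).resolve_right
        (not_not.mpr (Finset.mem_filter.mp hi).2))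
  have hbessel : ∑ i ∈ B, ((♯(H i) : ℝ) - 1) / (H i).relIndex (L i) ≤
      ((H i₀).relIndex (L i₀) : ℝ) - 1 := by
    refine le_trans ?_ ((cfnorm_le_of_dot_sub (X := ∑ i ∈ B, x i • Y i) ?_).trans hb2)
    · rw [cfnorm_sum_orth _ _ fun i _ j _ hij => by
        rw [cfdot_smul_left, cfdot_smul_right, hYr _ j (hYo i j hij), mul_zero, mul_zero]]
      refine Finset.sum_le_sum fun i hi => ?_
      rw [cfnorm_smul, hY, sumS_norm (hD i) (hν i)]
      refine le_mul_of_one_le_left (div_nonneg (sub_nonneg.mpr ?_) (Nat.cast_nonneg _)) (hx1 i hi)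
      exact_mod_cast Nat.card_pos
    · rw [cfdot_sum_right]
      refine Finset.sum_eq_zero fun i hi => ?_
      rw [cfdot_smul_right, hYr _ i fun φ hφ => ?_, mul_zero]
      have h1 := disjoint_Dade_dot_coh (L₁ := L i₀) (hD i) (hdis _ _ (hBne i hi).symm) (hν i)
        (hζS i) (hζ1 i) hφ (cfInd (L i₀) (H i₀) (cfOne (H i₀)) - ζ i₀)
      have h2 := congrArg (cfdot ⊤ · (ν i φ)) hβ
      simp only [cfdot_add_left, cfdot_sub_left, cfdot_smul_left] at h2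
      rw [cfdot_symm_zero (Dade_Ind1_orth1 (hD i) (hν i) (hS i) (hirr _ _ (hζS i)) (hζS i)
        (hζ1 i) hφ), horth _ _ (hBne i hi).symm _ (hζS i₀) φ hφ,
        hYo _ _ (hBne i hi).symm φ hφ] at h2
      rw [cfdot_sub_left, cfdot_sum_left, Finset.sum_eq_single_of_mem i hi fun j _ hji => by
        rw [cfdot_smul_left, hYo j i hji φ hφ, mul_zero], cfdot_smul_left, hY,
        sumS_dot (hD i) (hν i) hφ]
      linear_combination h1 - h2
  have hcov := Dade_cover_inequality hD hdis hχd.CF hχd.norm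
  simp only [hsupp] at hcov
  rw [← Finset.add_sum_erase _ _ (Finset.mem_univ i₀), card_sharp] at hcov
  have hG0 : 1 ≤ ∑ g ∈ fs (⋃ i, classSupp (shp (H i)) ⊤)ᶜ, ‖ν i₀ (ζ i₀) g‖ ^ 2 := by
    refine (one_le_sq_norm_of_int (vchar_one_int hχd.vchar) hχd.one_ne_zero).trans
      (Finset.single_le_sum (f := fun g => ‖ν i₀ (ζ i₀) g‖ ^ 2) (fun _ _ => by positivity) ?_)
    simp only [mem_fs, Set.mem_compl_iff, Set.mem_iUnion, not_exists]
    rintro i ⟨a, ha, g, -, e⟩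
    exact ha.2 (by simpa [mul_assoc] using congrArg (fun y => g⁻¹ * y * g) e.symm)
  have hcardL : ∀ i, (♯(L i) : ℝ) = (H i).relIndex (L i) * ♯(H i) := fun i => by
    rw [← card_mul_relIndex (hH i).le]; push_cast; ring
  have hrest : -(∑ i ∈ B, ((♯(H i) : ℝ) - 1) / (H i).relIndex (L i)) / (♯(H i₀) + 2) ≤
      ∑ i ∈ Finset.univ.erase i₀, (cfnorm (L i) (invDade (shp (H i)) (fun _ => ⊥) (ν i₀ (ζ i₀))) -
        (Nat.card (shp (H i)) : ℝ) / ♯(L i)) := by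
    rw [neg_div, Finset.sum_div, ← Finset.sum_neg_distrib, hB, Finset.sum_filter]
    refine Finset.sum_le_sum fun i hi => ?_
    have hi0 := Finset.ne_of_mem_erase hi
    have h1 : (1 : ℝ) ≤ ♯(H i) := by exact_mod_cast Nat.card_pos
    rw [(Dade_Ind1_orth_rho (hD i) (hν i) (hζS i) (hζ1 i) hχd.CF
      fun ξ hξ => horth _ _ hi0.symm _ (hζS i₀) ξ hξ).2, card_sharp]
    split_ifs with hz
    · rw [hz, hcardL, div_div]
      have he : (0 : ℝ) < (H i).relIndex (L i) := by exact_mod_cast H24.relIndex_pos _ _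
      have h2 : (♯(H i₀) + 2 : ℝ) ≤ ♯(H i) := by exact_mod_cast hlt i hi0
      simp only [norm_zero, ne_eq, OfNat.ofNat_ne_zero, not_false_eq_true, zero_pow, mul_zero,
        zero_sub, neg_le_neg_iff]
      gcongr
    · have := one_le_sq_norm_of_int (vchar_dot_int (hβv i) hχd.vchar) hz
      rw [sub_nonneg]
      exact le_mul_of_one_le_right (div_nonneg (sub_nonneg.mpr h1) (Nat.cast_nonneg _)) this
  rw [Nat.card_coe_set_eq, hcardL] at hcov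
  have he : (0 : ℝ) < (H i₀).relIndex (L i₀) := by exact_mod_cast H24.relIndex_pos _ _
  have hh : (0 : ℝ) < ♯(H i₀) := by exact_mod_cast Nat.card_pos
  have hΓ : (0 : ℝ) < Nat.card Γ := by exact_mod_cast Nat.card_pos
  generalize ((H i₀).relIndex (L i₀) : ℝ) = e at *
  generalize (♯(H i₀) : ℝ) = h at *
  have e1 : (e - 1) * ((h - 2 * e - 1) / (e * h) + 2 / (h * (h + 2))) =
      1 - e / h - (h - 1) / (e * h) + -(e - 1) / (h + 2) := by field_simp; ring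
  have e2 : -(e - 1) / (h + 2) ≤
      -(∑ i ∈ B, ((♯(H i) : ℝ) - 1) / (H i).relIndex (L i)) / (h + 2) := by gcongr
  have e3 := mul_le_mul_of_nonneg_left hG0 (inv_nonneg.mpr hΓ.le)
  rw [e1, div_eq_inv_mul _ (Nat.card Γ : ℝ)]
  linarith

/-- Peterfalvi (7.11). -/
theorem no_coherent_Frobenius_partition (hodd : Odd (Nat.card Γ))
    (hI : 2 ≤ Fintype.card I) (hF : ∀ i, FrobK (L i) (H i)) (hn : ∀ i, Nil (H i))
    (hTI : ∀ i, NormedTI (shp (H i)) (L i))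
    (hc : ∀ i j, i ≠ j → (♯(H i)).Coprime ♯(H j)) :
    ∃ g : Γ, g ≠ 1 ∧ ∀ i, g ∉ classSupp (shp (H i)) ⊤ := by
  by_contra hcon
  push Not at hcon
  obtain ⟨i, hi⟩ := coherent_Frobenius_bound hodd hI hF hn hTI hc
  have h1 : ((⋃ i, classSupp (shp (H i)) ⊤)ᶜ).ncard ≤ 1 := by
    rw [← Set.ncard_singleton (1 : Γ)]
    refine Set.ncard_le_ncard fun g hg => ?_
    by_contra h
    exact hg (Set.mem_iUnion.mpr (hcon g h))
  have h2 := hi _ _ rfl rfl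
  have h3 : (2 * (H i).relIndex (L i) + 1 : ℝ) ≤ ♯(H i) := by
    exact_mod_cast odd_Frobenius_index_ler (odd_sub hodd _) (hF i)
  have h4 : (1 : ℝ) < (H i).relIndex (L i) := by
    obtain ⟨E, hE⟩ := hF i
    rw [hE.sd.relIndex_left]
    exact_mod_cast (Subgroup.one_lt_card_iff_ne_bot _).mpr hE.compl_ne
  have h5 : ((((⋃ i, classSupp (shp (H i)) ⊤)ᶜ).ncard : ℝ) - 1) / Nat.card Γ ≤ 0 :=
    div_nonpos_of_nonpos_of_nonneg (sub_nonpos.mpr (by exact_mod_cast h1)) (Nat.cast_nonneg _)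
  refine absurd (h2.trans h5) (not_le.mpr (mul_pos (by linarith) ?_))
  have : (0 : ℝ) ≤ (♯(H i) - 2 * (H i).relIndex (L i) - 1) / ((H i).relIndex (L i) * ♯(H i)) :=
    div_nonneg (by linarith) (by positivity)
  have h6 : (0 : ℝ) < ♯(H i) := by exact_mod_cast Nat.card_pos
  positivity

end Partition

end H2
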