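import Mathlib
import Cfsg.Agent.H2.ZDefs

/-!
# Standard subgroup `U₃(q)` with cyclic Sylow `2`-subgroups in its centraliser: vocabulary
-/

set_option autoImplicit false

namespace H2.U3

open Cfsg H24 Subgroup
open H2.SZ (St DD Goal)

/-- The fields `E ≤ F` of orders `q`, `q²`. -/
structure UF (E F : Type*) [Field E] [Fintype E] [Field F] [Fintype F] [Algebra E F] where
  two : (2 : E) = 0
  four : 4 ≤ Fintype.card E
  card : Fintype.card F = Fintype.card E ^ 2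
  σ : F ≃+* F
  σσ : ∀ x, σ (σ x) = x
  fix : ∀ x, σ x = x ↔ ∃ b : E, algebraMap E F b = x
  nm : F → E
  tr : F → E
  nm_eq : ∀ x, algebraMap E F (nm x) = x * σ x
  tr_eq : ∀ x, algebraMap E F (tr x) = x + σ x
  ω : F
  tr_ω : tr ω = 1
  w : F
  nm_w : nm w = 1
  w1 : w ≠ 1

variable {E F : Type*} [Field E] [Fintype E] [Field F] [Fintype F] [Algebra E F]

namespace UF
variable (K : UF E F)

/-- the polarisation of the norm -/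
def B (x y : F) : E := K.tr (x * K.σ y)
/-- the cocycle of the Sylow `2`-subgroup -/
def β (x y : F) : E := K.tr (K.σ K.ω * x * K.σ y)
/-- the quadratic form on `V = F × E × E` -/
def Qv (n : E) (v : F × E × E) : E := K.nm v.1 + (v.2.1 ^ 2 + v.2.1 * v.2.2 + n * v.2.2 ^ 2)
/-- its polarisation -/
def Bv (v v' : F × E × E) : E := K.B v.1 v'.1 + (v.2.1 * v'.2.2 + v.2.2 * v'.2.1)
/-- the reflection in `r` -/
def rf (n : E) (r v : F × E × E) : F × E × E := v + (K.Bv v r / K.Qv n r) • r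
/-- the product of the reflections in `(0, 1, 0)` and `(a, 0, 0)` -/
def ts (n : E) (a : F) (v : F × E × E) : F × E × E := K.rf n (0, 1, 0) (K.rf n (a, 0, 0) v)

end UF

variable {G : Type*} [Group G] {K : UF E F}

/-- Coordinates in a subgroup `L` with `L / Z(L) ≅ PSU₃(q)`, `Z(L)` of odd order, and all facts on `L`
and `Aut(L)` that are used. `h` is not a homomorphism. -/
structure UD (K : UF E F) (L : Subgroup G) where
  u : F → E → G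
  h : Eˣ → G
  w : G
  n : G
  u_mem : ∀ a b, u a b ∈ L
  h_mem : ∀ k, h k ∈ L
  w_mem : w ∈ L
  n_mem : n ∈ L
  u_mul : ∀ a b c d, u a b * u c d = u (a + c) (b + d + K.β a c)
  u_inj : ∀ {a b c d}, u a b = u c d → a = c ∧ b = d
  h_u : ∀ (k : Eˣ) a b, h k * u a b * (h k)⁻¹ = u ((k : E) • a) ((k : E) ^ 2 * b)
  w_u : ∀ a b, w * u a b * w⁻¹ = u (K.w * a) b
  h_odd : ∀ k, PiElt {2}ᶜ (h k)
  w_odd : PiElt {2}ᶜ w
  h_comm : ∀ k l, h k * h l = h l * h k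
  h_w : ∀ k, h k * w = w * h k
  n_w : n * w = w * n
  n_S : n * u 0 1 * n⁻¹ ∉ Set.range fun p : F × E => u p.1 p.2
  n_h : ∀ (k : Eˣ) b, h k * (n * u 0 ((k : E) ^ 2 * b) * n⁻¹) * (h k)⁻¹ = n * u 0 b * n⁻¹
  card : ∃ m, Odd m ∧ ♯L = Fintype.card E ^ 3 * m
  cL : IsPi {2}ᶜ (L ⊓ C[L])
  /-- `S` is a TI-subgroup of `L`, and `N_L(S)` acts on `S / Z` by scalars. -/
  ti : ∀ g ∈ L, ∀ a b c d, u a b ≠ 1 → g * u a b * g⁻¹ = u c d →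
    ∃ k : F, ∀ a b, ∃ b', g * u a b * g⁻¹ = u (k * a) b'
  /-- an automorphism of `L` centralising `S / Z` is induced by `S`. -/
  autS : ∀ g ∈ N[L], (∀ a b, ∃ b', g * u a b * g⁻¹ = u a b') → ∃ a b, ∃ k ∈ C[L], g = u a b * k
  /-- an automorphism centralising `Z` and the torus `h` centralises `Zⁿ`. -/
  cK : ∀ g ∈ N[L], (∀ b, g * u 0 b = u 0 b * g) → (∀ k, g * h k * g⁻¹ * (h k)⁻¹ ∈ C[L]) →
    ∀ b, g * (n * u 0 b * n⁻¹) = n * u 0 b * n⁻¹ * g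
  /-- `S ≤ ⟨U_a, Zˡ⟩` -/
  gen : ∀ M : Subgroup G, ∀ a ≠ 0, ∀ l ∈ L, (l * u 0 1 * l⁻¹ ∉ Set.range fun p : F × E => u p.1 p.2) →
    (∀ (e : E) b, u (e • a) b ∈ M) → (∀ b, l * u 0 b * l⁻¹ ∈ M) → ∀ c d, u c d ∈ M

namespace UD
variable {L : Subgroup G} (X : UD K L)

/-- the central elements of `S`. -/
def z (b : E) : G := X.u 0 b
/-- the Sylow `2`-subgroup of `L`. -/
def S : Subgroup G := closure (Set.range fun p : F × E => X.u p.1 p.2)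
/-- the centre of `S`. -/
def Z : Subgroup G := closure (Set.range X.z)
/-- `T = ⟨t⟩ × S` -/
def T (t : G) : Subgroup G := zpowers t ⊔ X.S
/-- `E₂ = ⟨t⟩ × Z` -/
def E2 (t : G) : Subgroup G := zpowers t ⊔ X.Z
/-- `g` acts on `S / Z` as `a ↦ k ρ(a)`. -/
def Act (g : G) (k : F) (ρ : F ≃+* F) : Prop :=
  k ≠ 0 ∧ ∀ a b, ∃ b', g * X.u a b * g⁻¹ = X.u (k * ρ a) b'
open Classical in
/-- the field automorphism induced by `g ∈ N(S)`. -/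
noncomputable def χ (g : G) : F ≃+* F := if h : ∃ ρ k, X.Act g k ρ then h.choose else 1
/-- `x` is conjugate to an involution of `L`. -/
def ZZ (x : G) : Prop := ∃ g b, b ≠ 0 ∧ x = g * X.z b * g⁻¹

end UD

/-- The situation after the reduction by S1347. -/
structure Sc (L G0 : Subgroup G) (t : G) : Prop extends St L G0 t where
  cyc : ∀ R ≤ C[L], IsPi {2} R → IsCyclic R

/-- The local data: `C(L) ∩ C(t) = ⟨t⟩ × D` with `D` of odd order, and the conjugates of `t` in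
`⟨t⟩ × Z` are the elements of `tZ`. -/
structure Lc {L : Subgroup G} (X : UD K L) (G0 : Subgroup G) (t : G) (D : Subgroup G) : Prop
    extends Sc L G0 t where
  odd : IsPi {2}ᶜ D
  D_L : D ≤ C[L]
  D_t : D ≤ C{t}
  dec : ∀ k ∈ C[L], k * t = t * k → k ∈ D ∨ k * t ∈ D
  zn : ∀ b, ¬ DD t (X.z b)
  dd : ∀ b, DD t (t * X.z b)

/-- The group `U` with `C(S) ∩ N(⟨t⟩Z) = ⟨t⟩U × D`. -/
structure YD {L : Subgroup G} (X : UD K L) (t : G) (D : Subgroup G) where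
  U : Subgroup G
  y : G → E
  c : E
  Z_le : X.Z ≤ U
  spec : ∀ u ∈ U, u * t * u⁻¹ = t * X.z (y u)
  onto : ∀ b, ∃ u ∈ U, y u = b
  ker : ∀ u ∈ U, y u = 0 → u ∈ X.Z
  sq : ∀ u ∈ U, u * u = X.z (c * y u)
  abl : Abl U
  U_S : U ≤ C[X.S]
  U_w : U ≤ C{X.w}
  U_D : U ≤ C[D]
  nrm : ∀ g ∈ N[X.S], g * t = t * g → g ∈ N[U]
  CQ : ∀ g ∈ C[X.S], ∀ b, g * t * g⁻¹ = t * X.z b → ∃ u ∈ U, ∃ d ∈ D, g = u * d ∨ g = t * u * d
  nd : ∀ s ∈ U, ¬ DD t s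

/-- The maximal `2`-subgroup `P` of `C(S)` in the homocyclic case `c = 1`. -/
structure Mp {L D : Subgroup G} {t : G} {X : UD K L} (Y : YD X t D) (G0 P : Subgroup G) : Prop
    extends Lc X G0 t D where
  c1 : Y.c = 1
  pi : IsPi {2} P
  t_mem : t ∈ P
  U_le : Y.U ≤ P
  P_N : P ≤ N[Y.U]
  P_S : P ≤ C[X.S]
  P_w : P ≤ C{X.w}
  P_D : P ≤ C[D]
  h_P : ∀ k, X.h k ∈ N[P]
  two : ∀ g ∈ N[P], g ∈ C[X.S] → PiElt {2} g → g ∈ P

/-- `X / A` is elementary with a non-degenerate commutator map onto `Z`. -/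
structure Spc (X A Z : Subgroup G) : Prop where
  Z_le : Z ≤ A
  A_le : A ≤ X
  cen : A ≤ C[X]
  el : ∀ a ∈ A, a * a = 1
  sq : ∀ x ∈ X, x * x ∈ Z
  onto : ∀ x ∈ X, x ∉ A → ∀ c ∈ Z, ∃ y ∈ X, x * y * x⁻¹ * y⁻¹ = c

/-- The centraliser of a singular vector in `q^{1+4}_+`. -/
structure Hyp (q : ℕ) (X A Z W1 W2 : Subgroup G) : Prop extends Spc X A Z where
  cZ : ♯Z = q
  cA : ♯A = q ^ 2
  c1 : ♯W1 = q ^ 3
  c2 : ♯W2 = q ^ 3
  el1 : ∀ a ∈ W1, a * a = 1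
  el2 : ∀ a ∈ W2, a * a = 1
  inf : W1 ⊓ W2 = A
  le1 : W1 ≤ X
  le2 : W2 ≤ X
  dec : ∀ x ∈ X, ∃ a ∈ W1, ∃ b ∈ W2, x = a * b
  cm : ∀ a ∈ W1, ∀ b ∈ W2, a * b = b * a → a ∈ A ∨ b ∈ A

/-- A `2`-group `B ≥ S` normalised by a Sylow `2`-subgroup of `C(t)`, and a Sylow `2`-subgroup `P` of
its normaliser. -/
structure Env {L : Subgroup G} (X : UD K L) (G0 : Subgroup G) (t : G) (D B P : Subgroup G) : Prop
    extends Lc X G0 t D where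
  pi : IsPi {2} B
  S_le : X.S ≤ B
  syl : Syl 2 N[B] P
  t_mem : t ∈ P
  sylT : Syl 2 C{t} (P ⊓ C{t})
  T_S : P ⊓ C{t} ≤ N[X.S]
  ct : B ⊓ C{t} ≤ X.S
  inv : ∀ p ∈ B, t * p * (t * p) = 1 → ∃ b ∈ B, t * p = b * t * b⁻¹

/-- The group `q^{1+4}` of the case `c = 1`. -/
structure C3D {L : Subgroup G} (X : UD K L) (t : G) where
  P : Subgroup G
  n : E
  π : G → F × E × E
  S_le : X.S ≤ P
  π_u : ∀ a b, π (X.u a b) = (a, 0, 0)
  π_mul : ∀ g ∈ P, ∀ k ∈ P, π (g * k) = π g + π k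
  π_ker : ∀ g ∈ P, π g = 0 → g ∈ X.Z
  π_surj : ∀ v, ∃ g ∈ P, π g = v
  sq : ∀ g ∈ P, g * g = X.z (K.Qv n (π g))
  zc : P ≤ C[X.Z]
  t_N : t ∈ N[P]
  π_t : ∀ g ∈ P, π (t * g * t⁻¹) = K.rf n (0, 1, 0) (π g)
  t_inv : ∀ g ∈ P, (π g).1 = 0 → (π g).2.2 = 0 → t * g * t⁻¹ = g⁻¹
  h_N : ∀ k, X.h k ∈ N[P]
  π_h : ∀ (k : Eˣ), ∀ g ∈ P, π (X.h k * g * (X.h k)⁻¹) = (k : E) • π g
  w_c : ∀ g ∈ P, (π g).1 = 0 → X.w * g = g * X.w
  syl : ∃ T, Syl 2 C{t} T ∧ T ≤ N[X.S] ∧ T ≤ N[P]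

namespace C3D
variable {L : Subgroup G} {t : G} {X : UD K L} (Y : C3D X t)

/-- `x` acts on `V = P / Z` as `φ`. -/
def Ac (x : G) (φ : F × E × E → F × E × E) : Prop := ∀ p ∈ Y.P, Y.π (x * p * x⁻¹) = φ (Y.π p)
/-- the second factor of `P = S ∘ S₁` -/
def S1 : Subgroup G := closure {g | g ∈ Y.P ∧ (Y.π g).1 = 0}
/-- the preimage of the singular line spanned by `(a, 1, 0)` -/
def J (a : F) : Subgroup G := closure {g | g ∈ Y.P ∧ ∃ e : E, Y.π g = e • (a, 1, 0)}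
/-- the preimage of the centraliser of `t` in `R / P`. -/
def CT (R : Subgroup G) : Subgroup G := Y.P ⊔ R ⊓ C{t}

end C3D

/-- The action of `P` on `V`. -/
structure PC {L : Subgroup G} {t : G} {X : UD K L} (Y : C3D X t) (G0 D P : Subgroup G) (a : F) : Prop
    extends Env X G0 t D Y.P P where
  P_D : Y.P ≤ C[D]
  na : K.nm a = 1
  lin : ∀ x ∈ Y.CT P, x ∈ C[X.Z] →
    x ∈ Y.P ∨ x * t ∈ Y.P ∨ Y.Ac x (K.rf Y.n (a, 0, 0)) ∨ Y.Ac x (K.ts Y.n a)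
  sw : ∀ x ∈ P, x ∉ Y.CT P → Y.Ac (x * t * x⁻¹) (K.rf Y.n (a, 0, 0))

/-- The group of order `q⁶` of the case `c = 0`, before coordinates are chosen. -/
structure PZ {L D : Subgroup G} {t : G} {X : UD K L} (Y : YD X t D) (P0 : Subgroup G) (s : G → F) :
    Prop where
  c0 : Y.c = 0
  S_le : X.S ≤ P0
  U_le : Y.U ≤ P0
  cen : P0 ≤ C[Y.U]
  sq0 : ∀ g ∈ P0, g * g ∈ X.S ⊔ Y.U
  triv : ∀ g ∈ P0, ∀ p ∈ X.S, g * p * g⁻¹ * p⁻¹ ∈ Y.U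
  spec : ∀ g ∈ P0, ∃ u ∈ Y.U, g * t * g⁻¹ = t * X.u (s g) 0 * u
  onto : ∀ a, ∃ g ∈ P0, s g = a
  ker : ∀ g ∈ P0, s g = 0 → g ∈ X.S ⊔ Y.U
  nrm : ∀ g ∈ N[X.S], g * t = t * g → g ∈ N[P0]
  P_D : P0 ≤ C[D]

/-- The group of order `q⁶` of the case `c = 0`, in coordinates. -/
structure PB {L : Subgroup G} (X : UD K L) (t : G) (A : Type*) [AddCommGroup A] (q : F × F → A)
    (ι : E → A) (τ : A → A) where
  P : Subgroup G
  π : G → F × F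
  m : A → G
  two : ∀ x : A, x + x = 0
  fixτ : ∀ x, τ x = x ↔ ∃ b, x = ι b
  trτ : ∀ b, ∃ y, τ y + y = ι b
  m_add : ∀ x y, m (x + y) = m x * m y
  m_inj : ∀ {x y}, m x = m y → x = y
  m_mem : ∀ x, m x ∈ P
  m_cen : ∀ x, m x ∈ C[P]
  π_mul : ∀ g ∈ P, ∀ k ∈ P, π (g * k) = π g + π k
  π_ker : ∀ g ∈ P, π g = 0 ↔ ∃ x, g = m x
  π_surj : ∀ v, ∃ g ∈ P, π g = v
  sq : ∀ g ∈ P, g * g = m (q (π g))
  z_eq : ∀ b, X.z b = m (ι b)
  S_le : X.S ≤ P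
  π_u : ∀ a b, π (X.u a b) = (a, a)
  π_t : ∀ g ∈ P, π (t * g * t⁻¹) = (π g).swap
  t_m : ∀ x, t * m x * t⁻¹ = m (τ x)
  nrm : ∀ g ∈ N[X.S], g * t = t * g → g ∈ N[P]
  π_h : ∀ (k : Eˣ), ∀ g ∈ P, π (X.h k * g * (X.h k)⁻¹) = (k : E) • π g

namespace PB
variable {L : Subgroup G} {t : G} {X : UD K L} {A : Type*} [AddCommGroup A] {q : F × F → A}
  {ι : E → A} {τ : A → A} (Y : PB X t A q ι τ)

/-- the centre of `P` -/
def U : Subgroup G := closure (Set.range Y.m)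
/-- the preimage of `F × 0` -/
def A1 : Subgroup G := closure {g | g ∈ Y.P ∧ (Y.π g).2 = 0}
/-- the preimage of `0 × F` -/
def A2 : Subgroup G := closure {g | g ∈ Y.P ∧ (Y.π g).1 = 0}

end PB

/-- `P` is a Sylow `2`-subgroup of `L₃(q²)`. -/
abbrev NS {L : Subgroup G} (X : UD K L) (t : G) :=
  PB X t F (fun v => v.1 * K.σ v.2) (algebraMap E F) K.σ

/-- `P` is a Sylow `2`-subgroup of `U₃(q) × U₃(q)`. -/
abbrev SP {L : Subgroup G} (X : UD K L) (t : G) :=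
  PB X t (E × E) (fun v => (K.nm v.1, K.nm v.2)) (fun b => (b, b)) Prod.swap

end H2.U3
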