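import Mathlib
import Cfsg.Agent.H2.UDefs

set_option autoImplicit false
set_option linter.unusedVariables false
set_option linter.unusedSectionVars false

namespace H2.U3

open Cfsg H24 Subgroup
open H2.SZ (St DD Goal)
open H2.C2 (Cl2)

universe u v

variable {G : Type u} [Group G] [Finite G] {E F : Type*} [Field E] [Fintype E] [Field F] [Fintype F]
  [Algebra E F] {K : UF E F} {L G0 D P P0 Q R A B C H T M W W1 W2 Z1 Z2 : Subgroup G}
  {t g s f x y i v p : G} {X : UD K L} {a k : F} {b : E} {ρ : F ≃+* F}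

local notation "𝐪" => Fintype.card E

/-! ### U0 -/

theorem UF.U0_charP (K : UF E F) : CharP E 2 := CharTwo.of_one_ne_zero_of_two_eq_zero one_ne_zero K.two

theorem UF.U0_rt (K : UF E F) : ∃ rt : E ≃+* E, ∀ x, rt x ^ 2 = x := by
  have := K.U0_charP
  have : Fact (Nat.Prime 2) := ⟨Nat.prime_two⟩
  exact ⟨(frobeniusEquiv E 2).symm, fun x => frobenius_apply_frobeniusEquiv_symm E 2 x⟩

theorem UF.U0_ne (K : UF E F) (a b c : E) : ∃ x, x ≠ a ∧ x ≠ b ∧ x ≠ c := by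
  classical
  by_contra h
  have : (Finset.univ : Finset E) ⊆ {a, b, c} := fun x _ => by
    by_contra hx
    exact h ⟨x, by simpa [not_or] using hx⟩
  have h1 := (Finset.card_le_card this).trans Finset.card_le_three
  have := K.four
  rw [Finset.card_univ] at h1
  omega

theorem UF.addE (K : UF E F) (x : E) : x + x = 0 := by linear_combination x * K.two

theorem UF.twoF (K : UF E F) : (2 : F) = 0 := by
  have := congrArg (algebraMap E F) K.two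
  rwa [map_ofNat, map_zero] at this

theorem UF.addF (K : UF E F) (x : F) : x + x = 0 := by linear_combination x * K.twoF

theorem UF.addV (K : UF E F) (x : F × E × E) : x + x = 0 := by
  ext
  exacts [K.addF _, K.addE _, K.addE _]

theorem UF.σ_alg (K : UF E F) (b : E) : K.σ (algebraMap E F b) = algebraMap E F b := (K.fix _).2 ⟨b, rfl⟩

theorem UF.σ_smul (K : UF E F) (e : E) (x : F) : K.σ (e • x) = e • K.σ x := by
  rw [Algebra.smul_def, Algebra.smul_def, map_mul, K.σ_alg]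

theorem UF.σ_ne (K : UF E F) : K.σ ≠ 1 := fun h => by
  have := K.tr_eq K.ω
  rw [K.tr_ω, map_one, h] at this
  exact one_ne_zero (this.trans (K.addF _))

theorem UF.σ_w (K : UF E F) : K.σ K.w ≠ K.w := fun h => by
  have := K.nm_eq K.w
  rw [K.nm_w, map_one, h] at this
  refine K.w1 ?_
  have e : (K.w - 1) ^ 2 = 0 := by linear_combination -this + (1 - K.w) * K.twoF
  exact sub_eq_zero.1 (pow_eq_zero_iff two_ne_zero |>.1 e)

theorem UF.w0 (K : UF E F) : K.w ≠ 0 := fun h => by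
  have := K.nm_eq K.w
  rw [K.nm_w, map_one, h, zero_mul] at this
  exact one_ne_zero this

theorem UF.nm_zero (K : UF E F) : K.nm 0 = 0 := (algebraMap E F).injective <| by
  simp [K.nm_eq]

theorem UF.nm_one (K : UF E F) : K.nm 1 = 1 := (algebraMap E F).injective <| by
  simp [K.nm_eq]

theorem UF.nm_mul (K : UF E F) (x y : F) : K.nm (x * y) = K.nm x * K.nm y := (algebraMap E F).injective <| by
  simp only [K.nm_eq, map_mul]; ring

theorem UF.nm_σ (K : UF E F) (x : F) : K.nm (K.σ x) = K.nm x := (algebraMap E F).injective <| by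
  simp only [K.nm_eq, K.σσ]; ring

theorem UF.nm_smul (K : UF E F) (e : E) (x : F) : K.nm (e • x) = e ^ 2 * K.nm x := (algebraMap E F).injective <| by
  simp only [K.nm_eq, map_mul, map_pow, Algebra.smul_def, K.σ_alg]; ring

theorem UF.nm_alg (K : UF E F) (e : E) : K.nm (algebraMap E F e) = e ^ 2 := (algebraMap E F).injective <| by
  simp only [K.nm_eq, map_pow, K.σ_alg]; ring

theorem UF.nm_add (K : UF E F) (x y : F) : K.nm (x + y) = K.nm x + K.nm y + K.B x y := (algebraMap E F).injective <| by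
  simp only [UF.B, K.nm_eq, K.tr_eq, map_mul, map_add, K.σσ]; ring

theorem UF.nm_eq_zero (K : UF E F) {x : F} : K.nm x = 0 ↔ x = 0 := by
  rw [← map_eq_zero_iff _ (algebraMap E F).injective, K.nm_eq]
  simp

theorem UF.nm_surj (K : UF E F) (b : E) : ∃ x, K.nm x = b := by
  obtain ⟨rt, h⟩ := K.U0_rt
  exact ⟨algebraMap E F (rt b), by rw [K.nm_alg, h]⟩

theorem UF.tr_zero (K : UF E F) : K.tr 0 = 0 := (algebraMap E F).injective <| by
  simp [K.tr_eq]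

theorem UF.tr_add (K : UF E F) (x y : F) : K.tr (x + y) = K.tr x + K.tr y := (algebraMap E F).injective <| by
  simp only [K.tr_eq, map_add]; ring

theorem UF.tr_smul (K : UF E F) (e : E) (x : F) : K.tr (e • x) = e * K.tr x := (algebraMap E F).injective <| by
  simp only [K.tr_eq, map_mul, Algebra.smul_def, K.σ_alg]; ring

theorem UF.tr_σ (K : UF E F) (x : F) : K.tr (K.σ x) = K.tr x := (algebraMap E F).injective <| by
  simp only [K.tr_eq, K.σσ]; ring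

theorem UF.tr_alg (K : UF E F) (e : E) : K.tr (algebraMap E F e) = 0 := (algebraMap E F).injective <| by
  rw [K.tr_eq, K.σ_alg, K.addF, map_zero]

theorem UF.tr_eq_zero (K : UF E F) {x : F} : K.tr x = 0 ↔ ∃ e, x = algebraMap E F e := by
  rw [← map_eq_zero_iff _ (algebraMap E F).injective, K.tr_eq]
  refine ⟨fun h => ?_, ?_⟩
  · obtain ⟨e, he⟩ := (K.fix x).1 (by linear_combination h - x * K.twoF)
    exact ⟨e, he.symm⟩
  · rintro ⟨e, rfl⟩
    rw [K.σ_alg, K.addF]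

theorem UF.coord (K : UF E F) (x : F) : ∃ e, x = algebraMap E F e + K.tr x • K.ω := by
  obtain ⟨e, he⟩ := (K.tr_eq_zero (x := x + K.tr x • K.ω)).1 (by
    rw [K.tr_add, K.tr_smul, K.tr_ω, mul_one, K.addE])
  exact ⟨e, by rw [← he, add_assoc, K.addF, add_zero]⟩

theorem UF.B_comm (K : UF E F) (x y : F) : K.B x y = K.B y x := (algebraMap E F).injective <| by
  simp only [UF.B, K.tr_eq, map_mul, K.σσ]; ring

theorem UF.B_self (K : UF E F) (x : F) : K.B x x = 0 := (algebraMap E F).injective <| by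
  simp only [UF.B, K.tr_eq, map_mul, K.σσ, map_zero]; linear_combination x * K.σ x * K.twoF

theorem UF.B_zero_left (K : UF E F) (x : F) : K.B 0 x = 0 := by rw [UF.B, zero_mul, K.tr_zero]

theorem UF.B_zero_right (K : UF E F) (x : F) : K.B x 0 = 0 := by rw [UF.B, map_zero, mul_zero, K.tr_zero]

theorem UF.B_add_left (K : UF E F) (x y w : F) : K.B (x + y) w = K.B x w + K.B y w := by
  simp only [UF.B, add_mul, K.tr_add]

theorem UF.B_add_right (K : UF E F) (x y w : F) : K.B w (x + y) = K.B w x + K.B w y := by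
  simp only [UF.B, map_add, mul_add, K.tr_add]

theorem UF.B_smul_left (K : UF E F) (e : E) (x y : F) : K.B (e • x) y = e * K.B x y := by
  simp only [UF.B, smul_mul_assoc, K.tr_smul]

theorem UF.B_smul_right (K : UF E F) (e : E) (x y : F) : K.B x (e • y) = e * K.B x y := by
  simp only [UF.B, K.σ_smul, mul_smul_comm, K.tr_smul]

theorem UF.B_mul (K : UF E F) (k x y : F) : K.B (k * x) (k * y) = K.nm k * K.B x y := (algebraMap E F).injective <| by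
  simp only [UF.B, K.tr_eq, K.nm_eq, map_mul, K.σσ]; ring

theorem UF.B_σ (K : UF E F) (x y : F) : K.B (K.σ x) (K.σ y) = K.B x y := (algebraMap E F).injective <| by
  simp only [UF.B, K.tr_eq, map_mul, K.σσ]; ring

theorem UF.B_eq_zero (K : UF E F) (ha : a ≠ 0) {x : F} : K.B x a = 0 ↔ ∃ e : E, x = e • a := by
  have hs : K.σ a ≠ 0 := by simpa using ha
  have hn : K.nm a ≠ 0 := fun h => ha (K.nm_eq_zero.1 h)
  refine ⟨fun h => ?_, ?_⟩
  · obtain ⟨e, he⟩ := K.tr_eq_zero.1 h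
    refine ⟨e / K.nm a, mul_right_cancel₀ hs ?_⟩
    rw [he, smul_mul_assoc, ← K.nm_eq, Algebra.smul_def, ← map_mul, div_mul_cancel₀ _ hn]
  · rintro ⟨e, rfl⟩
    rw [K.B_smul_left, K.B_self, mul_zero]

theorem UF.B_surj (K : UF E F) (ha : a ≠ 0) (c : E) : ∃ x, K.B a x = c := by
  refine ⟨K.σ (c • K.ω / a), ?_⟩
  rw [UF.B, K.σσ, mul_div_cancel₀ _ ha, K.tr_smul, K.tr_ω, mul_one]

theorem UF.β_self (K : UF E F) (x : F) : K.β x x = K.nm x := by
  rw [UF.β, mul_assoc, ← K.nm_eq, mul_comm, ← Algebra.smul_def, K.tr_smul, K.tr_σ, K.tr_ω, mul_one]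

theorem UF.β_add_β (K : UF E F) (x y : F) : K.β x y + K.β y x = K.B x y := (algebraMap E F).injective <| by
  have := K.tr_eq K.ω
  rw [K.tr_ω, map_one] at this
  simp only [UF.B, UF.β, K.tr_eq, map_mul, map_add, K.σσ]
  linear_combination -(x * K.σ y + K.σ x * y) * this

theorem UF.β_zero_left (K : UF E F) (x : F) : K.β 0 x = 0 := by rw [UF.β, mul_zero, zero_mul, K.tr_zero]

theorem UF.β_zero_right (K : UF E F) (x : F) : K.β x 0 = 0 := by rw [UF.β, map_zero, mul_zero, K.tr_zero]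

theorem UF.β_add_left (K : UF E F) (x y w : F) : K.β (x + y) w = K.β x w + K.β y w := by
  simp only [UF.β, add_mul, mul_add, K.tr_add]

theorem UF.β_add_right (K : UF E F) (x y w : F) : K.β w (x + y) = K.β w x + K.β w y := by
  simp only [UF.β, map_add, mul_add, K.tr_add]

theorem UF.β_σ (K : UF E F) (x y : F) : K.β (K.σ x) (K.σ y) = K.β x y + K.B x y := (algebraMap E F).injective <| by
  have := K.tr_eq K.ω
  rw [K.tr_ω, map_one] at this
  simp only [UF.B, UF.β, K.tr_eq, map_mul, map_add, K.σσ]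
  linear_combination (x * K.σ y + K.σ x * y) * this +
    (K.σ K.ω * K.σ x * y + K.ω * x * K.σ y - (x * K.σ y + K.σ x * y)) * K.twoF

theorem UF.exists_rt (K : UF E F) : ∃ rt : E ≃+* E, ∀ x, rt x ^ 2 = x := K.U0_rt

theorem UF.sq_inj (K : UF E F) {x y : E} (h : x ^ 2 = y ^ 2) : x = y := by
  obtain ⟨rt, hr⟩ := K.exists_rt
  have e : ∀ z, rt (z ^ 2) = z := fun z => by rw [map_pow, hr]
  rw [← e x, h, e]

theorem UF.exists_unit (K : UF E F) : ∃ k : Eˣ, k ≠ 1 := by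
  obtain ⟨x, h0, h1, -⟩ := K.U0_ne 0 1 1
  exact ⟨Units.mk0 x h0, fun e => h1 (congrArg Units.val e)⟩

theorem UF.exists_ne (K : UF E F) (x y z : E) : ∃ e, e ≠ x ∧ e ≠ y ∧ e ≠ z := K.U0_ne x y z

theorem UF.exists_sq (K : UF E F) {x y : E} (hx : x ≠ 0) (hy : y ≠ 0) :
    ∃ k : Eˣ, (k : E) ^ 2 * x = y := by
  obtain ⟨rt, hr⟩ := K.exists_rt
  refine ⟨Units.mk0 (rt (y / x)) (by simp [hx, hy]), ?_⟩
  rw [Units.val_mk0, hr, div_mul_cancel₀ _ hx]

theorem UF.pow2 (K : UF E F) : ∃ n, 2 ≤ n ∧ 𝐪 = 2 ^ n := by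
  have := K.U0_charP
  obtain ⟨n, -, hn⟩ := FiniteField.card E 2
  refine ⟨n, ?_, hn⟩
  by_contra h
  have h4 := K.four
  have : 2 ^ (n : ℕ) ≤ 2 ^ 1 := Nat.pow_le_pow_right two_pos (by omega)
  omega

theorem UF.Qv_add (K : UF E F) (n : E) (v v' : F × E × E) :
    K.Qv n (v + v') = K.Qv n v + K.Qv n v' + K.Bv v v' := by
  simp only [UF.Qv, UF.Bv, Prod.fst_add, Prod.snd_add, K.nm_add]
  linear_combination (v.2.1 * v'.2.1 + n * v.2.2 * v'.2.2) * K.two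

theorem UF.Qv_smul (K : UF E F) (n e : E) (v : F × E × E) : K.Qv n (e • v) = e ^ 2 * K.Qv n v := by
  simp only [UF.Qv, Prod.smul_fst, Prod.smul_snd, K.nm_smul, smul_eq_mul]; ring

theorem UF.Qv_zero (K : UF E F) (n : E) : K.Qv n 0 = 0 := by
  simp [UF.Qv, K.nm_zero]

theorem UF.Bv_comm (K : UF E F) (v v' : F × E × E) : K.Bv v v' = K.Bv v' v := by
  simp only [UF.Bv, K.B_comm v.1]; ring

theorem UF.Bv_self (K : UF E F) (v : F × E × E) : K.Bv v v = 0 := by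
  simp only [UF.Bv, K.B_self]; linear_combination v.2.1 * v.2.2 * K.two

theorem UF.Bv_add_left (K : UF E F) (v v' w : F × E × E) : K.Bv (v + v') w = K.Bv v w + K.Bv v' w := by
  simp only [UF.Bv, Prod.fst_add, Prod.snd_add, K.B_add_left]; ring

theorem UF.Bv_add_right (K : UF E F) (v v' w : F × E × E) : K.Bv w (v + v') = K.Bv w v + K.Bv w v' := by
  simp only [UF.Bv, Prod.fst_add, Prod.snd_add, K.B_add_right]; ring

theorem UF.Bv_smul_left (K : UF E F) (e : E) (v w : F × E × E) : K.Bv (e • v) w = e * K.Bv v w := by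
  simp only [UF.Bv, Prod.smul_fst, Prod.smul_snd, K.B_smul_left, smul_eq_mul]; ring

theorem UF.Bv_smul_right (K : UF E F) (e : E) (v w : F × E × E) : K.Bv v (e • w) = e * K.Bv v w := by
  simp only [UF.Bv, Prod.smul_fst, Prod.smul_snd, K.B_smul_right, smul_eq_mul]; ring

theorem UF.Bv_surj (K : UF E F) {v : F × E × E} (h : v ≠ 0) (c : E) : ∃ w, K.Bv v w = c := by
  obtain ⟨a, x, y⟩ := v
  by_cases ha : a = 0
  · by_cases hx : x = 0
    · have hy : y ≠ 0 := by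
        rintro rfl
        exact h (by rw [ha, hx]; rfl)
      exact ⟨(0, c / y, 0), by simp [UF.Bv, K.B_zero_right, mul_div_cancel₀ _ hy]⟩
    · exact ⟨(0, 0, c / x), by simp [UF.Bv, K.B_zero_right, mul_div_cancel₀ _ hx]⟩
  · obtain ⟨w, hw⟩ := K.B_surj ha c
    exact ⟨(w, 0, 0), by simp [UF.Bv, hw]⟩

theorem UF.rf_e (K : UF E F) (n : E) (v : F × E × E) :
    K.rf n (0, 1, 0) v = (v.1, v.2.1 + v.2.2, v.2.2) := by
  ext <;> simp [UF.rf, UF.Bv, UF.Qv, K.B_zero_right, K.nm_zero]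

theorem UF.rf_a (K : UF E F) (n : E) (ha : K.nm a = 1) (v : F × E × E) :
    K.rf n (a, 0, 0) v = (v.1 + K.B v.1 a • a, v.2) := by
  ext <;> simp [UF.rf, UF.Bv, UF.Qv, ha]

theorem UF.ts_eq (K : UF E F) (n : E) (ha : K.nm a = 1) (v : F × E × E) :
    K.ts n a v = (v.1 + K.B v.1 a • a, v.2.1 + v.2.2, v.2.2) := by
  rw [UF.ts, K.rf_a n ha, K.rf_e]

theorem UD.u_zero (X : UD K L) : X.u 0 0 = 1 := by
  have := X.u_mul 0 0 0 0
  simp only [add_zero, K.β_zero_left] at this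
  exact mul_left_cancel (this.trans (mul_one _).symm)

theorem UD.u_inv (X : UD K L) (a : F) (b : E) : (X.u a b)⁻¹ = X.u a (b + K.nm a) := by
  rw [inv_eq_iff_mul_eq_one, X.u_mul, ← X.u_zero, K.addF, K.β_self]
  congr 1
  linear_combination (b + K.nm a) * K.two

theorem UD.z_zero (X : UD K L) : X.z 0 = 1 := X.u_zero

theorem UD.z_mul (X : UD K L) (b c : E) : X.z b * X.z c = X.z (b + c) := by
  simp only [UD.z, X.u_mul, add_zero, K.β_zero_left]

theorem UD.z_sq (X : UD K L) (b : E) : X.z b * X.z b = 1 := by rw [X.z_mul, K.addE, X.z_zero]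

theorem UD.z_inv (X : UD K L) (b : E) : (X.z b)⁻¹ = X.z b := inv_eq_of_mul_eq_one_right (X.z_sq b)

theorem UD.z_inj (X : UD K L) {b c : E} (h : X.z b = X.z c) : b = c := (X.u_inj h).2

theorem UD.z_eq_one (X : UD K L) : X.z b = 1 ↔ b = 0 := ⟨fun h => X.z_inj (h.trans X.z_zero.symm), fun h => h ▸ X.z_zero⟩

theorem UD.z1 (X : UD K L) : X.z 1 ≠ 1 := fun h => one_ne_zero (X.z_eq_one.1 h)

theorem UD.u_sq (X : UD K L) (a : F) (b : E) : X.u a b * X.u a b = X.z (K.nm a) := by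
  rw [X.u_mul, K.addF, K.addE, K.β_self, zero_add, UD.z]

theorem UD.z_u (X : UD K L) (a : F) (b c : E) : X.z c * X.u a b = X.u a b * X.z c := by
  simp only [UD.z, X.u_mul, add_zero, zero_add, K.β_zero_left, K.β_zero_right, add_comm c]

theorem UD.u_z (X : UD K L) (a : F) (b c : E) : X.u a b * X.z c = X.u a (b + c) := by
  simp only [UD.z, X.u_mul, add_zero, K.β_zero_right]

theorem UD.u_eq (X : UD K L) (a : F) (b : E) : X.u a b = X.u a 0 * X.z b := by rw [X.u_z, zero_add]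

theorem UD.u_conj (X : UD K L) (a c : F) (b d : E) :
    X.u a b * X.u c d * (X.u a b)⁻¹ = X.u c d * X.z (K.B a c) := by
  rw [mul_inv_eq_iff_eq_mul, X.u_z, X.u_mul, X.u_mul, add_comm a c, ← K.β_add_β]
  congr 1
  linear_combination -(K.β c a) * K.two

theorem UD.h_z (X : UD K L) (k : Eˣ) (b : E) :
    X.h k * X.z b * (X.h k)⁻¹ = X.z ((k : E) ^ 2 * b) := by
  rw [UD.z, X.h_u, smul_zero, UD.z]

theorem UD.w_z (X : UD K L) (b : E) : X.w * X.z b = X.z b * X.w := by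
  rw [← mul_inv_eq_iff_eq_mul, UD.z, X.w_u, mul_zero]

theorem UD.mem_S (X : UD K L) : g ∈ X.S ↔ ∃ a b, g = X.u a b := by
  let M : Subgroup G := ⟨⟨⟨{g | ∃ a b, g = X.u a b}, by
    rintro _ _ ⟨a, b, rfl⟩ ⟨c, d, rfl⟩; exact ⟨_, _, X.u_mul ..⟩⟩, 0, 0, X.u_zero.symm⟩, by
    rintro _ ⟨a, b, rfl⟩; exact ⟨_, _, X.u_inv ..⟩⟩
  refine ⟨fun h => (closure_le M).2 ?_ h, ?_⟩
  · rintro _ ⟨p, rfl⟩; exact ⟨_, _, rfl⟩
  · rintro ⟨a, b, rfl⟩; exact subset_closure ⟨(a, b), rfl⟩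

theorem UD.mem_Z (X : UD K L) : g ∈ X.Z ↔ ∃ b, g = X.z b := by
  let M : Subgroup G := ⟨⟨⟨{g | ∃ b, g = X.z b}, by
    rintro _ _ ⟨b, rfl⟩ ⟨d, rfl⟩; exact ⟨_, X.z_mul ..⟩⟩, 0, X.z_zero.symm⟩, by
    rintro _ ⟨b, rfl⟩; exact ⟨_, X.z_inv ..⟩⟩
  refine ⟨fun h => (closure_le M).2 ?_ h, ?_⟩
  · rintro _ ⟨p, rfl⟩; exact ⟨_, rfl⟩
  · rintro ⟨b, rfl⟩; exact subset_closure ⟨b, rfl⟩

theorem UD.u_mem_S (X : UD K L) (a : F) (b : E) : X.u a b ∈ X.S := X.mem_S.2 ⟨a, b, rfl⟩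

theorem UD.z_mem_Z (X : UD K L) (b : E) : X.z b ∈ X.Z := X.mem_Z.2 ⟨b, rfl⟩

theorem UD.z_mem (X : UD K L) (b : E) : X.z b ∈ L := X.u_mem 0 b

theorem UD.Z_le_S (X : UD K L) : X.Z ≤ X.S := fun g hg => by
  obtain ⟨b, rfl⟩ := X.mem_Z.1 hg
  exact X.u_mem_S 0 b

theorem UD.S_le (X : UD K L) : X.S ≤ L := fun g hg => by
  obtain ⟨a, b, rfl⟩ := X.mem_S.1 hg
  exact X.u_mem a b

theorem UD.ZZ.conj (h : X.ZZ x) (g : G) : X.ZZ (g * x * g⁻¹) := by
  obtain ⟨k, b, hb, rfl⟩ := h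
  exact ⟨g * k, b, hb, by group⟩

theorem UD.ZZ.sq (h : X.ZZ x) : x * x = 1 ∧ x ≠ 1 := by
  obtain ⟨k, b, hb, rfl⟩ := h
  refine ⟨by rw [conj_mul, X.z_sq, mul_one, mul_inv_cancel], fun e => hb ?_⟩
  rwa [conj_eq_one_iff, X.z_eq_one] at e

theorem C3D.U0_one (Y : C3D X t) : Y.π 1 = 0 := by
  have := Y.π_mul 1 (one_mem _) 1 (one_mem _)
  rwa [mul_one, left_eq_add] at this

theorem C3D.U0_inv (Y : C3D X t) (hg : g ∈ Y.P) : Y.π g⁻¹ = Y.π g := by
  have := Y.π_mul g hg g⁻¹ (inv_mem hg)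
  rw [mul_inv_cancel, Y.U0_one, ← K.addV (Y.π g)] at this
  exact (add_left_cancel this).symm

theorem C3D.mem_S1 (Y : C3D X t) : g ∈ Y.S1 ↔ g ∈ Y.P ∧ (Y.π g).1 = 0 := by
  let M : Subgroup G := ⟨⟨⟨{g | g ∈ Y.P ∧ (Y.π g).1 = 0}, by
    rintro _ _ ⟨a, b⟩ ⟨c, d⟩; exact ⟨mul_mem a c, by rw [Y.π_mul _ a _ c, Prod.fst_add, b, d, add_zero]⟩⟩,
    one_mem _, by rw [Y.U0_one]; rfl⟩, by
    rintro _ ⟨a, b⟩; exact ⟨inv_mem a, by rwa [Y.U0_inv a]⟩⟩
  exact ⟨fun h => (closure_le M).2 (fun _ h => h) h, fun h => subset_closure h⟩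

theorem C3D.mem_J (Y : C3D X t) : g ∈ Y.J a ↔ g ∈ Y.P ∧ ∃ e : E, Y.π g = e • (a, 1, 0) := by
  let M : Subgroup G := ⟨⟨⟨{g | g ∈ Y.P ∧ ∃ e : E, Y.π g = e • (a, 1, 0)}, by
    rintro _ _ ⟨a, e, b⟩ ⟨c, e', d⟩
    exact ⟨mul_mem a c, e + e', by rw [Y.π_mul _ a _ c, b, d, add_smul]⟩⟩,
    one_mem _, 0, by rw [Y.U0_one, zero_smul]⟩, by
    rintro _ ⟨a, b⟩; exact ⟨inv_mem a, by rwa [Y.U0_inv a]⟩⟩
  exact ⟨fun h => (closure_le M).2 (fun _ h => h) h, fun h => subset_closure h⟩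

theorem C3D.π_z (Y : C3D X t) (b : E) : Y.π (X.z b) = 0 := Y.π_u 0 b

theorem C3D.π_one (Y : C3D X t) : Y.π 1 = 0 := Y.U0_one

theorem C3D.π_inv (Y : C3D X t) (hg : g ∈ Y.P) : Y.π g⁻¹ = Y.π g := Y.U0_inv hg

section
variable {A0 : Type*} [AddCommGroup A0] {q0 : F × F → A0} {ι : E → A0} {τ : A0 → A0}
theorem PB.U0_one (Y : PB X t A0 q0 ι τ) : Y.π 1 = 0 := by
  have := Y.π_mul 1 (one_mem _) 1 (one_mem _)
  rwa [mul_one, left_eq_add] at this

theorem PB.U0_inv (Y : PB X t A0 q0 ι τ) (hg : g ∈ Y.P) : Y.π g⁻¹ = Y.π g := by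
  have := Y.π_mul g hg g⁻¹ (inv_mem hg)
  have e : Y.π g + Y.π g = 0 := Prod.ext (K.addF _) (K.addF _)
  rw [mul_inv_cancel, Y.U0_one, ← e] at this
  exact (add_left_cancel this).symm

theorem PB.U0_m (Y : PB X t A0 q0 ι τ) : Y.m 0 = 1 := by
  have := Y.m_add 0 0
  rwa [add_zero, left_eq_mul] at this

theorem PB.mem_U (Y : PB X t A0 q0 ι τ) : g ∈ Y.U ↔ ∃ x, g = Y.m x := by
  let M : Subgroup G := ⟨⟨⟨{g | ∃ b, g = Y.m b}, by
    rintro _ _ ⟨b, rfl⟩ ⟨d, rfl⟩; exact ⟨_, (Y.m_add ..).symm⟩⟩, 0, Y.U0_m.symm⟩, by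
    rintro _ ⟨b, rfl⟩
    exact ⟨b, inv_eq_of_mul_eq_one_right (by rw [← Y.m_add, Y.two, Y.U0_m])⟩⟩
  refine ⟨fun h => (closure_le M).2 ?_ h, ?_⟩
  · rintro _ ⟨p, rfl⟩; exact ⟨_, rfl⟩
  · rintro ⟨b, rfl⟩; exact subset_closure ⟨b, rfl⟩

theorem PB.mem_A1 (Y : PB X t A0 q0 ι τ) : g ∈ Y.A1 ↔ g ∈ Y.P ∧ (Y.π g).2 = 0 := by
  let M : Subgroup G := ⟨⟨⟨{g | g ∈ Y.P ∧ (Y.π g).2 = 0}, by
    rintro _ _ ⟨a, b⟩ ⟨c, d⟩; exact ⟨mul_mem a c, by rw [Y.π_mul _ a _ c, Prod.snd_add, b, d, add_zero]⟩⟩,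
    one_mem _, by rw [Y.U0_one]; rfl⟩, by
    rintro _ ⟨a, b⟩; exact ⟨inv_mem a, by rwa [Y.U0_inv a]⟩⟩
  exact ⟨fun h => (closure_le M).2 (fun _ h => h) h, fun h => subset_closure h⟩

theorem PB.mem_A2 (Y : PB X t A0 q0 ι τ) : g ∈ Y.A2 ↔ g ∈ Y.P ∧ (Y.π g).1 = 0 := by
  let M : Subgroup G := ⟨⟨⟨{g | g ∈ Y.P ∧ (Y.π g).1 = 0}, by
    rintro _ _ ⟨a, b⟩ ⟨c, d⟩; exact ⟨mul_mem a c, by rw [Y.π_mul _ a _ c, Prod.fst_add, b, d, add_zero]⟩⟩,
    one_mem _, by rw [Y.U0_one]; rfl⟩, by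
    rintro _ ⟨a, b⟩; exact ⟨inv_mem a, by rwa [Y.U0_inv a]⟩⟩
  exact ⟨fun h => (closure_le M).2 (fun _ h => h) h, fun h => subset_closure h⟩

theorem PB.π_one (Y : PB X t A0 q0 ι τ) : Y.π 1 = 0 := Y.U0_one

theorem PB.π_inv (Y : PB X t A0 q0 ι τ) (hg : g ∈ Y.P) : Y.π g⁻¹ = Y.π g := Y.U0_inv hg

theorem PB.m_zero (Y : PB X t A0 q0 ι τ) : Y.m 0 = 1 := Y.U0_m

end


end H2.U3
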