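import Mathlib
import Cfsg.Prelude.Def_LieExceptional
import Cfsg.Agent.H2.U3D

/-! Split `(B, N)`-pairs of rank one of unitary type -/

set_option autoImplicit false

namespace H2.U3

open Cfsg Subgroup H24 MulAction

variable {G : Type*} [Group G]

/-- a `(B, N)`-pair of rank one: `G = B ∪ B s B` -/
theorem bn_rank_one (P : BNPair G) (h1 : P.rank = 1) :
    ∃ s ∈ P.N, s ∉ P.B ∧ s * s ∈ P.B ∧ ∀ g : G, g ∈ P.B ∨ ∃ b ∈ P.B, ∃ b' ∈ P.B, g = b * s * b' := by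
  obtain ⟨⟨s, hs⟩, hu⟩ := Nat.card_eq_one_iff_exists.1 h1
  have hS : P.S = {s} := Set.eq_singleton_iff_unique_mem.2
    ⟨hs, fun y hy => congrArg Subtype.val (hu ⟨y, hy⟩)⟩
  have hN := P.subset hs
  have h2 := P.sq_mem s hs
  refine ⟨s, hN, fun hB => P.conj_ne s hs ?_, h2, fun g => ?_⟩
  · ext y
    exact ⟨fun ⟨b, hb, e⟩ => e ▸ mul_mem (mul_mem hB hb) hB,
      fun hy => ⟨s⁻¹ * y * s⁻¹, mul_mem (mul_mem (inv_mem hB) hy) (inv_mem hB), by simp; group⟩⟩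
  let X : Subgroup G :=
    { carrier := {g | g ∈ P.B ∨ ∃ b ∈ P.B, ∃ b' ∈ P.B, g = b * s * b'}
      one_mem' := Or.inl (one_mem _)
      inv_mem' := by
        rintro g (h | ⟨b, hb, b', hb', rfl⟩)
        · exact Or.inl (inv_mem h)
        · exact Or.inr ⟨_, inv_mem hb', _, mul_mem (inv_mem h2) (inv_mem hb), by group⟩
      mul_mem' := by
        rintro g g' (h | ⟨b, hb, b', hb', rfl⟩) (h' | ⟨c, hc, c', hc', rfl⟩)
        · exact Or.inl (mul_mem h h')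
        · exact Or.inr ⟨_, mul_mem h hc, _, hc', by group⟩
        · exact Or.inr ⟨_, hb, _, mul_mem hb' h', by group⟩
        · rcases P.mul_mem_union s hs s hN _ (mul_mem hb' hc) with e | e
          · obtain ⟨x, hx, y, hy, e⟩ := DoubleCoset.mem_doubleCoset.1 e
            left
            have : b * s * b' * (c * s * c') = b * (s * (b' * c) * s) * c' := by group
            rw [this, e]
            exact mul_mem (mul_mem hb (mul_mem (mul_mem hx h2) hy)) hc'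
          · obtain ⟨x, hx, y, hy, e⟩ := DoubleCoset.mem_doubleCoset.1 e
            refine Or.inr ⟨_, mul_mem hb hx, _, mul_mem hy hc', ?_⟩
            calc _ = b * (s * (b' * c) * s) * c' := by group
              _ = _ := by rw [e]; group }
  have hB : P.B ≤ X := fun _ h => Or.inl h
  have : ⊤ ≤ X := by
    rw [← P.sup_eq_top, ← P.closure_sup, hS]
    refine sup_le hB (sup_le ((closure_le _).2 ?_) (inf_le_left.trans hB))
    rintro _ rfl
    exact Or.inr ⟨1, one_mem _, 1, one_mem _, by group⟩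
  exact this (mem_top g)

theorem bn_iso [Finite G] [IsSimpleGroup G] (P : BNPair G) (h1 : P.rank = 1) {q : ℕ}
    (hq : ∃ p n : ℕ, p.Prime ∧ p ≠ 2 ∧ n ≠ 0 ∧ q = p ^ n) (U : Subgroup G) (hUB : U ≤ P.B)
    (hUn : ∀ b ∈ P.B, ∀ u ∈ U, b * u * b⁻¹ ∈ U) (hsplit : U ⊔ (P.B ⊓ P.N) = P.B)
    (hdisj : U ⊓ (P.B ⊓ P.N) = ⊥) (hind : P.B.index = q ^ 3 + 1) (hU : Nat.card U = q ^ 3)
    (hHc : IsCyclic ↥(P.B ⊓ P.N)) (hH : ∃ d, Odd d ∧ d * Nat.card ↥(P.B ⊓ P.N) = q ^ 2 - 1)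
    (K : Type*) [Field K] [Fintype K] (hK : Fintype.card K = q ^ 2) :
    Nonempty (G ≃* PSU 3 K q) := by
  classical
  obtain ⟨s, hN, hs, h2, hg⟩ := bn_rank_one P h1
  have e1 : ∀ g : G, g • ((1 : G) : G ⧸ P.B) = (1 : G) ↔ g ∈ P.B := fun g => by
    rw [MulAction.Quotient.smul_coe, eq_comm, QuotientGroup.eq]; simp
  have e2 : ∀ g : G, g • ((s : G) : G ⧸ P.B) = (s : G) ↔ s⁻¹ * g * s ∈ P.B := fun g => by
    rw [MulAction.Quotient.smul_coe, eq_comm, QuotientGroup.eq, smul_eq_mul, mul_assoc]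
  have hba : ((s : G) : G ⧸ P.B) ≠ (1 : G) := fun e => hs (by simpa using QuotientGroup.eq.1 e.symm)
  have hHs : ∀ g ∈ P.B ⊓ P.N, s⁻¹ * g * s ∈ P.B := fun g hg => by
    simpa using P.conj_mem _ (inv_mem hN) g hg
  have dec : ∀ b ∈ P.B, ∃ u ∈ U, ∃ c ∈ P.B ⊓ P.N, b = u * c := fun b hb =>
    (mem_sup_of_norm (A := U) (B := P.B ⊓ P.N) (le_N_iff.2 fun c hc => hUn c hc.1)).1 (hsplit.ge hb)
  let f : U → {ω : G ⧸ P.B // ¬ ω = (1 : G)} := fun u => ⟨(u : G) • (s : G ⧸ P.B),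
    Hyp.ne_of_fix ((e1 _).2 (hUB u.2)) hba⟩
  have hf : Function.Surjective f := by
    rintro ⟨⟨g⟩, hne⟩
    rcases hg g with h | ⟨b, hb, b', hb', rfl⟩
    · exact absurd (QuotientGroup.eq.2 (by simpa using h)) hne
    obtain ⟨u, hu, c, hc, rfl⟩ := dec b hb
    refine ⟨⟨u, hu⟩, Subtype.ext (QuotientGroup.eq.2 ?_)⟩
    have : (u • s)⁻¹ * (u * c * s * b') = s⁻¹ * c * s * b' := by simp only [smul_eq_mul]; group
    exact this ▸ mul_mem (hHs c hc) hb'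
  have k := Nat.card_congr (Equiv.sumCompl fun ω : G ⧸ P.B => ω = (1 : G))
  rw [Nat.card_sum, Nat.card_unique, ← index_eq_card, hind] at k
  have hi := (hf.bijective_of_nat_card_le (by omega)).1
  have free : ∀ u ∈ U, s⁻¹ * u * s ∈ P.B → u = 1 := fun u hu e =>
    congrArg Subtype.val (hi (a₁ := ⟨u, hu⟩) (a₂ := 1) (Subtype.ext (((e2 u).2 e).trans
      (one_smul G _).symm)))
  refine core_sub hs hUB hUn hind free hU hq (H := P.B ⊓ P.N) (fun g => ⟨fun h => ⟨h.1, hHs g h⟩, fun h => ?_⟩) hHc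
    hH K hK
  obtain ⟨u, hu, c, hc, rfl⟩ := dec g h.1
  have : s⁻¹ * u * s = s⁻¹ * (u * c) * s * (s⁻¹ * c * s)⁻¹ := by group
  rwa [free u hu (this ▸ mul_mem h.2 (inv_mem (hHs c hc))), one_mul]

end H2.U3
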