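import Mathlib
import Cfsg.Agent.H2.ZDefs

set_option autoImplicit false
set_option linter.unusedVariables false
set_option linter.unusedSectionVars false

namespace H2.SZ

open Cfsg H24 Subgroup
open H2.C2 (Cl2)

universe u

variable {G : Type u} [Group G] [Finite G] {F : Type*} [Field F] [Fintype F] {K : FD F}
  {L G0 D P P0 Q R A C T E : Subgroup G} {t g s φ : G} {X : SzD K L} {c : F}

/-! ### The trace and the automorphisms of `qf` -/

/-- the absolute trace -/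
structure Tr (K : FD F) (T : F →+ ZMod 2) : Prop where
  σ : ∀ x, T (K.σ x) = T x
  one : T 1 = 1
  nd : ∀ a, (∀ b, T (a * b) = 0) → a = 0
  ker : ∀ y, T y = 0 → ∃ w, y = w + K.σ w
  dual : ∀ f : F →+ ZMod 2, ∃ a, ∀ b, f b = T (a * b)

theorem FD.odd_card' (K : FD F) : Odd (Fintype.card F - 1) := by
  rw [K.card]
  exact Nat.Even.sub_odd Nat.one_le_two_pow (Nat.even_pow.2 ⟨even_two, by omega⟩) odd_one
theorem z2_add (a : ZMod 2) : a + a = 0 := by revert a; decide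
theorem z2_ne {a : ZMod 2} (h : a ≠ 0) : a = 1 := by revert a; decide

theorem FD.exists_tr (K : FD F) : ∃ T, Tr K T := by
  classical
  let δ : F →+ F := AddMonoidHom.mk' (fun w => w + K.σ w) fun a b => by rw [map_add]; ring
  have k1 : (1 : F) ∉ δ.range := by
    rintro ⟨w, e⟩
    replace e : w + K.σ w = 1 := e
    have e1 := congrArg K.σ e
    rw [map_add, K.σσ, map_one] at e1
    have : w * (w + 1) = 0 := by linear_combination e1 - e + w * K.two
    rcases mul_eq_zero.1 this with h | h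
    · simp [h] at e
    · rw [K.eq_of_add h, map_one, K.add_self] at e; exact zero_ne_one e
  have kc : Nat.card δ.ker = 2 := by
    rw [Nat.card_eq_two_iff]
    refine ⟨⟨0, zero_mem _⟩, ⟨1, by change 1 + K.σ 1 = 0; rw [map_one, K.add_self]⟩, by simp, ?_⟩
    refine Set.eq_univ_of_forall fun ⟨w, hw⟩ => ?_
    rcases K.σ_fix (K.eq_of_add (show w + K.σ w = 0 from hw)).symm with rfl | rfl <;> simp
  have idx : δ.range.index = 2 := by
    have e1 := δ.range.card_mul_index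
    have e2 := δ.ker.card_mul_index
    rw [AddSubgroup.index_ker, kc, ← e1, mul_comm] at e2
    exact (Nat.eq_of_mul_eq_mul_left Nat.card_pos e2).symm
  let T : F →+ ZMod 2 := AddMonoidHom.mk' (fun y => if y ∈ δ.range then 0 else 1) fun a b => by
    have := AddSubgroup.add_mem_iff_of_index_two idx (a := a) (b := b)
    by_cases ha : a ∈ δ.range <;> by_cases hb : b ∈ δ.range <;> simp_all [z2_add]
  have T0 : ∀ y, T y = 0 ↔ y ∈ δ.range := fun y => by
    change (if y ∈ δ.range then (0 : ZMod 2) else 1) = 0 ↔ _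
    split_ifs with h <;> simp [h]
  have nd : ∀ a, (∀ b, T (a * b) = 0) → a = 0 := fun a h => by
    by_contra a0
    exact k1 ((T0 _).1 (by simpa [a0] using h a⁻¹))
  refine ⟨T, fun x => ?_, z2_ne (mt (T0 _).1 k1), nd, fun y hy => ?_, fun f => ?_⟩
  · have := (T0 _).2 ⟨x, rfl⟩
    change T (x + K.σ x) = 0 at this
    rw [map_add] at this
    linear_combination this - z2_add (T x)
  · obtain ⟨w, e⟩ := (T0 _).1 hy
    exact ⟨w, e.symm⟩
  · have := K.charP
    let _ : Algebra (ZMod 2) F := ZMod.algebra F 2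
    let Φ : F →ₗ[ZMod 2] Module.Dual (ZMod 2) F :=
      (LinearMap.mul (ZMod 2) F).compr₂ (T.toZModLinearMap 2)
    have inj : Function.Injective Φ := (injective_iff_map_eq_zero Φ).2 fun a e =>
      nd a fun b => LinearMap.congr_fun e b
    obtain ⟨a, e⟩ := (LinearMap.injective_iff_surjective_of_finrank_eq_finrank
      (Subspace.dual_finrank_eq).symm).1 inj (f.toZModLinearMap 2)
    exact ⟨a, fun b => (LinearMap.congr_fun e b).symm⟩

namespace Tr
variable {T : F →+ ZMod 2} (h : Tr K T)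
include h

theorem τ (x : F) : T (K.τ x) = T x := by rw [← h.σ, K.σ_τ]
theorem δ (w : F) : T (w + K.σ w) = 0 := by rw [map_add, h.σ, z2_add]
theorem B (x y : F) : T (K.B x y / K.nm x) = 0 := by
  by_cases x0 : x = 0
  · simp [x0, K.nm_zero]
  have hs : K.σ x ≠ 0 := by simpa using x0
  rw [← h.δ (y / x), map_div₀ K.σ, FD.B, FD.nm]
  congr 1
  field_simp
theorem exB {x y : F} (x0 : x ≠ 0) (e : T (y / K.nm x) = 0) : ∃ w, y = K.B x w := by
  obtain ⟨w, e1⟩ := h.ker _ e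
  refine ⟨x * w, ?_⟩
  rw [div_eq_iff (mt K.nm_eq_zero.1 x0)] at e1
  rw [e1, FD.B, FD.nm, map_mul]; ring
theorem fix {c : F} (e : ∀ w, T (c * (w + K.σ w)) = 0) : c = 0 ∨ c = 1 := by
  have := h.nd (c + K.τ c) fun w => by
    rw [← e w, add_mul, mul_add, map_add, map_add, ← h.σ (K.τ c * w), map_mul K.σ, K.σ_τ]
  exact K.σ_fix (by rw [K.eq_of_add this, K.σ_τ, ← K.eq_of_add this])

end Tr

theorem FD.chkB (K : FD F) (α : F →+ F) (h : ∀ a b, K.B (α a) (α b) = K.B a b) (a : F) :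
    α a = a := by
  obtain ⟨T, hT⟩ := K.exists_tr
  by_cases a0 : a = 0
  · rw [a0, map_zero]
  have inj : Function.Injective α := (injective_iff_map_eq_zero α).2 fun x e =>
    K.B_left fun y => by rw [← h, e, K.B_zero_left]
  have b0 : α a ≠ 0 := fun e => a0 (inj (e.trans α.map_zero.symm))
  have n0 : K.nm a ≠ 0 := mt K.nm_eq_zero.1 a0
  rcases hT.fix (c := K.nm (α a) / K.nm a) (fun w => by
    obtain ⟨b, e⟩ := Finite.injective_iff_surjective.1 inj (α a * w)
    rw [← hT.B a b, ← h, e]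
    congr 1
    have s0 : K.σ a ≠ 0 := by simpa using a0
    simp only [FD.B, FD.nm, map_mul]; field_simp) with e | e
  · exact absurd e (div_ne_zero (mt K.nm_eq_zero.1 b0) n0)
  · exact K.nm_inj ((div_eq_one_iff_eq n0).1 e)

theorem FD.B_ext (K : FD F) (β : F →+ F) (h : ∀ a b, β (K.B a b) = K.B a b) (y : F) :
    β y = y := by
  by_cases y0 : y = 0
  · rw [y0, map_zero]
  obtain ⟨w, w0, w1, -⟩ := K.exists_ne 0 1 1
  obtain ⟨k, e⟩ := K.exists_nm (a := K.B 1 w) (fun e => by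
    rcases K.B_eq_zero e with e | e | e
    exacts [one_ne_zero e, w0 e, w1 e.symm]) y0
  rw [← e, ← K.B_mul, h]

theorem FD.chkU (K : FD F) {r : F × F × F} (hr : WD r) (h : ∀ p p', WD p → WD p' →
    K.bf 0 r p ≠ 0 → K.bf 0 r p' ≠ 0 → K.bf 0 r p = K.bf 0 r p') : r.1 = 0 ∧ r.2.1 = 0 := by
  obtain ⟨v, x, y⟩ := r
  obtain rfl | rfl : v = 0 ∨ v = 1 := hr
  · refine ⟨rfl, by_contra fun x0 => ?_⟩
    obtain ⟨a, a0, a1, -⟩ := K.exists_ne 0 x x
    obtain ⟨b, b0, b1, b2⟩ : ∃ b, b ≠ 0 ∧ b ≠ x ∧ K.B x b ≠ K.B x a := by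
      classical
      by_contra hn
      have : (Finset.univ : Finset F) ⊆ {0, x, a, a + x} := fun b _ => by
        by_contra hb
        simp only [Finset.mem_insert, Finset.mem_singleton, not_or] at hb
        refine hn ⟨b, hb.1, hb.2.1, fun e => ?_⟩
        rcases K.B_eq_zero (x := x) (y := b + a) (by rw [K.B_add_right, e, K.add_self]) with e | e | e
        · exact x0 e
        · exact hb.2.2.1 (K.eq_of_add e)
        · exact hb.2.2.2 (by rw [e]; linear_combination (-a) * K.two)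
      have h1 := (Finset.card_le_card this).trans Finset.card_le_four
      have := K.eight_le
      rw [Finset.card_univ] at h1
      omega
    have k : ∀ {c}, c ≠ 0 → c ≠ x → K.B x c ≠ 0 := fun c0 c1 e => by
      rcases K.B_eq_zero e with e | e | e
      exacts [x0 e, c0 e, c1 e.symm]
    have := h (0, b, 0) (0, a, 0) (.inl rfl) (.inl rfl)
      (by simpa [FD.bf] using k b0 b1) (by simpa [FD.bf] using k a0 a1)
    exact b2 (by simpa [FD.bf] using this)
  · obtain ⟨a, a0, a1, -⟩ := K.exists_ne 0 1 1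
    have := h (0, 0, a) (0, 0, 1) (.inl rfl) (.inl rfl)
      (by simpa [FD.bf, K.B_zero_right] using a0) (by simp [FD.bf, K.B_zero_right])
    exact absurd (by simpa [FD.bf, K.B_zero_right] using this) a1

theorem FD.idem (K : FD F) (Λ : Set (F →+ F)) (h1 : ∀ a ∈ Λ, ∀ b ∈ Λ, a + b ∈ Λ)
    (h2 : ∀ a ∈ Λ, ∀ k : Fˣ, ∃ b ∈ Λ, ∀ y, b (K.nm k * y) = K.nm k * a y)
    (h3 : ∀ a ∈ Λ, ∀ y, a (a y) = a y) : ∀ a ∈ Λ, (∀ y, a y = 0) ∨ ∀ y, a y = y := by
  have cm : ∀ a ∈ Λ, ∀ b ∈ Λ, ∀ y, a (b y) = b (a y) := fun a ha b hb y => by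
    have := h3 _ (h1 a ha b hb) y
    simp only [AddMonoidHom.add_apply, map_add, h3 a ha, h3 b hb] at this
    exact K.eq_of_add (by linear_combination this)
  obtain ⟨W, ⟨W1, W2⟩, W3⟩ := exists_minimal_of_wellFoundedLT
    (fun W : AddSubgroup F => W ≠ ⊥ ∧ ∀ a ∈ Λ, ∀ y ∈ W, a y ∈ W) ⟨⊤, top_ne_bot, fun _ _ _ _ => trivial⟩
  obtain ⟨y, hy, y0⟩ : ∃ y ∈ W, y ≠ 0 := by
    by_contra hn
    exact W1 (eq_bot_iff.2 fun y hy => by_contra fun e => hn ⟨y, hy, e⟩)
  have e1 : ∀ a ∈ Λ, a y = 0 ∨ a y = y := fun a ha => by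
    refine or_iff_not_imp_left.2 fun a0 => ?_
    have := W3 (y := W ⊓ (a + AddMonoidHom.id F).ker) ⟨fun e => a0 (by
        have : a y ∈ W ⊓ (a + AddMonoidHom.id F).ker := ⟨W2 a ha y hy, by
          change a (a y) + a y = 0; rw [h3 a ha, K.add_self]⟩
        rwa [e] at this), fun b hb x hx => ⟨W2 b hb x hx.1, by
        have e : a x + x = 0 := hx.2
        change a (b x) + b x = 0
        rw [cm a ha b hb, ← map_add, e, map_zero]⟩⟩ inf_le_left
    exact K.eq_of_add (this hy).2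
  intro a ha
  have e2 : ∀ x, a x = 0 ∨ a x = x := fun x => by
    by_cases x0 : x = 0
    · simp [x0]
    obtain ⟨k, e⟩ := K.exists_nm x0 y0
    obtain ⟨b, hb, e3⟩ := h2 a ha k
    have := e1 b hb
    rw [← e, e3] at this
    exact this.imp (fun h => (mul_eq_zero.1 h).resolve_left K.nm_ne) (mul_left_cancel₀ K.nm_ne)
  refine or_iff_not_imp_left.2 fun hn x => ?_
  obtain ⟨w, hw⟩ := not_forall.1 hn
  refine (e2 x).elim (fun e => ?_) id
  have e4 := (e2 w).resolve_left hw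
  rcases e2 (x + w) with e5 | e5 <;> rw [map_add, e, zero_add] at e5
  · exact absurd e5 hw
  · rw [e]; linear_combination e5 - e4

theorem WD.add {r s : F × F × F} (K : FD F) (hr : WD r) (hs : WD s) : WD (r + s) := by
  rcases hr with e | e <;> rcases hs with e' | e' <;> simp [WD, e, e', K.add_self]

namespace Au
variable {c1 c2 : F} {φ : F × F × F → F × F × F} {γ : F → F} (h : Au K c1 c2 φ γ)
include h

theorem γ0 : γ 0 = 0 := by simpa using h.γadd 0 0
theorem φ0 : φ 0 = 0 := by simpa using h.add 0 0 (.inl rfl) (.inl rfl)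
theorem γi {a b : F} (e : γ a = γ b) : a = b :=
  K.eq_of_add (h.γinj _ (by rw [h.γadd, e, K.add_self]))
theorem φi {r s : F × F × F} (hr : WD r) (hs : WD s) (e : φ r = φ s) : r = s := by
  have := h.inj _ (hr.add K hs) (by rw [h.add r s hr hs, e, K.add_self3])
  rw [← add_zero r, ← K.add_self3 s, ← add_assoc, this, zero_add]
theorem b {r s : F × F × F} (hr : WD r) (hs : WD s) : K.bf c2 (φ r) (φ s) = γ (K.bf c2 r s) := by
  have := h.q _ (hr.add K hs)
  rw [h.add r s hr hs, K.qf_add, K.qf_add, h.γadd, h.γadd, h.q r hr, h.q s hs] at this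
  exact add_left_cancel this
theorem surj {r : F × F × F} (hr : WD r) : ∃ s, WD s ∧ φ s = r := by
  obtain ⟨s, e⟩ := Finite.injective_iff_surjective.1
    (show Function.Injective (fun r : {r // WD r} => (⟨φ r, h.wd _ r.2⟩ : {r // WD r})) from
      fun r s e => Subtype.ext (h.φi r.2 s.2 (congrArg Subtype.val e))) ⟨r, hr⟩
  exact ⟨s, s.2, congrArg Subtype.val e⟩

end Au

theorem Au.form {c1 : F} {φ : F × F × F → F × F × F} {γ : F → F} (h : Au K c1 0 φ γ) :
    (φ (1, 0, 0)).1 = 1 ∧ (∀ y, φ (0, 0, y) = (0, 0, γ y)) ∧ ∃ α : F →+ F, Function.Injective α ∧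
      ∀ a, φ (0, a, 0) = (0, α a, K.B (φ (1, 0, 0)).2.1 (α a)) := by
  have u : ∀ y, (φ (0, 0, y)).1 = 0 ∧ (φ (0, 0, y)).2.1 = 0 := fun y =>
    K.chkU (h.wd _ (.inl rfl)) fun p p' hp hp' e e' => by
      obtain ⟨a, ha, rfl⟩ := h.surj hp
      obtain ⟨b, hb, rfl⟩ := h.surj hp'
      rw [h.b (.inl rfl) ha] at e ⊢
      rw [h.b (.inl rfl) hb] at e' ⊢
      congr 1
      rcases ha with ha | ha
      · exact absurd (by simp [FD.bf, ha, K.B_zero_left, h.γ0]) e
      rcases hb with hb | hb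
      · exact absurd (by simp [FD.bf, hb, K.B_zero_left, h.γ0]) e'
      simp [FD.bf, ha, hb, K.B_zero_left]
  have k : ∀ r y, WD r → (φ r).1 * (φ (0, 0, y)).2.2 = γ (r.1 * y) := fun r y hr => by
    simpa [FD.bf, u y, K.B_zero_right] using h.b hr (s := (0, 0, y)) (.inl rfl)
  have g1 : γ 1 ≠ 0 := fun e => one_ne_zero (h.γinj _ e)
  have e1 : (φ (1, 0, 0)).1 = 1 := (h.wd _ (.inr rfl)).resolve_left fun e => g1 (by
    simpa [e] using (k (1, 0, 0) 1 (.inr rfl)).symm)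
  have e2 : ∀ y, (φ (0, 0, y)).2.2 = γ y := fun y => by simpa [e1] using k (1, 0, 0) y (.inr rfl)
  have e3 : ∀ a, (φ (0, a, 0)).1 = 0 := fun a => by
    simpa [e2, h.γ0, g1] using k (0, a, 0) 1 (.inl rfl)
  have e4 : ∀ a, (φ (0, a, 0)).2.2 = K.B (φ (1, 0, 0)).2.1 (φ (0, a, 0)).2.1 := fun a => by
    have := h.b (r := (1, 0, 0)) (s := (0, a, 0)) (.inr rfl) (.inl rfl)
    simp only [FD.bf, e1, e3, K.B_zero_left, one_mul, mul_zero, zero_mul, add_zero, h.γ0] at this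
    exact (K.eq_of_add this).symm
  let α : F →+ F := AddMonoidHom.mk' (fun a => (φ (0, a, 0)).2.1) fun a b => by
    have := h.add (0, a, 0) (0, b, 0) (.inl rfl) (.inl rfl)
    simp only [Prod.mk_add_mk, add_zero] at this
    rw [this]; rfl
  have e5 : ∀ a, φ (0, a, 0) = (0, α a, K.B (φ (1, 0, 0)).2.1 (α a)) := fun a =>
    Prod.ext (e3 a) (Prod.ext rfl (e4 a))
  refine ⟨e1, fun y => Prod.ext (u y).1 (Prod.ext (u y).2 (e2 y)), α,
    (injective_iff_map_eq_zero α).2 fun a e => ?_, e5⟩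
  have := h.inj _ (.inl rfl) (show φ (0, a, 0) = 0 by rw [e5, e, K.B_zero_right]; rfl)
  exact congrArg (·.2.1) this

theorem Au.c20 {c1 : F} {φ : F × F × F → F × F × F} {γ : F → F} (h : Au K c1 0 φ γ) :
    φ (1, 0, 0) = (1, 0, 0) ∨ c1 = 0 ∨ c1 = 1 := by
  obtain ⟨e1, -, α, αi, e2⟩ := h.form
  obtain ⟨T, hT⟩ := K.exists_tr
  have q0 := h.q (1, 0, 0) (.inr rfl)
  generalize φ (1, 0, 0) = r at *
  obtain ⟨v, x, y⟩ := r
  obtain rfl : v = 1 := e1
  simp only [FD.qf, K.nm_zero, zero_mul, mul_zero, add_zero, h.γ0] at q0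
  by_cases x0 : x = 0
  · rw [x0, K.nm_zero, zero_add, mul_eq_zero] at q0
    rcases q0 with e | e
    exacts [.inr (.inr (K.eq_of_add e)), .inl (by rw [x0, e])]
  refine .inr (hT.fix fun w => ?_)
  by_cases w0 : w = 0
  · simp [w0]
  have k : ∀ a, K.nm (α a) + c1 * K.B x (α a) = γ (K.nm a) := fun a => by
    simpa [e2, FD.qf] using h.q (0, a, 0) (.inl rfl)
  have su := Finite.injective_iff_surjective.1 αi
  obtain ⟨b, eb⟩ := su (x / w)
  have b0 : α b ≠ 0 := eb ▸ div_ne_zero x0 w0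
  by_contra hn
  obtain ⟨a, ea⟩ := hT.exB b0 (y := K.nm (α b) + c1 * K.B x (α b)) (by
    have hs : K.σ x ≠ 0 := by simpa using x0
    have hw : K.σ w ≠ 0 := by simpa using w0
    rw [add_div, div_self (mt K.nm_eq_zero.1 b0), map_add, hT.one, eb, show c1 * K.B x (x / w) /
      K.nm (x / w) = c1 * (w + K.σ w) by rw [FD.B, FD.nm, map_div₀]; field_simp; ring, z2_ne hn]
    rfl)
  obtain ⟨a, rfl⟩ := su a
  have := K.nm_inj (h.γi (show γ (K.nm (b + a)) = γ (K.nm a) by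
    rw [← k, ← k, map_add, K.nm_add, K.B_add_right]
    linear_combination ea + K.B (α b) (α a) * K.two))
  exact b0 (by rw [add_eq_right.1 this, map_zero])

theorem Tr.rad {T : F →+ ZMod 2} (hT : Tr K T) {c2 : F} (c0 : c2 ≠ 0) {r : F × F × F} (hr : WD r)
    (r0 : r ≠ 0) : (∃ a, a ≠ 0 ∧ ∀ s, WD s → T (a * K.bf c2 r s) = 0) ↔ ∃ k : Fˣ, r =
      (1, k * (K.σ c2)⁻¹, K.nm k * ((K.σ c2)⁻¹ * (K.σ (K.σ c2)⁻¹ + K.τ (K.σ c2)⁻¹))) := by
  have s0 : K.σ c2 ≠ 0 := by simpa using c0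
  have ex : ∀ a (r s : F × F × F), T (a * K.bf c2 r s) =
      T ((a * K.σ r.2.1 + K.τ (a * r.2.1) + K.σ (a * c2) * r.2.2) * s.2.1) +
        T ((a * r.1 + K.σ (a * c2) * r.2.1) * s.2.2) + T (a * r.2.2 * s.1) := fun a r s => by
    have e1 : T (K.τ (a * r.2.1) * s.2.1) = T (a * r.2.1 * K.σ s.2.1) := by
      rw [← hT.σ, map_mul, K.σ_τ]
    have e2 : ∀ w, T (K.σ (a * c2) * w) = T (a * c2 * K.τ w) := fun w => by
      rw [← hT.τ, map_mul, K.τ_σ]
    simp only [add_mul, map_add, e1, mul_assoc (K.σ (a * c2)), e2, FD.bf, FD.B, mul_add]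
    simp only [mul_assoc, mul_comm s.1, mul_comm s.2.1]
    abel
  obtain ⟨v, x, y⟩ := r
  constructor
  · rintro ⟨a, a0, e⟩
    have sa : K.σ (a * c2) ≠ 0 := by simpa using ⟨a0, c0⟩
    have e1 := hT.nd _ fun b => by simpa [ex] using e (0, b, 0) (.inl rfl)
    have e2 := hT.nd _ fun b => by simpa [ex] using e (0, 0, b) (.inl rfl)
    obtain rfl | rfl : v = 0 ∨ v = 1 := hr
    · obtain rfl : x = 0 := by simpa [a0, c0] using e2
      obtain rfl : y = 0 := by simpa [a0, c0] using e1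
      exact absurd rfl r0
    obtain ⟨k, ek⟩ := K.exists_nm a0 one_ne_zero
    have k0 : (k : F) ≠ 0 := k.ne_zero
    have sk : K.σ k ≠ 0 := by simpa using k0
    have tk : K.τ k ≠ 0 := by simpa using k0
    obtain rfl : a = (k * K.σ k)⁻¹ := eq_inv_of_mul_eq_one_right ek
    simp only [map_mul, map_inv₀, K.σσ, mul_one] at e1 e2
    have ex : x = k * (K.σ c2)⁻¹ := by
      field_simp at e2 ⊢
      linear_combination e2 - (k : F) * K.two
    refine ⟨k, Prod.ext rfl (Prod.ext ex ?_)⟩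
    subst ex
    simp only [map_mul, map_inv₀, K.σσ, K.τ_σ, FD.nm] at e1 ⊢
    field_simp at e1 ⊢
    linear_combination e1 - ((k : F) * K.σ k * (1 + c2)) * K.two
  · rintro ⟨k, e⟩
    have k0 : (k : F) ≠ 0 := k.ne_zero
    have sk : K.σ k ≠ 0 := by simpa using k0
    have tk : K.τ k ≠ 0 := by simpa using k0
    refine ⟨(K.nm k)⁻¹, inv_ne_zero K.nm_ne, fun s hs => ?_⟩
    rw [ex, e]
    have e1 : (K.nm k)⁻¹ * K.σ (k * (K.σ c2)⁻¹) + K.τ ((K.nm k)⁻¹ * (k * (K.σ c2)⁻¹)) +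
        K.σ ((K.nm k)⁻¹ * c2) * (K.nm k * ((K.σ c2)⁻¹ * (K.σ (K.σ c2)⁻¹ + K.τ (K.σ c2)⁻¹))) = 0 := by
      simp only [map_mul, map_inv₀, K.σσ, K.τ_σ, FD.nm]
      field_simp
      linear_combination (1 + c2) * K.two
    have e2 : (K.nm k)⁻¹ * 1 + K.σ ((K.nm k)⁻¹ * c2) * (k * (K.σ c2)⁻¹) = 0 := by
      simp only [map_mul, map_inv₀, K.σσ, FD.nm]
      field_simp
      linear_combination K.two
    simp only [e1, e2, zero_mul, map_zero, zero_add, inv_mul_cancel_left₀ K.nm_ne]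
    rcases hs with hs | hs
    · rw [hs, mul_zero, map_zero]
    · rw [hs, mul_one, mul_add, map_add, ← hT.σ (_ * K.τ _), map_mul K.σ, K.σ_τ, mul_comm, z2_add]

theorem FD.sum_units (K : FD F) [Fintype Fˣ] : ∑ k : Fˣ, (k : F) = 0 ∧ ∑ k : Fˣ, K.nm k = 0 := by
  obtain ⟨j, hj⟩ := K.exists_unit
  constructor
  · have := Fintype.sum_equiv (Equiv.mulLeft j) (fun k : Fˣ => (j : F) * k) (fun k => (k : F))
      fun k => by simp
    rw [← Finset.mul_sum] at this
    exact (mul_left_eq_self₀.1 this).resolve_left fun e => hj (Units.ext e)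
  · have := Fintype.sum_equiv (Equiv.mulLeft j) (fun k : Fˣ => K.nm j * K.nm k) (fun k => K.nm k)
      fun k => by simp [K.nm_mul]
    rw [← Finset.mul_sum] at this
    exact (mul_left_eq_self₀.1 this).resolve_left (K.nm_ne_one hj)

theorem Au.c2ne {c1 c2 : F} {φ : F × F × F → F × F × F} {γ : F → F} (h : Au K c1 c2 φ γ)
    (c0 : c2 ≠ 0) : φ (1, 0, 0) = (1, 0, 0) := by
  classical
  obtain ⟨T, hT⟩ := K.exists_tr
  have s0 : (K.σ c2)⁻¹ ≠ 0 := by simpa using c0
  generalize ey : (K.σ c2)⁻¹ * (K.σ (K.σ c2)⁻¹ + K.τ (K.σ c2)⁻¹) = y0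
  let ρ : Fˣ → F × F × F := fun k => (1, k * (K.σ c2)⁻¹, K.nm k * y0)
  have w : ∀ k, WD (ρ k) := fun k => .inr rfl
  have ρ0 : ∀ k, ρ k ≠ 0 := fun k e => one_ne_zero (congrArg Prod.fst e)
  have k1 : ∀ k, ∃ j, φ (ρ k) = ρ j := fun k => by
    subst ey
    refine (hT.rad c0 (h.wd _ (w k)) fun e => ρ0 k (h.inj _ (w k) e)).1 ?_
    obtain ⟨a, a0, e⟩ := (hT.rad c0 (w k) (ρ0 k)).2 ⟨k, rfl⟩
    let γ' : F ≃+ F := AddEquiv.ofBijective (AddMonoidHom.mk' γ h.γadd)
      (Finite.injective_iff_bijective.1 fun a b => h.γi)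
    obtain ⟨a', ea⟩ := hT.dual (T.comp ((AddMonoidHom.mulLeft a).comp γ'.symm.toAddMonoidHom))
    have ea' : ∀ b, T (a * b) = T (a' * γ b) := fun b => by
      rw [← ea]; exact congrArg T (congrArg _ (γ'.symm_apply_apply b).symm)
    refine ⟨a', fun e0 => a0 (hT.nd _ fun b => by rw [ea', e0, zero_mul, map_zero]), fun s hs => ?_⟩
    obtain ⟨s, hs', rfl⟩ := h.surj hs
    rw [h.b (w k) hs', ← ea', e s hs']
  choose f hf using k1
  have fi : Function.Injective f := fun a b e => Units.ext (mul_right_cancel₀ s0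
    (congrArg (·.2.1) (h.φi (w a) (w b) (by rw [hf, hf, e]))))
  have sm : ∀ S : Finset Fˣ, WD (∑ k ∈ S, ρ k) ∧ φ (∑ k ∈ S, ρ k) = ∑ k ∈ S, ρ (f k) := fun S => by
    induction S using Finset.induction_on with
    | empty => exact ⟨.inl rfl, h.φ0⟩
    | insert a S ha ih =>
      rw [Finset.sum_insert ha, Finset.sum_insert ha]
      exact ⟨(w a).add K ih.1, by rw [h.add _ _ (w a) ih.1, ih.2, hf]⟩
  have e1 : ∑ k, ρ k = (1, 0, 0) := by
    obtain ⟨j, hj⟩ := K.odd_card'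
    refine Prod.ext ?_ (Prod.ext ?_ ?_)
    · simp only [ρ, Prod.fst_sum, Finset.sum_const, Finset.card_univ, Fintype.card_units, hj]
      simp [K.two]
    · simp only [ρ, Prod.fst_sum, Prod.snd_sum, ← Finset.sum_mul, K.sum_units.1, zero_mul]
    · simp only [ρ, Prod.snd_sum, ← Finset.sum_mul, K.sum_units.2, zero_mul]
  have := (sm Finset.univ).2
  rwa [(Finite.injective_iff_bijective.1 fi).sum_comp ρ, e1] at this

theorem Au.step1 {c1 c2 : F} {φ : F × F × F → F × F × F} {γ : F → F} (h : Au K c1 c2 φ γ) :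
    φ (1, 0, 0) = (1, 0, 0) ∨ c2 = 0 ∧ (c1 = 0 ∨ c1 = 1) ∧ (φ (1, 0, 0)).1 = 1 := by
  by_cases c0 : c2 = 0
  · subst c0
    exact h.c20.imp_right fun e => ⟨rfl, e, h.form.1⟩
  · exact .inl (h.c2ne c0)



end H2.SZ
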