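import Mathlib
import Cfsg.Agent.H2.ZDefs
import Cfsg.Agent.H2.ZA3

set_option autoImplicit false
set_option linter.unusedVariables false
set_option linter.unusedSectionVars false

namespace H2.SZ

open Cfsg H24 Subgroup
open H2.C2 (Cl2)

universe u

variable {G : Type u} [Group G] [Finite G] {F : Type*} [Field F] [Fintype F] {K : FD F}
  {L G0 D P P0 Q R A C T E : Subgroup G} {t g s φ : G} {X : SzD K L} {c : F}

/-! ### Dedekind's lemma and equivariant maps -/

noncomputable scoped instance finAut : Fintype (F ≃+* F) :=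
  have : Finite (F ≃+* F) := DFunLike.finite _
  Fintype.ofFinite _

theorem ind {a : (F ≃+* F) → F} (h : ∀ y, ∑ ρ, a ρ * ρ y = 0) (ρ : F ≃+* F) : a ρ = 0 :=
  Fintype.linearIndependent_iff.1 ((linearIndependent_monoidHom F F).comp
    (fun ρ : F ≃+* F => (ρ : F →* F)) fun a b e => RingEquiv.ext fun x => DFunLike.congr_fun e x) a
    (funext fun y => by simpa using h y) ρ

theorem ind4 {ρ ρ2 ρ3 ρ4 : F ≃+* F} {a b c d : F} (h2 : ρ ≠ ρ2) (h3 : ρ ≠ ρ3) (h4 : ρ ≠ ρ4)
    (h : ∀ y, a * ρ y + b * ρ2 y + c * ρ3 y + d * ρ4 y = 0) : a = 0 := by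
  classical
  simpa [h2, h3, h4] using ind (a := fun δ => (if δ = ρ then a else 0) + (if δ = ρ2 then b else 0) +
    (if δ = ρ3 then c else 0) + if δ = ρ4 then d else 0)
    (fun y => by simpa [add_mul, Finset.sum_add_distrib] using h y) ρ

/-- a ring automorphism is linear over the prime field -/
noncomputable def autE [Algebra (ZMod 2) F] : (F ≃ₐ[ZMod 2] F) ≃ (F ≃+* F) where
  toFun g := g.toRingEquiv
  invFun ρ := AlgEquiv.ofRingEquiv (f := ρ) fun x => DFunLike.congr_fun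
    (RingHom.ext_zmod ((ρ : F →+* F).comp (algebraMap (ZMod 2) F)) (algebraMap (ZMod 2) F)) x
  left_inv g := rfl
  right_inv g := rfl

theorem FD.exists_co (K : FD F) (f : F →+ F) :
    ∃ a : (F ≃+* F) → F, ∀ y, f y = ∑ ρ, a ρ * ρ y := by
  have := K.charP
  let _ : Algebra (ZMod 2) F := ZMod.algebra F 2
  let v : (F ≃+* F) → F →ₗ[ZMod 2] F := fun ρ => (ρ : F →+ F).toZModLinearMap 2
  have li : LinearIndependent F v := Fintype.linearIndependent_iff.2 fun a e => ind fun y => by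
    simpa [v] using LinearMap.congr_fun e y
  have cd : Fintype.card (F ≃+* F) = Module.finrank F (F →ₗ[ZMod 2] F) := by
    rw [Module.finrank_linearMap_self, ← IsGalois.card_aut_eq_finrank, ← Nat.card_eq_fintype_card]
    exact Nat.card_congr autE.symm
  obtain ⟨a, e⟩ := (Submodule.mem_span_range_iff_exists_fun F).1
    ((li.span_eq_top_of_card_eq_finrank cd).ge (Submodule.mem_top (x := f.toZModLinearMap 2)))
  exact ⟨a, fun y => by simpa [v] using (LinearMap.congr_fun e y).symm⟩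

theorem FD.aut_pow (K : FD F) (ρ : F ≃+* F) : ∃ i : ℕ, ∀ x, ρ x = x ^ 2 ^ i := by
  have := K.charP
  let _ : Algebra (ZMod 2) F := ZMod.algebra F 2
  obtain ⟨i, e⟩ := FiniteField.exists_forall_apply_eq_pow (ZMod 2) 2 F (autE.symm ρ)
  exact ⟨i, fun x => by rw [Nat.card_zmod] at e; exact e x⟩

/-- the coefficients of an additive map -/
noncomputable def FD.co (K : FD F) (f : F →+ F) : (F ≃+* F) → F := (K.exists_co f).choose

theorem FD.co_spec (K : FD F) (f : F →+ F) (y : F) : f y = ∑ ρ, K.co f ρ * ρ y :=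
  (K.exists_co f).choose_spec y
theorem FD.co_eq (K : FD F) {f : F →+ F} {a : (F ≃+* F) → F} (h : ∀ y, f y = ∑ ρ, a ρ * ρ y)
    (ρ : F ≃+* F) : K.co f ρ = a ρ :=
  sub_eq_zero.1 (ind (a := fun ρ => K.co f ρ - a ρ) (fun y => by
    simp only [sub_mul, Finset.sum_sub_distrib, ← h, ← K.co_spec, sub_self]) ρ)
theorem FD.co_add (K : FD F) (f g : F →+ F) (ρ : F ≃+* F) :
    K.co (f + g) ρ = K.co f ρ + K.co g ρ :=
  K.co_eq (a := fun ρ => K.co f ρ + K.co g ρ) (fun y => by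
    simp only [add_mul, Finset.sum_add_distrib, ← K.co_spec, AddMonoidHom.add_apply]) ρ
theorem FD.co_eqv (K : FD F) {f g : F →+ F} {k c : F} (h : ∀ y, g (k * y) = c * f y)
    (ρ : F ≃+* F) : K.co g ρ * ρ k = c * K.co f ρ :=
  sub_eq_zero.1 (ind (a := fun ρ => K.co g ρ * ρ k - c * K.co f ρ) (fun y => by
    simp only [sub_mul, Finset.sum_sub_distrib, mul_assoc, ← map_mul, ← Finset.mul_sum, ← K.co_spec,
      h, sub_self]) ρ)

theorem FD.σ_ne (K : FD F) : K.σ ≠ 1 := fun e => by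
  obtain ⟨x, h0, h1, -⟩ := K.exists_ne 0 1 1
  exact (K.σ_fix (x := x) (by rw [e]; rfl)).elim h0 h1
theorem FD.τ_ne (K : FD F) : K.τ ≠ 1 := fun e => K.σ_ne (RingEquiv.ext fun x => by
  have := K.τ_σ x
  rwa [e] at this)
theorem FD.sq_ne (K : FD F) : ¬ ∀ x : F, x ^ 2 = x := fun e => by
  obtain ⟨x, h0, h1, -⟩ := K.exists_ne 0 1 1
  exact h1 (mul_left_cancel₀ h0 (by linear_combination e x))
theorem FD.σ_ne_τ (K : FD F) : K.σ ≠ K.τ := fun e => K.sq_ne fun x => by
  rw [← K.σσ, DFunLike.congr_fun e, K.τ_σ]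
theorem card_le_of_pow {N : ℕ} (h : ∀ x : F, x ^ (N + 2) = x) : Fintype.card F ≤ N + 2 := by
  have := Nat.le_of_dvd N.succ_pos ((FiniteField.forall_pow_eq_one_iff F (N + 1)).1 fun x =>
    Units.ext (mul_left_cancel₀ x.ne_zero (by simpa [pow_succ'] using h x)))
  omega
theorem FD.aut_σ (K : FD F) (ρ : F ≃+* F) (x : F) : ρ (K.σ x) = K.σ (ρ x) := by
  rw [K.σ_eq, K.σ_eq, map_pow]

theorem FD.indep3 (K : FD F) {a b c : F} (h : ∀ x, a * K.τ x + b * x + c * K.σ x = 0) :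
    a = 0 ∧ b = 0 ∧ c = 0 :=
  ⟨ind4 (d := 0) K.τ_ne K.σ_ne_τ.symm K.τ_ne fun x => by simpa using h x,
    ind4 (ρ := 1) (b := a) (c := c) (d := 0) K.τ_ne.symm K.σ_ne.symm K.σ_ne.symm fun x => by
      simpa [add_comm] using h x,
    ind4 (b := a) (c := b) (d := 0) K.σ_ne_τ K.σ_ne K.σ_ne fun x => by
      have := h x
      simp only [RingAut.one_apply]
      linear_combination this⟩

theorem FD.rt_ne (K : FD F) (a : F) : ¬ ∀ y, K.rt (a * y) = y := fun h => K.sq_ne fun y => by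
  have k : ∀ y, a * y = y ^ 2 := fun y => by rw [← K.sq_rt (a * y), h]
  rw [← k, show a = 1 by simpa using k 1, one_mul]

theorem FD.eqv0 (K : FD F) (γ : F →+ F) (h : ∀ (k : Fˣ) a, γ (k * a) = K.nm k * γ a) (a : F) :
    γ a = 0 := by
  have k : ∀ x, γ x = K.nm x * γ 1 := fun x => by
    by_cases x0 : x = 0
    · simp [x0, K.nm_zero]
    · simpa using h (Units.mk0 x x0) 1
  obtain ⟨x, h0, h1, -⟩ := K.exists_ne 0 1 1
  have := map_add γ 1 x
  rw [k (1 + x), k x, K.nm_add, K.nm_one] at this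
  have e : K.B 1 x * γ 1 = 0 := by linear_combination this
  rw [k, (mul_eq_zero.1 e).resolve_left fun e => by
    rcases K.B_eq_zero e with e | e | e
    exacts [one_ne_zero e, h0 e, h1 e.symm], mul_zero]

theorem FD.bi (K : FD F) (β : F → F → F) (h1 : ∀ x x' y, β (x + x') y = β x y + β x' y)
    (h2 : ∀ x y y', β x (y + y') = β x y + β x y') (f g χ : Fˣ → F) (ρ0 : F ≃+* F)
    (h : ∀ (k : Fˣ) x y, β (f k * x) (g k * y) = χ k * β x y)
    (u : ∀ δ ρ : F ≃+* F, (∀ k, δ (f k) * ρ (g k) = χ k) → δ = ρ0 ∧ ρ = ρ0) :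
    ∃ c, ∀ x y, β x y = c * ρ0 (x * y) := by
  classical
  let b : F → F →+ F := fun x => AddMonoidHom.mk' (β x) (h2 x)
  let a : (F ≃+* F) → F →+ F := fun ρ => AddMonoidHom.mk' (fun x => K.co (b x) ρ) fun x x' => by
    rw [← K.co_add]; congr 1; ext y; exact h1 x x' y
  have k : ∀ ρ δ, K.co (a ρ) δ ≠ 0 → δ = ρ0 ∧ ρ = ρ0 := fun ρ δ e => u δ ρ fun k => by
    have := K.co_eqv (f := a ρ) (g := (AddMonoidHom.mulLeft (ρ (g k))).comp (a ρ)) (k := f k)
      (c := χ k) (fun x => (mul_comm _ _).trans (K.co_eqv (h k x) ρ)) δ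
    rw [← one_mul (K.co _ δ), ← map_one δ, mul_comm (δ 1), K.co_eqv (f := a ρ) (c := ρ (g k))
      (fun y => by simp)] at this
    exact mul_right_cancel₀ e (by linear_combination this)
  refine ⟨K.co (a ρ0) ρ0, fun x y => ?_⟩
  have e : ∀ ρ, a ρ x = if ρ = ρ0 then K.co (a ρ0) ρ0 * ρ0 x else 0 := fun ρ => by
    rw [K.co_spec, Finset.sum_eq_single ρ0 (fun δ _ hd => by
      rw [not_not.1 (mt (fun e => (k ρ δ e).1) hd), zero_mul]) (by simp)]
    split_ifs with hr
    · rw [hr]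
    · rw [not_not.1 (mt (fun e => (k ρ ρ0 e).2) hr), zero_mul]
  have := K.co_spec (b x) y
  change β x y = ∑ ρ, a ρ x * ρ y at this
  simp [this, e, mul_assoc]

theorem FD.blem (K : FD F) (β : F → F → F) (h1 : ∀ x x' y, β (x + x') y = β x y + β x' y)
    (h2 : ∀ x y y', β x (y + y') = β x y + β x y')
    (h : ∀ (k : Fˣ) x y, β (k * x) (K.nm k * y) = K.nm k * β x y) :
    ∃ c, ∀ x y, β x y = c * K.τ (x * y) := by
  refine K.bi β h1 h2 _ _ _ _ h fun δ ρ e => ?_
  have e1 : ∀ x, δ x * (ρ x * ρ (K.σ x)) = x * K.σ x := fun x => by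
    by_cases x0 : x = 0
    · simp [x0]
    · simpa [FD.nm] using e (Units.mk0 x x0)
  obtain ⟨w, w0, w1, -⟩ := K.exists_ne 0 1 1
  have b0 : ρ (K.B 1 w) ≠ 0 := fun e => by
    rcases K.B_eq_zero ((map_eq_zero ρ).1 e) with e | e | e
    exacts [one_ne_zero e, w0 e, w1 e.symm]
  by_cases d1 : δ = ρ
  · subst d1
    have : δ = K.τ := RingEquiv.ext fun y => by
      obtain ⟨x, ex⟩ := K.nm_surj (K.τ y)
      rw [← K.σ_τ y, K.τ_σ, ← ex, FD.nm, map_mul, K.σσ, ← e1, map_mul, map_pow]; ring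
    exact ⟨this, this⟩
  by_cases d2 : δ = ρ * K.σ
  · subst d2
    replace e1 : ∀ x, ρ x * ρ (K.σ x) ^ 2 = x * K.σ x := fun x => by
      rw [← e1, RingAut.mul_apply]; ring
    by_cases d3 : 1 = ρ
    · subst d3
      have := e1 (K.τ w)
      simp only [RingAut.one_apply, K.σ_τ] at this
      exact absurd (mul_left_cancel₀ (mul_ne_zero (show K.τ w ≠ 0 by simpa using w0) w0)
        (by linear_combination this)) w1
    by_cases d4 : 1 = ρ * K.σ * K.σ * K.σ
    · have k : ∀ x, ρ (K.σ x) ^ 2 = x := fun x => by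
        rw [← map_pow, ← K.σσ]; exact (DFunLike.congr_fun d4 x).symm
      have k2 : ∀ x, ρ x = K.σ x := fun x => by
        by_cases x0 : x = 0
        · simp [x0]
        · exact mul_left_cancel₀ x0 (by rw [← e1, k, mul_comm])
      have := (K.eight_le.trans (card_le_of_pow (N := 2) fun x => by
        have k3 := k x
        rwa [k2, K.σσ, ← pow_mul] at k3))
      omega
    refine absurd (ind4 (a := 1) (b := 1) (c := 1) (d := 1) K.σ_ne.symm d3 d4 fun x => ?_) one_ne_zero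
    have := e1 (x + 1)
    simp only [map_add, map_one, RingAut.mul_apply, RingAut.one_apply, K.σσ, map_pow] at this ⊢
    linear_combination this - e1 x + (x + K.σ x - ρ (K.σ x) * (1 + ρ x)) * K.two
  refine absurd (ind4 (a := ρ (K.B 1 w)) (b := δ w + ρ (K.σ w)) (c := δ w + ρ w) (d := 0) d1 d2 d2
    fun x => ?_) b0
  have k1 := e1 (x + 1 + w)
  have k2 := e1 (x + 1)
  have k3 := e1 (x + w)
  have k4 := e1 (1 + w)
  simp only [map_add, map_one, map_mul, RingAut.mul_apply, FD.B] at k1 k2 k3 k4 ⊢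
  linear_combination k1 - k2 - k3 - k4 + e1 x + e1 w

theorem FD.blem2 (K : FD F) (β : F → F → F) (h1 : ∀ x x' y, β (x + x') y = β x y + β x' y)
    (h2 : ∀ x y y', β x (y + y') = β x y + β x y')
    (h : ∀ (k : Fˣ) x y, β (K.nm k * x) (K.nm k * y) = K.nm k * β x y) :
    ∃ c, ∀ x y, β x y = c * K.rt (x * y) := by
  refine K.bi β h1 h2 _ _ _ _ h fun δ ρ e => ?_
  have e1 : ∀ x, δ x * ρ x = x := fun x => by
    obtain ⟨x, rfl⟩ := K.nm_surj x
    by_cases x0 : x = 0
    · simp [x0, K.nm_zero]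
    · simpa using e (Units.mk0 x x0)
  obtain rfl : δ = ρ := RingEquiv.ext fun x => K.eq_of_add (by
    have := e1 (x + 1)
    simp only [map_add, map_one] at this
    linear_combination this - e1 x)
  have : δ = K.rt := RingEquiv.ext fun x => by rw [← K.rt_mul_self (δ x), e1]
  exact ⟨this, this⟩

theorem FD.exists_xco (K : FD F) : ∃ ξ : (F →+ F) →+ F,
    (∀ x (α : F →+ F), (∀ a, α a = K.B x a) → ξ α = x) ∧
    ∀ (k : Fˣ) (α α' : F →+ F), (∀ a, α' (k * a) = K.nm k * α a) → ξ α' = k * ξ α := by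
  classical
  refine ⟨AddMonoidHom.mk' (fun α => K.co α K.σ) fun a b => K.co_add a b _, fun x α e => ?_,
    fun k α α' e => ?_⟩
  · simpa [K.σ_ne] using K.co_eq (f := α)
      (a := fun ρ => (if ρ = 1 then K.σ x else 0) + if ρ = K.σ then x else 0)
      (fun y => by simp [e, FD.B, add_mul, Finset.sum_add_distrib]) K.σ
  · exact mul_right_cancel₀ (show K.σ k ≠ 0 by simp) ((K.co_eqv e K.σ).trans (by
      simp only [FD.nm, AddMonoidHom.mk'_apply]; ring))

theorem FD.alt0 (K : FD F) {M : Type*} [Group M] (β : F → F → M)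
    (h1 : ∀ x x' y, β (x + x') y = β x y * β x' y) (h2 : ∀ x y y', β x (y + y') = β x y * β x y')
    (h3 : ∀ x, β x x = 1) (h : ∀ (k : Fˣ) x y, β (k * x) (k * y) = β x y) (x y : F) :
    β x y = 1 := by
  have z1 : ∀ x, β x 0 = 1 := fun x => by simpa using h2 x 0 0
  have z2 : ∀ x, β 0 x = 1 := fun x => by simpa using h1 0 0 x
  have sy : ∀ x y, β x y = β y x := fun x y => by
    have e1 := h3 (x + y)
    have e2 := h2 x y y
    rw [h1, h2, h2, h3, h3, one_mul, mul_one] at e1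
    rw [K.add_self, z1] at e2
    exact mul_left_cancel (e2.symm.trans e1.symm)
  have iv : ∀ y, β 1 y⁻¹ = β 1 y := fun y => by
    by_cases y0 : y = 0
    · rw [y0, inv_zero]
    · rw [← h (Units.mk0 y y0), sy]; simp [y0]
  have k1 : ∀ y, β 1 (y + 1) = β 1 y := fun y => by rw [h2, h3, mul_one]
  have k2 : ∀ y, β 1 (y + y ^ 2) = 1 := fun y => by
    by_cases y0 : y = 0
    · simp [y0, z1]
    by_cases y1 : y + 1 = 0
    · rw [show y + y ^ 2 = y * (y + 1) by ring, y1, mul_zero, z1]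
    rw [← iv, show (y + y ^ 2)⁻¹ = y⁻¹ + (y + 1)⁻¹ by
      rw [show y + y ^ 2 = y * (y + 1) by ring]
      field_simp
      linear_combination (-y) * K.two, h2, iv, iv, k1, ← h2, K.add_self, z1]
  obtain ⟨T, hT⟩ := K.exists_tr
  have k3 : ∀ y, ∃ w, y = w + K.σ w ∨ y = w + K.σ w + 1 := fun y => by
    by_cases e : T y = 0
    · exact (hT.ker y e).imp fun w => .inl
    · obtain ⟨w, e⟩ := hT.ker (y + 1) (by rw [map_add, z2_ne e, hT.one]; rfl)
      exact ⟨w, .inr (by rw [← e, add_assoc, K.add_self, add_zero])⟩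
  have k4 : ∀ w, β 1 (w + K.σ w) = 1 := fun w => by
    obtain ⟨v, e | e⟩ := k3 w <;> rw [← k2 v, e] <;> congr 1 <;> simp only [map_add, map_one, K.σσ]
    · linear_combination K.σ v * K.two
    · linear_combination (K.σ v + 1) * K.two
  have k5 : ∀ y, β 1 y = 1 := fun y => by
    obtain ⟨w, e | e⟩ := k3 y
    · rw [e, k4]
    · rw [e, k1, k4]
  by_cases x0 : x = 0
  · rw [x0, z2]
  · rw [← k5 (x⁻¹ * y), ← h (Units.mk0 x x0) 1]; simp [x0]

end H2.SZ
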