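import Mathlib
import Cfsg.Agent.H2.UDefs
import Cfsg.Agent.H2.ZA1
import Cfsg.Agent.H2.U0

set_option autoImplicit false
set_option linter.unusedVariables false
set_option linter.unusedSectionVars false

namespace H2.U3

open Cfsg H24 Subgroup
open H2.SZ (St DD Goal)
open H2.C2 (Cl2)

universe u v

variable {G : Type u} [Group G] [Finite G] {E F : Type*} [Field E] [Fintype E] [Field F] [Fintype F]
  [Algebra E F] {K : UF E F} {L G0 D P P0 Q R A B C H T M W W1 W2 Z1 Z2 : Subgroup G}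
  {t g s f x y i v p : G} {X : UD K L} {a k : F} {b : E} {ρ : F ≃+* F}

local notation "𝐪" => Fintype.card E

/-! ### UA1 -/

theorem UA1_odd {M : Type*} [Field M] [Fintype M] (h : (2 : M) = 0) : Odd (Fintype.card M - 1) := by
  have := CharTwo.of_one_ne_zero_of_two_eq_zero one_ne_zero h
  obtain ⟨n, -, hn⟩ := FiniteField.card M 2
  rw [hn]
  exact Nat.Even.sub_odd Nat.one_le_two_pow (Nat.even_pow.2 ⟨even_two, n.ne_zero⟩) odd_one

theorem UA1_pow {M : Type*} [Field M] [Fintype M] (h : (2 : M) = 0) (ρ : M ≃+* M) :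
    ∃ i : ℕ, ∀ x, ρ x = x ^ 2 ^ i := by
  have := CharTwo.of_one_ne_zero_of_two_eq_zero one_ne_zero h
  let _ : Algebra (ZMod 2) M := ZMod.algebra M 2
  obtain ⟨i, e⟩ := FiniteField.exists_forall_apply_eq_pow (ZMod 2) 2 M (H2.SZ.autE.symm ρ)
  exact ⟨i, fun x => by rw [Nat.card_zmod] at e; exact e x⟩

theorem UA1_fr {M : Type*} [Field M] [Fintype M] (h : (2 : M) = 0) :
    ∃ φ : M ≃+* M, ∀ (i : ℕ) x, (φ ^ i) x = x ^ 2 ^ i := by
  have := CharTwo.of_one_ne_zero_of_two_eq_zero one_ne_zero h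
  have : Fact (Nat.Prime 2) := ⟨Nat.prime_two⟩
  refine ⟨frobeniusEquiv M 2, fun i => ?_⟩
  induction i with
  | zero => intro x; simp
  | succ i ih =>
    intro x
    rw [pow_succ', RingAut.mul_apply, ih, pow_succ, pow_mul]
    rfl

theorem UA1_cyc {M : Type*} [Field M] [Fintype M] (h : (2 : M) = 0) : IsCyclic (M ≃+* M) := by
  obtain ⟨φ, hφ⟩ := UA1_fr h
  refine ⟨φ, fun ρ => ?_⟩
  obtain ⟨i, hi⟩ := UA1_pow h ρ
  exact ⟨i, RingEquiv.ext fun x => by rw [hi, ← hφ]; simp⟩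

theorem UF.odd_E (K : UF E F) : Odd (𝐪 - 1) := UA1_odd K.two

theorem UF.odd_F (K : UF E F) : Odd (Fintype.card F - 1) := UA1_odd K.twoF

theorem UF.cyc_F (K : UF E F) : IsCyclic (F ≃+* F) := UA1_cyc K.twoF

theorem UF.cyc_E (K : UF E F) : IsCyclic (E ≃+* E) := UA1_cyc K.two

theorem UF.aut_σ (K : UF E F) (ρ : F ≃+* F) (x : F) : ρ (K.σ x) = K.σ (ρ x) := by
  obtain ⟨i, hi⟩ := UA1_pow K.twoF ρ
  rw [hi, hi, map_pow]

theorem UF.aut_sq (K : UF E F) (h : ρ * ρ = 1) : ρ = 1 ∨ ρ = K.σ := by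
  classical
  have := K.cyc_F
  let _ := H2.SZ.finAut (F := F)
  by_contra hn
  rw [not_or] at hn
  have h1 := IsCyclic.card_pow_eq_one_le (α := F ≃+* F) two_pos
  have h2 : ({ρ, 1, K.σ} : Finset (F ≃+* F)) ⊆ Finset.univ.filter fun a => a ^ 2 = 1 := by
    intro a ha
    simp only [Finset.mem_insert, Finset.mem_singleton] at ha
    rcases ha with rfl | rfl | rfl
    · simpa [sq] using h
    · simp
    · simpa [sq] using RingEquiv.ext K.σσ
  have h3 := (Finset.card_le_card h2).trans h1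
  rw [Finset.card_eq_three.2 ⟨ρ, 1, K.σ, hn.1, hn.2, K.σ_ne.symm, rfl⟩] at h3
  omega

theorem UF.aut_two (K : UF E F) {n : ℕ} (h : ρ ^ 2 ^ n = 1) (h1 : ρ ≠ 1) : ∃ m : ℕ, ρ ^ m = K.σ := by
  induction n generalizing ρ with
  | zero => exact absurd (by simpa using h) h1
  | succ n ih =>
    by_cases e : ρ ^ 2 = 1
    · exact ⟨1, by simpa using (K.aut_sq (by rwa [← sq])).resolve_left h1⟩
    · obtain ⟨m, hm⟩ := ih (ρ := ρ ^ 2) (by rwa [← pow_mul, ← pow_succ']) e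
      exact ⟨2 * m, by rwa [pow_mul]⟩

theorem UF.UA1_root (K : UF E F) {θ : F} (h : θ * θ + θ = algebraMap E F (K.nm K.ω)) :
    θ = K.ω ∨ θ = K.σ K.ω := by
  have e := K.tr_eq K.ω
  rw [K.tr_ω, map_one] at e
  rw [K.nm_eq] at h
  have : (θ - K.ω) * (θ - K.σ K.ω) = 0 := by
    linear_combination h + θ * e + (K.ω * K.σ K.ω - θ) * K.twoF
  exact (mul_eq_zero.1 this).imp sub_eq_zero.1 sub_eq_zero.1

theorem UF.UA1_ω (K : UF E F) : K.ω * K.ω + K.ω = algebraMap E F (K.nm K.ω) := by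
  have e := K.tr_eq K.ω
  rw [K.tr_ω, map_one] at e
  rw [K.nm_eq]
  linear_combination K.ω * e + (K.ω * K.ω) * K.twoF

theorem UF.UA1_lin (K : UF E F) (α : F →+ F) (h : ∀ (e : E) x, α (e • x) = e • α x) (h1 : α 1 = 1)
    (h2 : α K.ω * α K.ω + α K.ω = algebraMap E F (K.nm K.ω)) : (∀ x, α x = x) ∨ ∀ x, α x = K.σ x := by
  refine (K.UA1_root h2).imp (fun e x => ?_) fun e x => ?_ <;> obtain ⟨c, hc⟩ := K.coord x
  · conv_lhs => rw [hc, map_add, h, e, Algebra.algebraMap_eq_smul_one, h, h1,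
      ← Algebra.algebraMap_eq_smul_one, ← hc]
  · conv_lhs => rw [hc, map_add, h, e, Algebra.algebraMap_eq_smul_one, h, h1,
      ← Algebra.algebraMap_eq_smul_one, ← K.σ_alg, ← K.σ_smul, ← map_add, ← hc]

theorem UF.aut_fixE (K : UF E F) (h : ∀ e, ρ (algebraMap E F e) = algebraMap E F e) :
    ρ = 1 ∨ ρ = K.σ := by
  refine (K.UA1_lin (ρ : F →+ F) (fun e x => ?_) (map_one ρ) ?_).imp RingEquiv.ext RingEquiv.ext
  · change ρ _ = e • ρ x
    rw [Algebra.smul_def, Algebra.smul_def, map_mul, h]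
  · change ρ _ * ρ _ + ρ _ = _
    rw [← map_mul, ← map_add, K.UA1_ω, h]

theorem UF.aut_res (K : UF E F) (ρ : F ≃+* F) :
    ∃ μ : E ≃+* E, ∀ e, ρ (algebraMap E F e) = algebraMap E F (μ e) := by
  obtain ⟨i, hi⟩ := UA1_pow K.twoF ρ
  obtain ⟨φ, hφ⟩ := UA1_fr K.two
  exact ⟨φ ^ i, fun e => by rw [hi, hφ, map_pow]⟩

theorem UF.aut_ext (K : UF E F) (μ : E ≃+* E) :
    ∃ ρ : F ≃+* F, ∀ e, ρ (algebraMap E F e) = algebraMap E F (μ e) := by
  obtain ⟨i, hi⟩ := UA1_pow K.two μ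
  obtain ⟨φ, hφ⟩ := UA1_fr K.twoF
  exact ⟨φ ^ i, fun e => by rw [hi, hφ, map_pow]⟩

/-- a scalar of `2`-power order is `1` -/
theorem UF.two_scal (K : UF E F) {n : ℕ} (h : k ^ 2 ^ n = 1) : k = 1 := by
  obtain ⟨φ, hφ⟩ := UA1_fr K.twoF
  exact (φ ^ n).injective (by rw [hφ, h, map_one])

/-- a similitude of a non-degenerate form is semilinear -/
theorem UA1_semi {V : Type*} [AddCommGroup V] [Module E V] [Finite V] [Nontrivial V] (B : V → V → E)
    (a1 : ∀ x y w, B (x + y) w = B x w + B y w) (a2 : ∀ x y w, B w (x + y) = B w x + B w y)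
    (s1 : ∀ (e : E) x y, B (e • x) y = e * B x y) (s2 : ∀ (e : E) x y, B x (e • y) = e * B x y)
    (nd : ∀ v ≠ 0, ∀ c, ∃ w, B v w = c) (φ : V →+ V) (γ : E →+ E) (hφ : Function.Injective φ)
    (h : ∀ v w, B (φ v) (φ w) = γ (B v w)) :
    ∃ μ : E ≃+* E, (∀ (e : E) v, φ (e • v) = μ e • φ v) ∧ ∀ b, γ b = γ 1 * μ b := by
  have sφ := Finite.injective_iff_surjective.1 hφ
  obtain ⟨v, hv⟩ := exists_ne (0 : V)
  have v0 : φ v ≠ 0 := fun e => hv (hφ (e.trans (map_zero φ).symm))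
  have iγ : Function.Injective γ := Finite.injective_iff_surjective.2 fun c => by
    obtain ⟨w, hw⟩ := nd _ v0 c
    obtain ⟨w, rfl⟩ := sφ w
    exact ⟨_, (h v w).symm.trans hw⟩
  have g1 : γ 1 ≠ 0 := fun e => one_ne_zero (iγ (e.trans (map_zero γ).symm))
  have k : ∀ e, ∃ l, ∀ b, γ (e * b) = l * γ b := fun e => by
    obtain ⟨w0, h0⟩ := nd _ v0 1
    refine ⟨B (φ (e • v)) w0, fun b => ?_⟩
    obtain ⟨w, rfl⟩ := nd v hv b
    obtain ⟨w', e'⟩ := sφ (φ w + (-γ (B v w)) • w0)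
    have e1 : B v w' = 0 := iγ (by rw [← h, e', a2, s2, h, h0, map_zero]; ring)
    have e2 := h (e • v) w'
    rw [s1, e1, mul_zero, map_zero, e', a2, s2, h, s1] at e2
    linear_combination e2
  have k' : ∀ e b, γ (e * b) = γ e / γ 1 * γ b := fun e b => by
    obtain ⟨l, hl⟩ := k e
    have := hl 1
    rw [mul_one] at this
    rw [hl, this, mul_div_cancel_right₀ _ g1]
  let μ : E →+* E :=
    { toFun := fun e => γ e / γ 1
      map_one' := div_self g1
      map_mul' := fun e b => by rw [k', mul_div_assoc]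
      map_zero' := by rw [map_zero, zero_div]
      map_add' := fun e b => by rw [map_add, add_div] }
  refine ⟨RingEquiv.ofBijective μ (Finite.injective_iff_bijective.1 μ.injective), fun e x => ?_,
    fun b => (mul_div_cancel₀ _ g1).symm⟩
  change _ = (γ e / γ 1) • φ x
  rw [← sub_eq_zero, sub_eq_add_neg, ← neg_smul]
  by_contra hn
  obtain ⟨w, hw⟩ := nd _ hn 1
  obtain ⟨w, rfl⟩ := sφ w
  rw [a1, s1, h, h, s1, k'] at hw
  exact one_ne_zero (by linear_combination -hw)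

theorem UF.isom (K : UF E F) (α : F →+ F) (h : ∀ x, K.nm (α x) = K.nm x) :
    (∀ x, α x = α 1 * x) ∨ ∀ x, α x = α 1 * K.σ x := by
  have hα : Function.Injective α := (injective_iff_map_eq_zero α).2 fun x e =>
    K.nm_eq_zero.1 (by rw [← h, e, K.nm_zero])
  have hB : ∀ x y, K.B (α x) (α y) = K.B x y := fun x y => by
    have := h (x + y)
    rw [map_add, K.nm_add, K.nm_add, h, h] at this
    exact add_left_cancel this
  obtain ⟨μ, h1, h2⟩ := UA1_semi K.B K.B_add_left K.B_add_right K.B_smul_left K.B_smul_right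
    (fun v hv => K.B_surj hv) α (AddMonoidHom.id E) hα hB
  replace h2 : ∀ b, μ b = b := fun b => by simpa using (h2 b).symm
  have a0 : α 1 ≠ 0 := fun e => one_ne_zero (hα (e.trans (map_zero α).symm))
  have n1 : K.nm (α 1)⁻¹ = 1 := by
    have := K.nm_mul (α 1) (α 1)⁻¹
    rwa [mul_inv_cancel₀ a0, h, K.nm_one, one_mul, eq_comm] at this
  refine (K.UA1_lin ((AddMonoidHom.mulLeft (α 1)⁻¹).comp α) (fun e x => ?_) (inv_mul_cancel₀ a0) ?_).imp
    (fun e x => ?_) fun e x => ?_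
  · change _ * α _ = e • (_ * α x)
    rw [h1, h2, mul_smul_comm]
  · set θ := (α 1)⁻¹ * α K.ω with hθ
    change θ * θ + θ = _
    have e1 : K.nm θ = K.nm K.ω := by rw [hθ, K.nm_mul, n1, h, one_mul]
    have e2 : K.B θ 1 = 1 := by
      have := K.B_mul (α 1)⁻¹ (α K.ω) (α 1)
      rwa [inv_mul_cancel₀ a0, n1, hB, one_mul, UF.B.eq_1 K K.ω, map_one K.σ, mul_one, K.tr_ω] at this
    have e3 := K.tr_eq θ
    rw [UF.B, map_one, mul_one] at e2
    rw [e2, map_one] at e3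
    rw [← e1, K.nm_eq]
    linear_combination θ * e3 + θ * θ * K.twoF
  · exact (inv_mul_eq_iff_eq_mul₀ a0).1 (e x)
  · exact (inv_mul_eq_iff_eq_mul₀ a0).1 (e x)

theorem UF.gammaL (K : UF E F) (α : F →+ F) (γ : E →+ E) (hα : Function.Injective α)
    (h : ∀ x, γ (K.nm x) = K.nm (α x)) : ∃ k ≠ 0, ∃ ρ : F ≃+* F, ∀ x, α x = k * ρ x := by
  have hB : ∀ x y, K.B (α x) (α y) = γ (K.B x y) := fun x y => by
    have := h (x + y)
    rw [map_add, K.nm_add, K.nm_add, map_add, map_add, h, h] at this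
    exact (add_left_cancel this).symm
  obtain ⟨μ, -, h2⟩ := UA1_semi K.B K.B_add_left K.B_add_right K.B_smul_left K.B_smul_right
    (fun v hv => K.B_surj hv) α γ hα hB
  obtain ⟨ρ, hρ⟩ := K.aut_ext μ
  have a0 : α 1 ≠ 0 := fun e => one_ne_zero (hα (e.trans (map_zero α).symm))
  have nρ : ∀ x, K.nm (ρ x) = μ (K.nm x) := fun x => (algebraMap E F).injective (by
    rw [← hρ, K.nm_eq, K.nm_eq, map_mul, K.aut_σ])
  let α' : F →+ F := (ρ.symm : F →+ F).comp ((AddMonoidHom.mulLeft (α 1)⁻¹).comp α)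
  have e : ∀ x, α x = α 1 * ρ (α' x) := fun x => by
    change _ = _ * ρ (ρ.symm (_ * α x))
    rw [ρ.apply_symm_apply, mul_inv_cancel_left₀ a0]
  have e1 : α' 1 = 1 := ρ.injective (mul_left_cancel₀ a0 (by rw [← e 1, map_one ρ, mul_one]))
  have g1 := h 1
  rw [K.nm_one] at g1
  rcases K.isom α' (fun x => μ.injective (mul_left_cancel₀ (mt K.nm_eq_zero.1 a0) (by
    rw [← nρ, ← K.nm_mul, ← e, ← h, h2, g1]))) with k | k
  · exact ⟨_, a0, ρ, fun x => by rw [e, k, e1, one_mul]⟩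
  · exact ⟨_, a0, ρ * K.σ, fun x => by rw [e, k, e1, one_mul]; rfl⟩

theorem UF.semi (K : UF E F) (n : E) (φ : F × E × E →+ F × E × E) (γ : E →+ E)
    (hφ : Function.Injective φ) (h : ∀ v, K.Qv n (φ v) = γ (K.Qv n v)) :
    ∃ μ : E ≃+* E, (∀ (e : E) v, φ (e • v) = μ e • φ v) ∧ ∀ b, γ b = γ 1 * μ b := by
  refine UA1_semi K.Bv K.Bv_add_left K.Bv_add_right K.Bv_smul_left K.Bv_smul_right
    (fun v hv => K.Bv_surj hv) φ γ hφ fun v w => ?_
  have := h (v + w)
  rw [map_add, K.Qv_add, K.Qv_add, map_add, map_add, h, h] at this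
  exact add_left_cancel this

theorem UF.dich (K : UF E F) (b : E) : (∃ e, e ^ 2 + e = b) ∨ ∃ e, e ^ 2 + e = b + K.nm K.ω := by
  let p : E →+ E := AddMonoidHom.mk' (fun e => e ^ 2 + e) fun x y => by
    linear_combination x * y * K.two
  have c1 : Nat.card p.ker = 2 := by
    refine Nat.card_eq_two_iff.2 ⟨0, ⟨1, show (1 : E) ^ 2 + 1 = 0 by rw [one_pow, K.addE]⟩,
      fun e => zero_ne_one (congrArg Subtype.val e), Set.eq_univ_of_forall ?_⟩
    rintro ⟨x, hx⟩
    have : x * (x - 1) = 0 := by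
      have e : x ^ 2 + x = 0 := hx
      linear_combination e - x * K.two
    rcases mul_eq_zero.1 this with e | e
    · exact .inl (Subtype.ext e)
    · exact .inr (Subtype.ext (sub_eq_zero.1 e))
  have c2 : p.range.index = 2 := by
    have e1 := p.ker.card_mul_index
    have e2 := p.range.card_mul_index
    rw [AddSubgroup.index_ker, c1, ← e2, mul_comm] at e1
    exact (Nat.eq_of_mul_eq_mul_left Nat.card_pos e1).symm
  have n : K.nm K.ω ∉ p.range := by
    rintro ⟨e, he⟩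
    have e1 : e ^ 2 + e = K.nm K.ω := he
    have e2 := K.tr_ω
    rcases K.UA1_root (θ := algebraMap E F e) (by rw [← e1, map_add, map_pow, sq]) with k | k
    · rw [← k, K.tr_alg] at e2; exact zero_ne_one e2
    · rw [← K.tr_σ, ← k, K.tr_alg] at e2; exact zero_ne_one e2
  refine or_iff_not_imp_left.2 fun hb => ?_
  exact (AddSubgroup.add_mem_iff_of_index_two c2).2 (iff_of_false hb n)

theorem UF.aniso (K : UF E F) {n : E} (h : ∀ x y : E, x ^ 2 + x * y + n * y ^ 2 = 0 → x = 0 ∧ y = 0) :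
    ∃ ψ : F ≃ₗ[E] E × E, ∀ c, (ψ c).1 ^ 2 + (ψ c).1 * (ψ c).2 + n * (ψ c).2 ^ 2 = K.nm c := by
  obtain ⟨e, he⟩ := (K.dich n).resolve_left (by
    rintro ⟨e, he⟩
    exact one_ne_zero (h e 1 (by linear_combination he + n * K.two)).2)
  set θ := algebraMap E F e + K.ω with hθ
  have t1 : K.tr θ = 1 := by rw [hθ, K.tr_add, K.tr_alg, K.tr_ω, zero_add]
  have B1 : ∀ y, K.B 1 y = K.tr y := fun y => by rw [UF.B, one_mul, K.tr_σ]
  have n1 : K.nm θ = n := by
    rw [hθ, K.nm_add, K.nm_alg, Algebra.algebraMap_eq_smul_one, K.B_smul_left, B1, K.tr_ω]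
    linear_combination he + K.nm K.ω * K.two
  let f : E × E →ₗ[E] F := (LinearMap.toSpanSingleton E F 1).coprod (LinearMap.toSpanSingleton E F θ)
  have nf : ∀ v, K.nm (f v) = v.1 ^ 2 + v.1 * v.2 + n * v.2 ^ 2 := fun v => by
    change K.nm (v.1 • (1 : F) + v.2 • θ) = _
    rw [K.nm_add, K.nm_smul, K.nm_smul, K.B_smul_left, K.B_smul_right, B1, t1, n1, K.nm_one]
    ring
  have fi : Function.Injective f := (injective_iff_map_eq_zero f).2 fun v hv => by
    have := h v.1 v.2 (by rw [← nf, hv, K.nm_zero])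
    exact Prod.ext this.1 this.2
  have fb : Function.Bijective f := (Fintype.bijective_iff_injective_and_card f).2
    ⟨fi, by rw [Fintype.card_prod, K.card, sq]⟩
  refine ⟨(LinearEquiv.ofBijective f fb).symm, fun c => ?_⟩
  rw [← nf]
  exact congrArg K.nm ((LinearEquiv.ofBijective f fb).apply_symm_apply c)

theorem UF.autotop (K : UF E F) (α1 α2 γ : F →+ F) (h1 : Function.Injective α1)
    (h2 : Function.Injective α2) (h : ∀ x y, γ (x * K.σ y) = α1 x * K.σ (α2 y)) :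
    ∃ k1 ≠ 0, ∃ k2 ≠ 0, ∃ ρ : F ≃+* F, (∀ x, α1 x = k1 * ρ x) ∧ (∀ x, α2 x = k2 * ρ x) ∧
      ∀ x, γ x = k1 * K.σ k2 * ρ x := by
  have a1 : α1 1 ≠ 0 := fun e => one_ne_zero (h1 (e.trans (map_zero α1).symm))
  have a2 : α2 1 ≠ 0 := fun e => one_ne_zero (h2 (e.trans (map_zero α2).symm))
  have a3 : K.σ (α2 1) ≠ 0 := by simpa using a2
  have e1 : ∀ x, γ x = α1 x * K.σ (α2 1) := fun x => by rw [← h, map_one, mul_one]
  have e2 : ∀ y, α1 (K.σ y) * K.σ (α2 1) = α1 1 * K.σ (α2 y) := fun y => by rw [← e1, ← h, one_mul]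
  let μ : F →+* F :=
    { toFun := fun e => α1 e / α1 1
      map_one' := div_self a1
      map_mul' := fun x y => by
        have k1 := h x (K.σ y)
        have k2 := e2 (K.σ y)
        rw [K.σσ] at k1 k2
        rw [e1] at k1
        field_simp
        exact mul_right_cancel₀ a3 (by linear_combination α1 1 * k1 - α1 x * k2)
      map_zero' := by rw [map_zero, zero_div]
      map_add' := fun e b => by rw [map_add, add_div] }
  let ρ := RingEquiv.ofBijective μ (Finite.injective_iff_bijective.1 μ.injective)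
  have e3 : ∀ x, α1 x = α1 1 * ρ x := fun x => (mul_div_cancel₀ _ a1).symm
  refine ⟨_, a1, _, a2, ρ, e3, fun y => K.σ.injective (mul_left_cancel₀ a1 ?_), fun x => ?_⟩
  · rw [← e2, e3, map_mul, K.aut_σ]; ring
  · rw [e1, e3]; ring



end H2.U3
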