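import Mathlib
import Cfsg.Agent.H2.UDefs
import Cfsg.Agent.H2.ZA1
import Cfsg.Agent.H2.U0

set_option autoImplicit false
set_option linter.unusedVariables false
set_option linter.unusedSectionVars false

namespace H2.U3

open Cfsg H24 Subgroup
open H2.SZ (St DD Goal)
open H2.C2 (Cl2)

universe u v

variable {G : Type u} [Group G] [Finite G] {E F : Type*} [Field E] [Fintype E] [Field F] [Fintype F]
  [Algebra E F] {K : UF E F} {L G0 D P P0 Q R A B C H T M W W1 W2 Z1 Z2 : Subgroup G}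
  {t g s f x y i v p : G} {X : UD K L} {a k : F} {b : E} {ρ : F ≃+* F}

local notation "𝐪" => Fintype.card E

/-! ### UA2 -/

theorem UF.winv (K : UF E F) {A0 : Type*} [AddCommGroup A0] (l : F →+ A0) (h : ∀ x, l (K.w * x) = l x)
    (x : F) : l x = 0 := by
  have h1 : K.w - 1 ≠ 0 := sub_ne_zero.2 K.w1
  rw [← mul_div_cancel₀ x h1, sub_mul, map_sub, h, one_mul, sub_self]

theorem UF.UA2_trw (K : UF E F) : K.tr K.w ≠ 0 := fun h => by
  obtain ⟨e, he⟩ := K.tr_eq_zero.1 h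
  exact K.σ_w (by rw [he, K.σ_alg])

theorem UF.UA2_dec (K : UF E F) (x : F) : ∃ a b : E, x = a • (1 : F) + b • K.w := by
  obtain ⟨e, he⟩ := (K.tr_eq_zero (x := x + (K.tr x / K.tr K.w) • K.w)).1 (by
    rw [K.tr_add, K.tr_smul, div_mul_cancel₀ _ K.UA2_trw, K.addE])
  exact ⟨e, K.tr x / K.tr K.w, by
    rw [← Algebra.algebraMap_eq_smul_one, ← he, add_assoc, K.addF, add_zero]⟩

theorem UF.linF (K : UF E F) {V : Type*} [AddCommGroup V] [Module F V] [Module E V] [IsScalarTower E F V]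
    (f : F →+ V) (h1 : ∀ (k : Eˣ) x, f ((k : E) • x) = (k : E) • f x) (h2 : ∀ x, f (K.w * x) = K.w • f x)
    (x : F) : f x = x • f 1 := by
  have h3 : ∀ (e : E) x, f (e • x) = e • f x := fun e x => by
    by_cases e0 : e = 0
    · simp [e0]
    · exact h1 (Units.mk0 e e0) x
  obtain ⟨a, b, rfl⟩ := K.UA2_dec x
  have := h2 1
  rw [mul_one] at this
  rw [map_add, h3, h3, this, add_smul, smul_assoc, smul_assoc, one_smul]

theorem UF.subF (K : UF E F) (I : AddSubgroup F) (h1 : ∀ (k : Eˣ), ∀ x ∈ I, (k : E) • x ∈ I)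
    (h2 : ∀ x ∈ I, K.w * x ∈ I) (h3 : I ≠ ⊥) : I = ⊤ := by
  obtain ⟨y, hy, y0⟩ : ∃ y ∈ I, y ≠ 0 := by
    by_contra hn
    exact h3 (eq_bot_iff.2 fun y hy => by_contra fun e => hn ⟨y, hy, e⟩)
  have h4 : ∀ (e : E), ∀ x ∈ I, e • x ∈ I := fun e x hx => by
    by_cases e0 : e = 0
    · simp [e0]
    · exact h1 (Units.mk0 e e0) x hx
  refine eq_top_iff.2 fun x _ => ?_
  obtain ⟨a, b, e⟩ := K.UA2_dec (x / y)
  rw [← div_mul_cancel₀ x y0, e, add_mul, smul_mul_assoc, smul_mul_assoc, one_mul]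
  exact add_mem (h4 _ _ hy) (h4 _ _ (h2 _ hy))

theorem UF.UA2_eq (K : UF E F) {x y : E} (h : x + y = 0) : x = y := by
  linear_combination h - y * K.two

theorem UF.idem (K : UF E F) (Λ : Set (E →+ E)) (h1 : ∀ a ∈ Λ, ∀ b ∈ Λ, a + b ∈ Λ)
    (h2 : ∀ a ∈ Λ, ∀ k : Eˣ, ∃ b ∈ Λ, ∀ y, b ((k : E) ^ 2 * y) = (k : E) ^ 2 * a y)
    (h3 : ∀ a ∈ Λ, ∀ y, a (a y) = a y) : ∀ a ∈ Λ, (∀ y, a y = 0) ∨ ∀ y, a y = y := by
  have cm : ∀ a ∈ Λ, ∀ b ∈ Λ, ∀ y, a (b y) = b (a y) := fun a ha b hb y => by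
    have := h3 _ (h1 a ha b hb) y
    simp only [AddMonoidHom.add_apply, map_add, h3 a ha, h3 b hb] at this
    exact K.UA2_eq (by linear_combination this)
  obtain ⟨W, ⟨W1, W2⟩, W3⟩ := exists_minimal_of_wellFoundedLT
    (fun W : AddSubgroup E => W ≠ ⊥ ∧ ∀ a ∈ Λ, ∀ y ∈ W, a y ∈ W) ⟨⊤, top_ne_bot, fun _ _ _ _ => trivial⟩
  obtain ⟨y, hy, y0⟩ : ∃ y ∈ W, y ≠ 0 := by
    by_contra hn
    exact W1 (eq_bot_iff.2 fun y hy => by_contra fun e => hn ⟨y, hy, e⟩)
  have e1 : ∀ a ∈ Λ, a y = 0 ∨ a y = y := fun a ha => by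
    refine or_iff_not_imp_left.2 fun a0 => ?_
    have := W3 (y := W ⊓ (a + AddMonoidHom.id E).ker) ⟨fun e => a0 (by
        have : a y ∈ W ⊓ (a + AddMonoidHom.id E).ker := ⟨W2 a ha y hy, by
          change a (a y) + a y = 0; rw [h3 a ha, K.addE]⟩
        rwa [e] at this), fun b hb x hx => ⟨W2 b hb x hx.1, by
        have e : a x + x = 0 := hx.2
        change a (b x) + b x = 0
        rw [cm a ha b hb, ← map_add, e, map_zero]⟩⟩ inf_le_left
    exact K.UA2_eq (this hy).2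
  intro a ha
  have e2 : ∀ x, a x = 0 ∨ a x = x := fun x => by
    by_cases x0 : x = 0
    · simp [x0]
    obtain ⟨k, e⟩ := K.exists_sq x0 y0
    obtain ⟨b, hb, e3⟩ := h2 a ha k
    have := e1 b hb
    have k0 : (k : E) ^ 2 ≠ 0 := pow_ne_zero 2 k.ne_zero
    rw [← e, e3] at this
    exact this.imp (fun h => (mul_eq_zero.1 h).resolve_left k0) (mul_left_cancel₀ k0)
  refine or_iff_not_imp_left.2 fun hn x => ?_
  obtain ⟨w, hw⟩ := not_forall.1 hn
  refine (e2 x).elim (fun e => ?_) id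
  have e4 := (e2 w).resolve_left hw
  rcases e2 (x + w) with e5 | e5 <;> rw [map_add, e, zero_add] at e5
  · exact absurd e5 hw
  · rw [e]; linear_combination e5 - e4

open H2.SZ (ind autE)
open scoped H2.SZ

theorem UF.UA2_exists_co (K : UF E F) (f : E →+ E) :
    ∃ a : (E ≃+* E) → E, ∀ y, f y = ∑ ρ, a ρ * ρ y := by
  have := K.U0_charP
  let _ : Algebra (ZMod 2) E := ZMod.algebra E 2
  let v : (E ≃+* E) → E →ₗ[ZMod 2] E := fun ρ => (ρ : E →+ E).toZModLinearMap 2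
  have li : LinearIndependent E v := Fintype.linearIndependent_iff.2 fun a e => ind fun y => by
    simpa [v] using LinearMap.congr_fun e y
  have cd : Fintype.card (E ≃+* E) = Module.finrank E (E →ₗ[ZMod 2] E) := by
    rw [Module.finrank_linearMap_self, ← IsGalois.card_aut_eq_finrank, ← Nat.card_eq_fintype_card]
    exact Nat.card_congr autE.symm
  obtain ⟨a, e⟩ := (Submodule.mem_span_range_iff_exists_fun E).1
    ((li.span_eq_top_of_card_eq_finrank cd).ge (Submodule.mem_top (x := f.toZModLinearMap 2)))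
  exact ⟨a, fun y => by simpa [v] using (LinearMap.congr_fun e y).symm⟩

/-- the coefficients of an additive map -/
noncomputable def UF.UA2_co (K : UF E F) (f : E →+ E) : (E ≃+* E) → E := (K.UA2_exists_co f).choose

theorem UF.UA2_spec (K : UF E F) (f : E →+ E) (y : E) : f y = ∑ ρ, K.UA2_co f ρ * ρ y :=
  (K.UA2_exists_co f).choose_spec y
theorem UF.UA2_co_eq (K : UF E F) {f : E →+ E} {a : (E ≃+* E) → E} (h : ∀ y, f y = ∑ ρ, a ρ * ρ y)
    (ρ : E ≃+* E) : K.UA2_co f ρ = a ρ :=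
  sub_eq_zero.1 (ind (a := fun ρ => K.UA2_co f ρ - a ρ) (fun y => by
    simp only [sub_mul, Finset.sum_sub_distrib, ← h, ← K.UA2_spec, sub_self]) ρ)
theorem UF.UA2_co_add (K : UF E F) (f g : E →+ E) (ρ : E ≃+* E) :
    K.UA2_co (f + g) ρ = K.UA2_co f ρ + K.UA2_co g ρ :=
  K.UA2_co_eq (a := fun ρ => K.UA2_co f ρ + K.UA2_co g ρ) (fun y => by
    simp only [add_mul, Finset.sum_add_distrib, ← K.UA2_spec, AddMonoidHom.add_apply]) ρ
theorem UF.UA2_eqv (K : UF E F) {f g : E →+ E} {k c : E} (h : ∀ y, g (k * y) = c * f y)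
    (ρ : E ≃+* E) : K.UA2_co g ρ * ρ k = c * K.UA2_co f ρ :=
  sub_eq_zero.1 (ind (a := fun ρ => K.UA2_co g ρ * ρ k - c * K.UA2_co f ρ) (fun y => by
    simp only [sub_mul, Finset.sum_sub_distrib, mul_assoc, ← map_mul, ← Finset.mul_sum, ← K.UA2_spec,
      h, sub_self]) ρ)

theorem UF.UA2_bi (K : UF E F) (β : E → E → E) (h1 : ∀ x x' y, β (x + x') y = β x y + β x' y)
    (h2 : ∀ x y y', β x (y + y') = β x y + β x y') (f g χ : Eˣ → E) (ρ0 : E ≃+* E)
    (h : ∀ (k : Eˣ) x y, β (f k * x) (g k * y) = χ k * β x y)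
    (u : ∀ δ ρ : E ≃+* E, (∀ k, δ (f k) * ρ (g k) = χ k) → δ = ρ0 ∧ ρ = ρ0) :
    ∃ c, ∀ x y, β x y = c * ρ0 (x * y) := by
  classical
  let b : E → E →+ E := fun x => AddMonoidHom.mk' (β x) (h2 x)
  let a : (E ≃+* E) → E →+ E := fun ρ => AddMonoidHom.mk' (fun x => K.UA2_co (b x) ρ) fun x x' => by
    rw [← K.UA2_co_add]; congr 1; ext y; exact h1 x x' y
  have k : ∀ ρ δ, K.UA2_co (a ρ) δ ≠ 0 → δ = ρ0 ∧ ρ = ρ0 := fun ρ δ e => u δ ρ fun k => by
    have := K.UA2_eqv (f := a ρ) (g := (AddMonoidHom.mulLeft (ρ (g k))).comp (a ρ)) (k := f k)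
      (c := χ k) (fun x => (mul_comm _ _).trans (K.UA2_eqv (h k x) ρ)) δ
    rw [← one_mul (K.UA2_co _ δ), ← map_one δ, mul_comm (δ 1), K.UA2_eqv (f := a ρ) (c := ρ (g k))
      (fun y => by simp)] at this
    exact mul_right_cancel₀ e (by linear_combination this)
  refine ⟨K.UA2_co (a ρ0) ρ0, fun x y => ?_⟩
  have e : ∀ ρ, a ρ x = if ρ = ρ0 then K.UA2_co (a ρ0) ρ0 * ρ0 x else 0 := fun ρ => by
    rw [K.UA2_spec, Finset.sum_eq_single ρ0 (fun δ _ hd => by
      rw [not_not.1 (mt (fun e => (k ρ δ e).1) hd), zero_mul]) (by simp)]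
    split_ifs with hr
    · rw [hr]
    · rw [not_not.1 (mt (fun e => (k ρ ρ0 e).2) hr), zero_mul]
  have := K.UA2_spec (b x) y
  change β x y = ∑ ρ, a ρ x * ρ y at this
  simp [this, e, mul_assoc]

theorem UF.UA2_u (K : UF E F) {δ ρ τ ρ0 : E ≃+* E} (e1 : ∀ x, δ x * ρ x = τ x)
    (e2 : ∀ x, ρ0 x ^ 2 = τ x) : δ = ρ0 ∧ ρ = ρ0 := by
  obtain rfl : δ = ρ := RingEquiv.ext fun x => K.UA2_eq (by
    have := e1 (x + 1)
    simp only [map_add, map_one] at this
    linear_combination this - e1 x)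
  have : δ = ρ0 := RingEquiv.ext fun x => K.sq_inj (by rw [e2, sq, e1])
  exact ⟨this, this⟩

theorem UF.blem2 (K : UF E F) (rt : E ≃+* E) (hrt : ∀ x, rt x ^ 2 = x) (β : E → E → E)
    (h1 : ∀ x x' y, β (x + x') y = β x y + β x' y) (h2 : ∀ x y y', β x (y + y') = β x y + β x y')
    (h : ∀ (k : Eˣ) x y, β ((k : E) ^ 2 * x) ((k : E) ^ 2 * y) = (k : E) ^ 2 * β x y) :
    ∃ c, ∀ x y, β x y = c * rt (x * y) := by
  refine K.UA2_bi β h1 h2 _ _ _ _ h fun δ ρ e => K.UA2_u (τ := 1) (fun x => ?_) hrt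
  by_cases x0 : x = 0
  · simp [x0]
  · have := e (Units.mk0 (rt x) (by simpa using x0))
    rwa [Units.val_mk0, hrt] at this

theorem UF.bilE (K : UF E F) (β : F → F → E) (h1 : ∀ x x' y, β (x + x') y = β x y + β x' y)
    (h2 : ∀ x y y', β x (y + y') = β x y + β x y')
    (h4 : ∀ (k : Eˣ) x y, β ((k : E) • x) ((k : E) • y) = (k : E) ^ 2 * β x y)
    (h5 : ∀ x y, β (K.w * x) (K.w * y) = β x y) : ∃ α, ∀ x y, β x y = K.tr (α * x * K.σ y) := by
  obtain ⟨rt, hrt⟩ := K.exists_rt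
  have bl : ∀ x y (a b : E), β (a • x) (b • y) = a * b * β x y := fun x y => by
    obtain ⟨c, hc⟩ := K.UA2_bi (fun a b => β (a • x) (b • y)) (fun a a' b => by rw [add_smul, h1])
      (fun a b b' => by rw [add_smul, h2]) (fun k => k) (fun k => k) (fun k => (k : E) ^ 2) 1
      (fun k a b => by rw [mul_smul, mul_smul, h4]) fun δ ρ e => K.UA2_u (τ := rt.symm) (fun x => by
        rw [eq_comm, RingEquiv.symm_apply_eq]
        by_cases x0 : x = 0
        · simp [x0]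
        · have := e (Units.mk0 x x0)
          rw [Units.val_mk0] at this
          rw [this, map_pow, hrt]) fun x => by
        rw [eq_comm, RingEquiv.symm_apply_eq, map_pow, hrt]; rfl
    intro a b
    have := hc 1 1
    simp only [one_smul, mul_one, map_one] at this
    rw [hc, this, mul_comm]; rfl
  have e1 := K.tr_eq K.w
  have e2 := K.nm_eq K.w
  rw [K.nm_w, map_one] at e2
  have ww : K.w * K.w = K.tr K.w • K.w + 1 := by
    rw [Algebra.smul_def, e1]; linear_combination -e2 - (K.w * K.σ K.w) * K.twoF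
  have b1 := h5 1 1
  have b2 := h5 1 K.w
  have b3 := bl K.w K.w 1 (K.tr K.w)
  rw [mul_one] at b1
  rw [one_smul, one_mul, b1] at b3
  rw [mul_one, ww, h2, b3] at b2
  obtain ⟨α, t1, t2⟩ : ∃ α, K.tr α = β 1 1 ∧ K.tr (α * K.w) = β K.w 1 := by
    refine ⟨β 1 1 • K.ω + ((β K.w 1 + β 1 1 * K.tr (K.ω * K.w)) / K.tr K.w) • 1, ?_, ?_⟩
    · rw [K.tr_add, K.tr_smul, K.tr_ω, ← Algebra.algebraMap_eq_smul_one, K.tr_alg, mul_one, add_zero]
    · rw [add_mul, smul_mul_assoc, smul_mul_assoc, one_mul, K.tr_add, K.tr_smul, K.tr_smul,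
        div_mul_cancel₀ _ K.UA2_trw]
      linear_combination β 1 1 * K.tr (K.ω * K.w) * K.two
  have t3 : K.tr (α * K.σ K.w) = β 1 K.w := by
    rw [show α * K.σ K.w = K.tr K.w • α + α * K.w by
      rw [Algebra.smul_def, e1]; linear_combination -(α * K.w) * K.twoF, K.tr_add, K.tr_smul, t1, t2, b2]
  refine ⟨α, fun x y => ?_⟩
  obtain ⟨a, b, rfl⟩ := K.UA2_dec x
  obtain ⟨c, d, rfl⟩ := K.UA2_dec y
  rw [show α * (a • (1 : F) + b • K.w) * K.σ (c • (1 : F) + d • K.w) =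
      (a * c) • α + (a * d) • (α * K.σ K.w) + ((b * c) • (α * K.w) + (b * d) • α) by
    simp only [Algebra.smul_def, map_add, map_mul, map_one, K.σ_alg]
    linear_combination -(α * algebraMap E F b * algebraMap E F d) * e2]
  simp only [K.tr_add, K.tr_smul, h1, h2, bl, t1, t2, t3, b1]
  try ring

theorem UF.quadE (K : UF E F) (r : F → E) (β : F → F → E) (h0 : ∀ x y, r (x + y) = r x + r y + β x y)
    (h1 : ∀ x x' y, β (x + x') y = β x y + β x' y)
    (h4 : ∀ (k : Eˣ) x, r ((k : E) • x) = (k : E) ^ 2 * r x) (h5 : ∀ x, r (K.w * x) = r x) :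
    ∃ c, ∀ x, r x = c * K.nm x := by
  have sy : ∀ x y, β x y = β y x := fun x y => by
    have := h0 y x
    rw [add_comm y, h0] at this
    linear_combination this
  obtain ⟨α, hα⟩ := K.bilE β h1 (fun x y y' => by rw [sy, h1, sy y, sy y']) (fun k x y => by
    have := h0 ((k : E) • x) ((k : E) • y)
    rw [← smul_add, h4, h4, h4, h0] at this
    linear_combination -this) fun x y => by
    have := h0 (K.w * x) (K.w * y)
    rw [← mul_add, h5, h5, h5, h0] at this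
    linear_combination -this
  have r0 : r 0 = 0 := by
    have := h0 0 0
    rw [add_zero, hα, map_zero, mul_zero, K.tr_zero] at this
    linear_combination -this
  obtain ⟨c, rfl⟩ := K.tr_eq_zero.1 (show K.tr α = 0 by
    have := h0 1 1
    rwa [K.addF, r0, K.addE, zero_add, hα, map_one, mul_one, mul_one, eq_comm] at this)
  refine ⟨c, fun x => K.UA2_eq (K.winv (AddMonoidHom.mk' (fun x => r x + c * K.nm x) fun x y => ?_)
    (fun x => ?_) x)⟩
  · rw [h0, K.nm_add, hα, mul_assoc, ← Algebra.smul_def, K.tr_smul, UF.B]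
    linear_combination c * K.tr (x * K.σ y) * K.two
  · change r _ + c * K.nm _ = r _ + c * K.nm _
    rw [h5, K.nm_mul, K.nm_w, one_mul]



end H2.U3
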