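import Mathlib
import Cfsg.Agent.H2.UDefs
import Cfsg.Agent.H3.PNil

set_option autoImplicit false
set_option linter.unusedVariables false
set_option linter.unusedSectionVars false

namespace H2.U3

open Cfsg H24 Subgroup
open H2.SZ (St DD Goal)
open H2.C2 (Cl2)

universe u v

variable {G : Type u} [Group G] [Finite G] {E F : Type*} [Field E] [Fintype E] [Field F] [Fintype F]
  [Algebra E F] {K : UF E F} {L G0 D P P0 Q R A B C H T M W W1 W2 Z1 Z2 : Subgroup G}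
  {t g s f x y i v p : G} {X : UD K L} {a k : F} {b : E} {ρ : F ≃+* F}

local notation "𝐪" => Fintype.card E

/-! ### UA3 -/

theorem Spc.cj (h : Spc H A Z1) (g : G) : Spc (cj g H) (cj g A) (cj g Z1) := by
  refine ⟨cj_mono g h.Z_le, cj_mono g h.A_le, cent_cj h.cen g, ?_, ?_, ?_⟩
  · intro a ha0
    obtain ⟨a, ha, rfl⟩ := mem_cj'.1 ha0
    calc g * a * g⁻¹ * (g * a * g⁻¹) = g * (a * a) * g⁻¹ := by group
      _ = 1 := by rw [h.el a ha]; group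
  · intro a ha0
    obtain ⟨a, ha, rfl⟩ := mem_cj'.1 ha0
    rw [show g * a * g⁻¹ * (g * a * g⁻¹) = g * (a * a) * g⁻¹ by group]
    exact conj_mem_cj g (h.sq a ha)
  · intro a ha0 hn c hc0
    obtain ⟨a, ha, rfl⟩ := mem_cj'.1 ha0
    obtain ⟨c, hc, rfl⟩ := mem_cj'.1 hc0
    obtain ⟨y, hy, e⟩ := h.onto a ha (fun e => hn (conj_mem_cj g e)) c hc
    exact ⟨g * y * g⁻¹, conj_mem_cj g hy, by rw [← e]; group⟩

theorem UA3_el_cj (el : ∀ a ∈ A, a * a = 1) (g : G) : ∀ a ∈ cj g A, a * a = 1 := by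
  intro a ha0
  obtain ⟨a, ha, rfl⟩ := mem_cj'.1 ha0
  calc g * a * g⁻¹ * (g * a * g⁻¹) = g * (a * a) * g⁻¹ := by group
    _ = 1 := by rw [el a ha]; group

theorem Hyp.cj {n : ℕ} (h : Hyp n H A Z1 W1 W2) (g : G) :
    Hyp n (cj g H) (cj g A) (cj g Z1) (cj g W1) (cj g W2) := by
  refine ⟨h.toSpc.cj g, by rw [card_cj, h.cZ], by rw [card_cj, h.cA], by rw [card_cj, h.c1],
    by rw [card_cj, h.c2], UA3_el_cj h.el1 g, UA3_el_cj h.el2 g, by rw [← cj_inf, h.inf],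
    cj_mono g h.le1, cj_mono g h.le2, ?_, ?_⟩
  · intro x hx0
    obtain ⟨x, hx, rfl⟩ := mem_cj'.1 hx0
    obtain ⟨a, ha, b, hb, rfl⟩ := h.dec x hx
    exact ⟨_, conj_mem_cj g ha, _, conj_mem_cj g hb, by group⟩
  · intro a ha0 b hb0 e
    obtain ⟨a, ha, rfl⟩ := mem_cj'.1 ha0
    obtain ⟨b, hb, rfl⟩ := mem_cj'.1 hb0
    have e' : a * b = b * a := by
      calc a * b = g⁻¹ * (g * a * g⁻¹ * (g * b * g⁻¹)) * g := by group
        _ = b * a := by rw [e]; group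
    exact (h.cm a ha b hb e').imp (conj_mem_cj g) (conj_mem_cj g)

theorem Spc.zc (h : Spc H A Z1) {c : G} (hc : c ∈ Z1) (hx : x ∈ H) : c * x = x * c :=
  comm_of_cent h.cen (h.Z_le hc) hx

theorem Spc.comm (h : Spc H A Z1) (hx : x ∈ H) (hy : y ∈ H) : x * y * x⁻¹ * y⁻¹ ∈ Z1 := by
  have h1 := h.sq _ (mul_mem hx hy)
  have h2 := inv_mem (h.sq _ hx)
  have h3 := inv_mem (h.sq _ hy)
  have e := h.zc h2 (inv_mem hy)
  have : x * y * x⁻¹ * y⁻¹ = x * y * (x * y) * (x * x)⁻¹ * (y * y)⁻¹ := by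
    calc x * y * x⁻¹ * y⁻¹ = x * y * (x * y) * (y⁻¹ * (x * x)⁻¹) * y⁻¹ := by group
      _ = _ := by rw [← e]; group
  rw [this]
  exact mul_mem (mul_mem h1 h2) h3

theorem Spc.comm_right (h : Spc H A Z1) {w : G} (hx : x ∈ H) (hy : y ∈ H) (hw : w ∈ H) :
    x * (y * w) * x⁻¹ * (y * w)⁻¹ = x * y * x⁻¹ * y⁻¹ * (x * w * x⁻¹ * w⁻¹) := by
  have e := h.zc (h.comm hx hw) hy
  calc x * (y * w) * x⁻¹ * (y * w)⁻¹
      = x * y * x⁻¹ * y⁻¹ * (y * (x * w * x⁻¹ * w⁻¹)) * y⁻¹ := by group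
    _ = _ := by rw [← e]; group

theorem Spc.comm_left (h : Spc H A Z1) {w : G} (hx : x ∈ H) (hy : y ∈ H) (hw : w ∈ H) :
    x * y * w * (x * y)⁻¹ * w⁻¹ = y * w * y⁻¹ * w⁻¹ * (x * w * x⁻¹ * w⁻¹) := by
  have e := h.zc (h.comm hy hw) hx
  calc x * y * w * (x * y)⁻¹ * w⁻¹
      = x * (y * w * y⁻¹ * w⁻¹) * (w * x⁻¹ * w⁻¹) := by group
    _ = _ := by rw [← e]; group

theorem UA3_char (hA : ∀ a ∈ Z1, ∀ b ∈ Z1, a * b = b * a) (h4 : ¬ Z1 ≤ Z2) :
    ∃ φ : G → ℂˣ, (∀ a ∈ Z1, ∀ b ∈ Z1, φ (a * b) = φ a * φ b) ∧ (∀ a ∈ Z1, a ∈ Z2 → φ a = 1) ∧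
      ∃ c ∈ Z1, φ c ≠ 1 := by
  classical
  obtain ⟨c, hc, hc2⟩ := SetLike.not_le_iff_exists.1 h4
  let _ : CommGroup Z1 :=
    { (inferInstance : Group Z1) with mul_comm := fun a b => Subtype.ext (hA _ a.2 _ b.2) }
  have hne : NeZero ((Monoid.exponent Z1 : ℕ) : ℂ) := ⟨by
    exact_mod_cast Monoid.exponent_ne_zero_of_finite⟩
  have := (CommGroup.forall_monoidHom_apply_eq_one_iff (M := ℂ) (Z2.subgroupOf Z1) ⟨c, hc⟩).not.2 hc2
  push Not at this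
  obtain ⟨φ, h1, h2⟩ := this
  refine ⟨fun g => if h : g ∈ Z1 then φ ⟨g, h⟩ else 1, fun a ha b hb => ?_, fun a ha hb => ?_, c, hc, ?_⟩
  · simp only [dif_pos ha, dif_pos hb, dif_pos (mul_mem ha hb)]
    exact φ.map_mul ⟨a, ha⟩ ⟨b, hb⟩
  · simp only [dif_pos ha]
    exact h1 _ hb
  · simpa only [dif_pos hc] using h2

/-- isotropic subgroups are small -/
theorem Spc.iso (h : Spc H A Z1) (h1 : A ≤ R) (h2 : R ≤ H)
    (h3 : ∀ x ∈ R, ∀ y ∈ R, x * y * x⁻¹ * y⁻¹ ∈ Z2) (h4 : ¬ Z1 ≤ Z2) :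
    A.relIndex R ^ 2 ≤ A.relIndex H := by
  obtain ⟨φ, hm, hk, c, hc, hc1⟩ :=
    UA3_char (fun a ha b hb => h.zc ha (h.A_le (h.Z_le hb))) h4
  have hZR : Z1 ≤ R := h.Z_le.trans h1
  have hn : (R.subgroupOf H).Normal := ⟨fun r hr x => by
    have := mul_mem (hZR (h.comm x.2 r.2)) (show (r : G) ∈ R from hr)
    simpa [mem_subgroupOf, mul_assoc] using this⟩
  let _ : CommGroup (H ⧸ R.subgroupOf H) :=
    { (inferInstance : Group (H ⧸ R.subgroupOf H)) with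
      mul_comm := fun a b => by
        obtain ⟨a, rfl⟩ := QuotientGroup.mk_surjective a
        obtain ⟨b, rfl⟩ := QuotientGroup.mk_surjective b
        rw [← QuotientGroup.mk_mul, ← QuotientGroup.mk_mul, QuotientGroup.eq, mem_subgroupOf]
        have := hZR (h.comm (inv_mem b.2) (inv_mem a.2))
        simpa [mul_assoc] using this }
  have hne : NeZero ((Monoid.exponent (H ⧸ R.subgroupOf H) : ℕ) : ℂ) := ⟨by
    exact_mod_cast Monoid.exponent_ne_zero_of_finite⟩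
  let f0 : R → (H →* ℂˣ) := fun r => MonoidHom.mk' (fun x => φ (r * x * (r : G)⁻¹ * (x : G)⁻¹))
    fun x y => by
      rw [← hm _ (h.comm (h2 r.2) x.2) _ (h.comm (h2 r.2) y.2), ← h.comm_right (h2 r.2) x.2 y.2]
      rfl
  let f : R → (H ⧸ R.subgroupOf H →* ℂˣ) := fun r => QuotientGroup.lift _ (f0 r) fun x hx =>
    hk _ (h.comm (h2 r.2) x.2) (h3 _ r.2 _ hx)
  have hf : ∀ r r' : R, f r = f r' → r⁻¹ * r' ∈ A.subgroupOf R := by
    intro r r' e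
    by_contra hn'
    have hr : (r : G)⁻¹ * r' ∈ H := h2 (mul_mem (inv_mem r.2) r'.2)
    obtain ⟨y, hy, ey⟩ := h.onto _ hr hn' c hc
    have e1 : φ (r * y * (r : G)⁻¹ * y⁻¹) = φ (r' * y * (r' : G)⁻¹ * y⁻¹) :=
      DFunLike.congr_fun e (QuotientGroup.mk (⟨y, hy⟩ : H))
    have e2 := h.comm_left (h2 r.2) hr hy
    rw [mul_inv_cancel_left, ey] at e2
    rw [e2, hm _ hc _ (h.comm (h2 r.2) hy)] at e1
    exact hc1 (by simpa using e1.symm)
  have hle : A.relIndex R ≤ R.relIndex H := by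
    have hfin : Finite (H ⧸ R.subgroupOf H →* ℂˣ) := Nat.finite_of_card_ne_zero (by
      rw [CommGroup.card_monoidHom_of_hasEnoughRootsOfUnity]; exact Nat.card_pos.ne')
    calc A.relIndex R = Nat.card (R ⧸ A.subgroupOf R) := rfl
      _ ≤ Nat.card (H ⧸ R.subgroupOf H →* ℂˣ) :=
        Nat.card_le_card_of_injective (fun q => f q.out) fun q q' e => by
          rw [← q.out_eq, ← q'.out_eq]
          exact QuotientGroup.eq.2 (hf _ _ e)
      _ = R.relIndex H := CommGroup.card_monoidHom_of_hasEnoughRootsOfUnity _ _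
  rw [← relIndex_mul_relIndex A R H h1 h2, pow_two]
  exact Nat.mul_le_mul_left _ hle

theorem wc_move (hP : Syl 2 ⊤ P) (hB : B ≤ P) (wc : ∀ g, cj g B ≤ P → cj g B = B) (hA : IsPi {2} A)
    (h1 : A ≤ N[R]) (h2 : R ≤ cj g (B ⊓ C[B])) : ∃ x, cj x A ≤ P ∧ cj x R ≤ B ⊓ C[B] := by
  obtain ⟨T, hT, hAT⟩ := Sylow_superset Nat.prime_two hA h1
  have hBR : cj g B ≤ N[R] := by
    refine norm_of_cent (cents_symm (h2.trans ?_))
    rw [← cj_C]
    exact cj_mono g inf_le_right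
  obtain ⟨c, hc, h3⟩ := Sylow_Jsub Nat.prime_two hT ((hP.pi.of_le hB).cj g) hBR
  obtain ⟨y, -, h4⟩ := Sylow_Jsub Nat.prime_two hP hT.pi le_top
  have h5 : cj (y * (c * g)) B = B := wc _ (by
    rw [cj_mul, cj_mul]; exact (cj_mono y h3).trans h4)
  refine ⟨y, (cj_mono y hAT).trans h4, ?_⟩
  rw [← cj_of_mem_N hc]
  refine (cj_mono y (cj_mono c h2)).trans ?_
  rw [← cj_mul, ← cj_mul, mul_assoc, cj_inf, cj_C, h5]

theorem le_of_fpf (hv : v ∈ N[B]) (fp : ∀ g ∈ B, g * v = v * g → g = 1) (h1 : B ≤ N[M]) (h2 : v ∈ M) :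
    B ≤ M := by
  intro y hy
  obtain ⟨k, hk, e⟩ := exists_conj_of_fpf hv
    (eq_bot_iff.2 fun g hg => mem_bot.2 (fp g hg.1 (mem_C1.1 hg.2))) hy
  have := mul_mem (conj_mem (h1 hk) h2) (inv_mem h2)
  rwa [e, mul_inv_cancel_right] at this

theorem card_fix_sq (el : ∀ a ∈ A, a * a = 1) (hx : x ∈ N[A]) (xx : x * x = 1) :
    ♯A ≤ ♯(A ⊓ C{x}) ^ 2 := by
  have inv : ∀ a ∈ A, a⁻¹ = a := fun a ha => inv_eq_of_mul_eq_one_right (el a ha)
  have cm : ∀ a ∈ A, ∀ b ∈ A, a * b = b * a := fun a ha b hb => by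
    rw [← inv _ (mul_mem ha hb), mul_inv_rev, inv a ha, inv b hb]
  have xi : x⁻¹ = x := inv_eq_of_mul_eq_one_right xx
  let ψ : A →* ↥(A ⊓ C{x}) := MonoidHom.mk' (fun a => ⟨a * (x * a * x⁻¹),
    mul_mem a.2 (conj_mem hx a.2), mem_C1.2 (by
      have e := cm _ a.2 _ (conj_mem hx a.2)
      calc (a : G) * (x * a * x⁻¹) * x = x * a * x⁻¹ * a * x := by rw [e]
        _ = x * (a * (x * a * x⁻¹)) := by rw [xi]; group)⟩) fun a b => Subtype.ext (by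
      have e := cm _ b.2 _ (conj_mem hx a.2)
      show ((a : G) * b) * (x * (a * b) * x⁻¹) = a * (x * a * x⁻¹) * (b * (x * b * x⁻¹))
      calc ((a : G) * b) * (x * (a * b) * x⁻¹) = a * (b * (x * a * x⁻¹)) * (x * b * x⁻¹) := by group
        _ = _ := by rw [e]; group)
  have h1 : Nat.card ψ.ker ≤ ♯(A ⊓ C{x}) := by
    refine Nat.card_le_card_of_injective (fun a : ψ.ker => (⟨a.1.1, a.1.2, mem_C1.2 ?_⟩ : ↥(A ⊓ C{x})))
      fun a b e => Subtype.ext (Subtype.ext (congrArg (fun z : ↥(A ⊓ C{x}) => (z : G)) e))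
    have e : (a.1 : G) * (x * a.1 * x⁻¹) = 1 := congrArg Subtype.val a.2
    have e2 := eq_inv_of_mul_eq_one_right e
    rw [inv _ a.1.2] at e2
    calc (a.1 : G) * x = x * a.1 * x⁻¹ * x := by rw [e2]
      _ = _ := by group
  have h2 : ψ.ker.index ≤ ♯(A ⊓ C{x}) := by
    rw [index_ker]
    exact Nat.card_le_card_of_injective _ Subtype.val_injective
  rw [← ψ.ker.card_mul_index, sq]
  exact Nat.mul_le_mul h1 h2

theorem UA3_cyc {A0 : Type*} [Group A0] [IsCyclic A0] {b c : A0} (hb : b * b = 1) (hc : c * c = 1)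
    (b1 : b ≠ 1) (c1 : c ≠ 1) : b = c := by
  obtain ⟨g, hg⟩ := IsCyclic.exists_generator (α := A0)
  obtain ⟨i, rfl⟩ := mem_zpowers_iff.1 (hg b)
  obtain ⟨j, rfl⟩ := mem_zpowers_iff.1 (hg c)
  rw [← zpow_add, ← orderOf_dvd_iff_zpow_eq_one] at hb hc
  rw [Ne, ← orderOf_dvd_iff_zpow_eq_one] at b1 c1
  rw [← mul_inv_eq_one, ← zpow_sub, ← orderOf_dvd_iff_zpow_eq_one]
  obtain ⟨a, ha⟩ := hb
  obtain ⟨d, hd⟩ := hc
  rcases Int.even_or_odd' a with ⟨a, rfl | rfl⟩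
  · exact absurd ⟨a, by linarith⟩ b1
  rcases Int.even_or_odd' d with ⟨d, rfl | rfl⟩
  · exact absurd ⟨d, by linarith⟩ c1
  exact ⟨a - d, by linarith⟩

theorem cyc_thompson {H : Type u} [Group H] [Finite H] [IsSimpleGroup H] {P P0 : Subgroup H}
    {A0 : Type*} [Group A0] [IsCyclic A0] (hP : Syl 2 ⊤ P) (φ : P →* A0)
    (hφ : ∀ x : P, φ x = 1 ↔ (x : H) ∈ P0) {f : H} (h1 : f ∈ P) (h2 : f ∉ P0) (h3 : f * f = 1)
    (h4 : 2 < ♯P) : ∃ g, g * f * g⁻¹ ∈ P0 := by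
  by_contra h
  push Not at h
  let _ : CommGroup A0 := IsCyclic.commGroup
  have ha : φ ⟨f, h1⟩ ≠ 1 := fun e => h2 ((hφ _).mp e)
  have ha1 : φ ⟨f, h1⟩ * φ ⟨f, h1⟩ = 1 := by
    rw [← map_mul, ← φ.map_one]; congr 1; exact Subtype.ext h3
  have ha2 : φ ⟨f, h1⟩ ^ 2 = 1 := by rw [sq, ha1]
  have hu2 : f ^ 2 = 1 := by rw [sq, h3]
  have key : MonoidHom.transfer φ f = φ ⟨f, h1⟩ ^ P.index := by
    refine H3.transfer_eq_pow_of_forall φ f _ fun k g hk => ?_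
    rcases Nat.even_or_odd' k with ⟨j, rfl | rfl⟩
    · rw [pow_mul (φ _), ha2, one_pow, ← φ.map_one]
      congr 1
      exact Subtype.ext (by simp [pow_mul, hu2])
    · rw [pow_succ (φ _), pow_mul (φ _), ha2, one_pow, one_mul]
      refine UA3_cyc ?_ ha1 (fun e => h g⁻¹ ?_) ha
      · rw [← map_mul, ← φ.map_one]
        congr 1
        refine Subtype.ext ?_
        show g⁻¹ * f ^ (2 * j + 1) * g * (g⁻¹ * f ^ (2 * j + 1) * g) = 1
        rw [pow_succ, pow_mul, hu2, one_pow, one_mul]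
        calc g⁻¹ * f * g * (g⁻¹ * f * g) = g⁻¹ * (f * f) * g := by group
          _ = 1 := by rw [h3]; group
      · simpa [pow_succ, pow_mul, hu2] using (hφ _).mp e
  have hodd : Odd P.index := by
    have := hP.not_dvd Nat.prime_two
    rw [relIndex_top_right] at this
    exact Nat.odd_iff.2 (by omega)
  obtain ⟨j, hj⟩ := hodd
  rw [hj, pow_succ, pow_mul, ha2, one_pow, one_mul] at key
  rcases (inferInstance : (MonoidHom.transfer φ).ker.Normal).eq_bot_or_eq_top with e | e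
  · have hinj := (MonoidHom.ker_eq_bot_iff _).1 e
    let _ : CommGroup H := { (inferInstance : Group H) with
      mul_comm := fun a b => hinj (by rw [map_mul, map_mul, mul_comm]) }
    have hp : (Nat.card H).Prime := IsSimpleGroup.prime_card
    have hd := card_subgroup_dvd_card P
    rcases (Nat.dvd_prime hp).1 hd with e1 | e1
    · omega
    · have := hP.pi _ hp (by rw [e1])
      rw [Set.mem_singleton_iff] at this
      omega
  · exact ha (key ▸ (e ▸ mem_top f : f ∈ (MonoidHom.transfer φ).ker))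

end H2.U3
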