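import Mathlib
import Cfsg.Agent.H2.ZDefs
import Cfsg.Agent.H2.ZA1

set_option autoImplicit false
set_option linter.unusedVariables false
set_option linter.unusedSectionVars false

namespace H2.SZ

open Cfsg H24 Subgroup
open H2.C2 (Cl2)

universe u

variable {G : Type u} [Group G] [Finite G] {F : Type*} [Field F] [Fintype F] {K : FD F}
  {L G0 D P P0 Q R A C T E : Subgroup G} {t g s φ : G} {X : SzD K L} {c : F}

/-! ### `2`-elements normalising the quadratic map are trivial -/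

theorem ind2 {c : (F ≃+* F) → (F ≃+* F) → F} (h : ∀ x y, ∑ γ, ∑ δ, c γ δ * δ y * γ x = 0)
    (γ δ : F ≃+* F) : c γ δ = 0 :=
  ind (a := c γ) (fun y => ind (a := fun γ => ∑ δ, c γ δ * δ y)
    (fun x => by simpa only [Finset.sum_mul] using h x y) γ) δ

theorem FD.σ_co (K : FD F) (α : F →+ F) (y : F) :
    K.σ (α y) = ∑ γ, K.σ (K.co α (K.τ * γ)) * γ y := by
  rw [K.co_spec α, map_sum]
  exact Fintype.sum_equiv (Equiv.mulLeft K.σ) _ _ fun ρ => by
    rw [map_mul, Equiv.coe_mulLeft, show K.τ * (K.σ * ρ) = ρ from RingEquiv.ext fun x => K.τ_σ _]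
    rfl

open Classical in
theorem FD.co_B (K : FD F) (α β : F →+ F) (h : ∀ a b, β (K.B a b) = K.B (α a) (α b))
    (γ δ : F ≃+* F) : K.co α γ * K.σ (K.co α (K.τ * δ)) + (if δ = γ * K.σ then K.co β γ else 0) =
      K.co α δ * K.σ (K.co α (K.τ * γ)) + if γ = δ * K.σ then K.co β δ else 0 := by
  refine K.eq_of_add (ind2 (c := fun γ δ => K.co α γ * K.σ (K.co α (K.τ * δ)) +
    (if δ = γ * K.σ then K.co β γ else 0) + (K.co α δ * K.σ (K.co α (K.τ * γ)) +
      if γ = δ * K.σ then K.co β δ else 0)) (fun x y => ?_) γ δ)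
  have e := h x y
  rw [K.co_spec β, FD.B, FD.B, K.σ_co, K.σ_co, K.co_spec α x, K.co_spec α y, Finset.sum_mul_sum,
    Finset.sum_mul_sum] at e
  simp only [add_mul, Finset.sum_add_distrib, ite_mul, zero_mul]
  rw [Finset.sum_comm (f := fun γ δ : F ≃+* F => if γ = δ * K.σ then _ else 0)]
  simp only [Finset.sum_add_distrib, Finset.sum_ite_eq', Finset.mem_univ, if_true,
    RingAut.mul_apply, map_add, map_mul, mul_add] at e ⊢
  simp only [mul_comm, mul_left_comm] at e ⊢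
  rw [add_add_add_comm, add_comm (∑ _, _ * _), e, add_comm (∑ _, _), K.add_self]

theorem FD.fix_of_single (K : FD F) (α : F →+ F) (γ : F ≃+* F) (h : ∀ δ, K.co α δ ≠ 0 → δ = γ)
    (k : ℕ) (hk : ∀ a, α^[2 ^ k] a = a) (a : F) : α a = a := by
  have e : ∀ y, α y = K.co α γ * γ y := fun y => by
    rw [K.co_spec, Finset.sum_eq_single γ (fun δ _ hd => by
      rw [not_not.1 (mt (h δ) hd), zero_mul]) (by simp)]
  generalize K.co α γ = c at e
  have e1 : ∀ N, ∃ C, ∀ y, α^[N] y = C * (γ ^ N) y := fun N => by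
    induction N with
    | zero => exact ⟨1, by simp⟩
    | succ N ih =>
      obtain ⟨C, ih⟩ := ih
      exact ⟨c * γ C, fun y => by
        rw [Function.iterate_succ_apply', ih, e, pow_succ', map_mul, mul_assoc]; rfl⟩
  obtain ⟨C, e2⟩ := e1 (2 ^ k)
  obtain rfl : C = 1 := by simpa [hk] using (e2 1).symm
  have e3 : γ ^ 2 ^ k = 1 := RingEquiv.ext fun y => by simpa [hk] using (e2 y).symm
  have e4 : γ ^ (2 * K.m + 1) = 1 := RingEquiv.ext fun y => by
    obtain ⟨i, hi⟩ := K.aut_pow γ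
    have : ∀ N y, (γ ^ N) y = y ^ (2 ^ N) ^ i := fun N => by
      induction N with
      | zero => simp
      | succ N ih => intro y; rw [pow_succ', RingAut.mul_apply, ih, hi, ← pow_mul, pow_succ, mul_pow]
    rw [this, ← K.card, FiniteField.pow_card_pow]; rfl
  obtain rfl : γ = 1 := by
    have := pow_gcd_eq_one.2 ⟨e3, e4⟩
    rwa [Nat.Coprime.gcd_eq_one (Nat.Coprime.pow_left _ (Nat.coprime_two_left.2 ⟨K.m, rfl⟩)),
      pow_one] at this
  have e5 : ∀ N y, α^[N] y = c ^ N * y := fun N => by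
    induction N with
    | zero => simp
    | succ N ih => intro y; rw [Function.iterate_succ_apply', ih, e, pow_succ', mul_assoc]; rfl
  have := K.charP
  have e6 : (c + 1) ^ 2 ^ k = 0 := by
    rw [add_pow_char_pow, one_pow, ← mul_one (c ^ _), ← e5, hk, K.add_self]
  rw [e, K.eq_of_add (pow_eq_zero_iff (by positivity) |>.1 e6), one_mul]; rfl

theorem FD.τ_pow (K : FD F) (ρ : F ≃+* F) : ∃ i : ℕ, ρ = (K.τ * K.τ) ^ i := by
  obtain ⟨i, hi⟩ := K.aut_pow ρ⁻¹
  have : ∀ N y, ((K.τ * K.τ) ^ N) (y ^ 2 ^ N) = y := fun N => by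
    induction N with
    | zero => simp
    | succ N ih =>
      intro y
      rw [pow_succ', pow_succ', pow_mul, RingAut.mul_apply, ih]
      exact K.rt_sq y
  refine ⟨i, RingEquiv.ext fun y => ?_⟩
  rw [← this i (ρ y), ← hi]
  exact congrArg _ (ρ.symm_apply_apply y)

theorem FD.pq_fix (K : FD F) (hm : K.m ≠ 1) (α β : F →+ F)
    (h : ∀ a b, β (K.B a b) = K.B (α a) (α b)) (k : ℕ) (hk : ∀ a, α^[2 ^ k] a = a) (a : F) :
    α a = a := by
  have ts : K.τ * K.σ = 1 := RingEquiv.ext K.τ_σ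
  have st : K.σ * K.τ = 1 := RingEquiv.ext K.σ_τ
  have ti : K.τ = K.σ⁻¹ := eq_inv_of_mul_eq_one_left ts
  have cm : ∀ ρ, ρ * K.σ = K.σ * ρ := fun ρ => RingEquiv.ext (K.aut_σ ρ)
  have q := K.eight_le
  have s2 : K.σ * K.σ ≠ 1 := fun e => K.σ_ne_τ (ti ▸ eq_inv_of_mul_eq_one_left e)
  have s4 : K.σ * K.σ * K.σ * K.σ ≠ 1 := fun e => by
    have := card_le_of_pow (F := F) (N := 2) fun x => by
      simpa [RingAut.mul_apply, K.σσ, ← pow_mul] using DFunLike.congr_fun e x
    omega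
  have s3 : K.σ * K.σ * K.σ ≠ 1 := fun e => by
    have e1 : ∀ x, K.σ (K.σ (K.σ x)) = x := fun x => DFunLike.congr_fun e x
    have := card_le_of_pow (F := F) (N := 6) fun x => by
      have : ((x ^ 2) ^ 2) ^ 2 = x := by rw [← K.σσ, ← K.σσ (x ^ 2), ← K.σσ x, e1, e1]
      rwa [← pow_mul, ← pow_mul] at this
    rw [K.card] at this
    have := (Nat.pow_le_pow_iff_right (a := 2) (m := 3) one_lt_two).1 this
    have := K.hm
    omega
  have su : Function.Surjective α := fun y => by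
    obtain ⟨N, e⟩ : ∃ N, 2 ^ k = N + 1 := ⟨2 ^ k - 1, by have := Nat.one_le_two_pow (n := k); omega⟩
    exact ⟨_, by rw [← hk y, e, Function.iterate_succ_apply']⟩
  have H : ∀ γ δ, δ ≠ γ * K.σ → γ ≠ δ * K.σ → K.co α γ * K.σ (K.co α (K.τ * δ)) =
      K.co α δ * K.σ (K.co α (K.τ * γ)) := fun γ δ h1 h2 => by
    simpa [h1, h2] using K.co_B α β h γ δ
  have A : ∀ γ, K.co α γ ≠ 0 → K.co α (K.τ * γ) = 0 → ∀ δ, K.co α δ ≠ 0 →
      δ = γ ∨ γ = K.σ * K.σ * δ := fun γ g0 g1 δ d0 => by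
    by_contra hn
    refine d0 ?_
    have := H γ (K.σ * δ) (fun e => hn (.inl (mul_left_cancel (e.trans (cm γ)))))
      fun e => hn (.inr (by rw [e, cm, mul_assoc]))
    rw [g1, map_zero, mul_zero, ← mul_assoc, ts, one_mul] at this
    simpa [g0] using this
  by_cases hA : ∃ γ, K.co α γ ≠ 0 ∧ K.co α (K.τ * γ) = 0
  · obtain ⟨γ, g0, g1⟩ := hA
    refine K.fix_of_single α γ (fun δ d0 => (A γ g0 g1 δ d0).elim id fun e => ?_) k hk a
    have d1 : K.co α (K.τ * δ) = 0 := by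
      by_contra d1
      rcases A γ g0 g1 _ d1 with e1 | e1
      · refine s3 (mul_right_cancel (b := δ) ?_)
        rw [mul_assoc K.σ K.σ, mul_assoc K.σ, ← e, ← e1, ← mul_assoc, st]
      · refine K.σ_ne (mul_right_cancel (b := δ) (mul_left_cancel (a := K.σ) ?_))
        rw [← mul_assoc, ← e, e1, mul_assoc, ← mul_assoc K.σ K.τ, st]
    rcases A δ d0 d1 γ g0 with e1 | e1
    · exact e1.symm
    · refine absurd (mul_right_cancel (b := δ) ?_) s4
      rw [mul_assoc (K.σ * K.σ), mul_assoc (K.σ * K.σ), ← e, ← e1, one_mul]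
  have B : ∀ γ, K.co α γ ≠ 0 → K.co α (K.τ * γ) ≠ 0 := fun γ g0 g1 => hA ⟨γ, g0, g1⟩
  obtain ⟨γ, g0⟩ : ∃ γ, K.co α γ ≠ 0 := by
    by_contra hn
    obtain ⟨y, e⟩ := su 1
    rw [K.co_spec] at e
    simp [fun γ => not_not.1 (not_exists.1 hn γ)] at e
  have C : ∀ N, K.co α ((K.τ * K.τ) ^ N * γ) ≠ 0 ∧ K.co α γ *
      K.σ (K.co α (K.τ * ((K.τ * K.τ) ^ N * γ))) =
        K.co α ((K.τ * K.τ) ^ N * γ) * K.σ (K.co α (K.τ * γ)) := fun N => by
    induction N with
    | zero => simpa using g0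
    | succ N ih =>
      rw [pow_succ', mul_assoc]
      generalize (K.τ * K.τ) ^ N * γ = δ at ih ⊢
      refine ⟨mul_assoc K.τ _ _ ▸ B _ (B _ ih.1), mul_left_cancel₀ ih.1 ?_⟩
      have := H δ (K.τ * K.τ * δ) (fun e => s3 (mul_right_cancel (b := δ) (by
        rw [mul_assoc (K.σ * K.σ), ← cm δ, ← e, ti]; group))) fun e => K.τ_ne (mul_right_cancel (b := δ)
          (by rw [cm, ti] at e; rw [one_mul, ti]; refine Eq.trans ?_ e.symm; group))
      linear_combination K.co α γ * this + K.co α (K.τ * K.τ * δ) * ih.2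
  have D : ∀ y, K.co α γ * K.σ y = K.σ (K.co α (K.τ * γ)) * y := fun y => by
    obtain ⟨y, rfl⟩ := su y
    rw [K.σ_co, K.co_spec α y, Finset.mul_sum, Finset.mul_sum]
    refine Finset.sum_congr rfl fun δ _ => ?_
    obtain ⟨N, e⟩ := K.τ_pow (δ * γ⁻¹)
    have := (C N).2
    rw [← e, inv_mul_cancel_right] at this
    linear_combination δ y * this
  exact absurd (K.indep3 (a := 0) (b := K.σ (K.co α (K.τ * γ))) (c := K.co α γ) fun x => by
    rw [D, zero_mul, zero_add, K.add_self]).2.2 g0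

theorem FD.sum_sym (K : FD F) {ι : Type*} (f : ι → ι → F) (h : ∀ i j, f i j = f j i) (s : Finset ι) :
    ∑ i ∈ s, ∑ j ∈ s, f i j = ∑ i ∈ s, f i i := by
  classical
  induction s using Finset.induction_on with
  | empty => simp
  | insert a s ha ih =>
    simp only [Finset.sum_insert ha, Finset.sum_add_distrib, ih, h _ a]
    linear_combination (∑ j ∈ s, f a j) * K.two

theorem FD.two_fix (K : FD F) (α β : F →+ F) (h : ∀ a, β (K.nm a) = K.nm (α a)) (k : ℕ)
    (hk : ∀ a, α^[2 ^ k] a = a) (a : F) : α a = a := by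
  classical
  have hB : ∀ a b, β (K.B a b) = K.B (α a) (α b) := fun a b => by
    have := h (a + b)
    rw [map_add, K.nm_add, K.nm_add, map_add, map_add, h, h] at this
    exact add_left_cancel this
  by_cases hm : K.m ≠ 1
  · exact K.pq_fix hm α β hB k hk a
  have H : ∀ γ, K.co α γ * K.σ (K.co α (K.τ * γ)) = 0 := ind fun y => by
    have := K.sum_sym (fun γ δ : F ≃+* F => (K.co α γ * K.σ (K.co α (K.τ * δ)) +
      if δ = γ * K.σ then K.co β γ else 0) * (γ (K.rt y) * δ (K.rt y))) (fun γ δ => by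
        rw [K.co_B α β hB, mul_comm (γ _)]) Finset.univ
    simp only [← sq, ← map_pow, K.sq_rt, left_eq_mul, K.σ_ne, if_false, add_zero] at this
    rw [← this]
    have e := h (K.rt y)
    rw [K.co_spec β, FD.nm, FD.nm, K.σ_co, K.co_spec α, Finset.sum_mul_sum] at e
    simp only [add_mul, Finset.sum_add_distrib, ite_mul, zero_mul, Finset.sum_ite_eq',
      Finset.mem_univ, if_true, RingAut.mul_apply, map_mul] at e ⊢
    simp only [mul_comm, mul_left_comm, mul_assoc] at e ⊢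
    rw [e, K.add_self]
  have H' : ∀ γ, K.co α γ ≠ 0 → K.co α (K.τ * γ) = 0 := fun γ g0 => by simpa [g0] using H γ
  have t3 : K.τ * (K.τ * K.τ) = 1 := RingEquiv.ext fun x => by
    have : K.σ (K.σ (K.σ x)) = x := by
      have := FiniteField.pow_card x
      rw [K.card, not_not.1 hm] at this
      rw [K.σσ, K.σ_eq, ← pow_mul, ← pow_succ, not_not.1 hm, this]
    simpa only [RingAut.mul_apply, K.τ_σ, RingAut.one_apply] using
      (congrArg (fun y => K.τ (K.τ (K.τ y))) this).symm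
  by_cases h0 : ∃ γ, K.co α γ ≠ 0
  · obtain ⟨γ, g0⟩ := h0
    refine K.fix_of_single α γ (fun δ d0 => ?_) k hk a
    obtain ⟨N, e⟩ := K.τ_pow (δ * γ⁻¹)
    rw [mul_inv_eq_iff_eq_mul] at e
    have t6 : (K.τ * K.τ) ^ 3 = 1 := by
      rw [show (K.τ * K.τ) ^ 3 = (K.τ * (K.τ * K.τ)) ^ 2 by simp only [pow_succ, pow_zero, one_mul,
        mul_assoc], t3, one_pow]
    rw [pow_eq_pow_mod N t6] at e
    have := Nat.mod_lt N three_pos
    generalize N % 3 = j at *
    interval_cases j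
    · simpa using e
    · exact absurd (by rw [← H' δ d0, e, pow_one, ← mul_assoc, t3, one_mul]) g0
    · exact absurd (by rw [← H' γ g0, e, sq, mul_assoc K.τ, t3, mul_one]) d0
  · exact K.fix_of_single α 1 (fun δ d0 => absurd ⟨δ, d0⟩ h0) k hk a

end H2.SZ
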