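import Mathlib
import Cfsg.Agent.H2.ZDefs
import Cfsg.Agent.H2.ZA2

/-! # Standard subgroup `Sz(q)`: small facts on `L` -/

set_option autoImplicit false
set_option linter.unusedVariables false
set_option linter.unusedSectionVars false

namespace H2.SZ

open Cfsg H24 Subgroup
open H2.C2 (Cl2)

universe u

variable {G : Type u} [Group G] [Finite G] {F : Type*} [Field F] [Fintype F] {K : FD F}
  {L G0 D P P0 Q R A C T E : Subgroup G} {t g s φ : G} {X : SzD K L} {c : F}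

/-- a non-trivial `2`-element has a power that is an involution -/
theorem inv_pow' (h : PiElt {2} g) (h1 : g ≠ 1) : ∃ n : ℕ, g ^ n ≠ 1 ∧ g ^ n * g ^ n = 1 := by
  obtain ⟨k, hk⟩ := h.exists_pow Nat.prime_two
  obtain ⟨j, rfl⟩ : ∃ j, k = j + 1 := Nat.exists_eq_succ_of_ne_zero (by
    rintro rfl; exact h1 (orderOf_eq_one_iff.1 hk))
  refine ⟨2 ^ j, pow_ne_one_of_lt_orderOf (by positivity) (by
    rw [hk]; exact Nat.pow_lt_pow_right one_lt_two (by omega)), ?_⟩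
  rw [← pow_add, ← two_mul, ← pow_succ', ← hk, pow_orderOf_eq_one]

theorem piElt_of_sq (h : g * g = 1) : PiElt {2} g :=
  piElt_of_pow_eq_one (piNat_self Nat.prime_two) (by rw [sq, h])

theorem FD.odd_card (K : FD F) : Odd (Fintype.card F - 1) := by
  rw [K.card]
  exact Nat.Even.sub_odd Nat.one_le_two_pow (Nat.even_pow.2 ⟨even_two, by omega⟩) odd_one

theorem SzD.card_S (X : SzD K L) : ♯X.S = Fintype.card F ^ 2 := by
  have e : F × F ≃ X.S := Equiv.ofBijective (fun p => ⟨X.u p.1 p.2, X.u_mem_S _ _⟩)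
    ⟨fun p q h => Prod.ext (X.u_inj (congrArg Subtype.val h)).1 (X.u_inj (congrArg Subtype.val h)).2,
      by rintro ⟨_, a, b, rfl⟩; exact ⟨(a, b), rfl⟩⟩
  rw [← Nat.card_congr e, Nat.card_prod, Nat.card_eq_fintype_card, sq]

theorem SzD.card_Z (X : SzD K L) : ♯X.Z = Fintype.card F := by
  have e : F ≃ X.Z := Equiv.ofBijective (fun p => ⟨X.z p, X.z_mem_Z _⟩)
    ⟨fun p q h => X.z_inj (congrArg Subtype.val h), by rintro ⟨_, b, rfl⟩; exact ⟨b, rfl⟩⟩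
  rw [← Nat.card_congr e, Nat.card_eq_fintype_card]

theorem SzD.pi_S (X : SzD K L) : IsPi {2} X.S :=
  isPi_of_card (n := (2 * K.m + 1) * 2) Nat.prime_two (by rw [X.card_S, K.card, pow_mul])

theorem SzD.syl_S (X : SzD K L) : Syl 2 L X.S := by
  refine Syl.mk' Nat.prime_two X.S_le X.pi_S ?_
  have := card_mul_relIndex X.S_le
  rw [X.card_S, X.card, mul_assoc] at this
  rw [Nat.eq_of_mul_eq_mul_left (pow_pos Fintype.card_pos 2) this, ← even_iff_two_dvd,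
    Nat.not_even_iff_odd]
  refine Odd.mul (Even.add_one ?_) K.odd_card
  rw [K.card, ← pow_mul]
  exact Nat.even_pow.2 ⟨even_two, by omega⟩

theorem SzD.not_abl_S (X : SzD K L) : ¬ Abl X.S := fun h => by
  obtain ⟨y, h0, h1, -⟩ := K.exists_ne 0 1 1
  have := X.u_conj 1 0 y 0
  rw [h.comm (X.u_mem_S 1 0) (X.u_mem_S y 0), mul_inv_cancel_right, left_eq_mul, X.z_eq_one] at this
  rcases K.B_eq_zero this with e | e | e
  exacts [one_ne_zero e, h0 e, h1 e.symm]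

theorem SzD.inf_C (X : SzD K L) : L ⊓ C[L] = ⊥ := by
  have := X.simple
  rcases (inferInstance : (center L).Normal).eq_bot_or_eq_top with e | e
  · rw [eq_bot_iff]
    rintro g ⟨h1, h2⟩
    have : (⟨g, h1⟩ : L) ∈ center L := mem_center_iff.2 fun x => Subtype.ext (mem_C.1 h2 x x.2)
    rw [e, mem_bot] at this
    exact mem_bot.2 (congrArg Subtype.val this)
  · refine absurd (abl_iff.2 fun a ha => mem_C.2 fun b hb => ?_) X.not_abl_S
    have : (⟨a, X.S_le ha⟩ : L) ∈ center L := e ▸ mem_top _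
    exact congrArg Subtype.val (mem_center_iff.1 this ⟨b, X.S_le hb⟩)

theorem SzD.eq_one (X : SzD K L) (h1 : g ∈ L) (h2 : g ∈ C[L]) : g = 1 :=
  mem_bot.1 (X.inf_C ▸ mem_inf.2 ⟨h1, h2⟩)

theorem SzD.mem_Z_of_sq (X : SzD K L) (hg : g ∈ X.S) (h : g * g = 1) : g ∈ X.Z := by
  obtain ⟨a, b, rfl⟩ := hg
  rw [X.u_sq, X.z_eq_one, K.nm_eq_zero] at h
  subst h
  exact ⟨b, rfl⟩

theorem SzD.S_CZ (X : SzD K L) : X.S ≤ C[X.Z] := by
  rintro _ ⟨a, b, rfl⟩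
  refine mem_C.2 ?_
  rintro _ ⟨c, rfl⟩
  exact X.z_u a b c

theorem SzD.abl_Z (X : SzD K L) : Abl X.Z := abl_iff.2 (X.Z_le_S.trans X.S_CZ)

theorem SzD.cl2_of_sq (X : SzD K L) (h1 : P ≤ C[X.Z]) (h2 : ∀ p ∈ P, p * p ∈ X.Z) : Cl2 P := by
  refine le_trans (commutator_le.2 fun a ha b hb => ?_) (cents_symm h1)
  have := mul_mem (mul_mem (h2 a ha) (h2 _ (mul_mem (inv_mem ha) hb))) (inv_mem (h2 b hb))
  rwa [show a * a * (a⁻¹ * b * (a⁻¹ * b)) * (b * b)⁻¹ = a * b * a⁻¹ * b⁻¹ by group] at this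

theorem SzD.cl2_S (X : SzD K L) : Cl2 X.S := X.cl2_of_sq X.S_CZ (by
  rintro _ ⟨a, b, rfl⟩; rw [X.u_sq]; exact X.z_mem_Z _)

theorem SzD.cent_z (X : SzD K L) (hg : g ∈ L) {b : F} (hb : b ≠ 0) (h : g * X.z b = X.z b * g) :
    g ∈ X.S := by
  have h' : g * X.u 0 b * g⁻¹ = X.u 0 b := by rw [mul_inv_eq_iff_eq_mul]; exact h
  obtain ⟨a', b', k, rfl⟩ := X.ti g hg 0 b 0 b (fun e => hb (X.z_eq_one.1 e)) h'
  rw [mul_inv_rev, show X.u a' b' * X.h k * X.u 0 b * ((X.h k)⁻¹ * (X.u a' b')⁻¹) =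
    X.u a' b' * (X.h k * X.z b * (X.h k)⁻¹) * (X.u a' b')⁻¹ by unfold SzD.z; group, X.h_z,
    X.u_z_conj] at h'
  obtain rfl : k = 1 := by
    by_contra hk
    exact K.nm_ne_one hk ((mul_left_eq_self₀.1 (X.z_inj h')).resolve_right hb)
  rw [map_one, mul_one]
  exact X.u_mem_S _ _

theorem SzD.NS_le_NZ (X : SzD K L) : N[X.S] ≤ N[X.Z] := fun g hg => mem_N_of_finite fun x hx => by
  refine X.mem_Z_of_sq (conj_mem hg (X.Z_le_S hx)) ?_
  obtain ⟨b, rfl⟩ := hx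
  rw [conj_mul, X.z_sq, mul_one, mul_inv_cancel]

theorem SzD.norm_S (X : SzD K L) (hg : g ∈ N[L]) {b : F} (hb : b ≠ 0)
    (h : g * X.z b * g⁻¹ ∈ X.Z) : g ∈ N[X.S] := by
  obtain ⟨c, hc⟩ := h
  have hc0 : c ≠ 0 := by
    rintro rfl
    rw [X.z_zero, conj_eq_one_iff, X.z_eq_one] at hc
    exact hb hc
  refine mem_N_of_finite fun x hx => X.cent_z (conj_mem hg (X.S_le hx)) hc0 ?_
  obtain ⟨a, d, rfl⟩ := hx
  rw [← hc, conj_mul, conj_mul, X.z_u]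

theorem SzD.h_NS (X : SzD K L) (k : Fˣ) : X.h k ∈ N[X.S] :=
  X.norm_S (norm_self L (X.h_mem k)) one_ne_zero ⟨_, X.h_z k 1⟩

theorem SzD.h_NZ (X : SzD K L) (k : Fˣ) : X.h k ∈ N[X.Z] := X.NS_le_NZ (X.h_NS k)

theorem SzD.odd_h (X : SzD K L) (k : Fˣ) : PiElt {2}ᶜ (X.h k) := by
  classical
  refine piElt_of_pow_eq_one (n := Fintype.card F - 1)
    ((piNat_compl_iff_coprime Nat.prime_two).2 K.odd_card.coprime_two_left) ?_
  rw [← map_pow, ← Fintype.card_units, pow_card_eq_one, map_one]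

theorem SzD.h_ne (X : SzD K L) {k : Fˣ} (hk : k ≠ 1) : X.h k ≠ 1 := fun e => by
  have := X.h_z k 1
  rw [e, one_mul, inv_one, mul_one, mul_one] at this
  exact K.nm_ne_one hk (X.z_inj this).symm

theorem SzD.inv_conj (X : SzD K L) (hs : s ∈ L) (h1 : s ≠ 1) (h2 : s * s = 1) :
    ∃ l ∈ L, l * s * l⁻¹ = X.z 1 := by
  obtain ⟨g, hg, h⟩ := Sylow_Jsub Nat.prime_two X.syl_S (piElt_of_sq h2).isPi (zpowers_le.2 hs)
  obtain ⟨b, hb⟩ := X.mem_Z_of_sq (h (conj_mem_cj g (mem_zpowers s)))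
    (by rw [conj_mul, h2, mul_one, mul_inv_cancel])
  have hb0 : b ≠ 0 := by
    rintro rfl
    rw [X.z_zero, conj_eq_one_iff] at hb
    exact h1 hb
  obtain ⟨k, hk⟩ := K.exists_nm hb0 one_ne_zero
  refine ⟨X.h k * g, mul_mem (X.h_mem k) hg, ?_⟩
  rw [← hk, ← X.h_z, ← hb]
  group

theorem SzD.syl_N (X : SzD K L) (hR : Syl 2 C[L] R) : Syl 2 N[L] (R ⊔ X.S) := by
  have hRS : X.S ≤ C[R] := cents_symm (cents_of_le hR.le X.S_le)
  refine syl_of_max Nat.prime_two (hR.pi.sup X.pi_S (norm_of_cent hRS))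
    (sup_le (hR.le.trans (C_le_N L)) (X.S_le.trans (norm_self L))) fun Q hQ h1 h2 g hg => ?_
  obtain ⟨l, hl, k, hk, e⟩ := X.aut2 g (h2 hg) (hQ.piElt hg)
  have hlk : Commute l k := mem_C.1 hk l hl
  have e1 : Q ⊓ L = X.S := X.syl_S.eq_of_le (hQ.inf_left L)
    (le_inf (le_sup_right.trans h1) X.S_le) inf_le_right
  have e2 : Q ⊓ C[L] = R := hR.eq_of_le (hQ.inf_left _)
    (le_inf (le_sup_left.trans h1) hR.le) inf_le_right
  have n1 : g ∈ N[X.S] := e1 ▸ norm_inf (norm_self Q) h2 hg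
  have n2 : g ∈ N[R] := e2 ▸ norm_inf (norm_self Q) (norm_C h2) hg
  have c1 : k ∈ N[X.S] := C_le_N _ (C_anti X.S_le hk)
  have c2 : l ∈ N[R] := C_le_N _ (cents_symm hR.le hl)
  have hp : l ^ orderOf g * k ^ orderOf g = 1 := by rw [← hlk.mul_pow, ← e, pow_orderOf_eq_one]
  have p1 : l ^ orderOf g = 1 := by
    refine X.eq_one (pow_mem hl _) ?_
    rw [eq_inv_of_mul_eq_one_left hp]; exact inv_mem (pow_mem hk _)
  have p2 : k ^ orderOf g = 1 := by rwa [p1, one_mul] at hp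
  have m1 : l ∈ X.S := X.syl_S.le_of_norm (piElt_of_pow_eq_one (hQ.piElt hg) p1).isPi
    (zpowers_le.2 hl) (zpowers_le.2 (by
      rw [eq_mul_inv_of_mul_eq e.symm]; exact mul_mem n1 (inv_mem c1))) (mem_zpowers l)
  have m2 : k ∈ R := hR.le_of_norm (piElt_of_pow_eq_one (hQ.piElt hg) p2).isPi
    (zpowers_le.2 hk) (zpowers_le.2 (by
      rw [eq_inv_mul_of_mul_eq e.symm]; exact mul_mem (inv_mem c2) n2)) (mem_zpowers k)
  rw [e]
  exact mul_mem (mem_sup_right m1) (mem_sup_left m2)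

theorem SzD.two_h (X : SzD K L) (hg : g ∈ N[L]) (h2 : PiElt {2} g) {k : Fˣ} (hk : k ≠ 1)
    (h : g * X.h k = X.h k * g) : g ∈ C[L] := by
  obtain ⟨l, hl, j, hj, rfl⟩ := X.aut2 g hg h2
  have c : Commute l j := mem_C.1 hj l hl
  by_cases h1 : l = 1
  · rwa [h1, one_mul]
  have e := pow_orderOf_eq_one (l * j)
  rw [c.mul_pow, mul_eq_one_iff_eq_inv] at e
  obtain ⟨m, a, b⟩ := inv_pow' (piElt_of_pow_eq_one h2
    (X.eq_one (pow_mem hl _) (e ▸ inv_mem (pow_mem hj _)))) h1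
  obtain ⟨y, hy, e1⟩ := X.inv_conj (pow_mem hl m) a b
  have c1 : Commute (X.h k) l := by
    rw [mul_assoc, ← mem_C.1 hj _ (X.h_mem k), ← mul_assoc, ← mul_assoc] at h
    exact (mul_right_cancel h).symm
  have m1 := X.cent_z (conj_mem (norm_self _ hy) (X.h_mem k)) one_ne_zero (by
    rw [← e1, conj_mul, conj_mul, (c1.pow_right m).eq])
  exact absurd (conj_eq_one_iff.1 ((X.pi_S.piElt m1).eq_one ((X.odd_h k).conj y))) (X.h_ne hk)

theorem SzD.abl_of_nml (X : SzD K L) (h1 : P ≤ L) (h2 : IsPi {2} P) (h3 : L ≤ N[P]) : Abl P := by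
  have := X.simple
  have hn : P ⊴ L := ⟨h1, h3⟩
  rcases hn.normal.eq_bot_or_eq_top with e | e
  · have : P = ⊥ := by
      rw [subgroupOf_eq_bot, disjoint_iff, inf_eq_left.2 h1] at e; exact e
    rw [this]
    exact abl_iff.2 bot_le
  · obtain ⟨k, hk⟩ := K.exists_unit
    exact absurd ((h2.piElt (subgroupOf_eq_top.1 e (X.h_mem k))).eq_one (X.odd_h k)) (X.h_ne hk)

theorem SzD.exists_γ (X : SzD K L) (hg : g ∈ N[X.Z]) :
    ∃ γ : F →+ F, Function.Injective γ ∧ ∀ b, g * X.z b * g⁻¹ = X.z (γ b) := by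
  choose γ hγ using fun b => conj_mem hg (X.z_mem_Z b)
  refine ⟨AddMonoidHom.mk' γ fun a b => X.z_inj ?_, fun a b e => X.z_inj ?_, hγ⟩
  · rw [← X.z_mul, ← hγ, ← hγ, ← hγ, conj_mul, X.z_mul]
  · have e1 : γ a = γ b := e
    have := (hγ a).trans (e1 ▸ (hγ b).symm)
    rwa [mul_left_inj, mul_right_inj] at this

theorem SzD.two_of (X : SzD K L) (h2 : PiElt {2} g) (α : F → F) (add : ∀ a b, α (a + b) = α a + α b)
    (h : ∀ a, g * X.z (K.nm a) * g⁻¹ = X.z (K.nm (α a))) : g ∈ C[X.Z] ∧ ∀ a, α a = a := by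
  obtain ⟨γ, -, hγ⟩ := X.exists_γ (g := g) (mem_N_of_finite (by
    rintro _ ⟨b, rfl⟩
    obtain ⟨a, rfl⟩ := K.nm_surj b
    exact ⟨_, h a⟩))
  obtain ⟨k, hk⟩ := h2.exists_pow Nat.prime_two
  have it : ∀ n : ℕ, ∀ a, g ^ n * X.z (K.nm a) * (g ^ n)⁻¹ = X.z (K.nm (α^[n] a)) := by
    intro n
    induction n with
    | zero => simp
    | succ n ih => intro a; rw [Function.iterate_succ_apply, ← ih, ← h]; group
  have e := K.two_fix (AddMonoidHom.mk' α add) γ (fun a => X.z_inj ((hγ _).symm.trans (h a))) k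
    fun a => K.nm_inj (X.z_inj (by
      refine (it _ a).symm.trans ?_
      rw [← hk, pow_orderOf_eq_one]; simp))
  refine ⟨mem_C'.2 ?_, e⟩
  rintro _ ⟨b, rfl⟩
  obtain ⟨a, rfl⟩ := K.nm_surj b
  rw [← mul_inv_eq_iff_eq_mul, h]
  exact congrArg _ (congrArg _ (e a))

theorem SzD.two_NS (X : SzD K L) (hg : g ∈ N[X.S]) (h2 : PiElt {2} g) : g ∈ C[X.Z] := by
  choose A B hA using fun a => conj_mem hg (X.u_mem_S a 0)
  have k : ∀ a, g * X.z (K.nm a) * g⁻¹ = X.z (K.nm (A a)) := fun a => by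
    rw [← X.u_sq a 0, ← conj_mul, hA, X.u_sq]
  refine (X.two_of h2 A (fun a b => K.nm_inj (X.z_inj ?_)) k).1
  rw [← k, ← X.u_sq _ (0 + 0 + K.σ a * b), ← X.u_mul, ← conj_mul, ← conj_mul, hA, hA, X.u_mul, X.u_sq]

end H2.SZ
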