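import Mathlib
import Cfsg.Agent.H2.UDefs
import Cfsg.Agent.H2.UA1
import Cfsg.Agent.H2.UA2
import Cfsg.Agent.H2.UA3
import Cfsg.Agent.H2.ZB

set_option autoImplicit false
set_option linter.unusedVariables false
set_option linter.unusedSectionVars false

namespace H2.U3

open Cfsg H24 Subgroup
open H2.SZ (St DD Goal)
open H2.C2 (Cl2)

universe u v

variable {G : Type u} [Group G] [Finite G] {E F : Type*} [Field E] [Fintype E] [Field F] [Fintype F]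
  [Algebra E F] {K : UF E F} {L G0 D P P0 Q R A B C H T M W W1 W2 Z1 Z2 : Subgroup G}
  {t g s f x y i v p : G} {X : UD K L} {a k : F} {b : E} {ρ : F ≃+* F}

local notation "𝐪" => Fintype.card E

/-! ### UB1 -/

theorem UD.card_S (X : UD K L) : ♯X.S = 𝐪 ^ 3 := by
  have e : F × E ≃ X.S := Equiv.ofBijective (fun p => ⟨X.u p.1 p.2, X.u_mem_S _ _⟩)
    ⟨fun p q h => Prod.ext (X.u_inj (congrArg Subtype.val h)).1 (X.u_inj (congrArg Subtype.val h)).2,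
      fun ⟨x, hx⟩ => by obtain ⟨a, b, rfl⟩ := X.mem_S.1 hx; exact ⟨(a, b), rfl⟩⟩
  rw [← Nat.card_congr e, Nat.card_prod, Nat.card_eq_fintype_card, Nat.card_eq_fintype_card, K.card,
    ← pow_succ]
theorem UD.card_Z (X : UD K L) : ♯X.Z = 𝐪 := by
  have e : E ≃ X.Z := Equiv.ofBijective (fun p => ⟨X.z p, X.z_mem_Z _⟩)
    ⟨fun p q h => X.z_inj (congrArg Subtype.val h),
      fun ⟨x, hx⟩ => by obtain ⟨b, rfl⟩ := X.mem_Z.1 hx; exact ⟨b, rfl⟩⟩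
  rw [← Nat.card_congr e, Nat.card_eq_fintype_card]
theorem UD.pi_S (X : UD K L) : IsPi {2} X.S := by
  obtain ⟨n, -, hn⟩ := K.pow2
  exact isPi_of_card (n := n * 3) Nat.prime_two (by rw [X.card_S, hn, pow_mul])
theorem UD.syl_S (X : UD K L) : Syl 2 L X.S := by
  refine Syl.mk' Nat.prime_two X.S_le X.pi_S ?_
  obtain ⟨m, hm, e⟩ := X.card
  have := card_mul_relIndex X.S_le
  rw [X.card_S, e] at this
  rwa [Nat.eq_of_mul_eq_mul_left (pow_pos Fintype.card_pos 3) this, ← even_iff_two_dvd,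
    Nat.not_even_iff_odd]
theorem UD.ub1_comm (X : UD K L) {a c : F} {b d : E} (h : X.u a b * X.u c d = X.u c d * X.u a b) :
    K.B a c = 0 := by
  have := X.u_conj a c b d
  rwa [h, mul_inv_cancel_right, left_eq_mul, X.z_eq_one] at this
theorem UD.not_abl_S (X : UD K L) : ¬ Abl X.S := fun h => by
  obtain ⟨c, hc⟩ := K.B_surj (a := 1) one_ne_zero 1
  exact one_ne_zero (hc.symm.trans (X.ub1_comm (h.comm (X.u_mem_S 1 0) (X.u_mem_S c 0))))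
theorem UD.mem_Z_of_sq (X : UD K L) (hg : g ∈ X.S) (h : g * g = 1) : g ∈ X.Z := by
  obtain ⟨a, b, rfl⟩ := X.mem_S.1 hg
  rw [X.u_sq, X.z_eq_one, K.nm_eq_zero] at h
  subst h
  exact X.z_mem_Z b
theorem UD.S_CZ (X : UD K L) : X.S ≤ C[X.Z] := fun x hx => mem_C.2 fun y hy => by
  obtain ⟨a, b, rfl⟩ := X.mem_S.1 hx
  obtain ⟨c, rfl⟩ := X.mem_Z.1 hy
  exact X.z_u a b c
theorem UD.S_CS (X : UD K L) : X.S ⊓ C[X.S] ≤ X.Z := fun x hx => by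
  obtain ⟨a, b, rfl⟩ := X.mem_S.1 hx.1
  obtain rfl : a = 0 := by
    by_contra ha
    obtain ⟨c, hc⟩ := K.B_surj ha 1
    exact one_ne_zero (hc.symm.trans (X.ub1_comm (mem_C'.1 hx.2 _ (X.u_mem_S c 0))))
  exact X.z_mem_Z b
theorem UD.abl_Z (X : UD K L) : Abl X.Z := abl_iff.2 (X.Z_le_S.trans X.S_CZ)
theorem UD.spc (X : UD K L) : Spc X.S X.Z X.Z := by
  refine ⟨le_rfl, X.Z_le_S, cents_symm X.S_CZ, fun x hx => ?_, fun x hx => ?_, fun x hx h c hc => ?_⟩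
  · obtain ⟨b, rfl⟩ := X.mem_Z.1 hx
    exact X.z_sq b
  · obtain ⟨a, b, rfl⟩ := X.mem_S.1 hx
    rw [X.u_sq]; exact X.z_mem_Z _
  · obtain ⟨a, b, rfl⟩ := X.mem_S.1 hx
    obtain ⟨e, rfl⟩ := X.mem_Z.1 hc
    obtain ⟨d, rfl⟩ := K.B_surj (a := a) (by rintro rfl; exact h (X.z_mem_Z b)) e
    exact ⟨X.u d 0, X.u_mem_S _ _, by rw [X.u_conj, ← X.z_u, mul_inv_cancel_right]⟩
theorem UD.idx_Z (X : UD K L) : X.Z.relIndex X.S = 𝐪 ^ 2 := by
  have := card_mul_relIndex X.Z_le_S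
  rw [X.card_S, X.card_Z, pow_succ'] at this
  exact Nat.eq_of_mul_eq_mul_left Fintype.card_pos this
theorem UD.two_LC (X : UD K L) (h1 : g ∈ L) (h2 : g ∈ C[L]) (h3 : PiElt {2} g) : g = 1 :=
  h3.eq_one (X.cL.piElt ⟨h1, h2⟩)
theorem UD.NS_le_NZ (X : UD K L) : N[X.S] ≤ N[X.Z] := fun g hg => mem_N_of_finite fun x hx => by
  refine X.mem_Z_of_sq (conj_mem hg (X.Z_le_S hx)) ?_
  obtain ⟨b, rfl⟩ := X.mem_Z.1 hx
  rw [conj_mul, X.z_sq, mul_one, mul_inv_cancel]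
theorem UD.exists_l (X : UD K L) (hg : cj g⁻¹ X.S ≤ L) : ∃ l ∈ L, g * l ∈ N[X.S] := by
  obtain ⟨l, hl, h⟩ := Sylow_Jsub Nat.prime_two X.syl_S (X.pi_S.cj g⁻¹) hg
  refine ⟨l⁻¹, inv_mem hl, (inv_mem_iff (x := g * l⁻¹)).1 (mem_N_of_finite fun x hx => ?_)⟩
  have := h (conj_mem_cj l (conj_mem_cj g⁻¹ hx))
  convert this using 1
  group
theorem UD.ub1_N (X : UD K L) {α : F → F} (h : ∀ a b, ∃ b', g * X.u a b * g⁻¹ = X.u (α a) b') :
    g ∈ N[X.S] := mem_N_of_finite fun x hx => by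
  obtain ⟨a, b, rfl⟩ := X.mem_S.1 hx
  obtain ⟨b', e⟩ := h a b
  rw [e]; exact X.u_mem_S _ _
theorem UD.norm_S (X : UD K L) (hg : g ∈ N[L]) (hb : b ≠ 0) (h : g * X.z b * g⁻¹ ∈ X.S) :
    g ∈ N[X.S] := by
  obtain ⟨l, hl, h1⟩ := X.exists_l (cj_le_of_mem_N X.S_le (inv_mem hg))
  obtain ⟨c, d, e⟩ := X.mem_S.1 (conj_mem' h1 h)
  obtain ⟨k, hk⟩ := X.ti l⁻¹ (inv_mem hl) 0 b c d (fun e => hb (X.z_eq_one.1 e)) (by
    rw [← e]; unfold UD.z; group)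
  simpa using mul_mem h1 (X.ub1_N (α := fun a => k * a) hk)
theorem UD.n_NS (X : UD K L) : X.n ∉ N[X.S] := fun h => by
  obtain ⟨c, d, e⟩ := X.mem_S.1 (conj_mem h (X.u_mem_S 0 1))
  exact X.n_S ⟨(c, d), e.symm⟩
theorem UD.h_NS (X : UD K L) (k : Eˣ) : X.h k ∈ N[X.S] :=
  X.ub1_N (α := fun a => (k : E) • a) fun a b => ⟨_, X.h_u k a b⟩
theorem UD.w_NS (X : UD K L) : X.w ∈ N[X.S] :=
  X.ub1_N (α := fun a => K.w * a) fun a b => ⟨_, X.w_u a b⟩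
theorem UD.fix_h (X : UD K L) {k : Eˣ} (hk : k ≠ 1) (hg : g ∈ X.S) (e : g * X.h k = X.h k * g) :
    g = 1 := by
  obtain ⟨a, b, rfl⟩ := X.mem_S.1 hg
  have := X.h_u k a b
  rw [← e, mul_inv_cancel_right] at this
  obtain ⟨h1, h2⟩ := X.u_inj this
  have hk' : (k : E) ≠ 1 := fun h => hk (Units.ext h)
  obtain rfl : a = 0 := by
    have : ((k : E) - 1) • a = 0 := by rw [sub_smul, one_smul, ← h1, sub_self]
    exact (smul_eq_zero.1 this).resolve_left (sub_ne_zero.2 hk')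
  obtain rfl : b = 0 := by
    by_contra hb
    exact hk' (K.sq_inj (by rw [one_pow]; exact (mul_left_eq_self₀.1 h2.symm).resolve_right hb))
  exact X.u_zero
theorem UD.fix_w (X : UD K L) (hg : g ∈ X.S) (e : g * X.w = X.w * g) : g ∈ X.Z := by
  obtain ⟨a, b, rfl⟩ := X.mem_S.1 hg
  have := X.w_u a b
  rw [← e, mul_inv_cancel_right] at this
  obtain rfl : a = 0 := (mul_left_eq_self₀.1 (X.u_inj this).1.symm).resolve_left K.w1
  exact X.z_mem_Z b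
theorem UD.exists_γ (X : UD K L) (hg : g ∈ N[X.Z]) :
    ∃ γ : E →+ E, Function.Injective γ ∧ ∀ b, g * X.z b * g⁻¹ = X.z (γ b) := by
  choose γ hγ using fun b => X.mem_Z.1 (conj_mem hg (X.z_mem_Z b))
  refine ⟨AddMonoidHom.mk' γ fun a b => X.z_inj ?_, fun a b e => X.z_inj ?_, hγ⟩
  · rw [← X.z_mul, ← hγ, ← hγ, ← hγ, conj_mul, X.z_mul]
  · have e1 : γ a = γ b := e
    have := (hγ a).trans (e1 ▸ (hγ b).symm)
    rwa [mul_left_inj, mul_right_inj] at this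
theorem UD.exists_act (X : UD K L) (hg : g ∈ N[X.S]) : ∃ k, X.Act g k (X.χ g) := by
  suffices h : ∃ ρ k, X.Act g k ρ by
    rw [UD.χ, dif_pos h]; exact h.choose_spec
  obtain ⟨γ, h0, hγ⟩ := X.exists_γ (X.NS_le_NZ hg)
  choose A B hA using fun a => X.mem_S.1 (conj_mem hg (X.u_mem_S a 0))
  have h1 : ∀ a b, g * X.u a b * g⁻¹ = X.u (A a) (B a + γ b) := fun a b => by
    rw [X.u_eq, ← conj_mul, hA, hγ, X.u_z]
  have h2 : ∀ a, γ (K.nm a) = K.nm (A a) := fun a => X.z_inj (by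
    rw [← hγ, ← X.u_sq a 0, ← conj_mul, hA, X.u_sq])
  obtain ⟨k, hk, ρ, h⟩ := K.gammaL (AddMonoidHom.mk' A fun a c => (X.u_inj (by
      rw [← h1 _ (0 + 0 + K.β a c), ← X.u_mul, ← conj_mul, hA, hA, X.u_mul])).1) γ
    ((injective_iff_map_eq_zero _).2 fun a ha => K.nm_eq_zero.1 (h0 (by
      rw [h2, show A a = 0 from ha, K.nm_zero, map_zero]))) h2
  exact ⟨ρ, k, hk, fun a b => ⟨_, by rw [h1, ← h]; rfl⟩⟩
theorem UD.Act.ub1_uniq {k' : F} {ρ' : F ≃+* F} (h : X.Act g k ρ) (h' : X.Act g k' ρ') :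
    k = k' ∧ ρ = ρ' := by
  have e : ∀ a, k * ρ a = k' * ρ' a := fun a => by
    obtain ⟨b, e⟩ := h.2 a 0
    obtain ⟨b', e'⟩ := h'.2 a 0
    exact (X.u_inj (e.symm.trans e')).1
  obtain rfl : k = k' := by simpa using e 1
  exact ⟨rfl, RingEquiv.ext fun a => mul_left_cancel₀ h.1 (e a)⟩
theorem UD.Act.mem (h : X.Act g k ρ) : g ∈ N[X.S] := X.ub1_N (α := fun a => k * ρ a) h.2
theorem UD.Act.χ_eq (h : X.Act g k ρ) : X.χ g = ρ := by
  obtain ⟨k', h'⟩ := X.exists_act h.mem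
  exact (h'.ub1_uniq h).2
theorem UD.Act.z (h : X.Act g k ρ) (b : E) :
    ∃ c, g * X.z b * g⁻¹ = X.z c ∧ algebraMap E F c = k * K.σ k * ρ (algebraMap E F b) := by
  obtain ⟨a, rfl⟩ := K.nm_surj b
  obtain ⟨b', e⟩ := h.2 a 0
  refine ⟨K.nm (k * ρ a), by rw [← X.u_sq a 0, ← conj_mul, e, X.u_sq], ?_⟩
  rw [K.nm_eq, K.nm_eq, map_mul, map_mul, K.aut_σ]
  ring
theorem UD.Act.ub1_mul {k' : F} {ρ' : F ≃+* F} (h : X.Act g k ρ) (h' : X.Act x k' ρ') :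
    X.Act (g * x) (k * ρ k') (ρ * ρ') := by
  refine ⟨mul_ne_zero h.1 ((map_ne_zero ρ).2 h'.1), fun a b => ?_⟩
  obtain ⟨b1, e1⟩ := h'.2 a b
  obtain ⟨b2, e2⟩ := h.2 (k' * ρ' a) b1
  refine ⟨b2, ?_⟩
  rw [← e1, map_mul, ← mul_assoc k] at e2
  refine Eq.trans ?_ e2
  group
theorem UD.ub1_C (X : UD K L) (h : g ∈ C[X.S]) : X.Act g 1 1 :=
  ⟨one_ne_zero, fun a b => ⟨b, by rw [conj_eq_of_mem_C h (X.u_mem_S a b), one_mul]; rfl⟩⟩
theorem UD.ub1_h (X : UD K L) (k : Eˣ) : X.Act (X.h k) (algebraMap E F k) 1 :=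
  ⟨(map_ne_zero _).2 k.ne_zero, fun a b => ⟨_, by rw [X.h_u, Algebra.smul_def]; rfl⟩⟩
theorem UD.χ_mul (X : UD K L) (hg : g ∈ N[X.S]) (hx : x ∈ N[X.S]) : X.χ (g * x) = X.χ g * X.χ x := by
  obtain ⟨k, h⟩ := X.exists_act hg
  obtain ⟨k', h'⟩ := X.exists_act hx
  exact (h.ub1_mul h').χ_eq
theorem UD.χ_C (X : UD K L) (h : g ∈ C[X.S]) : X.χ g = 1 := (X.ub1_C h).χ_eq
theorem UD.χ_inv (X : UD K L) (hg : g ∈ N[X.S]) : X.χ g⁻¹ = (X.χ g)⁻¹ :=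
  eq_inv_of_mul_eq_one_left (by
    rw [← X.χ_mul (inv_mem hg) hg, inv_mul_cancel]; exact X.χ_C (one_mem _))
theorem UD.χ_pow (X : UD K L) (hg : g ∈ N[X.S]) (n : ℕ) : X.χ (g ^ n) = X.χ g ^ n := by
  induction n with
  | zero => rw [pow_zero, pow_zero]; exact X.χ_C (one_mem _)
  | succ n ih => rw [pow_succ, X.χ_mul (pow_mem hg n) hg, ih, pow_succ]
theorem UD.χ_L (X : UD K L) (h1 : g ∈ L) (h2 : g ∈ N[X.S]) : X.χ g = 1 := by
  obtain ⟨c, d, e⟩ := X.mem_S.1 (conj_mem h2 (X.u_mem_S 0 1))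
  obtain ⟨k, hk⟩ := X.ti g h1 0 1 c d X.z1 e
  obtain ⟨k', h'⟩ := X.exists_act h2
  refine UD.Act.χ_eq (k := k) ⟨?_, hk⟩
  obtain ⟨b, e⟩ := hk 1 0
  obtain ⟨b', e'⟩ := h'.2 1 0
  have := (X.u_inj (e.symm.trans e')).1
  rw [map_one, mul_one, mul_one] at this
  exact this ▸ h'.1
theorem UD.act_two (X : UD K L) (hg : g ∈ N[X.S]) (h2 : PiElt {2} g) (h : X.χ g = 1) :
    X.Act g 1 1 := by
  obtain ⟨k, hk⟩ := X.exists_act hg
  rw [h] at hk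
  have it : ∀ n : ℕ, X.Act (g ^ n) (k ^ n) 1 := fun n => by
    induction n with
    | zero => rw [pow_zero, pow_zero]; exact X.ub1_C (one_mem _)
    | succ n ih => rw [pow_succ, pow_succ]; exact ih.ub1_mul hk
  obtain ⟨n, hn⟩ := h2.exists_pow Nat.prime_two
  have := it (2 ^ n)
  rw [← hn, pow_orderOf_eq_one, hn] at this
  rwa [K.two_scal (this.ub1_uniq (X.ub1_C (one_mem _))).1] at hk
theorem UD.Act.ub1_SC (h : X.Act g 1 1) (h1 : g ∈ N[L]) : ∃ s ∈ X.S, ∃ c ∈ C[L], g = s * c := by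
  obtain ⟨a, b, c, hc, e⟩ := X.autS g h1 fun a b => by
    obtain ⟨b', e⟩ := h.2 a b
    exact ⟨b', by rw [e, one_mul]; rfl⟩
  exact ⟨_, X.u_mem_S a b, c, hc, e⟩
theorem UD.two_SC (X : UD K L) (h1 : g ∈ N[L]) (hg : g ∈ N[X.S]) (h2 : PiElt {2} g) (h : X.χ g = 1) :
    ∃ s ∈ X.S, ∃ c ∈ C[L], g = s * c := (X.act_two hg h2 h).ub1_SC h1
theorem UD.two_L (X : UD K L) (h1 : g ∈ L) (hg : g ∈ N[X.S]) (h2 : PiElt {2} g) : g ∈ X.S :=
  X.syl_S.le_of_norm h2.isPi (zpowers_le.2 h1) (zpowers_le.2 hg) (mem_zpowers g)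
theorem UD.χ_Z (X : UD K L) (hg : g ∈ N[X.S]) (h : g ∈ C[X.Z]) : X.χ g = 1 ∨ X.χ g = K.σ := by
  obtain ⟨k, hk⟩ := X.exists_act hg
  have e : ∀ b, algebraMap E F b = k * K.σ k * X.χ g (algebraMap E F b) := fun b => by
    obtain ⟨c, e1, e2⟩ := hk.z b
    rw [conj_eq_of_mem_C h (X.z_mem_Z b)] at e1
    rwa [← X.z_inj e1] at e2
  have e1 := e 1
  rw [map_one, map_one, mul_one] at e1
  exact K.aut_fixE fun b => by have := e b; rw [← e1, one_mul] at this; exact this.symm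
theorem UD.Z_χ (X : UD K L) (hg : g ∈ N[X.S]) (h2 : PiElt {2} g) (h : X.χ g = 1 ∨ X.χ g = K.σ) :
    g ∈ C[X.Z] := by
  obtain ⟨k, hk⟩ := X.exists_act hg
  have e : ∀ b, g * X.z b * g⁻¹ = X.z (K.nm k * b) := fun b => by
    obtain ⟨c, e1, e2⟩ := hk.z b
    rw [e1]
    refine congrArg _ ((algebraMap E F).injective ?_)
    rw [e2, map_mul, K.nm_eq]
    rcases h with h | h <;> rw [h]
    exacts [rfl, by rw [K.σ_alg]]
  have it : ∀ n : ℕ, g ^ n * X.z 1 * (g ^ n)⁻¹ = X.z (K.nm k ^ n) := fun n => by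
    induction n with
    | zero => simp
    | succ n ih => rw [pow_succ' (K.nm k), ← e, ← ih]; group
  obtain ⟨n, hn⟩ := h2.exists_pow Nat.prime_two
  have := it (2 ^ n)
  rw [← hn, pow_orderOf_eq_one, hn, one_mul, inv_one, mul_one] at this
  have h1 : K.nm k = 1 := (algebraMap E F).injective (by
    rw [map_one]
    exact K.two_scal (n := n) (by rw [← map_pow, ← X.z_inj this, map_one]))
  refine mem_C'.2 fun x hx => ?_
  obtain ⟨b, rfl⟩ := X.mem_Z.1 hx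
  rw [← mul_inv_eq_iff_eq_mul, e, h1, one_mul]
theorem UD.ub1_two (X : UD K L) (hg : g ∈ N[X.S]) (h2 : PiElt {2} g) : ∃ n : ℕ, X.χ g ^ 2 ^ n = 1 := by
  obtain ⟨n, hn⟩ := h2.exists_pow Nat.prime_two
  exact ⟨n, by rw [← X.χ_pow hg, ← hn, pow_orderOf_eq_one]; exact X.χ_C (one_mem _)⟩
theorem UD.χ_w (X : UD K L) (hg : g ∈ N[X.S]) (h2 : PiElt {2} g) (e : g * X.w = X.w * g) :
    g ∈ C[X.S] := by
  have ew : ∀ a b, g * X.u (K.w * a) b * g⁻¹ = X.w * (g * X.u a b * g⁻¹) * X.w⁻¹ := fun a b => by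
    rw [← X.w_u]
    calc _ = g * X.w * X.u a b * (g * X.w)⁻¹ := by group
      _ = _ := by rw [e]; group
  have h1 : X.χ g = 1 := by
    by_contra h1
    obtain ⟨k, hk⟩ := X.exists_act hg
    obtain ⟨n, hn⟩ := X.ub1_two hg h2
    obtain ⟨m, hm⟩ := K.aut_two hn h1
    obtain ⟨b1, e1⟩ := hk.2 1 0
    obtain ⟨b2, e2⟩ := hk.2 (K.w * 1) 0
    rw [ew, e1, X.w_u] at e2
    have e3 := (X.u_inj e2).1
    rw [map_one, mul_one, mul_one, mul_comm] at e3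
    have e4 : X.χ g K.w = K.w := (mul_left_cancel₀ hk.1 e3).symm
    have it : ∀ n : ℕ, (X.χ g ^ n) K.w = K.w := fun n => by
      induction n with
      | zero => rfl
      | succ n ih => rw [pow_succ]; exact (congrArg _ e4).trans ih
    exact K.σ_w (hm ▸ it m)
  have hZ := X.Z_χ hg h2 (.inl h1)
  choose l hl using fun a => (X.act_two hg h2 h1).2 a 0
  have h3 : ∀ a b, g * X.u a b * g⁻¹ = X.u a (l a + b) := fun a b => by
    rw [X.u_eq, ← conj_mul, hl, conj_eq_of_mem_C hZ (X.z_mem_Z b), X.u_z, one_mul]; rfl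
  have h4 := K.winv (AddMonoidHom.mk' l fun a c => by
      have := h3 (a + c) (0 + 0 + K.β a c)
      rw [← X.u_mul, ← conj_mul, h3, h3, X.u_mul] at this
      linear_combination -(X.u_inj this).2) fun a => by
    have := ew a 0
    rw [h3, h3, X.w_u] at this
    exact add_right_cancel (X.u_inj this).2
  refine mem_C'.2 fun x hx => ?_
  obtain ⟨a, b, rfl⟩ := X.mem_S.1 hx
  rw [← mul_inv_eq_iff_eq_mul, h3, show l a = 0 from h4 a, zero_add]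
theorem UD.h_eqv (X : UD K L) (h1 : g ∈ N[L]) (hg : g ∈ N[X.S]) (k : Eˣ) : ∃ k' : Eˣ, ∃ s ∈ X.S,
    ∃ d ∈ L ⊓ C[L], g * X.h k * g⁻¹ = X.h k' * s * d ∧
      algebraMap E F k' = X.χ g (algebraMap E F k) := by
  obtain ⟨μ, hμ⟩ := K.aut_res (X.χ g)
  obtain ⟨c, hc⟩ := X.exists_act hg
  obtain ⟨k', hk'⟩ : ∃ k' : Eˣ, (k' : E) = μ k := ⟨Units.mk0 _ ((map_ne_zero μ).2 k.ne_zero), rfl⟩
  have yL : (X.h k')⁻¹ * (g * X.h k * g⁻¹) ∈ L := mul_mem (inv_mem (X.h_mem _)) (conj_mem h1 (X.h_mem _))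
  have yN : (X.h k')⁻¹ * (g * X.h k * g⁻¹) ∈ N[X.S] :=
    mul_mem (inv_mem (X.h_NS _)) (mul_mem (mul_mem hg (X.h_NS _)) (inv_mem hg))
  obtain ⟨c', hc'⟩ := X.exists_act yN
  rw [X.χ_L yL yN] at hc'
  have a1 := ((X.ub1_h k').ub1_mul hc').ub1_mul hc
  rw [show X.h k' * ((X.h k')⁻¹ * (g * X.h k * g⁻¹)) * g = g * X.h k by group] at a1
  have a2 := (a1.ub1_uniq (hc.ub1_mul (X.ub1_h k))).1
  rw [hμ, ← hk'] at a2
  obtain rfl : c' = 1 := by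
    change algebraMap E F k' * c' * c = _ at a2
    refine mul_left_cancel₀ (mul_ne_zero hc.1 (X.ub1_h k').1) ?_
    linear_combination a2
  obtain ⟨s, hs, d, hd, e⟩ := hc'.ub1_SC (norm_self L yL)
  refine ⟨k', s, hs, d, ⟨?_, hd⟩, by rw [mul_assoc (X.h k'), ← e, mul_inv_cancel_left], by rw [hμ, hk']⟩
  rw [e] at yL
  exact (mul_mem_cancel_left (X.S_le hs)).1 yL
theorem UD.Act.ub1_odd (h : X.Act g 1 1) (h1 : g ∈ L) (h2 : PiElt {2}ᶜ g) : g ∈ C[L] := by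
  obtain ⟨s, hs, d, hd, e⟩ := h.ub1_SC (norm_self L h1)
  have dL : d ∈ L := (mul_mem_cancel_left (X.S_le hs)).1 (e ▸ h1)
  have : PiElt {2}ᶜ s := by
    rw [eq_mul_inv_of_mul_eq e.symm]
    exact h2.mul (X.cL.piElt ⟨dL, hd⟩).inv (mem_C.1 (inv_mem hd) g h1)
  rwa [e, (X.pi_S.piElt hs).eq_one this, one_mul]
theorem UD.h_mul (X : UD K L) (k l : Eˣ) : ∃ d ∈ L ⊓ C[L], X.h (k * l) = X.h k * X.h l * d := by
  have yL : (X.h k * X.h l)⁻¹ * X.h (k * l) ∈ L :=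
    mul_mem (inv_mem (mul_mem (X.h_mem _) (X.h_mem _))) (X.h_mem _)
  have yN : (X.h k * X.h l)⁻¹ * X.h (k * l) ∈ N[X.S] :=
    mul_mem (inv_mem (mul_mem (X.h_NS _) (X.h_NS _))) (X.h_NS _)
  obtain ⟨c', hc'⟩ := X.exists_act yN
  rw [X.χ_L yL yN] at hc'
  have a1 := ((X.ub1_h k).ub1_mul (X.ub1_h l)).ub1_mul hc'
  rw [mul_inv_cancel_left] at a1
  have a2 := (a1.ub1_uniq (X.ub1_h (k * l))).1
  obtain rfl : c' = 1 := by
    change algebraMap E F k * algebraMap E F l * c' = _ at a2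
    rw [Units.val_mul, map_mul] at a2
    exact (mul_right_eq_self₀.1 a2).resolve_right (mul_ne_zero (X.ub1_h k).1 (X.ub1_h l).1)
  have c : Commute (X.h k * X.h l) (X.h (k * l)) :=
    Commute.mul_left (X.h_comm _ _) (X.h_comm _ _)
  exact ⟨_, ⟨yL, hc'.ub1_odd yL ((((X.h_odd k).mul (X.h_odd l) (X.h_comm _ _)).inv).mul (X.h_odd _)
    c.inv_left.eq)⟩, by rw [mul_inv_cancel_left]⟩
theorem UD.h_one (X : UD K L) : X.h 1 ∈ C[L] := by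
  have := X.ub1_h 1
  rw [Units.val_one, map_one] at this
  exact this.ub1_odd (X.h_mem 1) (X.h_odd 1)

end H2.U3
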