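import Mathlib
import Cfsg.Agent.H2.UDefs
import Cfsg.Agent.H2.UB1

set_option autoImplicit false
set_option linter.unusedVariables false
set_option linter.unusedSectionVars false

namespace H2.U3

open Cfsg H24 Subgroup
open H2.SZ (St DD Goal)
open H2.C2 (Cl2)

universe u v

variable {G : Type u} [Group G] [Finite G] {E F : Type*} [Field E] [Fintype E] [Field F] [Fintype F]
  [Algebra E F] {K : UF E F} {L G0 D P P0 Q R A B C H T M W W1 W2 Z1 Z2 : Subgroup G}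
  {t g s f x y i v p : G} {X : UD K L} {a k : F} {b : E} {ρ : F ≃+* F}

local notation "𝐪" => Fintype.card E

/-! ### UB1b -/

theorem UF.ub1b_fix (K : UF E F) (h : k * K.σ a = a) : K.ω * a + k * K.σ (K.ω * a) = a := by
  have := K.tr_eq K.ω
  rw [K.tr_ω, map_one] at this
  rw [map_mul]
  linear_combination K.σ K.ω * h - a * this

theorem UD.ub1b_core (X : UD K L) (hf : f ∈ N[X.S]) (ff : f * f = 1) (h : X.χ f = K.σ) :
    ∃ k : F, ∃ μ : F → E, k * K.σ k = 1 ∧ (∀ a b, f * X.u a b * f⁻¹ = X.u (k * K.σ a) (μ a + b)) ∧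
      ∀ a, k * K.σ a = a → μ a = K.nm a := by
  have hZ := X.Z_χ hf (H2.SZ.piElt_of_sq ff) (.inr h)
  obtain ⟨k, hk⟩ := X.exists_act hf
  rw [h] at hk
  choose μ hμ using fun a => hk.2 a 0
  have h3 : ∀ a b, f * X.u a b * f⁻¹ = X.u (k * K.σ a) (μ a + b) := fun a b => by
    rw [X.u_eq, ← conj_mul, hμ, conj_eq_of_mem_C hZ (X.z_mem_Z b), X.u_z]
  have h4 : ∀ a, k * K.σ (k * K.σ a) = a ∧ μ (k * K.σ a) + μ a = 0 := fun a => by
    have := h3 (k * K.σ a) (μ a + 0)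
    rw [← h3, show f * (f * X.u a 0 * f⁻¹) * f⁻¹ = f * f * X.u a 0 * (f * f)⁻¹ by group, ff, one_mul,
      inv_one, mul_one, add_zero] at this
    exact ⟨(X.u_inj this).1.symm, (X.u_inj this).2.symm⟩
  have kk : k * K.σ k = 1 := by simpa using (h4 1).1
  have nk : K.nm k = 1 := (algebraMap E F).injective (by rw [K.nm_eq, kk, map_one])
  refine ⟨k, μ, kk, h3, fun a ha => ?_⟩
  have add : ∀ a c, μ (a + c) = μ a + μ c + K.B a c := fun a c => by
    have := h3 (a + c) (0 + 0 + K.β a c)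
    rw [← X.u_mul, ← conj_mul, h3, h3, X.u_mul] at this
    have e := (X.u_inj this).2
    have e2 : K.β (k * K.σ a) (k * K.σ c) = K.β (K.σ a) (K.σ c) := by
      unfold UF.β
      rw [map_mul]
      congr 1
      linear_combination K.σ K.ω * K.σ a * K.σ (K.σ c) * kk
    rw [e2, K.β_σ] at e
    linear_combination -e
  have e1 := add (K.ω * a) (k * K.σ (K.ω * a))
  have e2 := K.nm_add (K.ω * a) (k * K.σ (K.ω * a))
  rw [K.ub1b_fix ha] at e1 e2
  rw [K.nm_mul k, nk, one_mul, K.nm_σ] at e2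
  linear_combination e1 - e2 + (h4 (K.ω * a)).2 - K.addE (K.nm (K.ω * a))

theorem UD.out_C (X : UD K L) (hf : f ∈ N[X.S]) (ff : f * f = 1) (h : X.χ f = K.σ) :
    f ∈ C[X.Z] ∧ X.S ⊓ C{f} = X.Z := by
  have hZ := X.Z_χ hf (H2.SZ.piElt_of_sq ff) (.inr h)
  refine ⟨hZ, le_antisymm (fun x hx => ?_) (le_inf X.Z_le_S (mem_C_iff_le_C1.1 hZ))⟩
  obtain ⟨k, μ, -, h1, h2⟩ := X.ub1b_core hf ff h
  obtain ⟨a, b, rfl⟩ := X.mem_S.1 hx.1
  have := h1 a b
  rw [← mem_C1.1 hx.2, mul_inv_cancel_right] at this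
  obtain ⟨e1, e2⟩ := X.u_inj this
  rw [h2 a e1.symm, right_eq_add, K.nm_eq_zero] at e2
  subst e2
  exact X.z_mem_Z b
theorem UD.out_z (X : UD K L) (hf : f ∈ N[X.S]) (ff : f * f = 1) (h : X.χ f = K.σ) :
    ∃ a ≠ 0, ∀ (e : E) b, X.u (e • a) b * f * (X.u (e • a) b)⁻¹ = f * X.z (K.nm (e • a)) := by
  obtain ⟨k, μ, kk, h1, h2⟩ := X.ub1b_core hf ff h
  obtain ⟨c, hc⟩ : ∃ c, c + k * K.σ c ≠ 0 := by
    by_contra hn
    push Not at hn
    have k1 : k = 1 := by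
      have := hn 1
      rw [map_one, mul_one] at this
      linear_combination this - K.addF 1
    refine K.σ_ne (RingEquiv.ext fun c => ?_)
    have := hn c
    rw [k1, one_mul] at this
    change K.σ c = c
    linear_combination this - K.addF c
  refine ⟨_, hc, fun e b => ?_⟩
  have h3 : k * K.σ (e • (c + k * K.σ c)) = e • (c + k * K.σ c) := by
    rw [K.σ_smul, mul_smul_comm, map_add, map_mul, K.σσ]
    congr 1
    linear_combination c * kk
  generalize e • (c + k * K.σ c) = a at h3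
  have h4 := h1 a b
  rw [h3, h2 a h3, add_comm, ← X.u_inv] at h4
  rw [← X.z_inv, ← X.u_sq a b, mul_inv_rev, ← mul_assoc f]
  nth_rewrite 2 [← h4]
  rw [inv_eq_of_mul_eq_one_right ff, ← mul_assoc, ← mul_assoc, ff, one_mul]
theorem UD.out_conj (X : UD K L) (hf : f ∈ N[X.S]) (ff : f * f = 1) (h : X.χ f = K.σ) (hs : s ∈ X.S)
    (e : f * s * (f * s) = 1) : ∃ p ∈ X.S, f * s = p * f * p⁻¹ := by
  obtain ⟨a0, h0, hz⟩ := X.out_z hf ff h
  obtain ⟨k, μ, kk, h1, h2⟩ := X.ub1b_core hf ff h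
  obtain ⟨a, b, rfl⟩ := X.mem_S.1 hs
  have fi := inv_eq_of_mul_eq_one_right ff
  have h3 : k * K.σ a = a := by
    have := h1 a b
    rw [fi, eq_inv_of_mul_eq_one_left (show f * X.u a b * f * X.u a b = 1 by rw [← e]; group),
      X.u_inv] at this
    exact (X.u_inj this).1.symm
  obtain ⟨b', hb'⟩ : ∃ b', X.u (K.ω * a) 0 * f * (X.u (K.ω * a) 0)⁻¹ = f * X.u a b' := by
    rw [show X.u (K.ω * a) 0 * f = f * (f * X.u (K.ω * a) 0 * f⁻¹) by
      rw [fi, ← mul_assoc, ← mul_assoc, ff, one_mul], h1, X.u_inv, mul_assoc, X.u_mul, add_comm,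
      K.ub1b_fix h3]
    exact ⟨_, rfl⟩
  obtain ⟨rt, hrt⟩ := K.exists_rt
  have h4 := hz (rt ((b' + b) / K.nm a0)) 0
  rw [K.nm_smul, hrt, div_mul_cancel₀ _ fun e => h0 (K.nm_eq_zero.1 e)] at h4
  refine ⟨X.u (K.ω * a) 0 * X.u (rt ((b' + b) / K.nm a0) • a0) 0,
    mul_mem (X.u_mem_S _ _) (X.u_mem_S _ _), ?_⟩
  generalize X.u (rt ((b' + b) / K.nm a0) • a0) 0 = p at h4
  calc _ = f * X.u a b' * X.z (b' + b) := by rw [mul_assoc, X.u_z, ← add_assoc, K.addE, zero_add]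
    _ = X.u (K.ω * a) 0 * f * ((X.u (K.ω * a) 0)⁻¹ * X.z (b' + b)) := by rw [← hb', mul_assoc]
    _ = X.u (K.ω * a) 0 * (f * X.z (b' + b)) * (X.u (K.ω * a) 0)⁻¹ := by
      rw [X.u_inv, ← X.z_u]; group
    _ = _ := by rw [← h4]; group

end H2.U3
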