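import Mathlib
import Cfsg.Agent.H2.ZDefs
import Cfsg.Agent.H2.ZB

/-! # Standard subgroup `Sz(q)`: the local data -/

set_option autoImplicit false
set_option linter.unusedVariables false
set_option linter.unusedSectionVars false

namespace H2.SZ

open Cfsg H24 Subgroup
open H2.C2 (Cl2)

universe u

variable {G : Type u} [Group G] [Finite G] {F : Type*} [Field F] [Fintype F] {K : FD F}
  {L G0 D P P0 Q R A C T E : Subgroup G} {t g s φ : G} {X : SzD K L} {c : F}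

theorem St.ti (h : St L G0 t) : t⁻¹ = t := inv_eq_of_mul_eq_one_right h.tt
theorem St.tu (h : St L G0 t) (X : SzD K L) (a b : F) : X.u a b * t = t * X.u a b :=
  mem_C.1 h.tC _ (X.u_mem a b)
theorem St.tz (h : St L G0 t) (X : SzD K L) (b : F) : X.z b * t = t * X.z b := h.tu X 0 b
theorem St.ht (h : St L G0 t) (X : SzD K L) (k : Fˣ) : X.h k * t * (X.h k)⁻¹ = t := by
  rw [mem_C.1 h.tC _ (X.h_mem k), mul_inv_cancel_right]
theorem St.tZ (h : St L G0 t) (X : SzD K L) : t ∈ C[X.Z] := C_anti (X.Z_le_S.trans X.S_le) h.tC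

theorem mem_zp_inv (h : t * t = 1) : g ∈ zpowers t ↔ g = 1 ∨ g = t := by
  refine ⟨?_, by rintro (rfl | rfl); exacts [one_mem _, mem_zpowers _]⟩
  rintro ⟨n, rfl⟩
  have e : t ^ (2 : ℤ) = 1 := by rw [zpow_two, h]
  rcases Int.even_or_odd' n with ⟨k, rfl | rfl⟩
  · left; simp only [zpow_mul, e, one_zpow]
  · right; simp only [zpow_add, zpow_mul, e, one_zpow, one_mul, zpow_one]

theorem St.mem_T (h : St L G0 t) (X : SzD K L) :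
    g ∈ X.T t ↔ ∃ a b, g = X.u a b ∨ g = t * X.u a b := by
  rw [SzD.T, mem_sup_of_norm' (zpowers_le.2 (C_le_N _ (C_anti X.S_le h.tC)))]
  constructor
  · rintro ⟨x, hx, _, ⟨a, b, rfl⟩, rfl⟩
    rcases (mem_zp_inv h.tt).1 hx with rfl | rfl
    exacts [⟨a, b, .inl (one_mul _)⟩, ⟨a, b, .inr rfl⟩]
  · rintro ⟨a, b, rfl | rfl⟩
    exacts [⟨1, one_mem _, _, X.u_mem_S a b, (one_mul _).symm⟩, ⟨t, mem_zpowers t, _, X.u_mem_S a b, rfl⟩]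

theorem SzD.t_T (X : SzD K L) (t : G) : t ∈ X.T t := mem_sup_left (mem_zpowers t)
theorem SzD.S_T (X : SzD K L) (t : G) : X.S ≤ X.T t := le_sup_right
theorem SzD.u_T (X : SzD K L) (t : G) (a b : F) : X.u a b ∈ X.T t := X.S_T t (X.u_mem_S a b)
theorem SzD.z_T (X : SzD K L) (t : G) (b : F) : X.z b ∈ X.T t := X.u_T t 0 b

theorem St.pi_T (h : St L G0 t) (X : SzD K L) : IsPi {2} (X.T t) :=
  (piElt_of_sq h.tt).isPi.sup' X.pi_S (zpowers_le.2 (C_le_N _ (C_anti X.S_le h.tC)))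

theorem St.T_C (h : St L G0 t) (X : SzD K L) : X.T t ≤ C{t} ⊓ C[X.Z] :=
  sup_le (zpowers_le.2 ⟨self_mem_C1 t, h.tZ X⟩)
    (le_inf (fun x hx => mem_C1.2 (mem_C.1 h.tC x (X.S_le hx))) X.S_CZ)

theorem St.sq_T (h : St L G0 t) (X : SzD K L) (a b : F) :
    t * X.u a b * (t * X.u a b) = X.z (K.nm a) := by
  rw [mul_assoc, ← mul_assoc (X.u a b), h.tu, ← mul_assoc, ← mul_assoc, h.tt, one_mul, X.u_sq]

theorem St.inv_T (h : St L G0 t) (X : SzD K L) (hg : g ∈ X.T t) (h2 : g * g = 1) :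
    ∃ b, g = X.z b ∨ g = t * X.z b := by
  obtain ⟨a, b, rfl | rfl⟩ := (h.mem_T X).1 hg
  · rw [X.u_sq, X.z_eq_one, K.nm_eq_zero] at h2
    exact ⟨b, .inl (h2 ▸ rfl)⟩
  · rw [h.sq_T, X.z_eq_one, K.nm_eq_zero] at h2
    exact ⟨b, .inr (h2 ▸ rfl)⟩

theorem St.TI (h : St L G0 t) (X : SzD K L) (hg : g * t = t * g) {b : F} (hb : b ≠ 0)
    (hz : g * X.z b * g⁻¹ ∈ X.Z) : g ∈ N[X.S] := X.norm_S (h.Ct g hg) hb hz

theorem DD.sq (h : St L G0 t) (hs : DD t s) : s * s = 1 ∧ s ≠ 1 := by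
  obtain ⟨g, rfl⟩ := hs
  exact ⟨by rw [conj_mul, h.tt, mul_one, mul_inv_cancel], fun e => h.t1 (conj_eq_one_iff.1 e)⟩

theorem St.h_T (h : St L G0 t) (X : SzD K L) (k : Fˣ) : X.h k ∈ N[X.T t] :=
  mem_N_of_finite fun x hx => by
    obtain ⟨a, b, rfl | rfl⟩ := (h.mem_T X).1 hx
    · rw [X.h_u]; exact X.u_T t _ _
    · rw [← conj_mul, h.ht, X.h_u]; exact mul_mem (X.t_T t) (X.u_T t _ _)

theorem Lc.D_T (h : Lc X G0 t D) : D ≤ C[X.T t] :=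
  cents_sup (by rw [C_zpowers]; exact h.D_t) (cents_of_le h.D_L X.S_le)

/-- the `2`-elements of `C(L) ∩ C(t)` -/
theorem Lc.two_K (h : Lc X G0 t D) (h1 : g ∈ C[L]) (h2 : g * t = t * g) (h3 : PiElt {2} g) :
    g = 1 ∨ g = t := by
  rcases h.dec g h1 h2 with e | e
  · exact .inl (h3.eq_one (h.odd.piElt e))
  · refine .inr ?_
    have := (h3.mul (piElt_of_sq h.tt) h2).eq_one (h.odd.piElt e)
    rw [eq_inv_of_mul_eq_one_left this, h.ti]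

theorem Lc.CZt (h : Lc X G0 t D) (h1 : g ∈ C[X.Z]) (h2 : g * t = t * g) :
    ∃ s ∈ X.T t, ∃ d ∈ D, g = s * d := by
  obtain ⟨a, b, k, hk, rfl⟩ := X.autZ g (h.Ct g h2) fun b => mem_C'.1 h1 _ (X.z_mem_Z b)
  have e : k * t = t * k := by
    rw [mul_assoc, ← mul_assoc t, ← h.tu, mul_assoc] at h2
    exact mul_left_cancel h2
  rcases h.dec k hk e with e1 | e1
  · exact ⟨_, X.u_T t a b, k, e1, rfl⟩
  · refine ⟨X.u a b * t, mul_mem (X.u_T t a b) (X.t_T t), _, e1, ?_⟩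
    rw [e, mul_assoc, ← mul_assoc t, h.tt, one_mul]

theorem Lc.two_T (h : Lc X G0 t D) (h1 : g ∈ C[X.Z]) (h2 : g * t = t * g) (h3 : PiElt {2} g) :
    g ∈ X.T t := by
  obtain ⟨s, hs, d, hd, e⟩ := h.CZt h1 h2
  exact (piElt_decomp_unique h3 (piElt_one _) ((h.pi_T X).piElt hs) (h.odd.piElt hd) (by simp)
    (mem_C.1 (h.D_T hd) s hs) (by rw [mul_one, e])).1 ▸ hs

theorem Lc.odd_D (h : Lc X G0 t D) (h1 : g ∈ C[X.Z]) (h2 : g * t = t * g) (h3 : PiElt {2}ᶜ g) :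
    g ∈ D := by
  obtain ⟨s, hs, d, hd, e⟩ := h.CZt h1 h2
  exact (piElt_decomp_unique (piElt_one {2}) h3 ((h.pi_T X).piElt hs) (h.odd.piElt hd) (by simp)
    (mem_C.1 (h.D_T hd) s hs) (by rw [one_mul, e])).2 ▸ hd

theorem Lc.sylT (h : Lc X G0 t D) : Syl 2 C{t} (X.T t) :=
  syl_of_max Nat.prime_two (h.pi_T X) ((h.T_C X).trans inf_le_left) fun Q hQ h1 h2 => by
    have e : Q ⊓ L = X.S := X.syl_S.eq_of_le (hQ.inf_left L)
      (le_inf ((X.S_T t).trans h1) X.S_le) inf_le_right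
    intro g hg
    have c := mem_C1.1 (h2 hg)
    exact h.two_T (X.two_NS (e ▸ norm_inf (norm_self Q) (fun x hx => h.Ct x (mem_C1.1 (h2 hx))) hg)
      (hQ.piElt hg)) c (hQ.piElt hg)

theorem Lc.inZ (h : Lc X G0 t D) (h1 : g ∈ C[X.Z]) (h2 : g * g = 1) (h3 : g * t = t * g)
    (h4 : ¬ DD t g) : g ∈ X.Z := by
  obtain ⟨b, rfl | rfl⟩ := h.inv_T X (h.two_T h1 h3 (piElt_of_sq h2)) h2
  exacts [X.z_mem_Z b, absurd (h.dd b) h4]

theorem Lc.toT (h : Lc X G0 t D) (hs : DD t s) (hA : IsPi {2} A) (hC : A ≤ C{s}) :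
    ∃ g, s = g * t * g⁻¹ ∧ ∀ a ∈ A, g⁻¹ * a * g ∈ X.T t := by
  obtain ⟨g, rfl⟩ := hs
  obtain ⟨c, hc, e2⟩ := Sylow_Jsub Nat.prime_two h.sylT (hA.cj g⁻¹) fun x hx => by
      obtain ⟨a, ha, rfl⟩ := mem_cj'.1 hx
      rw [mem_C1]
      calc _ = g⁻¹ * (a * (g * t * g⁻¹)) * g := by group
        _ = _ := by rw [mem_C1.1 (hC ha)]; group
  refine ⟨g * c⁻¹, ?_, fun a ha => e2 ?_⟩
  · rw [mul_assoc g c⁻¹, mem_C1.1 (inv_mem hc)]; group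
  · convert conj_mem_cj c (conj_mem_cj g⁻¹ ha) using 1
    group

theorem Lc.NZ_of (h : Lc X G0 t D) (h1 : g * t * g⁻¹ ∈ C[X.Z])
    (h2 : ∀ b, g⁻¹ * X.z b * g ∈ C[X.Z]) : g ∈ N[X.Z] := by
  refine inv_mem_iff.1 (mem_N_of_finite ?_)
  rintro _ ⟨b, rfl⟩
  refine h.inZ (by simpa using h2 b) (by rw [conj_mul, X.z_sq]; simp) ?_ fun e => h.zn b e.of_conj
  calc _ = g⁻¹ * (X.z b * (g * t * g⁻¹)) * g := by group
    _ = _ := by rw [mem_C.1 h1 _ (X.z_mem_Z b)]; group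

theorem Lc.NP_NZ (h : Lc X G0 t D) (h1 : X.T t ≤ P) (h2 : P ≤ C[X.Z]) : N[P] ≤ N[X.Z] :=
  fun g hg => h.NZ_of (h2 (conj_mem hg (h1 (X.t_T t)))) fun b => h2 (conj_mem' hg (h1 (X.z_T t b)))

theorem Lc.F2 (h : Lc X G0 t D) (hs : DD t s) (hz : s ∈ C[X.Z]) :
    ∃ g ∈ N[X.Z], s = g * t * g⁻¹ := by
  obtain ⟨g, rfl, k⟩ := h.toT hs (X.pi_S.of_le X.Z_le_S) (mem_C_iff_le_C1.1 hz)
  exact ⟨g, h.NZ_of hz fun b => (h.T_C X (k _ (X.z_mem_Z b))).2, rfl⟩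

/-- a self-centralising involution of a `2`-group -/
theorem two_cent (hP : IsPi {2} P) (ht : t ∈ P) (h1 : t ≠ 1)
    (h : ∀ x ∈ P, x * t = t * x → x = 1 ∨ x = t) (hg : g ∈ P) : g = 1 ∨ g = t := by
  obtain ⟨c, hc, c1⟩ := exists_ne_one
    ((hP.nil Nat.prime_two).inf_C_ne_bot ⟨le_rfl, norm_self P⟩ (ne_bot_of_mem ht h1))
  obtain rfl := (h c hc.1 (mem_C'.1 hc.2 t ht)).resolve_left c1
  exact h g hg (mem_C.1 hc.2 g hg)

theorem Lc.fix_h (h : Lc X G0 t D) (hP : IsPi {2} P) (ht : t ∈ P) (hg : g ∈ P) {k : Fˣ} (hk : k ≠ 1)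
    (e : g * X.h k = X.h k * g) : g = 1 ∨ g = t :=
  two_cent (hP.inf_left C{X.h k}) ⟨ht, mem_C1.2 (mem_C'.1 h.tC _ (X.h_mem k))⟩ h.t1
    (fun x hx c => h.two_K (X.two_h (h.Ct x c) (hP.piElt hx.1) hk (mem_C1.1 hx.2)) c (hP.piElt hx.1))
    ⟨hg, mem_C1.2 e⟩

theorem le_sup_of_odd (hR : Syl 2 C R) (h5 : ∀ g ∈ C, PiElt {2}ᶜ g → g ∈ D) : C ≤ R ⊔ D :=
  le_of_syl_le fun p hp _ => by
    by_cases h2 : p = 2
    · exact ⟨R, h2 ▸ hR, le_sup_left⟩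
    obtain ⟨P, hP⟩ := Sylow_exists hp C
    exact ⟨P, hP, fun x hx => mem_sup_right (h5 x (hP.le hx) ((hP.pi.compl_of_ne h2).piElt hx))⟩

theorem Lc.lift (h : Lc X G0 t D) (h1 : t ∈ C) (h2 : D ≤ C) (h3 : C ≤ C[X.Z])
    (h4 : ∀ k, X.h k ∈ N[C]) (h5 : ∀ g ∈ C, PiElt {2}ᶜ g → g ∈ D) :
    ∃ R, IsPi {2} R ∧ R ≤ C ∧ R ≤ C[D] ∧ (∀ g ∈ C, PiElt {2} g → g ∈ R) ∧ N[C] ≤ N[R] ∧
      ∀ g ∈ C, ∃ r ∈ R, ∃ d ∈ D, g = r * d := by
  have nD : N[C] ≤ N[D] := fun g hg => mem_N_of_finite fun d hd =>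
    h5 _ (conj_mem hg (h2 hd)) ((h.odd.piElt hd).conj g)
  have CD : C ≤ N[D] := (norm_self C).trans nD
  obtain ⟨k, hk⟩ := K.exists_unit
  have fD : X.h k ∈ C[D] := cents_symm h.D_L (X.h_mem k)
  obtain ⟨R0, hR0, tR⟩ := Sylow_superset Nat.prime_two (piElt_of_sq h.tt).isPi (zpowers_le.2 h1)
  replace tR := zpowers_le.1 tR
  have CR : ∀ g ∈ C, ∃ d ∈ D, ∃ r ∈ R0, g = d * r := fun g hg =>
    (mem_sup_of_norm (hR0.le.trans CD)).1 (sup_comm R0 D ▸ le_sup_of_odd hR0 h5 hg)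
  obtain ⟨c, hc, e⟩ := Sylow_trans Nat.prime_two hR0 (hR0.cj_mem_N (h4 k))
  obtain ⟨d, hd, r, hr, rfl⟩ := CR c hc
  have hn : d⁻¹ * X.h k ∈ N[R0] := mem_N_of_finite fun x hx => by
    have := conj_mem_cj (X.h k) hx
    rw [e] at this
    obtain ⟨y, hy, e1⟩ := mem_cj'.1 this
    rw [show d⁻¹ * X.h k * x * (d⁻¹ * X.h k)⁻¹ = d⁻¹ * (X.h k * x * (X.h k)⁻¹) * d by group, e1,
      show d⁻¹ * (d * r * y * (d * r)⁻¹) * d = r * y * r⁻¹ by group]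
    exact conj_mem (norm_self _ hr) hy
  have on : PiElt {2}ᶜ (d⁻¹ * X.h k) :=
    (h.odd.piElt (inv_mem hd)).mul (X.odd_h k) (mem_C.1 fD _ (inv_mem hd))
  have nt : d⁻¹ * X.h k ∈ C{t} :=
    mul_mem (inv_mem (h.D_t hd)) (mem_C1.2 (mem_C.1 h.tC _ (X.h_mem k)))
  have fix : ∀ x ∈ R0 ⊓ C{d⁻¹ * X.h k}, x = 1 ∨ x = t := fun x hx =>
    two_cent (hR0.pi.inf_left _) ⟨tR, mem_C1_comm.1 nt⟩ h.t1 (fun y hy c => by
      have m := h.two_T (h3 (hR0.le hy.1)) c (hR0.pi.piElt hy.1)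
      refine h.fix_h (h.pi_T X) (X.t_T t) m hk ?_
      have := mem_C1.1 hy.2
      rw [← mul_assoc, mem_C.1 (h.D_T (inv_mem hd)) y m, mul_assoc, mul_assoc] at this
      exact mul_left_cancel this) hx
  have nJ : N[D] ≤ N[C[D] ⊔ D] := norm_sup (N_le_NC D) le_rfl
  have nn : d⁻¹ * X.h k ∈ C[D] ⊔ D := mul_mem (mem_sup_right (inv_mem hd)) (mem_sup_left fD)
  have pr := H26.coprime_isProd_of_comm_le (V := R0 ⊓ (C[D] ⊔ D)) (X := R0)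
    (A := zpowers (d⁻¹ * X.h k))
    (zpowers_le.2 (norm_inf (X := zpowers _) (zpowers_le.2 hn) (zpowers_le.2 (norm_self _ nn))
      (mem_zpowers _)))
    ((hR0.pi.inf_left _).coprime on.isPi) (.inr (abl_zpowers _).sol) inf_le_left
    (le_inf (commutator_le.2 fun a ha b hb => by
        rw [commutatorElement_def, mul_assoc, mul_assoc, ← mul_assoc b]
        exact mul_mem ha (conj_mem (zpowers_le.2 hn hb) (inv_mem ha)))
      (commutator_le.2 fun a ha b hb => mul_mem (conj_mem (nJ (CD (hR0.le ha))) (zpowers_le.2 nn hb))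
        (inv_mem (zpowers_le.2 nn hb))))
  have RJ : R0 ≤ C[D] ⊔ D := fun x hx => by
    obtain ⟨a, ha, b, hb, rfl⟩ := pr.3 x hx
    rw [C_zpowers] at hb
    refine mul_mem ha.2 ?_
    rcases fix b hb with rfl | rfl
    exacts [one_mem _, mem_sup_left (mem_C_iff_le_C1.2 h.D_t)]
  obtain ⟨R, hR⟩ := Sylow_exists Nat.prime_two (C ⊓ C[D])
  have RD : R ≤ C[D] := hR.le.trans inf_le_right
  have dec : ∀ g ∈ C, ∃ r ∈ R, ∃ d ∈ D, g = r * d := fun g hg => by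
    obtain ⟨d1, hd1, r, hr, rfl⟩ := CR g hg
    obtain ⟨w, hw, d2, hd2, rfl⟩ := (mem_sup_of_norm' (C_le_N D)).1 (RJ hr)
    obtain ⟨r', hr', d3, hd3, rfl⟩ := (mem_sup_of_norm' (norm_of_cent RD)).1
      (le_sup_of_odd hR (fun g hg => h5 g hg.1)
        ⟨(mul_mem_cancel_right (h2 hd2)).1 (hR0.le hr), hw⟩)
    exact ⟨r', hr', d1 * d3 * d2, mul_mem (mul_mem hd1 hd3) hd2, by
      rw [← mul_assoc, ← mul_assoc, mem_C.1 (RD hr') d1 hd1]; group⟩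
  have two : ∀ g ∈ C, PiElt {2} g → g ∈ R := fun g hg h2 => by
    obtain ⟨r, hr, d, hd, e⟩ := dec g hg
    exact (piElt_decomp_unique h2 (piElt_one _) (hR.pi.piElt hr) (h.odd.piElt hd) (by simp)
      (mem_C'.1 (RD hr) d hd) (by rw [mul_one, e])).1 ▸ hr
  exact ⟨R, hR.pi, hR.le.trans inf_le_left, RD, two, fun g hg => mem_N_of_finite fun r hr =>
    two _ (conj_mem hg (hR.le hr).1) ((hR.pi.piElt hr).conj g), dec⟩

/-- a `2`-subgroup that is not Sylow is normalised by a new `2`-element -/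
theorem syl_of_two (hP : IsPi {2} P)
    (h : ∀ R, IsPi {2} R → P ≤ R → ∀ g ∈ R, g ∈ N[P] → g ∈ P) : Syl 2 ⊤ P := by
  by_contra hn
  obtain ⟨R, h3, h4, -, h5⟩ := exists_lt_norm_of_not_syl Nat.prime_two hP le_top hn
  obtain ⟨g, g1, g2⟩ := SetLike.exists_of_lt h4
  exact g2 (h R h3 h4.le g g1 (h5 g1))

end H2.SZ
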