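import Mathlib
import Cfsg.Agent.H2.ZDefs
import Cfsg.Agent.H2.ZL
import Cfsg.Agent.H2.CMain
import Cfsg.Agent.H2.CEnd
import Cfsg.Agent.H2.CE1
import Cfsg.Agent.H3.Transfer

/-! # Standard subgroup `Sz(q)`: the identifications -/

set_option autoImplicit false
set_option linter.unusedVariables false
set_option linter.unusedSectionVars false

namespace H2.SZ

open Cfsg H24 Subgroup
open H2.C2 (Cl2)

universe u

variable {G : Type u} [Group G] [Finite G] {F : Type*} [Field F] [Fintype F] {K : FD F}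
  {L G0 D P P0 Q R A C T E : Subgroup G} {t g s φ : G} {X : SzD K L} {c : F}

theorem charP_of_card {F : Type} [Field F] [Fintype F] {n : ℕ} (h : Fintype.card F = 2 ^ n) :
    CharP F 2 := by
  obtain ⟨p, hp⟩ := CharP.exists F
  obtain ⟨k, hpp, hn⟩ := FiniteField.card F p
  have : p ∣ 2 ^ n := by
    rw [← h, hn]
    exact dvd_pow_self p k.ne_zero
  exact (Nat.prime_dvd_prime_iff_eq hpp Nat.prime_two).mp (hpp.dvd_of_dvd_pow this) ▸ hp

theorem lie_of_se {H : Type*} [Group H] [Finite H] [IsSimpleGroup H] {M : Subgroup H}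
    (hM : IsStronglyEmbedded M) : IsLieTypeChar 2 H := by
  rcases (H26.BR.isBender_of_se hM).1 with ⟨F, _, _, n, h1, h2, e⟩ | e | ⟨F, _, _, n, h1, h2, e⟩
  · exact .inl ⟨F, _, _, charP_of_card h2, 2, le_rfl, fun _ => by
      rw [h2]; exact Nat.pow_le_pow_right (n := 2) two_pos h1, e⟩
  · exact .inr (.inr (.inr (.inr (.inr (.inr (.inr (.inr (.inl ⟨rfl, e⟩))))))))
  · refine .inr (.inr (.inl ⟨F, _, _, charP_of_card (h2.trans (pow_mul 2 n 2).symm), 3, 2 ^ n, h2,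
      le_rfl, fun e => ?_, e⟩))
    have := Nat.pow_le_pow_right (n := 2) two_pos h1
    omega

theorem St.se (h : St L G0 t) {M : Subgroup G0} (hM : IsStronglyEmbedded M) :
    IsLieTypeChar 2 G0 :=
  have := h.simple
  lie_of_se hM

theorem abl_of_subgroupOf (h1 : R ≤ G0) (h : Abl (R.subgroupOf G0)) : Abl R := by
  rw [← map_subgroupOf' h1]; exact h.map _

/-- an abelian strongly closed subgroup meeting `G0` -/
theorem St.gold (h : St L G0 t) (hP : Syl 2 ⊤ P) (hA : Abl A) (hsc : IsStronglyClosed A P)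
    (h0 : A ⊓ G0 ≠ ⊥) (h1 : R ≤ G0) (h2 : IsPi {2} R) (h3 : ¬ Abl R) :
    ∃ M : Subgroup G0, IsStronglyEmbedded M := by
  have := h.simple
  have := h.nrm
  have s0 : Syl 2 G0 (P ⊓ G0) := hP.inf_nml ⟨le_top, norm_of_normal _ _⟩
  have s1 := s0.subgroupOf le_rfl
  rw [subgroupOf_self] at s1
  refine ((H2.C2.SCl.of_syl (A := A.subgroupOf G0) s1 (fun x hx => mem_inf.2 ⟨hsc.1 hx, x.2⟩)
    fun v hv g _ hg => hsc.2 v hv g hg.1).gold (fun e => h0 (disjoint_iff.1 (subgroupOf_eq_bot.1 e)))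
    (hA.subgroupOf G0)).resolve_left fun k => h3 ?_
  exact abl_of_subgroupOf h1 (k _ (isPi_subgroupOf h2 G0))

theorem Lc.E3 (h : Lc X G0 t D) (hP : Syl 2 ⊤ P) (hsc : IsStronglyClosed X.Z P) : Goal G0 t := by
  have m := h.le (X.z_mem 1)
  obtain ⟨M, hM⟩ := h.gold hP X.abl_Z hsc (ne_bot_of_mem (mem_inf.2 ⟨X.z_mem_Z 1, m⟩) X.z1)
    (X.S_le.trans h.le) X.pi_S X.not_abl_S
  refine ⟨h.se hM, fun ht => ?_⟩
  obtain ⟨g, e⟩ := H26.BR.conj_of_se hM (u := ⟨t, ht⟩) (v := ⟨X.z 1, m⟩)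
    (by rw [← orderOf_coe]; exact orderOf_eq_prime (by rw [sq, h.tt]) h.t1)
    (by rw [← orderOf_coe]; exact orderOf_eq_prime (by rw [sq, X.z_sq]) X.z1)
  exact h.zn 1 ⟨g, (congrArg Subtype.val e).symm⟩

/-- a simple group with large Sylow `2`-subgroups of class two -/
theorem lie_of_cl2 {H : Type u} [Group H] [Finite H] [IsSimpleGroup H] {P : Subgroup H}
    (hP : Syl 2 ⊤ P) (h2 : Cl2 P) (h3 : ¬ Abl P) (h4 : ♯P ≠ 8) : IsLieTypeChar 2 H := by
  rcases H2.C2.main (H2.C2.scl_syl hP) h2 h3 with ⟨M, hM⟩ | ⟨W, X, R, R', q, ha, rfl⟩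
  · exact lie_of_se hM
  rcases ha.h.two_cases with rfl | h5
  · exact absurd (by rw [ha.h.cardE, ha.h.R_bot rfl]; simp) h4
  by_cases hR : H2.C2.Rt W = ⊥
  · obtain ⟨F, _, _, -, c, e⟩ := (ha.geo h5).end3 hR
    exact .inl ⟨F, _, inferInstance, c, 3, by norm_num, fun e => absurd e (by norm_num), e⟩
  · obtain ⟨F, _, _, hF, c, e⟩ := (ha.geo h5).end4 hR
    exact .inr (.inl ⟨F, _, _, c, 2, le_rfl, fun _ => by omega, e⟩)

theorem Lc.not_mem (h : Lc X G0 t D) (hP : Syl 2 ⊤ P) (ht : t ∈ P)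
    (h1 : ∀ p ∈ P, p ∈ P0 ∨ p * t ∈ P0) (h2 : ∀ s ∈ P0, ¬ DD t s) : t ∉ G0 := by
  have h4 := fun e => h2 _ e (DD.refl t)
  rcases H3.thompson_transfer P P0 (by
    have := hP.not_dvd Nat.prime_two
    rwa [relIndex_top_right, ← even_iff_two_dvd, Nat.not_even_iff_odd] at this)
    (relIndex_eq_two_iff.2 ⟨_, ht, fun b hb => by
      rcases h1 b hb with e | e
      · exact .inr ⟨e, by rwa [mul_mem_cancel_left e]⟩
      · exact .inl ⟨e, fun e' => h4 (by rwa [mul_mem_cancel_left e'] at e)⟩⟩) _ h.tt ht h4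
    with ⟨M, n, e, k⟩ | ⟨g, hg⟩
  · have := h.simple
    rcases (n.subgroupOf G0).eq_bot_or_eq_top with e1 | e1
    · have m : X.u 1 0 * X.u 1 0 ∈ M := (mul_mem_iff_of_index_two e).2 Iff.rfl
      rw [X.u_sq, K.nm_one] at m
      have : (⟨X.z 1, h.le (X.z_mem 1)⟩ : G0) ∈ M.subgroupOf G0 := m
      rw [e1, mem_bot] at this
      exact absurd (congrArg Subtype.val this) X.z1
    · exact fun h0 => k (subgroupOf_eq_top.1 e1 h0)
  · exact absurd ((DD.refl t).conj g) (h2 _ hg)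

theorem Lc.le_G0 (h : Lc X G0 t D) (hP : IsPi {2} P) (ht : t ∈ P) (h0 : P0 ≤ P) (h2 : t ∉ P0)
    (h4 : ∀ k, X.h k ∈ N[P0]) : P0 ≤ G0 := by
  obtain ⟨k, hk⟩ := K.exists_unit
  have := h.nrm
  let θ : P0 → P0 := fun x => ⟨x * (X.h k * (x : G)⁻¹ * (X.h k)⁻¹),
    mul_mem x.2 (conj_mem (h4 k) (inv_mem x.2))⟩
  have inj : Function.Injective θ := fun x y e => by
    have e1 : (x : G) * (X.h k * (x : G)⁻¹ * (X.h k)⁻¹) = y * (X.h k * (y : G)⁻¹ * (X.h k)⁻¹) :=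
      congrArg Subtype.val e
    have m := mul_mem (inv_mem y.2) x.2
    rcases h.fix_h hP ht (h0 m) hk (by
      calc _ = (y : G)⁻¹ * (x * (X.h k * (x : G)⁻¹ * (X.h k)⁻¹)) * X.h k * x := by group
        _ = _ := by rw [e1]; group) with e2 | e2
    · exact Subtype.ext (inv_mul_eq_one.1 e2).symm
    · exact absurd (e2 ▸ m) h2
  intro y hy
  obtain ⟨x, e⟩ := Finite.injective_iff_surjective.1 inj ⟨y, hy⟩
  have e1 : (x : G) * (X.h k * (x : G)⁻¹ * (X.h k)⁻¹) = y := congrArg Subtype.val e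
  rw [← e1, ← mul_assoc, ← mul_assoc]
  exact mul_mem (this.conj_mem _ (h.le (X.h_mem k)) _) (inv_mem (h.le (X.h_mem k)))

theorem Lc.E2 (h : Lc X G0 t D) (hP : Syl 2 ⊤ P) (ht : t ∈ P) (h0 : P0 ≤ P)
    (h1 : ∀ p ∈ P, p ∈ P0 ∨ p * t ∈ P0) (h2 : ∀ s ∈ P0, ¬ DD t s) (h3 : Cl2 P0)
    (h4 : ∀ k, X.h k ∈ N[P0]) : Goal G0 t := by
  have hn := h.not_mem hP ht h1 h2
  have hle := h.le_G0 hP.pi ht h0 (fun e => h2 _ e (DD.refl t)) h4
  refine ⟨?_, hn⟩
  have := h.simple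
  have := h.nrm
  have s0 : Syl 2 G0 (P ⊓ G0) := hP.inf_nml ⟨le_top, norm_of_normal _ _⟩
  rw [show P ⊓ G0 = P0 from le_antisymm (fun x hx => (h1 x hx.1).resolve_right fun e =>
    hn ((mul_mem_cancel_left hx.2).1 (hle e))) (le_inf h0 hle)] at s0
  have s1 := s0.subgroupOf le_rfl
  rw [subgroupOf_self] at s1
  obtain ⟨g, -, e⟩ := Sylow_subJ Nat.prime_two s0 X.pi_S (X.S_le.trans h.le)
  refine lie_of_cl2 s1 (commutator_le.2 fun a ha b hb => mem_C.2 fun c hc => Subtype.ext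
    (mem_C.1 (h3 (commutator_mem_commutator ha hb)) c hc))
    (fun k => X.not_abl_S (((abl_of_subgroupOf hle k).cj g).of_le e)) ?_
  have c := card_le_of_le e
  have := K.eight_le
  rw [card_cj, X.card_S] at c
  rw [card_subgroupOf_of_le hle]
  nlinarith

end H2.SZ
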