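import Mathlib
import Cfsg.Agent.H2.ZDefs
import Cfsg.Agent.H2.ZA3
import Cfsg.Agent.H2.ZE

set_option autoImplicit false
set_option linter.unusedVariables false
set_option linter.unusedSectionVars false

namespace H2.SZ

open Cfsg H24 Subgroup
open H2.C2 (Cl2)

universe u

variable {G : Type u} [Group G] [Finite G] {F : Type*} [Field F] [Fintype F] {K : FD F}
  {L G0 D P P0 Q R A C T E : Subgroup G} {t g s φ : G} {X : SzD K L} {c : F}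

/-! ### ZS -/

section
variable (Y : QD X t D) {a b k q u : G}

theorem QD.u_mem (a b : F) : X.u a b ∈ Y.Q :=
  Y.S_le (X.u_mem_S a b)

theorem QD.z_mem (b : F) : X.z b ∈ Y.Q :=
  Y.u_mem 0 b

theorem QD.T_le : X.T t ≤ Y.Q :=
  sup_le (zpowers_le.2 Y.t_mem) Y.S_le

theorem QD.zq (hq : q ∈ Y.Q) (b : F) : X.z b * q = q * X.z b :=
  mem_C.1 (Y.zc hq) _ (X.z_mem_Z b)

theorem QD.inv_eq (hg : g ∈ Y.Q) : g⁻¹ = g * X.z (K.qf Y.c1 Y.c2 (Y.π g)) := by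
  rw [inv_eq_iff_mul_eq_one, ← mul_assoc, Y.sq g hg, X.z_sq]

theorem QD.π_mz (hg : g ∈ Y.Q) (b : F) : Y.π (g * X.z b) = Y.π g := by
  rw [Y.π_mul g hg _ (Y.z_mem b), Y.π_z, add_zero]

theorem QD.cm (hg : g ∈ Y.Q) (hk : k ∈ Y.Q) :
    g * k * g⁻¹ = k * X.z (K.bf Y.c2 (Y.π g) (Y.π k)) := by
  have := Y.sq _ (mul_mem hk hg)
  rw [Y.π_mul k hk g hg, K.qf_add, ← X.z_mul, ← X.z_mul, ← Y.sq k hk, ← Y.sq g hg, mul_assoc (k * k),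
    ← Y.zq (mul_mem hg hg), K.bf_comm] at this
  rw [← mul_left_inj (g * g), ← mul_right_inj k]
  convert this using 1 <;> group

theorem QD.comm_iff (hg : g ∈ Y.Q) (hk : k ∈ Y.Q) :
    g * k = k * g ↔ K.bf Y.c2 (Y.π g) (Y.π k) = 0 := by
  rw [← mul_inv_eq_iff_eq_mul, Y.cm hg hk, mul_eq_left, X.z_eq_one]

theorem FD.bf_t (K : FD F) (c2 : F) (r : F × F × F) : K.bf c2 r (1, 0, 0) = r.2.2 := by
  simp [FD.bf, K.B_zero_right]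

theorem QD.cm_t (hg : g ∈ Y.Q) : g * t * g⁻¹ = t * X.z (Y.π g).2.2 := by
  rw [Y.cm hg Y.t_mem, Y.π_t, K.bf_t]

theorem QD.π_conj (hg : g ∈ Y.Q) (hk : k ∈ Y.Q) : Y.π (g * k * g⁻¹) = Y.π k := by
  rw [Y.cm hg hk, Y.π_mz hk]

theorem QD.sq_iff (hg : g ∈ Y.Q) : g * g = 1 ↔ K.qf Y.c1 Y.c2 (Y.π g) = 0 := by
  rw [Y.sq g hg, X.z_eq_one]

theorem QD.eqz (hg : g ∈ Y.Q) (hk : k ∈ Y.Q) (e : Y.π g = Y.π k) : ∃ b, g = k * X.z b := by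
  obtain ⟨b, e1⟩ := Y.π_ker _ (mul_mem hk hg) (by rw [Y.π_mul k hk g hg, e, K.add_self3])
  exact ⟨_, by rw [eq_inv_mul_of_mul_eq e1, Y.inv_eq hk, mul_assoc, X.z_mul]⟩

theorem QD.Q4 (hg : g ∈ Y.Q) : g * g * (g * g) = 1 := by
  rw [Y.sq g hg, X.z_sq]

theorem QD.pi_Q : IsPi {2} Y.Q :=
  isPi_iff_piElt.2 fun g hg => piElt_of_pow_eq_one (piNat_self_pow Nat.prime_two 2) (by
    rw [show g ^ 2 ^ 2 = g * g * (g * g) by rw [← pow_two, ← pow_two, ← pow_mul]; rfl, Y.Q4 hg])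

theorem QD.surj {r : F × F × F} (hr : WD r) : ∃ g ∈ Y.Q, Y.π g = r := by
  obtain ⟨v, x, y⟩ := r
  obtain ⟨w, hw, e⟩ := Y.π_surj y
  have m := mul_mem (Y.u_mem x 0) hw
  have e1 := Y.π_mul _ (Y.u_mem x 0) _ hw
  rw [e, Y.π_u] at e1
  obtain rfl | rfl : v = 0 ∨ v = 1 := hr
  · exact ⟨_, m, by simp [e1]⟩
  · exact ⟨_, mul_mem Y.t_mem m, by rw [Y.π_mul _ Y.t_mem _ m, e1, Y.π_t]; simp⟩

theorem QD.NQ_NZ : N[Y.Q] ≤ N[X.Z] :=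
  fun g hg => mem_N_of_finite <| by
    rintro _ ⟨b, rfl⟩
    obtain ⟨a, rfl⟩ := K.nm_surj b
    rw [← X.u_sq a 0, ← conj_mul, Y.sq _ (conj_mem hg (Y.u_mem a 0))]
    exact X.z_mem_Z _

theorem QD.π_congr (hg : g ∈ N[Y.Q]) (ha : a ∈ Y.Q) (hb : b ∈ Y.Q) (e : Y.π a = Y.π b) :
    Y.π (g * a * g⁻¹) = Y.π (g * b * g⁻¹) := by
  obtain ⟨c, rfl⟩ := Y.eqz ha hb e
  obtain ⟨d, e⟩ := conj_mem (Y.NQ_NZ hg) (X.z_mem_Z c)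
  rw [← conj_mul, e, Y.π_mz (conj_mem hg hb)]

theorem QD.exists_au (hg : g ∈ N[Y.Q]) : ∃ φ γ, Au K Y.c1 Y.c2 φ γ ∧
    (∀ a ∈ Y.Q, Y.π (g * a * g⁻¹) = φ (Y.π a)) ∧ ∀ b, g * X.z b * g⁻¹ = X.z (γ b) := by
  classical
  obtain ⟨γ, γi, hγ⟩ := X.exists_γ (Y.NQ_NZ hg)
  choose! w h1 h2 using fun r (hr : WD r) => Y.surj hr
  have k : ∀ a ∈ Y.Q, Y.π (g * a * g⁻¹) = Y.π (g * w (Y.π a) * g⁻¹) := fun a ha =>
    Y.π_congr hg ha (h1 _ (Y.π_wd a ha)) (h2 _ (Y.π_wd a ha)).symm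
  refine ⟨fun r => Y.π (g * w r * g⁻¹), γ, ⟨fun r hr => Y.π_wd _ (conj_mem hg (h1 r hr)),
    fun r s hr hs => ?_, fun r hr e => ?_, γ.map_add, fun a e => γi (e.trans γ.map_zero.symm),
    fun r hr => X.z_inj ?_⟩, k, hγ⟩
  · have := k _ (mul_mem (h1 r hr) (h1 s hs))
    rw [Y.π_mul _ (h1 r hr) _ (h1 s hs), h2 r hr, h2 s hs, ← conj_mul,
      Y.π_mul _ (conj_mem hg (h1 r hr)) _ (conj_mem hg (h1 s hs))] at this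
    exact this.symm
  · obtain ⟨b, e1⟩ := (mem_N.1 (Y.NQ_NZ hg) _).2 (Y.π_ker _ (conj_mem hg (h1 r hr)) e)
    rw [← h2 r hr, e1, Y.π_z]
  · rw [← Y.sq _ (conj_mem hg (h1 r hr)), conj_mul, Y.sq _ (h1 r hr), h2 r hr, hγ]

theorem QD.π_U0 (h : g ∈ Y.U0) : Y.π g = (0, 0, (Y.π g).2.2) :=
  Prod.ext h.2.1 (Prod.ext h.2.2 rfl)

theorem QD.exists_U0 (y : F) : ∃ u ∈ Y.U0, Y.π u = (0, 0, y) := by
  obtain ⟨u, hu, e⟩ := Y.π_surj y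
  exact ⟨u, ⟨hu, by rw [e], by rw [e]⟩, e⟩

theorem QD.u_Q0 (a b : F) : X.u a b ∈ Y.Q0 :=
  ⟨Y.u_mem a b, by rw [Y.π_u]⟩

theorem QD.Z_U0 : X.Z ≤ Y.U0 := by
  rintro _ ⟨b, rfl⟩
  exact ⟨Y.z_mem b, by rw [Y.π_z]; exact ⟨rfl, rfl⟩⟩

theorem QD.U0_Q0 : Y.U0 ≤ Y.Q0 :=
  fun _ h => ⟨h.1, h.2.1⟩

theorem QD.Q0_Q : Y.Q0 ≤ Y.Q :=
  fun _ h => h.1

theorem QD.h_Q0 (k : Fˣ) : X.h k ∈ N[Y.Q0] :=
  mem_N_of_finite fun q hq => ⟨conj_mem (Y.h_N k) hq.1, by rw [Y.π_h k q hq.1]; exact hq.2⟩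

theorem QD.h_U0 (k : Fˣ) : X.h k ∈ N[Y.U0] :=
  mem_N_of_finite fun q hq => ⟨conj_mem (Y.h_N k) hq.1, by
    rw [Y.π_h k q hq.1]; exact ⟨hq.2.1, by simp [hq.2.2]⟩⟩

theorem QD.Q_cases (hg : g ∈ Y.Q) : g ∈ Y.Q0 ∨ g * t ∈ Y.Q0 :=
  (Y.π_wd g hg).imp (fun e => ⟨hg, e⟩) fun e => ⟨mul_mem hg Y.t_mem, by
    rw [Y.π_mul _ hg _ Y.t_mem, Y.π_t, Prod.fst_add, e]; exact K.add_self 1⟩

theorem QD.Q0_dec (hg : g ∈ Y.Q0) : ∃ u ∈ Y.U0, g = X.u (Y.π g).2.1 0 * u :=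
  ⟨(X.u (Y.π g).2.1 0)⁻¹ * g, ⟨mul_mem (inv_mem (Y.u_mem _ _)) hg.1, by
    rw [Y.π_mul _ (inv_mem (Y.u_mem _ _)) _ hg.1, Y.π_inv (Y.u_mem _ _), Y.π_u]
    simp [hg.2, K.add_self]⟩, (mul_inv_cancel_left _ _).symm⟩

theorem Lc.CQ2 (h : Lc X G0 t D) (hg : g ∈ C[X.Z]) (h2 : PiElt {2} g) {b : F}
    (e : g * t * g⁻¹ = t * X.z b) : g ∈ Y.Q := by
  obtain ⟨q, hq, d, hd, e1⟩ := Y.CQ g hg b e
  exact (piElt_decomp_unique h2 (piElt_one _) (Y.pi_Q.piElt hq) (h.odd.piElt hd) (by simp)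
    (mem_C'.1 (Y.Q_D hq) d hd) (by rw [mul_one, e1])).1 ▸ hq

theorem Lc.NQ_le (h : Lc X G0 t D) (hg : g ∈ N[X.Z]) (hq : q ∈ C[X.Z]) (h2 : PiElt {2} q) {b : F}
    (e : q * (g * t * g⁻¹) * q⁻¹ = g * t * g⁻¹ * X.z b) : g⁻¹ * q * g ∈ Y.Q := by
  obtain ⟨d, e1⟩ := conj_mem' hg (X.z_mem_Z b)
  refine h.CQ2 Y (conj_mem' (N_le_NC _ hg) hq) (by simpa using h2.conj g⁻¹) (b := d) ?_
  calc _ = g⁻¹ * (q * (g * t * g⁻¹) * q⁻¹) * g := by group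
    _ = _ := by rw [e, ← e1]; group

theorem Lc.NQ_of (h : Lc X G0 t D) (hg : g ∈ N[X.Z]) (m : g * t * g⁻¹ ∈ Y.Q) : g ∈ N[Y.Q] :=
  inv_mem_iff.1 (mem_N_of_finite fun q hq => by
    simpa using h.NQ_le Y hg (Y.zc hq) (Y.pi_Q.piElt hq) (Y.cm hq m))

theorem Lc.dd_Q (h : Lc X G0 t D) (hs : DD t s) (hq : s ∈ Y.Q) : (Y.π s).1 = 1 := by
  obtain ⟨g, hg, rfl⟩ := h.F2 hs (Y.zc hq)
  obtain ⟨φ, γ, au, e, -⟩ := Y.exists_au (h.NQ_of Y hg hq)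
  rw [e t Y.t_mem, Y.π_t]
  rcases au.step1 with e | e
  · rw [e]
  · exact e.2.2

theorem Lc.two_E (h : Lc X G0 t D) (hR : IsPi {2} R) (hQ : Y.Q ≤ R) (hg : g ∈ R) (hz : g ∈ N[X.Z])
    {b : F} (e : g * t * g⁻¹ = t * X.z b) : g ∈ Y.Q := by
  obtain ⟨q, hq, e1⟩ := Y.π_surj b
  have e2 := Y.cm_t hq
  rw [e1, ← e] at e2
  have c : q⁻¹ * g * t = t * (q⁻¹ * g) := by
    calc _ = q⁻¹ * (g * t * g⁻¹) * g := by group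
      _ = _ := by rw [← e2]; group
  have p := hR.piElt (mul_mem (inv_mem (hQ hq)) hg)
  have := Y.T_le (h.two_T (X.two_NS (h.TI X c one_ne_zero (conj_mem (mul_mem (inv_mem
    (C_le_N _ (Y.zc hq))) hz) (X.z_mem_Z 1))) p) c p)
  rwa [mul_mem_cancel_left (inv_mem hq)] at this

theorem Lc.cases (h : Lc X G0 t D) : Goal G0 t ∨ Cs Y G0 0 ∨ Cs Y G0 1 := by
  by_cases hs : Syl 2 ⊤ Y.Q
  · exact .inl (h.E2 hs Y.t_mem Y.Q0_Q (fun p => Y.Q_cases)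
      (fun s hs hd => zero_ne_one (hs.2.symm.trans (h.dd_Q Y hd hs.1)))
      (X.cl2_of_sq (Y.Q0_Q.trans Y.zc) fun p hp => ⟨_, Y.sq p hp.1⟩) Y.h_Q0)
  obtain ⟨R, h3, h4, -, h5⟩ := exists_lt_norm_of_not_syl Nat.prime_two Y.pi_Q le_top hs
  obtain ⟨g, g1, g2⟩ := SetLike.exists_of_lt h4
  obtain ⟨φ, γ, au, e, -⟩ := Y.exists_au (h5 g1)
  rcases au.step1 with e1 | ⟨e1, e2, -⟩
  · obtain ⟨b, e2⟩ := Y.eqz (conj_mem (h5 g1) Y.t_mem) Y.t_mem (by rw [e t Y.t_mem, Y.π_t, e1])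
    exact absurd (h.two_E Y h3 h4.le g1 (Y.NQ_NZ (h5 g1)) e2) g2
  · exact .inr (e2.imp (fun k => ⟨h, k, e1⟩) fun k => ⟨h, k, e1⟩)


variable {Y}

theorem Cs.bf_eq (h : Cs Y G0 c) (r s : F × F × F) :
    K.bf Y.c2 r s = K.B r.2.1 s.2.1 + r.1 * s.2.2 + s.1 * r.2.2 := by
  simp [FD.bf, h.c2]

theorem Cs.qf_eq (h : Cs Y G0 c) (r : F × F × F) :
    K.qf Y.c1 Y.c2 r = K.nm r.2.1 + (c + r.1) * r.2.2 := by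
  simp [FD.qf, h.c1, h.c2]

theorem Cs.cU (h : Cs Y G0 c) (hq : q ∈ Y.Q) (hu : u ∈ Y.U0) :
    q * u * q⁻¹ = u * X.z ((Y.π q).1 * (Y.π u).2.2) := by
  rw [Y.cm hq hu.1, h.bf_eq, hu.2.1, hu.2.2, K.B_zero_right, zero_add, zero_mul, add_zero]

theorem Cs.Q0_eq (h : Cs Y G0 c) : Y.Q0 = Y.Q ⊓ C[Y.U0] := by
  ext q
  refine ⟨fun hq => mem_inf.2 ⟨hq.1, mem_C'.2 fun u hu => ?_⟩, fun hq => ⟨hq.1, ?_⟩⟩
  · rw [← mul_inv_eq_iff_eq_mul, h.cU hq.1 hu, hq.2, zero_mul, X.z_zero, mul_one]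
  · obtain ⟨u, hu, e⟩ := Y.exists_U0 1
    have := h.cU hq.1 hu
    rwa [conj_eq_of_mem_C hq.2 hu, left_eq_mul, X.z_eq_one, e, mul_one] at this

theorem Cs.U0_C (h : Cs Y G0 c) : Y.U0 ≤ C[Y.Q0] :=
  cents_symm (h.Q0_eq.le.trans inf_le_right)

theorem Cs.QC0 (h : Cs Y G0 c) (h1 : g ∈ Y.Q) (h2 : g ∈ C[Y.Q0]) : g ∈ Y.U0 :=
  ⟨h1, (h.Q0_eq.ge (mem_inf.2 ⟨h1, C_anti Y.U0_Q0 h2⟩)).2, K.B_left fun x => by
    have := (Y.comm_iff h1 (Y.u_mem x 0)).1 (mem_C'.1 h2 _ (Y.u_Q0 x 0))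
    rw [Y.π_u, h.bf_eq] at this
    simpa using this⟩

theorem Cs.N0_U (h : Cs Y G0 c) : N[Y.Q0] ≤ N[Y.U0] := by
  rw [show Y.U0 = Y.Q0 ⊓ C[Y.Q0] from le_antisymm (le_inf Y.U0_Q0 h.U0_C) fun w hw =>
    h.QC0 hw.1.1 hw.2]
  exact norm_Z le_rfl

theorem Cs.NQ_U (h : Cs Y G0 c) : N[Y.Q] ≤ N[Y.U0] :=
  fun g hg => mem_N_of_finite fun u hu => by
    obtain ⟨φ, γ, au, e, -⟩ := Y.exists_au hg
    rw [h.c2] at au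
    refine ⟨conj_mem hg hu.1, ?_⟩
    rw [e u hu.1, Y.π_U0 hu, au.form.2.1]
    exact ⟨rfl, rfl⟩

theorem Cs.NQ_Q0 (h : Cs Y G0 c) : N[Y.Q] ≤ N[Y.Q0] :=
  h.Q0_eq ▸ norm_inf le_rfl (norm_C h.NQ_U)

theorem Cs.two_NQ (h : Cs Y G0 c) (hc : c = 0 ∨ c = 1) (hg : g ∈ N[Y.Q]) (h2 : PiElt {2} g) :
    g ∈ C[X.Z] := by
  obtain ⟨φ, γ, au, e, hγ⟩ := Y.exists_au hg
  have q1 := fun r hr => (h.qf_eq _).symm.trans ((au.q r hr).trans (congrArg γ (h.qf_eq r)))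
  rw [h.c2] at au
  obtain ⟨e1, -, α, -, e2⟩ := au.form
  refine (X.two_of h2 α α.map_add fun a => ?_).1
  have k := q1 (0, a, 0) (.inl rfl)
  rw [e2] at k
  simp only [mul_zero, add_zero] at k
  rw [hγ, ← k]
  rcases hc with rfl | rfl
  · rw [zero_mul, add_zero]
  · have k0 := q1 (1, 0, 0) (.inr rfl)
    have g0 : γ 0 = 0 := by simpa using au.γadd 0 0
    rw [e1, K.add_self, zero_mul, add_zero, K.nm_zero, mul_zero, add_zero, g0, K.nm_eq_zero] at k0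
    rw [k0, K.B_zero_left, mul_zero, add_zero]

/-- the action on `U₀` of an element centralising `Z` and `U₀ / Z` -/
theorem Cs.exists_l (h : Cs Y G0 c) (h1 : g ∈ C[X.Z]) (h2 : ∀ u ∈ Y.U0, ∃ b, g * u * g⁻¹ = u * X.z b) :
    ∃ l : F →+ F, ∀ u ∈ Y.U0, g * u * g⁻¹ = u * X.z (l (Y.π u).2.2) := by
  choose uu h3 h4 using Y.exists_U0
  choose l hl using fun y => h2 _ (h3 y)
  have k2 : ∀ u ∈ Y.U0, g * u * g⁻¹ = u * X.z (l (Y.π u).2.2) := fun u hu => by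
    obtain ⟨b, e⟩ := Y.eqz hu.1 (h3 (Y.π u).2.2).1 ((Y.π_U0 hu).trans (h4 _).symm)
    generalize (Y.π u).2.2 = y at e
    rw [e, ← conj_mul, hl, conj_eq_of_mem_C h1 (X.z_mem_Z _), mul_assoc, mul_assoc, X.z_mul, X.z_mul,
      add_comm]
  refine ⟨AddMonoidHom.mk' l fun a b => X.z_inj ?_, k2⟩
  have := k2 _ (mul_mem (h3 a) (h3 b))
  rw [← conj_mul, hl, hl, Y.π_mul _ (h3 a).1 _ (h3 b).1, h4, h4, mul_assoc, ← mul_assoc (X.z _),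
    Y.zq (h3 b).1, mul_assoc, X.z_mul, mul_assoc, mul_right_inj, mul_right_inj] at this
  exact this.symm


end


end H2.SZ
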