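import Mathlib
import Cfsg.Agent.H2.ZDefs
import Cfsg.Agent.H2.ZS
import Cfsg.Agent.S1137

set_option autoImplicit false
set_option linter.unusedVariables false
set_option linter.unusedSectionVars false

namespace H2.SZ

open Cfsg H24 Subgroup
open H2.C2 (Cl2)

universe u

variable {G : Type u} [Group G] [Finite G] {F : Type*} [Field F] [Fintype F] {K : FD F}
  {L G0 D P P0 Q R A C T E : Subgroup G} {t g s φ : G} {X : SzD K L} {c : F}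

/-! ### Z1a -/

theorem exists_pow_sq {b : G} (h : PiElt {2} b) (hn : b ∉ A) : ∃ n : ℕ, b ^ n ∉ A ∧ b ^ n * b ^ n ∈ A := by
  by_contra k
  obtain ⟨j, hj⟩ := h.exists_pow Nat.prime_two
  have : ∀ i : ℕ, b ^ 2 ^ i ∉ A := fun i => by
    induction i with
    | zero => simpa using hn
    | succ i ih => exact fun e => k ⟨_, ih, by rwa [← pow_add, ← two_mul, ← pow_succ']⟩
  exact this j (by rw [← hj, pow_orderOf_eq_one]; exact one_mem _)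

theorem odd_mem' {H : Subgroup G} (h : PiElt {2}ᶜ g) (m : g * g ∈ H) : g ∈ H :=
  zpowers_le.2 (by rwa [sq] : g ^ 2 ∈ H) (mem_zpowers_pow_iff.2 ((piNat_compl_iff_coprime Nat.prime_two).1 h))

theorem odd_comm {x b : G} (hx : PiElt {2}ᶜ x) (h2 : PiElt {2} (x * b * x⁻¹ * b⁻¹))
    (e : x * b * x⁻¹ * b⁻¹ * x = x * (x * b * x⁻¹ * b⁻¹)) : x * b = b * x := by
  have := h2.eq_one (by
    rw [mul_assoc, mul_assoc, ← mul_assoc b]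
    exact hx.mul (hx.inv.conj b) (mul_left_cancel (a := x) (by
      calc _ = x * (x * b * x⁻¹ * b⁻¹) := by group
        _ = _ := by rw [← e]; group)))
  rwa [mul_inv_eq_one, mul_inv_eq_iff_eq_mul] at this

/-- an element of odd order centralising the involutions of an abelian `2`-group centralises it -/
theorem odd_cent {x : G} (hx : PiElt {2}ᶜ x) (hA : IsPi {2} A) (ha : Abl A) (hn : x ∈ N[A])
    (h : ∀ a ∈ A, a * a = 1 → a * x = x * a) : x ∈ C[A] := mem_C'.2 fun a m => by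
  obtain ⟨j, hj⟩ := (hA.piElt m).exists_pow Nat.prime_two
  have e : a ^ 2 ^ j = 1 := by rw [← hj, pow_orderOf_eq_one]
  clear hj
  induction j generalizing a with
  | zero => rw [show a = 1 by simpa using e]; simp
  | succ j ih =>
    have m1 := conj_mem hn m
    have m2 := mul_mem m1 (inv_mem m)
    refine odd_comm hx (hA.piElt m2) (h _ m2 ?_)
    rw [mul_assoc, ← mul_assoc a⁻¹, mem_C.1 (abl_iff.1 ha m1) _ (inv_mem m), mul_assoc _ a⁻¹, ← mul_assoc, conj_mul,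
      ih _ (mul_mem m m) (by rw [← sq, ← pow_mul, ← pow_succ', e])]
    group

section
variable {Y : QD X t D} {a b k q u w y : G}

theorem Cs.C0_Z (h : Cs Y G0 c) : C[Y.Q0] ≤ C[X.Z] := C_anti (Y.Z_U0.trans Y.U0_Q0)

theorem Cs.CZ0 (h : Cs Y G0 c) (h1 : w ∈ C[Y.Q0]) (h2 : PiElt {2} w) (e : w * t = t * w) : w ∈ X.Z := by
  have m := Y.T_le (h.two_T (h.C0_Z h1) e h2)
  have := Y.cm_t m
  rw [e, mul_inv_cancel_right, left_eq_mul, X.z_eq_one] at this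
  exact Y.π_ker _ m (by rw [Y.π_U0 (h.QC0 m h1), this]; rfl)

theorem Cs.tN0 (h : Cs Y G0 c) : t ∈ N[Y.Q0] := h.NQ_Q0 (norm_self _ Y.t_mem)

theorem QD.idx0 (Y : QD X t D) : Y.Q0.relIndex Y.Q = 2 := relIndex_eq_two_iff.2 ⟨_, Y.t_mem, fun b hb => by
  have e := Y.π_mul _ hb _ Y.t_mem
  rw [Y.π_t] at e
  rcases Y.π_wd b hb with e1 | e1
  · exact .inr ⟨⟨hb, e1⟩, fun k => by simpa [e, e1] using k.2⟩
  · exact .inl ⟨⟨mul_mem hb Y.t_mem, by simp [e, e1, K.add_self]⟩, fun k => by simpa [e1] using k.2⟩⟩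

theorem Cs.q1 (h : Cs Y G0 1) {r : F × F × F} (hr : r.1 = 0) : K.qf Y.c1 Y.c2 r = K.nm r.2.1 + r.2.2 := by
  rw [h.qf_eq, hr, add_zero, one_mul]

theorem Cs.sqU (h : Cs Y G0 1) (hu : u ∈ Y.U0) : u * u = X.z (Y.π u).2.2 := by
  rw [Y.sq u hu.1, h.q1 hu.2.1, hu.2.2, K.nm_zero, zero_add]

theorem Cs.tU (h : Cs Y G0 1) (hu : u ∈ Y.U0) : t * u * t⁻¹ = u⁻¹ := by
  rw [h.cU Y.t_mem hu, Y.π_t, one_mul, ← h.sqU hu, eq_inv_iff_mul_eq_one, ← Y.Q4 hu.1]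
  group

theorem Cs.U2 (h : Cs Y G0 1) (hu : u ∈ Y.U0) (e : u * u = 1) : u ∈ X.Z := by
  rw [h.sqU hu, X.z_eq_one] at e
  exact Y.π_ker _ hu.1 (by rw [Y.π_U0 hu, e]; rfl)

theorem Cs.NU_Z (h : Cs Y G0 1) : N[Y.U0] ≤ N[X.Z] := fun g hg => mem_N_of_finite <| by
  rintro _ ⟨b, rfl⟩
  obtain ⟨u, hu, e⟩ := Y.exists_U0 b
  have := h.sqU hu
  rw [e] at this
  rw [← this, ← conj_mul, h.sqU (conj_mem hg hu)]
  exact X.z_mem_Z _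

theorem Cs.exists_a0 (h : Cs Y G0 1) (hg : g ∈ N[Y.Q0]) : ∃ α Γ γ : F →+ F,
    Function.Injective α ∧ Function.Injective γ ∧ (∀ b, g * X.z b * g⁻¹ = X.z (γ b)) ∧
    (∀ q ∈ Y.Q0, Y.π (g * q * g⁻¹) = (0, α (Y.π q).2.1, Γ (Y.π q).2.1 + γ (Y.π q).2.2)) ∧
    (∀ a, γ (K.nm a) = K.nm (α a) + Γ a) ∧ ∀ a b, γ (K.B a b) = K.B (α a) (α b) := by
  have hU := h.N0_U hg
  obtain ⟨γ, g1, g2⟩ := X.exists_γ (h.NU_Z hU)
  have m := fun a => conj_mem hg (Y.u_Q0 a 0)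
  have ad : ∀ a b, Y.π (g * X.u (a + b) 0 * g⁻¹) = Y.π (g * X.u a 0 * g⁻¹) + Y.π (g * X.u b 0 * g⁻¹) :=
    fun a b => by
      have e : X.u (a + b) 0 = X.u a 0 * X.u b 0 * X.z (K.σ a * b) := by
        rw [X.u_mul, X.u_z]; congr 1; linear_combination -K.add_self (K.σ a * b)
      rw [e, ← conj_mul, ← conj_mul, g2, Y.π_mz (mul_mem (m a).1 (m b).1), Y.π_mul _ (m a).1 _ (m b).1]
  let α : F →+ F := AddMonoidHom.mk' (fun a => (Y.π (g * X.u a 0 * g⁻¹)).2.1) fun a b => by rw [ad]; rfl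
  let Γ : F →+ F := AddMonoidHom.mk' (fun a => (Y.π (g * X.u a 0 * g⁻¹)).2.2) fun a b => by rw [ad]; rfl
  have sq : ∀ a, γ (K.nm a) = K.nm (α a) + Γ a := fun a => X.z_inj (by
    rw [← g2, ← X.u_sq a 0, ← conj_mul, Y.sq _ (m a).1, h.q1 (m a).2]; rfl)
  refine ⟨α, Γ, γ, (injective_iff_map_eq_zero α).2 fun a e => ?_, g1, g2, fun q hq => ?_, sq, fun a b => ?_⟩
  · have := ((mem_N.1 hU _).2 (show g * X.u a 0 * g⁻¹ ∈ Y.U0 from ⟨(m a).1, (m a).2, e⟩)).2.2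
    rwa [Y.π_u] at this
  · obtain ⟨u, hu, e⟩ := Y.Q0_dec hq
    have e1 := Y.π_mul _ (Y.u_mem (Y.π q).2.1 0) _ hu.1
    rw [← e, Y.π_u] at e1
    have e2 : (Y.π q).2.2 = (Y.π u).2.2 := (congrArg (·.2.2) e1).trans (zero_add _)
    have m' := conj_mem hU hu
    have e3 := h.sqU m'
    rw [conj_mul, h.sqU hu, g2] at e3
    generalize (Y.π q).2.1 = x at e
    rw [e2, e, ← conj_mul, Y.π_mul _ (m x).1 _ m'.1, Y.π_U0 m', ← X.z_inj e3]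
    exact Prod.ext ((add_zero _).trans (m x).2) (Prod.ext (add_zero _) rfl)
  · have := sq (a + b)
    rw [K.nm_add, map_add, map_add, map_add, map_add, K.nm_add, sq, sq] at this
    linear_combination this

theorem Cs.M_triv (h : Cs Y G0 1) (h1 : g ∈ N[Y.Q0]) (h2 : g ∈ C[X.Z]) (hq : q ∈ Y.Q0) :
    ∃ b, g * q * g⁻¹ = q * X.z b := by
  obtain ⟨α, Γ, γ, -, -, e1, e2, e3, e4⟩ := h.exists_a0 h1
  have g0 : ∀ b, γ b = b := fun b => X.z_inj ((e1 b).symm.trans (conj_eq_of_mem_C h2 (X.z_mem_Z b)))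
  have a0 := K.chkB α fun a b => (e4 a b).symm.trans (g0 _)
  refine Y.eqz (conj_mem h1 hq).1 hq.1 ?_
  have := e3 (Y.π q).2.1
  rw [g0, a0, left_eq_add] at this
  rw [e2 q hq, a0, g0, this, zero_add, ← hq.2]

theorem Cs.comm_Y (h : Cs Y G0 1) (ha : a ∈ N[Y.Q0] ⊓ C[X.Z]) (hb : b ∈ N[Y.Q0] ⊓ C[X.Z]) :
    a * a ∈ C[Y.Q0] ∧ a * b * a⁻¹ * b⁻¹ ∈ C[Y.Q0] := by
  have k : ∀ a ∈ N[Y.Q0] ⊓ C[X.Z], a * a ∈ C[Y.Q0] := fun a ha => mem_C'.2 fun q hq => by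
    obtain ⟨b, e⟩ := h.M_triv ha.1 ha.2 hq
    rw [← mul_inv_eq_iff_eq_mul, show a * a * q * (a * a)⁻¹ = a * (a * q * a⁻¹) * a⁻¹ by group, e, ← conj_mul, e,
      conj_eq_of_mem_C ha.2 (X.z_mem_Z _), mul_assoc, X.z_sq, mul_one]
  have := mul_mem (mul_mem (k a ha) (k _ (mul_mem (inv_mem ha) hb))) (inv_mem (k b hb))
  exact ⟨k a ha, by
    rwa [show a * a * (a⁻¹ * b * (a⁻¹ * b)) * (b * b)⁻¹ = a * b * a⁻¹ * b⁻¹ by group] at this⟩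

theorem Cs.N0_of (h : Cs Y G0 1) (hg : g ∈ N[X.Z]) (ht : g * t * g⁻¹ ∈ N[Y.Q0]) :
    g ∈ N[Y.Q0] := by
  have tz := conj_mem (N_le_NC _ hg) (Y.zc Y.t_mem)
  have WQ : cj g⁻¹ Y.Q0 ≤ Y.Q := fun x hx => by
    obtain ⟨q, hq, rfl⟩ := mem_cj'.1 hx
    obtain ⟨b, e⟩ := h.M_triv (inv_mem ht) (inv_mem tz) hq
    rw [inv_inv]
    refine h.NQ_le Y hg (Y.zc hq.1) (Y.pi_Q.piElt hq.1) (b := b) ?_
    generalize g * t * g⁻¹ = s at e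
    calc _ = s * (s⁻¹ * q * s⁻¹⁻¹) * q⁻¹ := by group
      _ = _ := by rw [e, ← Y.zq hq.1]; group
  have idx : (cj g⁻¹ Y.Q0).relIndex Y.Q = 2 := by
    have e1 := card_mul_relIndex WQ
    rw [← card_mul_relIndex Y.Q0_Q, Y.idx0, card_cj] at e1
    exact Nat.eq_of_mul_eq_mul_left (card_pos _) e1
  obtain ⟨u, hu, eu⟩ := Y.exists_U0 1
  have m := conj_mem_cj g⁻¹ (Y.U0_Q0 hu)
  have cw : ∀ w ∈ cj g⁻¹ Y.Q0, g⁻¹ * u * g⁻¹⁻¹ * w = w * (g⁻¹ * u * g⁻¹⁻¹) := fun w hw => by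
    obtain ⟨q, hq, rfl⟩ := mem_cj'.1 hw
    rw [conj_mul, conj_mul, mem_C'.1 (h.U0_C hu) q hq]
  have mU : g⁻¹ * u * g⁻¹⁻¹ ∈ Y.U0 := ⟨WQ m, K.chkU (Y.π_wd _ (WQ m)) fun p p' hp hp' e e' => by
    obtain ⟨a, ha, rfl⟩ := Y.surj hp
    obtain ⟨b, hb, rfl⟩ := Y.surj hp'
    have := cw (a * b) ((mul_mem_iff_of_index_two (H := (cj g⁻¹ Y.Q0).subgroupOf Y.Q) idx
      (a := ⟨a, ha⟩) (b := ⟨b, hb⟩)).2 (iff_of_false
        (fun k => e (h.c2 ▸ (Y.comm_iff (WQ m) ha).1 (cw a k)))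
        fun k => e' (h.c2 ▸ (Y.comm_iff (WQ m) hb).1 (cw b k))))
    rw [← mul_inv_eq_iff_eq_mul, ← conj_mul, Y.cm (WQ m) ha, Y.cm (WQ m) hb, mul_assoc,
      mul_right_inj, ← mul_assoc, Y.zq hb, mul_assoc, X.z_mul, mul_eq_left, X.z_eq_one, h.c2] at this
    exact K.eq_of_add this⟩
  refine inv_mem_iff.1 (mem_N_of_cj_le fun w hw => ⟨WQ hw, ?_⟩)
  have := h.cU (WQ hw) mU
  rw [← cw w hw, mul_inv_cancel_right, left_eq_mul, X.z_eq_one, mul_eq_zero] at this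
  refine this.resolve_right fun e => ?_
  have e1 := h.sqU mU
  rw [e, X.z_zero, conj_mul, conj_eq_one_iff, h.sqU hu, eu] at e1
  exact X.z1 e1

theorem Cs.dd_inv (h : Cs Y G0 1) (hs : DD t s) (h1 : s ∈ N[Y.Q0]) (h2 : s ∈ C[X.Z])
    (hu : u ∈ Y.U0) : s * u * s⁻¹ = u⁻¹ := by
  obtain ⟨g, hg, rfl⟩ := h.F2 hs h2
  have := h.tU (conj_mem' (h.N0_U (h.N0_of hg h1)) hu)
  calc _ = g * (t * (g⁻¹ * u * g) * t⁻¹) * g⁻¹ := by group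
    _ = _ := by rw [this]; group

theorem Cs.inv4 (h : Cs Y G0 c) (hw : w ∈ C[Y.Q0]) (h2 : PiElt {2} w) (e : t * w * t⁻¹ = w⁻¹)
    (e4 : w * w * (w * w) = 1) : w ∈ Y.U0 := by
  obtain ⟨b, e1⟩ := h.CZ0 (mul_mem hw hw) (h2.mul h2 rfl) (by
    rw [eq_comm, ← mul_inv_eq_iff_eq_mul, ← conj_mul, e, ← mul_inv_rev, inv_eq_iff_mul_eq_one, e4])
  refine h.QC0 (h.CQ2 Y (h.C0_Z hw) h2 (b := b) ?_) hw
  calc _ = t * (t⁻¹ * w * t * w⁻¹) := by group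
    _ = _ := by rw [← X.z_inv, ← e1, show t⁻¹ * w * t = w⁻¹ by rw [← e, h.ti]]; group

theorem Cs.Y1 (h : Cs Y G0 1) (hA : IsPi {2} A) (hC : A ≤ C[Y.Q0]) (ht : t ∈ N[A]) (hy : y ∈ A)
    (e : y * y ∈ X.Z) : y ∈ Y.U0 := by
  obtain ⟨b, e⟩ := e
  have m : y * (t * y * t⁻¹) ∈ A := mul_mem hy (conj_mem ht hy)
  have yi : y⁻¹ = y * X.z b := by rw [inv_eq_iff_mul_eq_one, ← mul_assoc, e, X.z_sq]
  have zy := mem_C.1 (h.C0_Z (hC hy)) _ (X.z_mem_Z b)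
  have zy' := mem_C.1 (h.C0_Z (hC (conj_mem ht hy))) _ (X.z_mem_Z b)
  have yi' : (t * y * t⁻¹)⁻¹ = t * y * t⁻¹ * X.z b := by
    rw [inv_eq_iff_mul_eq_one, ← mul_assoc, conj_mul, e, conj_eq_of_mem_C (Y.zc Y.t_mem) (X.z_mem_Z b), X.z_sq]
  have e0 : (y * (t * y * t⁻¹))⁻¹ = t * y * t⁻¹ * y := by
    rw [mul_inv_rev, yi', yi, mul_assoc, ← zy, ← mul_assoc (X.z b), X.z_sq, one_mul]
  have e1 : t * (y * (t * y * t⁻¹)) * t⁻¹ = (y * (t * y * t⁻¹))⁻¹ := by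
    rw [e0, ← conj_mul, h.ti, show t * (t * y * t) * t = t * t * y * (t * t) by group, h.tt, one_mul, mul_one]
  have e2 : y * (y * (t * y * t⁻¹)) * y⁻¹ = (y * (t * y * t⁻¹))⁻¹ := by
    rw [e0, yi, ← mul_assoc y y, e, zy', mul_assoc, ← zy, ← mul_assoc (X.z b), X.z_sq, one_mul]
  have hρ : y * (t * y * t⁻¹) ∈ X.Z := by
    generalize y * (t * y * t⁻¹) = ρ at m e1 e2
    by_cases e3 : ρ * ρ = 1
    · exact h.CZ0 (hC m) (hA.piElt m)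
        (by rw [eq_comm, ← mul_inv_eq_iff_eq_mul, e1, inv_eq_of_mul_eq_one_right e3])
    · obtain ⟨n, n1, n2⟩ := inv_pow' (hA.piElt (mul_mem m m)) e3
      rw [(Commute.refl ρ).mul_pow] at n1 n2
      have := h.inv4 (hC (pow_mem m n)) (hA.piElt (pow_mem m n)) (by rw [← conj_pow, e1, inv_pow]) n2
      refine absurd (mul_eq_one_iff_eq_inv.2 ?_) n1
      rw [← inv_pow, ← e2, conj_pow, conj_eq_of_mem_C (hC hy) (Y.U0_Q0 this)]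
  obtain ⟨d, e4⟩ := hρ
  refine h.QC0 (h.CQ2 Y (h.C0_Z (hC hy)) (hA.piElt hy) (b := d + b) ?_) (hC hy)
  rw [← X.z_mul, ← mul_assoc, ← Y.zq Y.t_mem, ← e4, yi]
  group

theorem Cs.Y2 (h : Cs Y G0 1) (hA : IsPi {2} A) (hC : A ≤ C[Y.Q0]) (ht : t ∈ N[A]) (hy : y ∈ A) :
    t * y * (t * y) ∈ X.Z := by
  have m : t * y * (t * y) ∈ A := by
    have := mul_mem (conj_mem ht hy) hy
    rwa [h.ti, mul_assoc] at this
  have k : ∀ w ∈ A, w * w = 1 → w ∈ X.Z := fun w hw e => h.U2 (h.Y1 hA hC ht hw (e ▸ one_mem _)) e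
  refine k _ m (by_contra fun e3 => ?_)
  obtain ⟨n, n1, n2⟩ := inv_pow' (hA.piElt (mul_mem m m)) e3
  rw [(Commute.refl _).mul_pow] at n1 n2
  have := h.Y1 hA hC ht (pow_mem m n) (k _ (mul_mem (pow_mem m n) (pow_mem m n)) n2)
  refine n1 (mul_eq_one_iff_eq_inv.2 ?_)
  rw [← h.tU this]
  nth_rewrite 2 [← conj_eq_of_mem_C (hC hy) (Y.U0_Q0 this)]
  rw [show ∀ x, t * (y * x * y⁻¹) * t⁻¹ = t * y * x * (t * y)⁻¹ from fun x => by group,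
    (((Commute.refl _).mul_right (Commute.refl _)).pow_right n).eq, mul_inv_cancel_right]

theorem Cs.abl_B (h : Cs Y G0 1) (hA : IsPi {2} A) (hC : A ≤ C[Y.Q0]) (ht : t ∈ N[A])
    (hU : Y.U0 ≤ A) (hh : ∀ k, X.h k ∈ N[A]) : Abl A := by
  by_contra hn
  have zA : ∀ b, X.z b ∈ A := fun b => hU (Y.Z_U0 (X.z_mem_Z b))
  have k : ∀ w : A, w ≠ 1 → w * w = 1 → ∃ b ≠ 0, (w : G) = X.z b := fun w w1 e => by
    have e' : (w : G) * w = 1 := congrArg Subtype.val e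
    obtain ⟨b, e1⟩ := h.U2 (h.Y1 hA hC ht w.2 (e' ▸ one_mem _)) e'
    exact ⟨b, fun e2 => w1 (Subtype.ext (by rw [e1, e2, X.z_zero]; rfl)), e1⟩
  let ψ : Fˣ →* MulAut A := A.normalizerMonoidHom.comp (X.h.codRestrict _ hh)
  have hψ : ∀ k (w : A), (ψ k w : G) = X.h k * w * (X.h k)⁻¹ := fun k w => rfl
  obtain ⟨x, x0, x1, -⟩ := K.exists_ne 0 1 1
  obtain ⟨u, hu, eu⟩ := Y.exists_U0 1
  have := (Agent.S1137.result (P := A) ⟨inferInstance, (isPi_iff_isPGroup Nat.prime_two).1 hA, ?_,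
    ⟨⟨_, zA 1⟩, ⟨_, zA x⟩, fun e => x1 (X.z_inj (congrArg Subtype.val e)).symm,
      fun e => X.z1 (congrArg Subtype.val e), Subtype.ext (X.z_sq 1),
      fun e => x0 (X.z_eq_one.1 (congrArg Subtype.val e)), Subtype.ext (X.z_sq x)⟩,
    ψ.range, isCyclic_of_surjective _ ψ.rangeRestrict_surjective, fun v w v1 v2 w1 w2 => ?_⟩).2 ⟨u, hU hu⟩
      (mem_center_iff.2 fun a => Subtype.ext (mem_C'.1 (hC a.2) u (Y.U0_Q0 hu)))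
  · have e := (h.sqU hu).symm.trans (congrArg Subtype.val this)
    rw [eu] at e
    exact X.z1 e
  · by_contra e
    exact hn (abl_iff.2 fun a ha => mem_C'.2 fun b hb => by_contra fun e1 =>
      e ⟨⟨a, ha⟩, ⟨b, hb⟩, fun e2 => e1 (congrArg Subtype.val e2)⟩)
  · obtain ⟨a, a0, e1⟩ := k v v1 v2
    obtain ⟨b, b0, e2⟩ := k w w1 w2
    obtain ⟨j, hj⟩ := K.exists_nm a0 b0
    refine ⟨⟨ψ j, j, rfl⟩, Subtype.ext (by rw [hψ, e1, e2, X.h_z, hj]), ?_⟩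
    rintro ⟨_, i, rfl⟩ e
    have e3 := congrArg Subtype.val e
    rw [hψ, e1, e2, X.h_z, ← hj] at e3
    rw [show i = j from Units.ext (K.nm_inj (mul_right_cancel₀ a0 (X.z_inj e3)))]

theorem Cs.exists_mp (h : Cs Y G0 1) : ∃ P, Mp Y G0 P := by
  obtain ⟨P, -, ⟨p1, p2, p3, p4, p5, p6⟩, hm⟩ := Finite.exists_le_maximal
    (p := fun P : Subgroup G => IsPi {2} P ∧ Y.Q ≤ P ∧ P ≤ N[Y.Q0] ∧ P ≤ C[X.Z] ∧ (∀ k, X.h k ∈ N[P]) ∧ P ≤ C[D])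
    ⟨Y.pi_Q, le_rfl, (norm_self _).trans h.NQ_Q0, Y.zc, Y.h_N, Y.Q_D⟩
  have n0 : N[P] ⊓ C[X.Z] ≤ N[Y.Q0] := fun g hg => h.N0_of (C_le_N _ hg.2) (p3 (conj_mem hg.1 (p2 Y.t_mem)))
  have nB : N[P] ⊓ N[Y.Q0] ≤ N[P ⊓ C[Y.Q0]] := norm_inf inf_le_left (inf_le_right.trans (N_le_NC _))
  have tB := nB ⟨norm_self _ (p2 Y.t_mem), h.tN0⟩
  have od : ∀ g ∈ N[P] ⊓ C[X.Z], PiElt {2}ᶜ g → g ∈ D := fun x hx k => by
    have c0 := odd_mem' k (h.comm_Y ⟨n0 hx, hx.2⟩ ⟨n0 hx, hx.2⟩).1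
    have := odd_cent k (p1.inf_left C[Y.Q0]) (h.abl_B (p1.inf_left _) inf_le_right tB
      (le_inf (Y.U0_Q0.trans (Y.Q0_Q.trans p2)) h.U0_C) fun j => nB ⟨p5 j, Y.h_Q0 j⟩) (nB ⟨hx.1, n0 hx⟩)
      fun a ha e => mem_C.1 hx.2 a (h.U2 (h.Y1 (p1.inf_left _) inf_le_right tB ha (e ▸ one_mem _)) e)
    have m : x * t * x⁻¹ * t⁻¹ ∈ P ⊓ C[Y.Q0] := mem_inf.2 ⟨mul_mem (conj_mem hx.1 (p2 Y.t_mem)) (inv_mem (p2 Y.t_mem)),
      (h.comm_Y ⟨n0 hx, hx.2⟩ ⟨h.tN0, h.tZ X⟩).2⟩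
    exact h.odd_D hx.2 (odd_comm k (p1.piElt m.1) (mem_C.1 this _ m)) k
  have hC : ∀ k, X.h k ∈ N[N[P] ⊓ C[X.Z]] := fun k => mem_N_of_finite fun g hg =>
    ⟨conj_mem (norm_self _ (p5 k)) hg.1, conj_mem (N_le_NC _ (X.h_NZ k)) hg.2⟩
  have PC : P ≤ N[P] ⊓ C[X.Z] := le_inf (norm_self _) p4
  obtain ⟨R, r1, r2, r3, r4, r5, -⟩ := h.lift (C := N[P] ⊓ C[X.Z]) (PC (p2 Y.t_mem))
    (le_inf ((cents_symm p6).trans (C_le_N _)) (h.D_L.trans (C_anti (X.Z_le_S.trans X.S_le)))) inf_le_right hC od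
  have PR : P ≤ R := fun p hp => r4 p (PC hp) (p1.piElt hp)
  have RP := hm ⟨r1, p2.trans PR, r2.trans n0, r2.trans inf_le_right, fun k => r5 (hC k), r3⟩ PR
  exact ⟨P, h, p1, p2, p3, p4, p5, p6, fun g g1 g2 g3 => RP (r4 g ⟨g1, g2⟩ g3), fun g g1 g2 => od g ⟨g1, g2⟩⟩

theorem Mp.NP (h : Mp Y G0 P) : N[P] ≤ N[Y.Q0] ⊓ N[X.Z] := fun g hg =>
  have := h.NP_NZ (Y.T_le.trans h.Q_le) h.P_Z hg
  ⟨h.N0_of this (h.P_N (conj_mem hg (h.Q_le Y.t_mem))), this⟩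

theorem Mp.NB (h : Mp Y G0 P) : N[P] ≤ N[P ⊓ C[Y.Q0]] :=
  norm_inf le_rfl ((h.NP.trans inf_le_left).trans (N_le_NC _))

theorem Mp.U_B (h : Mp Y G0 P) : Y.U0 ≤ P ⊓ C[Y.Q0] := le_inf (Y.U0_Q0.trans (Y.Q0_Q.trans h.Q_le)) h.U0_C

theorem Mp.tB (h : Mp Y G0 P) : t ∈ N[P ⊓ C[Y.Q0]] := h.NB (norm_self _ (h.Q_le Y.t_mem))

theorem Mp.abl (h : Mp Y G0 P) : Abl (P ⊓ C[Y.Q0]) :=
  h.abl_B (h.pi.inf_left _) inf_le_right h.tB h.U_B fun k => h.NB (h.h_P k)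

theorem Mp.B1 (h : Mp Y G0 P) (hy : y ∈ P ⊓ C[Y.Q0]) (e : y * y ∈ X.Z) : y ∈ Y.U0 :=
  h.Y1 (h.pi.inf_left _) inf_le_right h.tB hy e

theorem Mp.B2 (h : Mp Y G0 P) (hy : y ∈ P ⊓ C[Y.Q0]) : t * y * (t * y) ∈ X.Z :=
  h.Y2 (h.pi.inf_left _) inf_le_right h.tB hy

theorem Mp.sqP (h : Mp Y G0 P) (ha : a ∈ P) : a * a ∈ P ⊓ C[Y.Q0] :=
  ⟨mul_mem ha ha, (h.comm_Y ⟨h.P_N ha, h.P_Z ha⟩ ⟨h.P_N ha, h.P_Z ha⟩).1⟩

theorem Mp.comm (h : Mp Y G0 P) (ha : a ∈ P) (hb : b ∈ P) : a * b * a⁻¹ * b⁻¹ ∈ P ⊓ C[Y.Q0] :=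
  mem_inf.2 ⟨mul_mem (mul_mem (mul_mem ha hb) (inv_mem ha)) (inv_mem hb),
    (h.comm_Y ⟨h.P_N ha, h.P_Z ha⟩ ⟨h.P_N hb, h.P_Z hb⟩).2⟩

/-- roots of the elements of `U₀` -/
theorem Mp.root (h : Mp Y G0 P) (hb : b ∈ P ⊓ C[Y.Q0]) (hn : b ∉ Y.U0) (y : F) :
    ∃ b ∈ P ⊓ C[Y.Q0], b * b ∈ Y.U0 ∧ (Y.π (b * b)).2.2 = y := by
  by_cases y0 : y = 0
  · exact ⟨1, one_mem _, by simp, by simp [Y.π_one, y0]⟩
  obtain ⟨n, n1, n2⟩ := exists_pow_sq (h.pi.piElt hb.1) hn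
  obtain ⟨k, e⟩ := K.exists_nm (a := (Y.π (b ^ n * b ^ n)).2.2) (fun e => n1 (h.B1 (pow_mem hb n)
    (Y.π_ker _ n2.1 (by rw [Y.π_U0 n2, e]; rfl)))) y0
  exact ⟨_, conj_mem (h.NB (h.h_P k)) (pow_mem hb n), by rw [conj_mul]; exact conj_mem (Y.h_U0 k) n2, by
    rw [conj_mul, Y.π_h k _ n2.1, e]⟩

end

end H2.SZ
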