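import Mathlib
import Cfsg.Agent.H2.ZDefs
import Cfsg.Agent.H2.ZE
import Cfsg.Agent.H17.RC1

set_option autoImplicit false
set_option linter.unusedVariables false
set_option linter.unusedSectionVars false

namespace H2.SZ

open Cfsg H24 Subgroup
open H2.C2 (Cl2)

universe u

variable {G : Type u} [Group G] [Finite G] {F : Type*} [Field F] [Fintype F] {K : FD F}
  {L G0 D P P0 Q R A C T E : Subgroup G} {t g s φ : G} {X : SzD K L} {c : F}

/-! ### Fusion of `t` -/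

theorem St.zs (h : St L G0 t) (hT : Syl 2 C{t} T) (hs : s ∈ G0) (h1 : s ≠ 1) (h2 : s * s = 1) :
    ∃ e ∈ T, e ≠ t ∧ DD t e := by
  by_contra hn
  have k := H26.Gold.zstar_sub' (H := ⊤) (mem_top t) h.t1 h.tt fun g _ c => by
    obtain ⟨y, hy, e⟩ := Sylow_Jsub Nat.prime_two hT ((piElt_of_sq h.tt).conj g).isPi
      (zpowers_le.2 (mem_C1.2 c.symm))
    have e1 : y * (g * t * g⁻¹) * y⁻¹ = t := by
      by_contra e1
      exact hn ⟨_, e (conj_mem_cj y (mem_zpowers _)), e1, ((DD.refl t).conj g).conj y⟩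
    calc _ = y⁻¹ * (y * (g * t * g⁻¹) * y⁻¹) * y := by group
      _ = t := by rw [e1, mem_C1.1 (inv_mem hy), inv_mul_cancel_right]
  have := h.simple
  have := h.nrm
  have n := pcore_nml {2}ᶜ (⊤ : Subgroup G)
  have nO : O[{2}ᶜ, (⊤ : Subgroup G)].Normal := normalizer_eq_top_iff.1 (eq_top_iff.2 n.norm)
  have h0 : O[{2}ᶜ, (⊤ : Subgroup G)] ⊓ G0 = ⊥ := by
    rcases (nO.subgroupOf G0).eq_bot_or_eq_top with e | e
    · exact disjoint_iff.1 (subgroupOf_eq_bot.1 e)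
    · exact absurd ((piElt_of_sq h2).eq_one ((pcore_pi _ _).piElt (subgroupOf_eq_top.1 e hs))) h1
  have e := eq_bot_of_le h.cent (cents_of_inf_eq_bot (norm_of_normal _ _) (norm_of_normal _ _) h0)
  have : t ∈ C[G0] := C_anti le_top (comm_eq_bot.1 (eq_bot_of_le e k) (mem_zpowers t))
  rw [h.cent] at this
  exact h.t1 this

theorem St.allD (h : St L G0 t) (hT : Syl 2 C{t} T) (hE : E ≤ T) (hA : Abl E)
    (h1 : ∀ e ∈ T, e * e = 1 → e ∈ E) (h2 : ∀ e ∈ E, e ≠ 1 → DD t e)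
    (h3 : R ≤ L) (h4 : IsPi {2} R) (h5 : ¬ Abl R)
    (h6 : ∀ P ≤ L, IsPi {2} P → L ≤ N[P] → Abl P) : False := by
  have := h.simple
  have := h.nrm
  obtain ⟨S, hS, TS⟩ := Sylow_superset Nat.prime_two hT.pi le_top
  have e0 : S ⊓ C{t} = T := hT.eq_of_le (hS.pi.inf_left _) (le_inf TS hT.le) inf_le_right
  have tT : t ∈ T := hT.le_of_norm (piElt_of_sq h.tt).isPi (zpowers_le.2 (self_mem_C1 t))
    (zpowers_le.2 (C_le_N _ (mem_C_iff_le_C1.2 hT.le))) (mem_zpowers t)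
  obtain ⟨c, hc, c1⟩ := exists_ne_one ((hS.pi.nil Nat.prime_two).inf_C_ne_bot ⟨le_rfl, norm_self S⟩
    (ne_bot_of_mem (TS tT) h.t1))
  obtain ⟨n, n1, n2⟩ := inv_pow' (hS.pi.piElt hc.1) c1
  replace hc := pow_mem hc n
  obtain ⟨g, eg⟩ := h2 _ (h1 _ (e0.le ⟨hc.1, mem_C1.2 (mem_C'.1 hc.2 t (TS tT))⟩) n2) n1
  have sT : Syl 2 ⊤ T := hS.of_card_le le_top hT.pi (by
    have s := hT.cj g
    rw [cj_C1, ← eg] at s
    rw [← card_cj g T]
    exact Nat.le_of_dvd (card_pos _) (s.card_dvd hS.pi (mem_C_iff_le_C1.1 hc.2)))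
  have LC : L ≤ C{t} := mem_C_iff_le_C1.1 h.tC
  obtain ⟨y, hy, ey⟩ := Sylow_Jsub Nat.prime_two hT h4 (h3.trans LC)
  obtain ⟨r, hr, r1⟩ := exists_ne_one (H := R) fun e => h5 (e ▸ abl_bot)
  obtain ⟨m, m1, m2⟩ := inv_pow' (h4.piElt hr) r1
  have a1 : y * r ^ m * y⁻¹ ∈ E := h1 _ (ey (conj_mem_cj y (pow_mem hr m))) (by
    rw [conj_mul, m2, mul_one, mul_inv_cancel])
  have a2 : y * r ^ m * y⁻¹ ∈ G0 := h.nrm.conj_mem _ (h.le (h3 (pow_mem hr m))) y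
  have a3 : y * r ^ m * y⁻¹ ≠ 1 := fun e => m1 (conj_eq_one_iff.1 e)
  obtain ⟨M, hM⟩ := h.gold sT hA ⟨hE, fun x hx g hg => by
    by_cases x1 : x = 1
    · simp [x1, one_mem]
    · exact h1 _ hg (((h2 x hx x1).conj g).sq h).1⟩ (ne_bot_of_mem (mem_inf.2 ⟨a1, a2⟩) a3)
    (h3.trans h.le) h4 h5
  obtain ⟨k, ek⟩ := h2 _ a1 a3
  have t0 : t ∈ G0 := by
    have := h.nrm.conj_mem _ a2 k⁻¹
    rwa [ek, show k⁻¹ * (k * t * k⁻¹) * k⁻¹⁻¹ = t by group] at this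
  obtain ⟨S0, eM⟩ := (H26.BR.isBender_of_se hM).2
  have s0 := syl_top_of_sylow Nat.prime_two S0
  obtain ⟨j, -, ej⟩ := Sylow_Jsub Nat.prime_two s0
    (piElt_of_sq (g := (⟨t, t0⟩ : G0)) (Subtype.ext h.tt)).isPi le_top
  replace ej := ej (conj_mem_cj j (mem_zpowers _))
  have key : ∀ l : G0, l * ⟨t, t0⟩ = ⟨t, t0⟩ * l → l ∈ N[cj j⁻¹ (S0 : Subgroup G0)] := fun l e => by
    rw [← cj_N, mem_cj, inv_inv, ← eM]
    by_contra hn
    have mM : j * ⟨t, t0⟩ * j⁻¹ ∈ M := eM ▸ norm_self _ ej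
    have := orderOf_dvd_card' (H := M ⊓ cj (j * l * j⁻¹) M) ⟨mM, by
      have := conj_mem_cj (j * l * j⁻¹) mM
      rwa [show j * l * j⁻¹ * (j * ⟨t, t0⟩ * j⁻¹) * (j * l * j⁻¹)⁻¹ = j * (l * ⟨t, t0⟩ * l⁻¹) * j⁻¹ by
        group, e, mul_inv_cancel_right] at this⟩
    rw [orderOf_conj, ← orderOf_coe, orderOf_eq_prime (p := 2) (by rw [sq, h.tt]) h.t1] at this
    exact Nat.not_even_iff_odd.2 (hM.2.2 _ hn) (even_iff_two_dvd.2 this)
  have s1 := (s0.cj_mem (mem_top j⁻¹)).map G0.subtype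
  rw [map_subtype_top] at s1
  have nL : L ≤ N[(cj j⁻¹ (S0 : Subgroup G0)).map G0.subtype] := fun l hl =>
    le_normalizer_map G0.subtype ⟨⟨l, h.le hl⟩, key _ (Subtype.ext (mem_C1.1 (LC hl))), rfl⟩
  refine h5 ((h6 _ inf_le_left (s1.pi.inf_right L) (norm_inf (norm_self L) nL)).of_le
    (le_inf h3 (s1.le_of_norm h4 (h3.trans h.le) (h3.trans nL))))

/-- Burnside's fusion lemma -/
theorem St.fus (h : St L G0 t) (hT : Syl 2 C{t} T) (hs : DD t s) (h1 : T ≤ C{s}) :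
    ∃ g ∈ N[T], s = g * t * g⁻¹ := by
  obtain ⟨g, rfl⟩ := hs
  have s1 := hT.cj g
  rw [cj_C1] at s1
  obtain ⟨c, hc, e⟩ := Sylow_trans Nat.prime_two s1 (s1.of_card h1 (card_cj g T).symm)
  exact ⟨c * g, mem_N_iff_cj.2 (by rw [cj_mul, ← e]), by rw [← mem_C1_iff_conj.1 hc]; group⟩

theorem cyc_inv (hR : IsCyclic R) {a b : G} (ha : a ∈ R) (hb : b ∈ R) (a1 : a ≠ 1) (a2 : a * a = 1)
    (b1 : b ≠ 1) (b2 : b * b = 1) : a = b := by
  classical
  have := Fintype.ofFinite R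
  by_contra hn
  have := IsCyclic.card_pow_eq_one_le (α := R) (n := 2) two_pos
  have k : ({1, ⟨a, ha⟩, ⟨b, hb⟩} : Finset R) ⊆ Finset.univ.filter fun x : R => x ^ 2 = 1 := by
    intro x hx
    simp only [Finset.mem_insert, Finset.mem_singleton] at hx
    rcases hx with rfl | rfl | rfl <;> simp [sq, Subtype.ext_iff, a2, b2]
  have c := Finset.card_le_card k
  rw [Finset.card_eq_three.2 ⟨_, _, _, by simpa [Subtype.ext_iff] using a1.symm,
    by simpa [Subtype.ext_iff] using b1.symm, by simpa [Subtype.ext_iff] using hn, rfl⟩] at c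
  omega

theorem St.exists_lc (h : St L G0 t) (X : SzD K L)
    (cyc : ∀ R ≤ C[L], IsPi {2} R → IsCyclic R) : ∃ D, Lc X G0 t D := by
  obtain ⟨R, hR, tR⟩ := Sylow_superset Nat.prime_two (piElt_of_sq h.tt).isPi (zpowers_le.2 h.tC)
  replace tR := zpowers_le.1 tR
  have cR := cyc R hR.le hR.pi
  have aR : Abl R := cR.isMulCommutative
  have RS : X.S ≤ C[R] := cents_symm (cents_of_le hR.le X.S_le)
  have invR : ∀ r ∈ R, r * r = 1 → r = 1 ∨ r = t := fun r hr e =>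
    or_iff_not_imp_left.2 fun r1 => cyc_inv cR hr tR r1 e h.t1 h.tt
  have hT : Syl 2 C{t} (R ⊔ X.S) := (X.syl_N hR).of_le
    (sup_le (fun r hr => mem_C1.2 (aR.comm hr tR)) ((X.S_T t).trans ((h.T_C X).trans inf_le_left)))
    fun x hx => h.Ct x (mem_C1.1 hx)
  have dec : ∀ x ∈ R ⊔ X.S, ∃ r ∈ R, ∃ a b, x = r * X.u a b ∧ x * x = r * r * X.z (K.nm a) :=
    fun x hx => by
      obtain ⟨r, hr, _, ⟨a, b, rfl⟩, rfl⟩ := (mem_sup_of_norm (norm_of_cent RS)).1 hx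
      refine ⟨r, hr, a, b, rfl, ?_⟩
      rw [← X.u_sq a b, mul_assoc, ← mul_assoc (X.u a b), mem_C.1 (hR.le hr) _ (X.u_mem a b)]
      group
  have inv : ∀ x ∈ R ⊔ X.S, x * x = 1 → ∃ b, x = X.z b ∨ x = t * X.z b := fun x hx e => by
    obtain ⟨r, hr, a, b, rfl, e1⟩ := dec x hx
    rw [e, eq_comm, mul_eq_one_iff_eq_inv, X.z_inv] at e1
    have e2 := X.eq_one (X.z_mem (K.nm a)) (e1 ▸ hR.le (mul_mem hr hr))
    rw [e2] at e1
    rw [X.z_eq_one, K.nm_eq_zero] at e2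
    subst e2
    rcases invR r hr e1 with rfl | rfl
    exacts [⟨b, .inl (one_mul _)⟩, ⟨b, .inr rfl⟩]
  have zC : ∀ b, R ⊔ X.S ≤ C{X.z b} := fun b =>
    sup_le (fun r hr => mem_C1.2 (mem_C'.1 (hR.le hr) _ (X.z_mem b)))
      fun x hx => mem_C1.2 (mem_C'.1 (X.S_CZ hx) _ (X.z_mem_Z b))
  have tzC : ∀ b, R ⊔ X.S ≤ C{t * X.z b} := fun b x hx => mem_C1.2 (by
    rw [← mul_assoc, mem_C1.1 (hT.le hx), mul_assoc, mem_C1.1 (zC b hx), mul_assoc])
  have hz : ∀ {b c}, b ≠ 0 → c ≠ 0 → DD t (X.z b) → DD t (X.z c) := fun hb hc e => by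
    obtain ⟨k, rfl⟩ := K.exists_nm hb hc
    exact X.h_z k _ ▸ e.conj _
  have htz : ∀ {b c}, b ≠ 0 → c ≠ 0 → DD t (t * X.z b) → DD t (t * X.z c) := fun hb hc e => by
    obtain ⟨k, rfl⟩ := K.exists_nm hb hc
    have := e.conj (X.h k)
    rwa [← conj_mul, h.ht, X.h_z] at this
  have z0 : ∀ {b}, DD t (X.z b) → b ≠ 0 := fun e b0 => (e.sq h).2 (X.z_eq_one.2 b0)
  obtain ⟨e, he, e1, e2⟩ := h.zs hT (h.le (X.z_mem 1)) X.z1 (X.z_sq 1)
  have R2 : ∀ r ∈ R, r = 1 ∨ r = t := by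
    by_contra hn
    obtain ⟨r, hr, hn⟩ : ∃ r ∈ R, r * r ≠ 1 := by
      by_contra k
      exact hn fun r hr => invR r hr (by_contra fun e => k ⟨r, hr, e⟩)
    obtain ⟨n, n1, n2⟩ := inv_pow' (hR.pi.piElt (mul_mem hr hr)) hn
    have e3 := (invR _ (pow_mem (mul_mem hr hr) n) n2).resolve_left n1
    rw [(Commute.refl r).mul_pow] at e3
    obtain ⟨g, hg, rfl⟩ := h.fus hT e2 (by
      obtain ⟨b, rfl | rfl⟩ := inv e he (e2.sq h).1
      exacts [zC b, tzC b])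
    obtain ⟨r', hr', a, b, e4, e5⟩ := dec _ (conj_mem hg (mem_sup_left (pow_mem hr n)))
    have a0 : a = 0 := K.B_left fun y => by
      have c : g * r ^ n * g⁻¹ ∈ C[R ⊔ X.S] := conj_mem (N_le_NC _ hg)
        (cents_sup aR.le_C (cents_symm RS) (pow_mem hr n))
      have := conj_eq_of_mem_C c (mem_sup_right (X.u_mem_S y 0))
      rw [e4, show r' * X.u a b * X.u y 0 * (r' * X.u a b)⁻¹ =
        r' * (X.u a b * X.u y 0 * (X.u a b)⁻¹) * r'⁻¹ by group, X.u_conj,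
        conj_eq_of_mem_C (hR.le hr') (mul_mem (X.u_mem _ _) (X.z_mem _)), mul_eq_left,
        X.z_eq_one] at this
      exact this
    rw [conj_mul, e3, a0, K.nm_zero, X.z_zero, mul_one] at e5
    exact ((invR _ (e5 ▸ mul_mem hr' hr') (e2.sq h).1).elim (e2.sq h).2 e1)
  have zn : ∀ b, ¬ DD t (X.z b) := fun b hb => by
    by_cases k : DD t (t * X.z 1)
    · refine h.allD (E := zpowers t ⊔ X.Z) hT
        (sup_le (zpowers_le.2 (mem_sup_left tR)) (X.Z_le_S.trans le_sup_right))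
        ((abl_zpowers t).sup X.abl_Z (zpowers_le.2 (h.tZ X))) (fun x hx e => ?_) (fun x hx x1 => ?_)
        X.S_le X.pi_S X.not_abl_S fun P => X.abl_of_nml
      · obtain ⟨b, rfl | rfl⟩ := inv x hx e
        exacts [mem_sup_right (X.z_mem_Z b),
          mul_mem (mem_sup_left (mem_zpowers t)) (mem_sup_right (X.z_mem_Z b))]
      · obtain ⟨y, hy, _, ⟨c, rfl⟩, rfl⟩ :=
          (mem_sup_of_norm' (zpowers_le.2 (C_le_N _ (h.tZ X)))).1 hx
        rcases (mem_zp_inv h.tt).1 hy with rfl | rfl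
        · rw [one_mul] at x1 ⊢
          exact hz (z0 hb) (fun e => x1 (X.z_eq_one.2 e)) hb
        · by_cases c0 : c = 0
          · rw [c0, X.z_zero, mul_one]; exact DD.refl _
          · exact htz one_ne_zero c0 k
    obtain ⟨g, hg, e3⟩ := h.fus hT hb (zC b)
    have k2 : ∀ c, c ≠ 0 → g * X.z c * g⁻¹ = t := fun c c0 => by
      have d1 := (hz (z0 hb) c0 hb).conj g
      obtain ⟨d, e4 | e4⟩ := inv _ (conj_mem hg (mem_sup_right (X.u_mem_S 0 c))) (d1.sq h).1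
      · have e5 : X.z (b + d) = g * (t * X.z c) * g⁻¹ := by
          rw [← X.z_mul, ← conj_mul, ← e3]; exact congrArg _ e4.symm
        refine absurd (htz c0 one_ne_zero (DD.of_conj (g := g) (e5 ▸ hz (z0 hb) (fun e6 => ?_) hb))) k
        rw [e6, X.z_zero, eq_comm, conj_eq_one_iff, mul_eq_one_iff_eq_inv, X.z_inv] at e5
        exact h.t1 (X.eq_one (e5 ▸ X.z_mem c) h.tC)
      · by_cases d0 : d = 0
        · rw [d0, X.z_zero, mul_one] at e4; exact e4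
        · exact absurd (htz d0 one_ne_zero (e4 ▸ d1)) k
    obtain ⟨c, c0, c1, -⟩ := K.exists_ne 0 1 1
    have := (k2 c c0).trans (k2 1 one_ne_zero).symm
    rw [mul_left_inj, mul_right_inj] at this
    exact c1 (X.z_inj this)
  have dd : ∀ b, DD t (t * X.z b) := fun b => by
    by_cases b0 : b = 0
    · rw [b0, X.z_zero, mul_one]; exact DD.refl _
    obtain ⟨c, rfl | rfl⟩ := inv e he (e2.sq h).1
    · exact absurd e2 (zn c)
    · exact htz (fun c0 => e1 (by rw [c0, X.z_zero, mul_one])) b0 e2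
  have RC : C[L] ⊓ C{t} ≤ C[R] := fun x hx => mem_C.2 fun r hr => by
    rcases R2 r hr with rfl | rfl
    exacts [by simp, (mem_C1.1 hx.2).symm]
  obtain ⟨D, D1, D2, D3⟩ := H17.RC.exists_compl (W := C[L] ⊓ C{t})
    (hR.of_le (le_inf hR.le fun r hr => mem_C1.2 (aR.comm hr tR)) inf_le_left) (norm_of_cent RC)
  refine ⟨D, h, D2, D1.trans inf_le_left, D1.trans inf_le_right, fun k hk e => ?_, zn, dd⟩
  obtain ⟨r, hr, d, hd, rfl⟩ := D3 k ⟨hk, mem_C1.2 e⟩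
  rcases R2 r hr with rfl | rfl
  · exact .inl (by rwa [one_mul])
  · exact .inr (by rwa [mul_assoc, mem_C1.1 (D1 hd).2, ← mul_assoc, h.tt, one_mul])



end H2.SZ
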