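import Mathlib
import Cfsg.Agent.H2.UDefs
import Cfsg.Agent.H2.UB1b
import Cfsg.Agent.H2.ZR
import Cfsg.Agent.H2.Z1a

set_option autoImplicit false
set_option linter.unusedVariables false
set_option linter.unusedSectionVars false

namespace H2.U3

open Cfsg H24 Subgroup
open H2.SZ (St DD Goal)
open H2.C2 (Cl2)

universe u v

variable {G : Type u} [Group G] [Finite G] {E F : Type*} [Field E] [Fintype E] [Field F] [Fintype F]
  [Algebra E F] {K : UF E F} {L G0 D P P0 Q R A B C H T M W W1 W2 Z1 Z2 : Subgroup G}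
  {t g s f x y i v p : G} {X : UD K L} {a k : F} {b : E} {ρ : F ≃+* F}

local notation "𝐪" => Fintype.card E

/-! ### UB2 -/

open H2.SZ (piElt_of_sq mem_zp_inv cyc_inv odd_cent le_sup_of_odd)
open scoped commutatorElement

theorem Sc.tu (h : Sc L G0 t) (hg : g ∈ L) : g * t = t * g := mem_C.1 h.tC g hg
theorem Sc.ub2_L (h : Sc L G0 t) : L ≤ C{t} := fun _ hg => mem_C1.2 (h.tu hg)
theorem Sc.ub2_N (h : Sc L G0 t) : C{t} ≤ N[L] := fun g hg => h.Ct g (mem_C1.1 hg)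
theorem Sc.ub2_mem (h : Sc L G0 t) (hA : A ≤ L) : g ∈ zpowers t ⊔ A ↔ g ∈ A ∨ t * g ∈ A := by
  rw [mem_sup_of_norm (norm_zpowers_of_cent (hA.trans h.ub2_L))]
  constructor
  · rintro ⟨x, hx, y, hy, rfl⟩
    rcases (mem_zp_inv h.tt).1 hx with rfl | rfl
    · exact .inl (by rwa [one_mul])
    · exact .inr (by rwa [← mul_assoc, h.tt, one_mul])
  · rintro (e | e)
    · exact ⟨1, one_mem _, g, e, (one_mul g).symm⟩
    · exact ⟨t, mem_zpowers t, _, e, by rw [← mul_assoc, h.tt, one_mul]⟩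
theorem Sc.mem_T (h : Sc L G0 t) (X : UD K L) : g ∈ X.T t ↔ g ∈ X.S ∨ t * g ∈ X.S := h.ub2_mem X.S_le
theorem Sc.mem_E2 (h : Sc L G0 t) (X : UD K L) : g ∈ X.E2 t ↔ ∃ b, g = X.z b ∨ g = t * X.z b := by
  rw [UD.E2, h.ub2_mem (X.Z_le_S.trans X.S_le), X.mem_Z, X.mem_Z, exists_or]
  refine or_congr_right (exists_congr fun b => ⟨fun e => ?_, fun e => ?_⟩)
  · rw [← e, ← mul_assoc, h.tt, one_mul]
  · rw [e, ← mul_assoc, h.tt, one_mul]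
theorem Sc.t_L (h : Sc L G0 t) (X : UD K L) : t ∉ L := fun e =>
  h.t1 (X.two_LC e h.tC (piElt_of_sq h.tt))
theorem Sc.pi_T (h : Sc L G0 t) (X : UD K L) : IsPi {2} (X.T t) :=
  (piElt_of_sq h.tt).isPi.sup X.pi_S (norm_zpowers_of_cent (X.S_le.trans h.ub2_L))
theorem Sc.card_E2 (h : Sc L G0 t) (X : UD K L) : ♯(X.E2 t) = 2 * 𝐪 := by
  have ZL := X.Z_le_S.trans X.S_le
  rw [UD.E2, card_sup_of_inf (norm_zpowers_of_cent (ZL.trans h.ub2_L)) (eq_bot_iff.2 fun x hx => by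
    rcases (mem_zp_inv h.tt).1 hx.1 with rfl | rfl
    exacts [one_mem _, absurd (ZL hx.2) (h.t_L X)]), X.card_Z, card_zpowers',
    orderOf_eq_prime (p := 2) (by rw [sq, h.tt]) h.t1]
theorem UD.ub2_toS (X : UD K L) (hA : IsPi {2} A) (h1 : A ≤ N[L]) : ∃ l ∈ L, cj l A ≤ N[X.S] := by
  obtain ⟨P, hP, hAP⟩ := Sylow_superset Nat.prime_two hA h1
  obtain ⟨l, hl, e⟩ := Sylow_trans Nat.prime_two (hP.inf_nml (nml_N L)) X.syl_S
  exact ⟨l, hl, e ▸ norm_cj (norm_inf (norm_of_le hAP) h1) l⟩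
theorem Sc.toS (h : Sc L G0 t) (X : UD K L) (hA : IsPi {2} A) (h1 : A ≤ C{t}) :
    ∃ l ∈ L, cj l A ≤ N[X.S] := X.ub2_toS hA (h1.trans h.ub2_N)
theorem Sc.ub2_TC (h : Sc L G0 t) (X : UD K L) : X.T t ≤ C{t} :=
  sup_le (zpowers_le_C1 t) (X.S_le.trans h.ub2_L)
theorem Sc.exists_T (h : Sc L G0 t) (X : UD K L) : ∃ T, Syl 2 C{t} T ∧ X.T t ≤ T ∧ T ≤ N[X.S] := by
  obtain ⟨T, hT, h1⟩ := Sylow_superset Nat.prime_two (h.pi_T X) (h.ub2_TC X)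
  refine ⟨T, hT, h1, ?_⟩
  rw [← X.syl_S.eq_of_le (hT.pi.inf_left L) (le_inf (le_sup_right.trans h1) X.S_le) inf_le_right]
  exact norm_inf (norm_self T) (hT.le.trans h.ub2_N)
theorem Sc.T_le (h : Sc L G0 t) (X : UD K L) (hT : Syl 2 C{t} T) (h1 : T ≤ N[X.S]) : X.T t ≤ T :=
  hT.le_of_norm' (h.pi_T X) (h.ub2_TC X) (norm_sup (norm_zpowers_of_cent hT.le) h1)
/-- `χ` extends to `N(L)` -/
theorem UD.ub2_φ (X : UD K L) : ∃ φ : N[L] →* (F ≃+* F), (∀ g : N[L], (g : G) ∈ N[X.S] → φ g = X.χ g) ∧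
    ∀ g : N[L], (g : G) ∈ L → φ g = 1 := by
  choose l hl h using fun g : N[L] => X.exists_l (cj_le_of_mem_N X.S_le (inv_mem g.2))
  have e : ∀ g : N[L], ∀ l' ∈ L, (g : G) * l' ∈ N[X.S] → X.χ (g * l g) = X.χ (g * l') :=
    fun g l' h1 h2 => by
      have h3 : l'⁻¹ * l g ∈ N[X.S] := by
        have := mul_mem (inv_mem h2) (h g)
        rwa [mul_inv_rev, mul_assoc, inv_mul_cancel_left] at this
      rw [show (g : G) * l g = g * l' * (l'⁻¹ * l g) by group, X.χ_mul h2 h3,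
        X.χ_L (mul_mem (inv_mem h1) (hl g)) h3, mul_one]
  refine ⟨MonoidHom.mk' (fun g => X.χ (g * l g)) fun a b => ?_, fun g hg => ?_, fun g hg => ?_⟩
  · have e1 : ((a * b : N[L]) : G) * ((b : G)⁻¹ * l a * b * l b) = a * l a * (b * l b) := by
      rw [coe_mul]; group
    rw [e (a * b) _ (mul_mem (conj_mem' b.2 (hl a)) (hl b)) (e1 ▸ mul_mem (h a) (h b)), e1,
      X.χ_mul (h a) (h b)]
  · exact (e g 1 (one_mem _) (by rwa [mul_one])).trans (by rw [mul_one])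
  · exact X.χ_L (mul_mem hg (hl g)) (h g)
/-- a `2`-element in the kernel of `φ` induces an inner automorphism -/
theorem UD.ub2_ker (X : UD K L) {φ : N[L] →* (F ≃+* F)} (h1 : ∀ g : N[L], (g : G) ∈ N[X.S] → φ g = X.χ g)
    (h2 : ∀ g : N[L], (g : G) ∈ L → φ g = 1) (hg : g ∈ N[L]) (h3 : PiElt {2} g) (h4 : φ ⟨g, hg⟩ = 1) :
    ∃ l ∈ L, ∃ c ∈ C[L], g = l * c := by
  obtain ⟨l, hl, h⟩ := X.ub2_toS h3.isPi (zpowers_le.2 hg)
  have h5 := h (conj_mem_cj l (mem_zpowers g))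
  have lN := norm_self L hl
  obtain ⟨s, hs, c, hc, e⟩ := X.two_SC (conj_mem (norm_self _ lN) hg) h5 (h3.conj l) (by
    refine (h1 (⟨l, lN⟩ * ⟨g, hg⟩ * ⟨l, lN⟩⁻¹) h5).symm.trans ?_
    rw [map_mul, map_mul, map_inv, h2 _ hl, h4]; simp)
  refine ⟨l⁻¹ * s * l, conj_mem' lN (X.S_le hs), c, hc, ?_⟩
  rw [mul_assoc, mem_C.1 hc l hl, ← mul_assoc, mul_assoc _ s, ← e]
  group
theorem Sc.IN (h : Sc L G0 t) (X : UD K L) (hA : IsPi {2} A) (h1 : A ≤ N[L]) (hv : v ∈ N[L])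
    (h2 : v ∈ N[A]) (h3 : PiElt {2}ᶜ v) (hx : x ∈ A) : x * v * x⁻¹ * v⁻¹ ∈ L := by
  obtain ⟨φ, p1, p2⟩ := X.ub2_φ
  have := K.cyc_F
  have vL : zpowers v ≤ N[L] := zpowers_le.2 hv
  have vA : zpowers v ≤ N[A] := zpowers_le.2 h2
  have a1 : ⁅A, zpowers v⁆ ≤ A := comm_le_left vA
  have a2 : ⁅A, zpowers v⁆ ≤ φ.ker.map (N[L]).subtype := commutator_le.2 fun a ha b hb =>
    ⟨⟨a, h1 ha⟩ * ⟨b, vL hb⟩ * ⟨a, h1 ha⟩⁻¹ * ⟨b, vL hb⟩⁻¹, by
      change φ _ = 1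
      rw [map_mul, map_mul, map_mul, map_inv, map_inv, mul_inv_eq_one, mul_inv_eq_iff_eq_mul]
      exact (IsCyclic.commGroup (α := F ≃+* F)).mul_comm _ _, rfl⟩
  have a3 := H26.coprime_commGid vA (hA.coprime h3.isPi) (hA.sol Nat.prime_two)
  have a4 := norm_comm_right A (zpowers v)
  suffices ⁅⁅A, zpowers v⁆, zpowers v⁆ ≤ L from
    this (a3.ge (commutator_mem_commutator hx (mem_zpowers v)))
  generalize ⁅A, zpowers v⁆ = A1 at a1 a2 a4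
  obtain ⟨R, hR⟩ := Sylow_exists Nat.prime_two ((L ⊔ A1) ⊓ C[L])
  have RC : R ≤ C[L] := hR.le.trans inf_le_right
  have cR := h.cyc R RC hR.pi
  have aR : Abl R := cR.isMulCommutative
  have b1 : (L ⊔ A1) ⊓ C[L] ≤ R ⊔ L := le_sup_of_odd hR fun g hg ho =>
    le_of_idx_compl' (π := {2}) (nml_sup_left (a1.trans h1)) (by
      rw [relIndex_sup_of_norm (a1.trans h1)]; exact (hA.of_le a1).relIndex L) ho.isPi
      (zpowers_le.2 hg.1) (mem_zpowers g)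
  have LR : L ≤ C[R] := cents_symm RC
  have b2 : zpowers v ≤ N[R] := hR.norm_of_nml (b1.trans (sup_le (norm_self R) (norm_of_cent LR)))
    (norm_inf (norm_sup vL a4) (norm_C vL))
  have b3 : v ∈ C[R] := odd_cent h3 hR.pi aR (b2 (mem_zpowers v)) fun a ha e => by
    by_cases e1 : a = 1
    · rw [e1, one_mul, mul_one]
    · rw [eq_comm, ← mul_inv_eq_iff_eq_mul]
      exact cyc_inv cR (conj_mem (b2 (mem_zpowers v)) ha) ha (fun e => e1 (conj_eq_one_iff.1 e))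
        (by rw [conj_mul, e, mul_one, mul_inv_cancel]) e1 e
  refine commutator_le.2 fun a ha b hb => ?_
  obtain ⟨a', ha', rfl⟩ := a2 ha
  obtain ⟨l, hl, c, hc, e⟩ := X.ub2_ker p1 p2 a'.2 (hA.piElt (a1 ha)) ha'
  obtain ⟨y, hy, r, hr, rfl⟩ := (mem_sup_of_norm' (A := L) (B := R) (norm_of_cent LR)).1
    (sup_comm R L ▸ b1 (x := c) ⟨by
      rw [eq_inv_mul_of_mul_eq e.symm]; exact mul_mem (mem_sup_left (inv_mem hl)) (mem_sup_right ha), hc⟩)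
  change ⁅(a' : G), b⁆ ∈ L
  rw [e, ← mul_assoc, commutatorElement_def, mul_assoc _ r, mem_C.1 (zpowers_le.2 b3 hb) r hr,
    show l * y * (b * r) * (l * y * r)⁻¹ * b⁻¹ = l * y * (b * (l * y)⁻¹ * b⁻¹) by group]
  exact mul_mem (mul_mem hl hy) (conj_mem (vL hb) (inv_mem (mul_mem hl hy)))
theorem Sc.ub2_IN (h : Sc L G0 t) (X : UD K L) (hA : IsPi {2} A) (h1 : A ≤ C{g * t * g⁻¹})
    (hv : v ∈ C{g * t * g⁻¹}) (h2 : v ∈ N[A]) (h3 : PiElt {2}ᶜ v) (hx : x ∈ A) :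
    g⁻¹ * (x * v * x⁻¹ * v⁻¹) * g ∈ L := by
  have e : cj g⁻¹ C{g * t * g⁻¹} ≤ N[L] := by
    rw [cj_C1, show g⁻¹ * (g * t * g⁻¹) * g⁻¹⁻¹ = t by group]; exact h.ub2_N
  have := h.IN X (hA.cj g⁻¹) ((cj_mono _ h1).trans e) (e (conj_mem_cj g⁻¹ hv))
    (cj_N g⁻¹ A ▸ conj_mem_cj g⁻¹ h2) (h3.conj _) (conj_mem_cj g⁻¹ hx)
  convert this using 1
  group
theorem Sc.IN' (h : Sc L G0 t) (X : UD K L) (hA : IsPi {2} A) (h1 : A ≤ C{g * t * g⁻¹})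
    (hv : v ∈ C{g * t * g⁻¹}) (h2 : v ∈ N[A]) (h3 : PiElt {2}ᶜ v) (fp : ∀ a ∈ A, a * v = v * a → a = 1) :
    cj g⁻¹ A ≤ L := by
  rintro _ ⟨a, ha, rfl⟩
  let f : A → A := fun a => ⟨a * (v * (a : G)⁻¹ * v⁻¹), mul_mem a.2 (conj_mem h2 (inv_mem a.2))⟩
  obtain ⟨b, hb⟩ := Finite.injective_iff_surjective.1 (show Function.Injective f from fun a b e => by
    have e1 : (a : G) * (v * (a : G)⁻¹ * v⁻¹) = b * (v * (b : G)⁻¹ * v⁻¹) := congrArg Subtype.val e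
    have := fp _ (mul_mem (inv_mem b.2) a.2) (by
      calc _ = (b : G)⁻¹ * (a * (v * (a : G)⁻¹ * v⁻¹)) * v * a := by group
        _ = _ := by rw [e1]; group)
    exact Subtype.ext (inv_mul_eq_one.1 this).symm) ⟨a, ha⟩
  have := h.ub2_IN X hA h1 hv h2 h3 b.2
  rw [← show (f b : G) = a from congrArg Subtype.val hb]
  convert this using 1
  simp only [f, MulEquiv.coe_toMonoidHom, MonoidHom.coe_coe, MulAut.conj_apply]
  group
theorem Sc.S_in (h : Sc L G0 t) (X : UD K L) (h1 : g * t * g⁻¹ ∈ C[X.S]) (h2 : g * t * g⁻¹ ∈ C{X.w}) :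
    cj g⁻¹ X.S ≤ L := by
  have e : ∀ a, ∃ b, X.u a b ∈ cj g L := fun a => by
    have w1 : 1 + K.w ≠ 0 := fun e => K.w1 (by linear_combination e - K.addF 1)
    have := h.ub2_IN X X.pi_S (mem_C_iff_le_C1.1 h1) (mem_C1_comm.1 h2) X.w_NS X.w_odd
      (X.u_mem_S (a / (1 + K.w)) 0)
    rw [mul_assoc (X.u _ _), mul_assoc (X.u _ _), X.u_inv, X.w_u, X.u_mul, ← one_add_mul,
      mul_div_cancel₀ _ w1] at this
    exact ⟨_, mem_cj.2 this⟩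
  refine cj_le_iff.2 fun x hx => ?_
  obtain ⟨a, b, rfl⟩ := X.mem_S.1 hx
  obtain ⟨b', h3⟩ := e a
  obtain ⟨c, hc⟩ := K.nm_surj (b' + b)
  obtain ⟨d, h4⟩ := e c
  have := mul_mem h3 (mul_mem h4 h4)
  rwa [X.u_sq, X.u_z, hc, ← add_assoc, K.addE, zero_add, ← inv_inv g] at this
theorem Sc.NS_of (h : Sc L G0 t) (X : UD K L) (h1 : g * t * g⁻¹ ∈ C[X.S]) (h2 : g * t * g⁻¹ ∈ C{X.w})
    (hb : b ≠ 0) (h3 : g * X.z b * g⁻¹ ∈ X.S) : g ∈ N[X.S] := by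
  obtain ⟨l, hl, h4⟩ := X.exists_l (h.S_in X h1 h2)
  have := X.norm_S (inv_mem (norm_self L hl)) hb (by
    convert conj_mem' h4 h3 using 1
    group)
  simpa using mul_mem h4 this
theorem Sc.ub2_inv (h : Sc L G0 t) {c : G} (h1 : c ∈ C[L]) (ct : c * t = t * c) (cc : c * c = 1) :
    c = 1 ∨ c = t := or_iff_not_imp_left.2 fun c1 =>
  cyc_inv (h.cyc (zpowers c ⊔ zpowers t) (sup_le (zpowers_le.2 h1) (zpowers_le.2 h.tC))
    ((piElt_of_sq cc).isPi.sup (piElt_of_sq h.tt).isPi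
      (norm_zpowers_of_cent (zpowers_le.2 (mem_C1.2 ct.symm)))))
    (mem_sup_left (mem_zpowers c)) (mem_sup_right (mem_zpowers t)) c1 cc h.t1 h.tt
theorem Sc.inv_E2 (h : Sc L G0 t) (X : UD K L) (hg : g ∈ N[X.S]) (gt : g * t = t * g) (gg : g * g = 1) :
    g ∈ X.E2 t ∨ X.χ g = K.σ := by
  refine (K.aut_sq (ρ := X.χ g) (by
    rw [← X.χ_mul hg hg, gg]; exact X.χ_C (one_mem _))).imp_left fun e => ?_
  obtain ⟨s, hs, c, hc, rfl⟩ := X.two_SC (h.Ct g gt) hg (piElt_of_sq gg) e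
  have sL := X.S_le hs
  rw [mul_assoc, ← mul_assoc c, ← mem_C.1 hc s sL, mul_assoc, ← mul_assoc] at gg
  have ss : s * s = 1 := X.two_LC (mul_mem sL sL) (by
    rw [eq_inv_of_mul_eq_one_left gg]; exact inv_mem (mul_mem hc hc)) (X.pi_S.piElt (mul_mem hs hs))
  rw [ss, one_mul] at gg
  have ct : c * t = t * c := by
    rw [mul_assoc, ← mul_assoc t, ← h.tu sL, mul_assoc] at gt
    exact mul_left_cancel gt
  refine mul_mem (mem_sup_right (X.mem_Z_of_sq hs ss)) (mem_sup_left ?_)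
  exact (mem_zp_inv h.tt).2 (h.ub2_inv hc ct gg)
theorem Sc.RK (h : Sc L G0 t) (X : UD K L) (hs : DD t s) (h1 : A ≤ C{s}) (el : ∀ a ∈ A, a * a = 1) :
    ♯A ≤ 4 * 𝐪 := by
  obtain ⟨g, rfl⟩ := hs
  have hA : IsPi {2} A := isPi_iff_piElt.2 fun a ha => piElt_of_sq (el a ha)
  have e : cj g⁻¹ A ≤ C{t} := by
    have := cj_mono g⁻¹ h1
    rwa [cj_C1, show g⁻¹ * (g * t * g⁻¹) * g⁻¹⁻¹ = t by group] at this
  obtain ⟨l, hl, h2⟩ := h.toS X (hA.cj _) e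
  have h3 := cj_le_of_mem e (h.ub2_L hl)
  have h4 : ∀ a ∈ cj l (cj g⁻¹ A), a * a = 1 := by
    rintro _ ⟨_, ⟨a, ha, rfl⟩, rfl⟩
    rw [← map_mul, ← map_mul, el a ha, map_one, map_one]
  rw [← card_cj g⁻¹, ← card_cj l]
  generalize cj l (cj g⁻¹ A) = B at h2 h3 h4
  have h5 := card_le (inf_le_left : X.E2 t ⊓ B ≤ _)
  rw [h.card_E2] at h5
  rw [← card_inf_mul_relIndex (X.E2 t) B]
  suffices (X.E2 t).relIndex B ≤ 2 by nlinarith
  by_cases h6 : B ≤ X.E2 t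
  · rw [relIndex_eq_one.2 h6]; omega
  obtain ⟨a, ha, h6⟩ := SetLike.not_le_iff_exists.1 h6
  have key : ∀ a ∈ B, a ∉ X.E2 t → X.χ a = K.σ := fun a ha e =>
    (h.inv_E2 X (h2 ha) (mem_C1.1 (h3 ha)) (h4 a ha)).resolve_left e
  refine (relIndex_eq_two_iff.2 ⟨a, ha, fun b hb => ?_⟩).le
  by_cases h7 : b ∈ X.E2 t
  · exact .inr ⟨h7, fun e => h6 ((mul_mem_cancel_left h7).1 e)⟩
  · refine .inl ⟨by_contra fun e => K.σ_ne ?_, h7⟩
    have := key _ (mul_mem hb ha) e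
    rwa [X.χ_mul (h2 hb) (h2 ha), key a ha h6, key b hb h7, mul_eq_left] at this

end H2.U3
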