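import Mathlib
import Cfsg.Agent.H2.UDefs
import Cfsg.Agent.H2.UB2
import Cfsg.Agent.H2.ZB

set_option autoImplicit false
set_option linter.unusedVariables false
set_option linter.unusedSectionVars false

namespace H2.U3

open Cfsg H24 Subgroup
open H2.SZ (St DD Goal piElt_of_sq inv_pow')
open H2.C2 (Cl2)

universe u v

variable {G : Type u} [Group G] [Finite G] {E F : Type*} [Field E] [Fintype E] [Field F] [Fintype F]
  [Algebra E F] {K : UF E F} {L G0 D P P0 Q R A B C H T M W W1 W2 Z1 Z2 : Subgroup G}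
  {t g s f x y i v p : G} {X : UD K L} {a k : F} {b : E} {ρ : F ≃+* F}

local notation "𝐪" => Fintype.card E

/-! ### UB3 -/

theorem Lc.ub3_D (h : Lc X G0 t D) : D ≤ C[X.T t] :=
  cents_sup (by rw [C_zpowers]; exact h.D_t) (cents_of_le h.D_L X.S_le)

theorem Lc.act_T (h : Lc X G0 t D) (h1 : X.Act g 1 1) (gt : g * t = t * g) :
    ∃ e ∈ X.T t, ∃ d ∈ D, g = e * d := by
  obtain ⟨s, hs, k, hk, rfl⟩ := h1.ub1_SC (h.Ct g gt)
  have e : k * t = t * k := by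
    rw [mul_assoc, ← mul_assoc t, ← h.tu (X.S_le hs), mul_assoc] at gt
    exact mul_left_cancel gt
  rcases h.dec k hk e with e1 | e1
  · exact ⟨_, mem_sup_right hs, k, e1, rfl⟩
  · refine ⟨s * t, mul_mem (mem_sup_right hs) (mem_sup_left (mem_zpowers t)), _, e1, ?_⟩
    rw [e, mul_assoc, ← mul_assoc t, h.tt, one_mul]

theorem Lc.two_T (h : Lc X G0 t D) (hg : g ∈ N[X.S]) (gt : g * t = t * g) (h2 : PiElt {2} g)
    (e : X.χ g = 1) : g ∈ X.T t := by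
  obtain ⟨s, hs, d, hd, e⟩ := h.act_T (X.act_two hg h2 e) gt
  exact (piElt_decomp_unique h2 (piElt_one _) ((h.pi_T X).piElt hs) (h.odd.piElt hd) (by simp)
    (mem_C.1 (h.ub3_D hd) s hs) (by rw [mul_one, e])).1 ▸ hs

theorem Lc.ub3_E (h : Lc X G0 t D) (hg : g ∈ X.T t) (h1 : g ∈ X.S → g ∈ X.Z) (h2 : t * g ∈ X.S → t * g ∈ X.Z) :
    g ∈ X.E2 t := by
  rcases (h.mem_T X).1 hg with a | a
  · exact mem_sup_right (h1 a)
  · exact (mul_mem_cancel_left (mem_sup_left (mem_zpowers t))).1 (mem_sup_right (h2 a))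

theorem Lc.CSt (h : Lc X G0 t D) (h1 : g ∈ C[X.S]) (gt : g * t = t * g) :
    ∃ e ∈ X.E2 t, ∃ d ∈ D, g = e * d := by
  obtain ⟨e, he, d, hd, rfl⟩ := h.act_T (X.ub1_C h1) gt
  have c := (mul_mem_cancel_right (C_anti X.S_le (h.D_L hd))).1 h1
  exact ⟨e, h.ub3_E he (fun a => X.S_CS ⟨a, c⟩) fun a => X.S_CS ⟨a, mul_mem (C_anti X.S_le h.tC) c⟩,
    d, hd, rfl⟩

theorem Lc.two_E (h : Lc X G0 t D) (h1 : g ∈ C[X.S]) (gt : g * t = t * g) (h2 : PiElt {2} g) :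
    g ∈ X.E2 t :=
  h.ub3_E (h.two_T (C_le_N _ h1) gt h2 (X.χ_C h1)) (fun a => X.S_CS ⟨a, h1⟩)
    fun a => X.S_CS ⟨a, mul_mem (C_anti X.S_le h.tC) h1⟩

theorem Lc.odd_D (h : Lc X G0 t D) (h1 : X.Act g 1 1) (gt : g * t = t * g) (h2 : PiElt {2}ᶜ g) :
    g ∈ D := by
  obtain ⟨s, hs, d, hd, e⟩ := h.act_T h1 gt
  exact (piElt_decomp_unique (piElt_one {2}) h2 ((h.pi_T X).piElt hs) (h.odd.piElt hd) (by simp)
    (mem_C.1 (h.ub3_D hd) s hs) (by rw [one_mul, e])).2 ▸ hd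

theorem Lc.ZL_D (h : Lc X G0 t D) : L ⊓ C[L] ≤ D := fun g hg => by
  have c := h.tu hg.1
  refine (h.dec g hg.2 c).resolve_right fun a => h.t1 ((piElt_of_sq h.tt).eq_one ?_)
  simpa using (X.cL.piElt hg).inv.mul (h.odd.piElt a) (by rw [inv_mul_cancel_left, c, mul_inv_cancel_right])

theorem Lc.CW (h : Lc X G0 t D) : Syl 2 (C{t} ⊓ C{X.w}) (X.E2 t) := by
  refine syl_of_max Nat.prime_two ((h.pi_T X).of_le (sup_le_sup_left X.Z_le_S _))
    (sup_le (zpowers_le.2 ⟨self_mem_C1 t, mem_C1.2 (h.tu X.w_mem).symm⟩) fun z hz => ?_)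
    fun Q hQ h1 h2 g hg => ?_
  · obtain ⟨b, rfl⟩ := X.mem_Z.1 hz
    exact ⟨mem_C1.2 (h.tu (X.z_mem b)), mem_C1.2 (X.w_z b).symm⟩
  have QN : Q ≤ N[L] := fun x hx => h.Ct x (mem_C1.1 (h2 hx).1)
  have z1 := h1 (mem_sup_right (X.z_mem_Z 1))
  obtain ⟨c, hc, c1⟩ := exists_ne_one (hQ.inf_C_ne_bot Nat.prime_two (hQ.inf_left L)
    (norm_inf (norm_self Q) QN) (ne_bot_of_mem (mem_inf.2 ⟨z1, X.z_mem 1⟩) X.z1))
  obtain ⟨n, n1, n2⟩ := inv_pow' (hQ.piElt hc.1.1) c1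
  replace hc := pow_mem hc n
  obtain ⟨b, e⟩ := X.mem_Z.1 (X.mem_Z_of_sq (X.two_L hc.1.2 (X.norm_S (QN hc.1.1) one_ne_zero (by
    rw [conj_eq_of_mem_C hc.2 z1]; exact X.u_mem_S 0 1)) (hQ.piElt hc.1.1)) n2)
  rw [e] at hc n1
  have gS := X.norm_S (QN hg) (fun a => n1 (X.z_eq_one.2 a)) (by
    rw [mem_C.1 hc.2 g hg, mul_inv_cancel_right]; exact X.u_mem_S 0 b)
  exact h.two_E (X.χ_w gS (hQ.piElt hg) (mem_C1.1 (h2 hg).2)) (mem_C1.1 (h2 hg).1) (hQ.piElt hg)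

theorem Lc.CF (h : Lc X G0 t D) (hf : f ∈ N[X.S]) (ft : f * t = t * f) (ff : f * f = 1)
    (e : X.χ f = K.σ) (h1 : A ≤ C{t} ⊓ C{f}) (h4 : ∀ a ∈ A, a * a * (a * a) = 1) : ♯A ≤ 8 * 𝐪 := by
  classical
  have pA : IsPi {2} A := isPi_iff_piElt.2 fun a ha =>
    piElt_of_pow_eq_one (piNat_self_pow Nat.prime_two 2) (by rw [← h4 a ha]; simp [pow_succ, mul_assoc])
  obtain ⟨l, hl, hN⟩ := h.toS X (pA.sup' (piElt_of_sq ff).isPi fun a ha => C_le_N _ (by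
    rw [C_zpowers]; exact (h1 ha).2)) (sup_le (fun a ha => (h1 ha).1) (zpowers_le.2 (mem_C1.2 ft)))
  have lt : l ∈ C{t} := mem_C1.2 (h.tu hl)
  have fN := hN (conj_mem_cj l (mem_sup_right (mem_zpowers f)))
  have f2 : l * f * l⁻¹ * (l * f * l⁻¹) = 1 := by rw [conj_mul, ff, mul_one, mul_inv_cancel]
  have ft' := mul_mem (mul_mem lt (mem_C1.2 ft)) (inv_mem lt)
  have tS : t ∈ C[X.S] := C_anti X.S_le h.tC
  have fσ := (h.inv_E2 X fN (mem_C1.1 ft') f2).resolve_left fun a => K.σ_ne (by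
    obtain ⟨b, a | a⟩ := (h.mem_E2 X).1 a
    · exact e.symm.trans (X.χ_L ((conj_mem_iff (norm_self L hl)).1 (a ▸ X.z_mem b)) hf)
    · have := X.χ_L (g := t * f) ((conj_mem_iff (norm_self L hl)).1 (by
        rw [← conj_mul, a, mem_C1_iff_conj.1 lt, ← mul_assoc, h.tt, one_mul]; exact X.z_mem b))
        (mul_mem (C_le_N _ tS) hf)
      rwa [X.χ_mul (C_le_N _ tS) hf, X.χ_C tS, one_mul, e] at this)
  have AN : cj l A ≤ N[X.S] := (map_mono le_sup_left).trans hN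
  have AC : ∀ a ∈ cj l A, a ∈ C{t} ∧ a ∈ C{l * f * l⁻¹} ∧ a * a * (a * a) = 1 := fun a ha => by
    obtain ⟨c, hc, rfl⟩ := mem_cj'.1 ha
    exact ⟨mul_mem (mul_mem lt (h1 hc).1) (inv_mem lt), mem_C1.2 (by
      rw [conj_mul, conj_mul, mem_C1.1 (h1 hc).2]), by
      rw [conj_mul, conj_mul, h4 c hc, mul_one, mul_inv_cancel]⟩
  rw [← card_cj l A]
  replace pA := pA.cj l
  generalize cj l A = B at AN AC pA
  generalize l * f * l⁻¹ = j at fN f2 ft' fσ AC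
  let φ : B →* (F ≃+* F) := MonoidHom.mk' (fun a => X.χ a) fun a b => X.χ_mul (AN a.2) (AN b.2)
  have k1 : ♯φ.ker ≤ 2 * 𝐪 := by
    rw [← h.card_E2 X, ← card_map_of_injective (f := B.subtype) B.subtype_injective]
    refine card_le_of_le ?_
    rintro _ ⟨a, ha, rfl⟩
    have o := (X.out_C fN f2 fσ).2
    exact h.ub3_E (h.two_T (AN a.2) (mem_C1.1 (AC a a.2).1) (pA.piElt a.2) ha)
      (fun s => o.le ⟨s, (AC a a.2).2.1⟩) fun s => o.le ⟨s, mul_mem (mem_C1_comm.1 ft') (AC a a.2).2.1⟩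
  have k2 : ♯φ.range ≤ 4 := by
    have := K.cyc_F
    have := Fintype.ofFinite (F ≃+* F)
    refine le_trans ?_ (IsCyclic.card_pow_eq_one_le (α := F ≃+* F) (n := 4) (by omega))
    rw [← Fintype.card_coe, ← Nat.card_eq_fintype_card]
    refine Nat.card_le_card_of_injective (fun x => ⟨x.1, ?_⟩) fun x y e => Subtype.ext (Subtype.mk.inj e)
    obtain ⟨_, a, rfl⟩ := x
    simp only [Finset.mem_filter, Finset.mem_univ, true_and]
    rw [← map_pow, show a ^ 4 = 1 from Subtype.ext (by simpa [pow_succ, mul_assoc] using (AC a a.2).2.2), map_one]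
  rw [← card_mul_index φ.ker, index_ker]
  calc _ ≤ 2 * 𝐪 * 4 := Nat.mul_le_mul k1 k2
    _ = _ := by ring

theorem Lc.AJ (h : Lc X G0 t D) (hg : g ∈ N[X.S]) (gt : g * t = t * g) (gg : g * g ∈ X.S)
    (e : X.χ g = K.σ) : ∃ s ∈ X.S, g * s * (g * s) = 1 ∧
      ∀ k, g * s * X.h k * (g * s)⁻¹ * (X.h k)⁻¹ ∈ D := by
  obtain ⟨k0, hk⟩ := IsCyclic.exists_monoid_generator (α := Eˣ)
  have k1 : k0 ≠ 1 := fun a => by
    obtain ⟨k, b⟩ := K.exists_unit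
    obtain ⟨n, c⟩ := hk k
    exact b (by rw [← c, a]; exact one_pow n)
  have gL := h.Ct g gt
  obtain ⟨k', s0, h0, d, hd, e1, e2⟩ := X.h_eqv gL hg k0
  rw [e, K.σ_alg] at e2
  obtain rfl : k' = k0 := Units.ext ((algebraMap E F).injective e2)
  obtain ⟨⟨s, hs⟩, e3⟩ := Finite.injective_iff_surjective.1
    (show Function.Injective (fun s : X.S => (⟨(X.h k')⁻¹ * s * X.h k' * s⁻¹,
      mul_mem (conj_mem' (X.h_NS k') s.2) (inv_mem s.2)⟩ : X.S)) from fun a b c => by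
      have c1 : (X.h k')⁻¹ * a * X.h k' * (a : G)⁻¹ = (X.h k')⁻¹ * b * X.h k' * (b : G)⁻¹ :=
        congrArg Subtype.val c
      exact Subtype.ext (inv_mul_eq_one.1 (X.fix_h k1 (mul_mem (inv_mem b.2) a.2) (by
        calc _ = (b : G)⁻¹ * X.h k' * ((X.h k')⁻¹ * a * X.h k' * (a : G)⁻¹) * a := by group
          _ = _ := by rw [c1]; group))).symm) ⟨_, conj_mem' hg (inv_mem h0)⟩
  replace e3 : (X.h k')⁻¹ * s * X.h k' * s⁻¹ = g⁻¹ * s0⁻¹ * g := congrArg Subtype.val e3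
  have e4 : g * s * X.h k' * (g * s)⁻¹ = X.h k' * d := by
    calc _ = g * X.h k' * g⁻¹ * g * ((X.h k')⁻¹ * s * X.h k' * s⁻¹) * g⁻¹ := by group
      _ = _ := by rw [e3, e1, mul_assoc _ s0, mem_C.1 hd.2 s0 (X.S_le h0)]; group
  have fL := mul_mem gL (norm_self L (X.S_le hs))
  have f2 : g * s * (g * s) ∈ X.S := by
    simpa only [mul_assoc, mul_inv_cancel_left] using mul_mem (mul_mem gg (conj_mem' hg hs)) hs
  refine ⟨s, hs, ?_, ?_⟩ <;> generalize g * s = f at e4 fL f2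
  · have a : (X.h k')⁻¹ * (f * f) * X.h k' * (f * f)⁻¹ = d * (f * d * f⁻¹) := by
      calc _ = (X.h k')⁻¹ * (f * (f * X.h k' * f⁻¹) * f⁻¹) := by group
        _ = _ := by rw [e4, ← conj_mul, e4]; group
    have b := X.two_LC (a ▸ mul_mem hd.1 (conj_mem fL hd.1)) (a ▸ mul_mem hd.2 (conj_mem (N_le_NC _ fL) hd.2))
      (X.pi_S.piElt (mul_mem (conj_mem' (X.h_NS k') f2) (inv_mem f2)))
    exact X.fix_h k1 f2 (by
      calc _ = X.h k' * ((X.h k')⁻¹ * (f * f) * X.h k' * (f * f)⁻¹) * (f * f) := by group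
        _ = _ := by rw [b, mul_one])
  have nZ : N[L] ≤ N[L ⊓ C[L]] := norm_inf le_rfl (N_le_NC L)
  have nh := fun k => nZ (norm_self L (X.h_mem k))
  intro k
  obtain ⟨n, rfl⟩ := hk k
  refine h.ZL_D ?_
  induction n with
  | zero =>
    have : X.h 1 ∈ L ⊓ C[L] := ⟨X.h_mem 1, X.h_one⟩
    change f * X.h (k' ^ 0) * f⁻¹ * (X.h (k' ^ 0))⁻¹ ∈ _
    rw [pow_zero]
    exact mul_mem (conj_mem (nZ fL) this) (inv_mem this)
  | succ n ih =>
    obtain ⟨c, hc, e5⟩ := X.h_mul (k' ^ n) k'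
    have := mul_mem ih (conj_mem (nh (k' ^ n)) (conj_mem (nh k')
      (mul_mem (mul_mem hd (conj_mem (nZ fL) hc)) (inv_mem hc))))
    change f * X.h (k' ^ (n + 1)) * f⁻¹ * (X.h (k' ^ (n + 1)))⁻¹ ∈ _
    rw [pow_succ, e5, ← conj_mul, ← conj_mul, e4]
    convert this using 1
    group

end H2.U3
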