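import Mathlib
import Cfsg.Agent.H2.UDefs
import Cfsg.Agent.H26.B71C
import Cfsg.Agent.H3.Split
import Cfsg.Agent.H14.MinNorm

set_option autoImplicit false
set_option linter.unusedVariables false
set_option linter.unusedSectionVars false

namespace H2.U3

open Cfsg H24 Subgroup

universe u v

namespace UM1

theorem two_of_sq {G : Type*} [Group G] {x : G} (h : x * x = 1) : PiElt {2} x :=
  piElt_of_pow_eq_one (n := 2) (fun p hp hd => (Nat.prime_dvd_prime_iff_eq hp Nat.prime_two).1 hd)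
    (by rw [sq, h])

/-- a `2`-element is conjugate into a Sylow subgroup -/
theorem into {G : Type*} [Group G] [Finite G] {H S : Subgroup G} {x : G} (hS : Syl 2 H S)
    (hx : PiElt {2} x) (xH : x ∈ H) : ∃ g ∈ H, g * x * g⁻¹ ∈ S := by
  obtain ⟨g, hg, e⟩ := Sylow_Jsub Nat.prime_two hS hx.isPi (zpowers_le.2 xH)
  exact ⟨g, hg, e (conj_mem_cj g (mem_zpowers x))⟩

/-- an involution normalising a non-trivial `2`-group fixes a non-trivial element -/
theorem fixp {G : Type*} [Group G] [Finite G] {B : Subgroup G} {t : G} (hB : IsPi {2} B) (h1 : B ≠ ⊥)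
    (ht : t ∈ N[B]) (tt : t * t = 1) : ∃ b ∈ B, b ≠ 1 ∧ b * t = t * b := by
  have := Fact.mk Nat.prime_two
  have h := H2.inf_centralizer_ne_bot_of_isPGroup ((two_of_sq tt).isPi.isPGroup Nat.prime_two)
    (hB.isPGroup Nat.prime_two) (zpowers_le.2 ht) h1
  obtain ⟨⟨b, hb⟩, b1⟩ := ne_bot_iff_exists_ne_one.1 h
  exact ⟨b, hb.1, fun e => b1 (Subtype.ext e), (hb.2 t (mem_zpowers t)).symm⟩

/-- what is used of a simple group with abelian Sylow `2`-subgroups -/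
def Good (T : Type*) [Group T] : Prop :=
  ∀ S : Subgroup T, Syl 2 ⊤ S → Abl S → (∀ x ∈ S, x * x = 1) ∧
    (∀ x ∈ S, x ≠ 1 → ∀ y ∈ S, y ≠ 1 → ∃ g, y = g * x * g⁻¹) ∧ ∀ x ∈ S, ∃ y ∈ S, y ≠ 1 ∧ y ≠ x

section pi
variable {T : Type*} [Group T] [Finite T] {ι : Type} [Fintype ι] [DecidableEq ι] {B Z : Subgroup (ι → T)}

theorem syl_ev (hB : Syl 2 ⊤ B) (i : ι) : Syl 2 ⊤ (B.map (Pi.evalMonoidHom (fun _ => T) i)) := by
  have := hB.map (Pi.evalMonoidHom (fun _ : ι => T) i)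
  rwa [map_top_of_surjective _ fun x => ⟨fun _ => x, rfl⟩] at this

theorem mem_of_ev (hT : Good T) (hB : Syl 2 ⊤ B) (ab : Abl B) {x : ι → T}
    (h : ∀ i, x i ∈ B.map (Pi.evalMonoidHom (fun _ => T) i)) : x ∈ B := by
  have e := hB.eq_of_le (K := Subgroup.pi Set.univ fun i => B.map (Pi.evalMonoidHom (fun _ => T) i))
    (isPi_iff_piElt.2 fun y hy => two_of_sq (funext fun i =>
      (hT _ (syl_ev hB i) (ab.map _)).1 _ (hy i trivial))) (fun y hy i _ => ⟨y, hy, rfl⟩) le_top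
  exact e ▸ fun i _ => h i

theorem repl (hT : Good T) (hB : Syl 2 ⊤ B) (ab : Abl B) {z : ι → T} (hz : z ∈ B) {i : ι} (z1 : z i ≠ 1)
    {a : T} (ha : a ∈ B.map (Pi.evalMonoidHom (fun _ => T) i)) (a1 : a ≠ 1) :
    ∃ g, g * z * g⁻¹ ∈ B ∧ g * z * g⁻¹ = Pi.mulSingle i (a * (z i)⁻¹) * z := by
  obtain ⟨g, hg⟩ := (hT _ (syl_ev hB i) (ab.map _)).2.1 (z i) ⟨z, hz, rfl⟩ z1 a ha a1
  have e : (Pi.mulSingle i g : ι → T) * z * (Pi.mulSingle i g)⁻¹ = Pi.mulSingle i (a * (z i)⁻¹) * z := by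
    funext j
    by_cases h : j = i
    · subst h; simp [hg]
    · simp [Pi.mulSingle_eq_of_ne h]
  refine ⟨_, ?_, e⟩
  rw [e]
  refine mem_of_ev hT hB ab fun j => ?_
  by_cases h : j = i
  · subst h; simpa using ha
  · simpa [Pi.mulSingle_eq_of_ne h] using ⟨z, hz, rfl⟩

theorem pi_move (hT : Good T) (hB : Syl 2 ⊤ B) (ab : Abl B) {z : ι → T} (hz : z ∈ B) (z1 : z ≠ 1) :
    ∃ g, g * z * g⁻¹ ∈ B ∧ g * z * g⁻¹ ≠ z := by
  obtain ⟨i, hi⟩ := Function.ne_iff.1 z1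
  obtain ⟨a, ha, a1, az⟩ := (hT _ (syl_ev hB i) (ab.map _)).2.2 (z i) ⟨z, hz, rfl⟩
  obtain ⟨g, h1, h2⟩ := repl hT hB ab hz hi ha a1
  refine ⟨g, h1, fun e => az ?_⟩
  have := congrFun (h2.symm.trans e) i
  simpa using this

theorem pi_le (hT : Good T) (hB : Syl 2 ⊤ B) (ab : Abl B) (ZB : Z ≤ B)
    (sc : ∀ g, ∀ z ∈ Z, g * z * g⁻¹ ∈ B → g * z * g⁻¹ ∈ Z) (all : ∀ i, ∃ z ∈ Z, z i ≠ 1) : B ≤ Z := by
  intro x hx
  refine pi_mem_of_mulSingle_mem x fun i => ?_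
  obtain ⟨z, hz, z1⟩ := all i
  let D := Z.comap (MonoidHom.mulSingle (fun _ : ι => T) i)
  have k : ∀ a ∈ B.map (Pi.evalMonoidHom (fun _ => T) i), a ≠ 1 → a * (z i)⁻¹ ∈ D := fun a ha a1 => by
    obtain ⟨g, h1, h2⟩ := repl hT hB ab (ZB hz) z1 ha a1
    have := sc g z hz h1
    rw [h2] at this
    exact (mul_mem_cancel_right hz).1 this
  have zi : z i ∈ B.map (Pi.evalMonoidHom (fun _ => T) i) := ⟨z, ZB hz, rfl⟩
  have k' : ∀ a ∈ B.map (Pi.evalMonoidHom (fun _ => T) i), a * z i ≠ 1 → a ∈ D := fun a ha a1 => by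
    simpa using k _ (mul_mem ha zi) a1
  show x i ∈ D
  by_cases h : x i * z i = 1
  · obtain ⟨a, ha, a1, az⟩ := (hT _ (syl_ev hB i) (ab.map _)).2.2 (z i) zi
    have s := (hT _ (syl_ev hB i) (ab.map _)).1 _ zi
    have h1 := k' a ha fun e => az (mul_right_cancel (e.trans s.symm))
    rw [eq_inv_of_mul_eq_one_left h]
    exact (mul_mem_cancel_left h1).1 (k a ha a1)
  · exact k' _ ⟨x, hx, rfl⟩ h

end pi


theorem no_two {T : Type*} [Group T] [Finite T] [IsSimpleGroup T] (nab : ¬ IsMulCommutative T)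
    {R : Subgroup T} {m : ℕ} (hm : Odd m) (hR : R.index = 2 * m) {x : T} (hx : x * x = 1) :
    ∃ g, g * x * g⁻¹ ∈ R := by
  by_contra h
  push Not at h
  obtain ⟨H, h2, -⟩ := H6.thompson_transfer hm hR hx h
  rcases (normal_of_index_eq_two h2).eq_bot_or_eq_top with e | e
  · rw [e, index_bot] at h2
    have := isCyclic_of_prime_card (p := 2) h2
    exact nab inferInstance
  · rw [e, index_top] at h2
    omega

theorem odd_idx {T : Type*} [Group T] [Finite T] {S : Subgroup T} (hS : Syl 2 ⊤ S) : Odd S.index := by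
  have := hS.not_dvd Nat.prime_two
  rw [relIndex_top_right] at this
  exact Nat.odd_iff.2 (by omega)

theorem good {T : Type*} [Group T] [Finite T] [IsSimpleGroup T] (nab : ¬ IsMulCommutative T) :
    Good T := by
  intro S hS ab
  have o2 : ∀ x : T, x * x = 1 → x ≠ 1 → orderOf x = 2 := fun x h h1 =>
    orderOf_eq_prime (by rw [sq, h]) h1
  have big : 2 < ♯S → ∀ x ∈ S, ∃ y ∈ S, y ≠ 1 ∧ y ≠ x := fun h x hx => by
    by_contra k
    push Not at k
    have : (S : Set T) ⊆ {1, x} := fun y hy => (eq_or_ne y 1).imp_right (k y hy)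
    have h1 := Set.ncard_le_ncard this
    have h2 := Set.ncard_insert_le 1 ({x} : Set T)
    rw [Set.ncard_singleton] at h2
    have h3 : (S : Set T).ncard = ♯S := (Nat.card_coe_set_eq _).symm
    omega
  rcases H26.Gold.abelian_sylow nab hS ab with ⟨H, hH⟩ | ⟨el, h4⟩ | ⟨el, h8, tr, -⟩
  · obtain ⟨t, Q, s, r, hG⟩ := H3.B71.bender_simple hH
    have tz := H26.Gold.tz_of_hyp hG
    obtain ⟨g, -, rfl⟩ := Sylow_trans Nat.prime_two tz.syl hS
    have hQ : Abl Q := abl_cj.1 ab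
    have el : ∀ x ∈ cj g Q, x * x = 1 := fun x hx => by
      obtain ⟨y, hy, rfl⟩ := mem_cj'.1 hx
      rw [conj_mul, hG.struct'.ab (fun x hx y hy => hQ.comm hx hy) y hy, mul_one, mul_inv_cancel]
    refine ⟨el, fun x hx x1 y hy y1 => (H26.BR.conj_of_se hH (o2 x (el x hx) x1)
      (o2 y (el y hy) y1)).imp fun _ e => e.symm, big ?_⟩
    have h1 := hG.four_le_card_Q0
    have h2 := card_le_of_le (H8.Suz.Q0_le (Q := Q))
    rw [card_cj]
    omega
  · refine ⟨fun x hx => (sq x).symm.trans (el.2 x hx), fun x hx x1 y hy y1 => ?_, big (by omega)⟩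
    have h1 := relIndex_mul_index (zpowers_le.2 hy)
    have h2 := card_mul_index ((zpowers y).subgroupOf S)
    rw [card_subgroupOf_of_le (zpowers_le.2 hy), card_zpowers', o2 y ((sq y).symm.trans (el.2 y hy)) y1, h4] at h2
    obtain ⟨g, hg⟩ := no_two nab (R := zpowers y) (odd_idx hS)
      (by rw [← h1, relIndex, show ((zpowers y).subgroupOf S).index = 2 by omega]) ((sq x).symm.trans (el.2 x hx))
    refine ⟨g, ?_⟩
    rcases (H25.Sg.mem_zpowers_two ((sq y).symm.trans (el.2 y hy))).1 hg with e | e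
    · exact absurd (conj_eq_one_iff.1 e) x1
    · exact e.symm
  · exact ⟨fun x hx => (sq x).symm.trans (el.2 x hx), fun x hx x1 y hy y1 => (tr x hx x1 y hy y1).imp fun _ e => e.2,
      big (by omega)⟩

/-- an abelian Sylow subgroup `A` of `N A` lies in `N` if `N` moves the fixed points of `t` -/
theorem le_of_move {M : Type*} [Group M] [Finite M] {N A : Subgroup M} {t : M} [nN : N.Normal]
    (hA : Syl 2 (N ⊔ A) A) (ab : Abl A) (tA : t ∈ N[A]) (tt : t * t = 1)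
    (mv : ∀ a ∈ A, a ≠ 1 → a * t = t * a → ∃ n ∈ N, n * a * n⁻¹ ∈ A ∧ n * a * n⁻¹ ≠ a) : A ≤ N := by
  have AL : A ≤ (N ⊔ A) ⊓ N[A] := le_inf le_sup_right le_normalizer
  have h := (H3.abelian_hall_decomp ab AL inf_le_right (hA.of_le AL inf_le_left).coprime).2
  have tz : zpowers t ≤ N[A] := zpowers_le.2 tA
  have e : A ⊓ C[(N ⊔ A) ⊓ N[A]] = ⊥ := by
    by_contra hne
    obtain ⟨c, hc, c1, ct⟩ := fixp (hA.pi.inf_left _) hne (zpowers_le.1 (norm_inf tz (norm_C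
      (norm_inf (norm_sup (norm_of_normal _ _) tz) (norm_N tz))))) tt
    obtain ⟨n, hn, h1, h2⟩ := mv c hc.1 c1 ct
    have nH : n⁻¹ ∈ N ⊔ A := mem_sup_left (inv_mem hn)
    have s1 : Syl 2 ((N ⊔ A) ⊓ C{c}) A :=
      hA.of_le (le_inf hA.le fun a ha => mem_C1.2 (ab.comm ha hc.1)) inf_le_left
    have s2 : Syl 2 (N ⊔ A) (cj n⁻¹ A) := by
      have := hA.cj n⁻¹
      rwa [cj_of_mem nH] at this
    have s3 : Syl 2 ((N ⊔ A) ⊓ C{c}) (cj n⁻¹ A) := s2.of_le (le_inf s2.le fun a ha => mem_C1.2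
      ((ab.cj n⁻¹).comm ha (mem_cj.2 (by simpa using h1)))) inf_le_left
    obtain ⟨x, hx, ex⟩ := Sylow_trans Nat.prime_two s1 s3
    have nx : n * x ∈ N[A] := mem_N_iff_cj.2 (by rw [cj_mul, ← ex, ← cj_mul, mul_inv_cancel, cj_one])
    have e1 := hc.2 (n * x) ⟨mul_mem (mem_sup_left hn) hx.1, nx⟩
    refine h2 ?_
    rw [mul_inv_eq_iff_eq_mul]
    refine mul_right_cancel (b := x) ?_
    rw [mul_assoc c, ← e1, mul_assoc, mul_assoc, mem_C1.1 hx.2]
  rw [e, sup_bot_eq] at h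
  rw [← h]
  refine commutator_le.2 fun a ha l hl => ?_
  obtain ⟨n, hn, a', ha', rfl⟩ := (mem_sup_of_norm (norm_of_normal _ _)).1 hl.1
  have : a * (n * a') * a⁻¹ * (n * a')⁻¹ = a * n * a⁻¹ * n⁻¹ :=
    calc a * (n * a') * a⁻¹ * (n * a')⁻¹ = a * n * (a' * a⁻¹) * a'⁻¹ * n⁻¹ := by group
      _ = _ := by rw [ab.comm ha' (inv_mem ha)]; group
  rw [commutatorElement_def, this]
  exact mul_mem (nN.conj_mem _ hn a) (inv_mem hn)

theorem core {M : Type*} [Group M] [Finite M] {M₀ A Z : Subgroup M} {t : M} (hO : oddCore M = ⊥)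
    (n0 : M₀.Normal) (hA : Syl 2 M₀ A) (ab : Abl A) (tA : t ∈ N[A]) (tt : t * t = 1) (ZA : Z ≤ A) (Z1 : Z ≠ ⊥)
    (sc : ∀ g, ∀ z ∈ Z, g * z * g⁻¹ ∈ A → g * z * g⁻¹ ∈ Z) (ct : ∀ a ∈ A, a * t = t * a → a ∈ Z)
    (tr : ∀ z ∈ Z, z ≠ 1 → ∀ z' ∈ Z, z' ≠ 1 → ∃ g, z' = g * z * g⁻¹) : A ≤ Z ∨ Z.Normal := by
  obtain ⟨N, ⟨nN, N1, mn⟩, NM⟩ := H2.exists_isMinNormal_le n0
    fun e => Z1 (eq_bot_iff.2 (e ▸ ZA.trans hA.le))
  have hB : Syl 2 N (A ⊓ N) := hA.inf_nml ⟨NM, norm_of_normal _ _⟩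
  have B1 : A ⊓ N ≠ ⊥ := fun e => N1 (eq_bot_iff.2 (hO ▸ H2.le_pPrimeCore nN
    ((piNat_compl_iff_coprime Nat.prime_two).1 (hB.isPi_compl_of_eq_bot e)).symm))
  obtain ⟨b, hb, b1, bt⟩ := fixp hB.pi B1
    (zpowers_le.1 (norm_inf (zpowers_le.2 tA) (norm_of_normal _ _))) tt
  have bZ := ct b hb.1 bt
  have ZN : Z ≤ N := fun z hz => by
    by_cases z1 : z = 1
    · rw [z1]; exact one_mem _
    obtain ⟨g, rfl⟩ := tr b bZ b1 z hz z1
    exact nN.conj_mem _ hb.2 g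
  have F : ∀ g, ∀ z ∈ Z, ∃ n ∈ N, n * (g * z * g⁻¹) * n⁻¹ ∈ Z := fun g z hz => by
    obtain ⟨n, hn, h⟩ := into hB ((hA.pi.piElt (ZA hz)).conj g) (nN.conj_mem _ (ZN hz) g)
    have e : n * (g * z * g⁻¹) * n⁻¹ = n * g * z * (n * g)⁻¹ := by group
    exact ⟨n, hn, e ▸ sc _ z hz (e ▸ h.1)⟩
  obtain ⟨T, _, m, hT, hm, ⟨e⟩⟩ := H14.exists_pi_of_minimal_normal N N1 mn
  let f : (Fin m → T) →* M := N.subtype.comp e.symm.toMonoidHom
  have fi : Function.Injective f := N.subtype_injective.comp e.symm.injective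
  have fN : ∀ x, f x ∈ N := fun x => (e.symm x).2
  have fs : ∀ n ∈ N, ∃ x, f x = n := fun n hn => ⟨e ⟨n, hn⟩, by simp [f]⟩
  have : Finite T := Finite.of_injective (fun x : T => f fun _ => x)
    fun x y h => congrFun (fi h) ⟨0, hm⟩
  by_cases cm : IsMulCommutative T
  · refine Or.inr ⟨fun z hz g => ?_⟩
    obtain ⟨n, hn, h⟩ := F g z hz
    obtain ⟨x, rfl⟩ := fs n hn
    obtain ⟨y, hy⟩ := fs _ (nN.conj_mem _ (ZN hz) g)
    rwa [← hy, ← map_mul, show x * y = y * x from funext fun i => cm.is_comm.comm _ _, map_mul,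
      mul_inv_cancel_right, hy] at h
  have gd := good cm
  have fr : f.range = N := le_antisymm (by rintro _ ⟨x, rfl⟩; exact fN x) fs
  have hB' : Syl 2 ⊤ (A.comap f) := (hall_map_iff fi).1 (by
    rw [← MonoidHom.range_eq_map, map_comap_eq, fr, inf_comm]; exact hB)
  have ab' : Abl (A.comap f) := (abl_map_iff fi).1 (ab.of_le (map_comap_le _ _))
  have all : ∀ i, ∃ z ∈ Z.comap f, z i ≠ 1 := fun i => by
    by_contra h
    push Not at h
    let K := (Pi.evalMonoidHom (fun _ : Fin m => T) i).ker.map f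
    have ZK : Z ≤ K.normalCore := fun z hz g => by
      obtain ⟨n, hn, h1⟩ := F g z hz
      obtain ⟨x, rfl⟩ := fs n hn
      obtain ⟨y, hy⟩ := fs _ (nN.conj_mem _ (ZN hz) g)
      rw [← hy, ← map_mul, ← map_inv, ← map_mul] at h1
      refine ⟨y, ?_, hy⟩
      simpa using h _ h1
    rcases mn _ inferInstance (K.normalCore_le.trans ((map_le_range _ _).trans fr.le)) with e | e
    · exact Z1 (eq_bot_iff.2 (e ▸ ZK))
    obtain ⟨x, x1⟩ := exists_ne (1 : T)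
    obtain ⟨y, hy, ey⟩ := K.normalCore_le (e.ge (fN fun _ => x))
    exact x1 ((congrFun (fi ey) i).symm.trans hy)
  have le1 := pi_le gd hB' ab' (comap_mono ZA) (fun g z hz h => by
    simp only [mem_comap, map_mul, map_inv] at h ⊢
    exact sc _ _ hz h) all
  have AN : A ≤ N := le_of_move (hA.of_le le_sup_right (sup_le NM hA.le)) ab tA tt fun a ha a1 at' => by
    obtain ⟨x, rfl⟩ := fs a (ZN (ct a ha at'))
    obtain ⟨g, h1, h2⟩ := pi_move gd hB' ab' ha (by rintro rfl; exact a1 (map_one f))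
    refine ⟨f g, fN g, by simpa using h1, fun e => h2 (fi ?_)⟩
    rwa [map_mul, map_mul, map_inv]
  refine Or.inl fun a ha => ?_
  obtain ⟨x, rfl⟩ := fs a (AN ha)
  exact le1 ha

/-- Thompson transfer -/
theorem exists_M0 {M : Type*} [Group M] [Finite M] {P A : Subgroup M} {t : M} (hP : Syl 2 ⊤ P) (AP : A ≤ P)
    (tP : t ∈ P) (tt : t * t = 1) (idx : ∀ p ∈ P, p ∈ A ∨ p * t ∈ A) (nd : ∀ g, g * t * g⁻¹ ∉ A) :
    ∃ M₀ : Subgroup M, M₀.index = 2 ∧ t ∉ M₀ := by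
  have tA : t ∉ A := by simpa using nd 1
  have h2 : A.relIndex P = 2 := by
    refine index_eq_two_iff.2 ⟨⟨t, tP⟩, fun b => ?_⟩
    rcases idx b b.2 with h | h
    · exact Or.inr ⟨h, fun h' => tA ((mul_mem_cancel_left h).1 h')⟩
    · exact Or.inl ⟨h, fun h' => tA ((mul_mem_cancel_left (H := A) h').1 h)⟩
  refine H6.thompson_transfer (m := P.index) (Nat.odd_iff.2 ?_) ?_ tt nd
  · have := hP.not_dvd Nat.prime_two
    rw [relIndex_top_right] at this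
    omega
  · rw [← relIndex_mul_index AP, h2]

theorem mem_of_odd {M : Type*} [Group M] [Finite M] {M₀ : Subgroup M} {v : M} (h : M₀.index = 2)
    (vo : PiElt {2}ᶜ v) : v ∈ M₀ := by
  have h1 : Odd (orderOf v) := Nat.odd_iff.2 (by
    have := (piNat_compl_singleton Nat.prime_two).1 vo
    omega)
  obtain ⟨k, hk⟩ := h1
  have := pow_mem (mul_self_mem_of_index_two h v) (k + 1)
  rwa [← sq, ← pow_mul, show 2 * (k + 1) = orderOf v + 1 by omega, pow_succ, pow_orderOf_eq_one,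
    one_mul] at this

end UM1

open UM1 in
theorem mlem {M : Type u} [Group M] [Finite M] {P A Z : Subgroup M} {t v : M} (hP : Syl 2 ⊤ P)
    (hA : Abl A) (AP : A ≤ P) (tP : t ∈ P) (tt : t * t = 1) (idx : ∀ p ∈ P, p ∈ A ∨ p * t ∈ A)
    (nd : ∀ g, g * t * g⁻¹ ∉ A) (ZA : Z ≤ A) (el : ∀ z ∈ Z, z * z = 1) (four : 4 ≤ ♯Z)
    (sc : ∀ g, ∀ z ∈ Z, g * z * g⁻¹ ∈ A → g * z * g⁻¹ ∈ Z) (ct : ∀ a ∈ A, a * t = t * a → a ∈ Z)
    (vA : v ∈ N[A]) (vo : PiElt {2}ᶜ v) (fp : ∀ a ∈ A, a * v = v * a → a = 1)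
    (tr : ∀ z ∈ Z, z ≠ 1 → ∀ z' ∈ Z, z' ≠ 1 → ∃ g, z' = g * z * g⁻¹) :
    A ≤ Z ∨ (Z ⊔ oddCore M).Normal := by
  obtain ⟨M₀, i2, tM⟩ := exists_M0 hP AP tP tt idx nd
  have n0 : M₀.Normal := normal_of_index_eq_two i2
  have AM : A ≤ M₀ := fun y hy => by
    obtain ⟨k, hk, e⟩ := exists_conj_of_fpf vA
      (eq_bot_iff.2 fun g hg => mem_bot.2 (fp g hg.1 (mem_C1.1 hg.2))) hy
    have := M₀.mul_mem (n0.conj_mem _ (mem_of_odd i2 vo) k) (M₀.inv_mem (mem_of_odd i2 vo))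
    rwa [e, mul_inv_cancel_right] at this
  have eA : P ⊓ M₀ = A := le_antisymm (fun p hp => (idx p hp.1).resolve_right fun h =>
    tM ((mul_mem_cancel_left hp.2).1 (AM h))) (le_inf AP AM)
  have sA : Syl 2 M₀ A := eA ▸ hP.inf_nml (nml_top M₀)
  have tA : t ∈ N[A] := by
    rw [← eA]
    exact zpowers_le.1 (norm_inf ((zpowers_le.2 tP).trans le_normalizer) (norm_of_normal _ _))
  have oO : IsPi {2}ᶜ (oddCore M) :=
    (piNat_compl_iff_coprime Nat.prime_two).2 (H2.pPrimeCore_coprime 2 M).symm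
  have OM : oddCore M ≤ M₀ := fun x hx => mem_of_odd i2 (oO.piElt hx)
  let f := QuotientGroup.mk' (oddCore M)
  have fs : Function.Surjective f := QuotientGroup.mk'_surjective _
  have fi : ∀ a ∈ A, ∀ b ∈ A, f a = f b → a = b := fun a ha b hb e => by
    have h1 : a⁻¹ * b ∈ A ⊓ oddCore M := ⟨A.mul_mem (A.inv_mem ha) hb, QuotientGroup.eq.1 e⟩
    rw [sA.pi.inf_eq_bot oO] at h1
    exact inv_mul_eq_one.1 h1
  have Z1 : Z ≠ ⊥ := by
    rintro rfl
    rw [card_bot] at four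
    omega
  have := core (M₀ := M₀.map f) (A := A.map f) (Z := Z.map f) (t := f t)
    (H2.pPrimeCore_quotient_pPrimeCore 2 M) (n0.map f fs) (sA.map f) (hA.map f)
    (le_normalizer_map f (mem_map_of_mem f tA)) (by rw [← map_mul, tt, map_one]) (map_mono ZA)
    (fun e => Z1 (eq_bot_iff.2 fun z hz => fi z (ZA hz) 1 (one_mem _)
      ((mem_bot.1 (e ▸ mem_map_of_mem f hz)).trans (map_one f).symm))) ?_ ?_ ?_
  · refine this.imp (fun h a ha => ?_) fun h => ?_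
    · obtain ⟨z, hz, e⟩ := h (mem_map_of_mem f ha)
      exact fi z (ZA hz) a ha e ▸ hz
    · have := h.comap f
      rwa [comap_map_eq, QuotientGroup.ker_mk'] at this
  · rintro g _ ⟨z, hz, rfl⟩ ⟨a, ha, e⟩
    obtain ⟨g, rfl⟩ := fs g
    rw [← map_inv, ← map_mul, ← map_mul] at e ⊢
    have m : g * z * g⁻¹ ∈ A ⊔ oddCore M := by
      have := mul_mem_sup ha (QuotientGroup.eq.1 e)
      rwa [mul_inv_cancel_left] at this
    obtain ⟨x, hx, h1⟩ := into (sA.of_le le_sup_left (sup_le AM OM)) ((sA.pi.piElt (ZA hz)).conj g) m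
    obtain ⟨a', ha', o, ho, rfl⟩ := (mem_sup_of_norm' (norm_of_normal _ _)).1 hx
    have e1 : a' * o * (g * z * g⁻¹) * (a' * o)⁻¹ = a' * o * g * z * (a' * o * g)⁻¹ := by group
    refine ⟨_, e1 ▸ sc _ z hz (e1 ▸ h1), ?_⟩
    have fo : f o = 1 := (QuotientGroup.eq_one_iff o).2 ho
    rw [map_mul, map_mul, map_inv, map_mul, fo, mul_one, ← e, ← map_mul, hA.comm ha' ha, map_mul,
      mul_inv_cancel_right]
  · rintro _ ⟨a, ha, rfl⟩ e
    refine mem_map_of_mem f (ct a ha ?_)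
    have := fi a ha _ (conj_mem tA ha) (by rw [map_mul, map_mul, map_inv, ← e, mul_inv_cancel_right])
    exact eq_mul_inv_iff_mul_eq.1 this
  · rintro _ ⟨z, hz, rfl⟩ z1 _ ⟨z', hz', rfl⟩ z1'
    obtain ⟨g, rfl⟩ := tr z hz (by rintro rfl; exact z1 (map_one f)) z' hz'
      (by rintro rfl; exact z1' (map_one f))
    exact ⟨f g, by rw [map_mul, map_mul, map_inv]⟩

end H2.U3
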