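import Mathlib
import Cfsg.Agent.H2.UDefs
import Cfsg.Agent.H2.UB3
import Cfsg.Agent.H2.ZE

set_option autoImplicit false
set_option linter.unusedVariables false
set_option linter.unusedSectionVars false

namespace H2.U3

open Cfsg H24 Subgroup
open H2.SZ (St DD Goal)
open H2.C2 (Cl2)

universe u v

variable {G : Type u} [Group G] [Finite G] {E F : Type*} [Field E] [Fintype E] [Field F] [Fintype F]
  [Algebra E F] {K : UF E F} {L G0 D P P0 Q R A B C H T M W W1 W2 Z1 Z2 : Subgroup G}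
  {t g s f x y i v p : G} {X : UD K L} {a k : F} {b : E} {ρ : F ≃+* F}

local notation "𝐪" => Fintype.card E

/-! ### UL -/

open H2.SZ (two_cent le_sup_of_odd mem_zp_inv piElt_of_sq abl_of_subgroupOf lie_of_cl2)

theorem UL_tT (X : UD K L) (t : G) : t ∈ X.T t := mem_sup_left (mem_zpowers t)
theorem UL_ST (X : UD K L) (t : G) : X.S ≤ X.T t := le_sup_right

theorem Lc.UL_DT (h : Lc X G0 t D) : D ≤ C[X.T t] :=
  cents_sup (by rw [C_zpowers]; exact h.D_t) (cents_of_le h.D_L X.S_le)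

theorem Lc.NE (h : Lc X G0 t D) (hg : g ∈ N[X.Z]) (e : g * t * g⁻¹ = t * X.z b) : g ∈ N[X.S] := by
  refine h.toSc.NS_of X (b := 1) ?_ ?_ one_ne_zero (X.Z_le_S (conj_mem hg (X.z_mem_Z 1)))
  · rw [e]
    exact mul_mem (C_anti X.S_le h.tC) (cents_symm X.S_CZ (X.z_mem_Z b))
  · rw [e]
    exact mul_mem (mem_C1.2 (h.toSc.tu X.w_mem).symm) (mem_C1.2 (X.w_z b).symm)

theorem Lc.NE2 (h : Lc X G0 t D) : N[X.E2 t] ≤ N[X.Z] := fun g hg => mem_N_of_finite fun x hx => by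
  obtain ⟨b, rfl⟩ := X.mem_Z.1 hx
  obtain ⟨c, e | e⟩ := (h.toSc.mem_E2 X).1
    (conj_mem hg ((h.toSc.mem_E2 X).2 ⟨b, .inl rfl⟩))
  · rw [e]; exact X.z_mem_Z c
  · exact absurd (DD.of_conj (e ▸ h.dd c)) (h.zn b)

theorem Lc.fix_h (h : Lc X G0 t D) (hP : IsPi {2} P) (ht : t ∈ P) (h1 : P ⊓ C{t} ≤ X.T t) (hg : g ∈ P)
    {k : Eˣ} (hk : k ≠ 1) (e : g * X.h k = X.h k * g) : g = 1 ∨ g = t := by
  have th : t ∈ C{X.h k} := mem_C1.2 (h.toSc.tu (X.h_mem k)).symm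
  refine two_cent (hP.inf_left C{X.h k}) ⟨ht, th⟩ h.t1 (fun x hx c => ?_) ⟨hg, mem_C1.2 e⟩
  rcases (h.toSc.mem_T X).1 (h1 ⟨hx.1, mem_C1.2 c⟩) with m | m
  · exact .inl (X.fix_h hk m (mem_C1.1 hx.2))
  · have := X.fix_h hk m (mem_C1.1 (mul_mem th hx.2))
    exact .inr (by rw [eq_inv_of_mul_eq_one_right this, h.ti])

theorem Lc.lift (h : Lc X G0 t D) (h1 : t ∈ C) (h2 : D ≤ C)
    (h3 : ∀ g ∈ C, g * t = t * g → PiElt {2} g → g ∈ X.T t) (h4 : ∀ k, X.h k ∈ N[C])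
    (h5 : ∀ g ∈ C, PiElt {2}ᶜ g → g ∈ D) : ∃ R, IsPi {2} R ∧ R ≤ C ∧ R ≤ C[D] ∧
      (∀ g ∈ C, PiElt {2} g → g ∈ R) ∧ N[C] ≤ N[R] ∧ ∀ g ∈ C, ∃ r ∈ R, ∃ d ∈ D, g = r * d := by
  have nD : N[C] ≤ N[D] := fun g hg => mem_N_of_finite fun d hd =>
    h5 _ (conj_mem hg (h2 hd)) ((h.odd.piElt hd).conj g)
  have CD : C ≤ N[D] := (norm_self C).trans nD
  obtain ⟨k, hk⟩ := K.exists_unit
  have fD : X.h k ∈ C[D] := cents_symm h.D_L (X.h_mem k)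
  obtain ⟨R0, hR0, tR⟩ := Sylow_superset Nat.prime_two (piElt_of_sq h.tt).isPi (zpowers_le.2 h1)
  replace tR := zpowers_le.1 tR
  have CR : ∀ g ∈ C, ∃ d ∈ D, ∃ r ∈ R0, g = d * r := fun g hg =>
    (mem_sup_of_norm (hR0.le.trans CD)).1 (sup_comm R0 D ▸ le_sup_of_odd hR0 h5 hg)
  obtain ⟨c, hc, e⟩ := Sylow_trans Nat.prime_two hR0 (hR0.cj_mem_N (h4 k))
  obtain ⟨d, hd, r, hr, rfl⟩ := CR c hc
  have hn : d⁻¹ * X.h k ∈ N[R0] := mem_N_of_finite fun x hx => by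
    have := conj_mem_cj (X.h k) hx
    rw [e] at this
    obtain ⟨y, hy, e1⟩ := mem_cj'.1 this
    rw [show d⁻¹ * X.h k * x * (d⁻¹ * X.h k)⁻¹ = d⁻¹ * (X.h k * x * (X.h k)⁻¹) * d by group, e1,
      show d⁻¹ * (d * r * y * (d * r)⁻¹) * d = r * y * r⁻¹ by group]
    exact conj_mem (norm_self _ hr) hy
  have on : PiElt {2}ᶜ (d⁻¹ * X.h k) :=
    (h.odd.piElt (inv_mem hd)).mul (X.h_odd k) (mem_C.1 fD _ (inv_mem hd))
  have nt : d⁻¹ * X.h k ∈ C{t} :=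
    mul_mem (inv_mem (h.D_t hd)) (mem_C1.2 (mem_C.1 h.tC _ (X.h_mem k)))
  have fix : ∀ x ∈ R0 ⊓ C{d⁻¹ * X.h k}, x = 1 ∨ x = t := fun x hx =>
    two_cent (hR0.pi.inf_left _) ⟨tR, mem_C1_comm.1 nt⟩ h.t1 (fun y hy c => by
      have m := h3 _ (hR0.le hy.1) c (hR0.pi.piElt hy.1)
      refine h.fix_h (h.toSc.pi_T X) (UL_tT X t) inf_le_left m hk ?_
      have := mem_C1.1 hy.2
      rw [← mul_assoc, mem_C.1 (h.UL_DT (inv_mem hd)) y m, mul_assoc, mul_assoc] at this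
      exact mul_left_cancel this) hx
  have nJ : N[D] ≤ N[C[D] ⊔ D] := norm_sup (N_le_NC D) le_rfl
  have nn : d⁻¹ * X.h k ∈ C[D] ⊔ D := mul_mem (mem_sup_right (inv_mem hd)) (mem_sup_left fD)
  have pr := H26.coprime_isProd_of_comm_le (V := R0 ⊓ (C[D] ⊔ D)) (X := R0)
    (A := zpowers (d⁻¹ * X.h k))
    (zpowers_le.2 (norm_inf (X := zpowers _) (zpowers_le.2 hn) (zpowers_le.2 (norm_self _ nn))
      (mem_zpowers _)))
    ((hR0.pi.inf_left _).coprime on.isPi) (.inr (abl_zpowers _).sol) inf_le_left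
    (le_inf (commutator_le.2 fun a ha b hb => by
        rw [commutatorElement_def, mul_assoc, mul_assoc, ← mul_assoc b]
        exact mul_mem ha (conj_mem (zpowers_le.2 hn hb) (inv_mem ha)))
      (commutator_le.2 fun a ha b hb => mul_mem (conj_mem (nJ (CD (hR0.le ha))) (zpowers_le.2 nn hb))
        (inv_mem (zpowers_le.2 nn hb))))
  have RJ : R0 ≤ C[D] ⊔ D := fun x hx => by
    obtain ⟨a, ha, b, hb, rfl⟩ := pr.3 x hx
    rw [C_zpowers] at hb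
    refine mul_mem ha.2 ?_
    rcases fix b hb with rfl | rfl
    exacts [one_mem _, mem_sup_left (mem_C_iff_le_C1.2 h.D_t)]
  obtain ⟨R, hR⟩ := Sylow_exists Nat.prime_two (C ⊓ C[D])
  have RD : R ≤ C[D] := hR.le.trans inf_le_right
  have dec : ∀ g ∈ C, ∃ r ∈ R, ∃ d ∈ D, g = r * d := fun g hg => by
    obtain ⟨d1, hd1, r, hr, rfl⟩ := CR g hg
    obtain ⟨w, hw, d2, hd2, rfl⟩ := (mem_sup_of_norm' (C_le_N D)).1 (RJ hr)
    obtain ⟨r', hr', d3, hd3, rfl⟩ := (mem_sup_of_norm' (norm_of_cent RD)).1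
      (le_sup_of_odd hR (fun g hg => h5 g hg.1)
        ⟨(mul_mem_cancel_right (h2 hd2)).1 (hR0.le hr), hw⟩)
    exact ⟨r', hr', d1 * d3 * d2, mul_mem (mul_mem hd1 hd3) hd2, by
      rw [← mul_assoc, ← mul_assoc, mem_C.1 (RD hr') d1 hd1]; group⟩
  have two : ∀ g ∈ C, PiElt {2} g → g ∈ R := fun g hg h2 => by
    obtain ⟨r, hr, d, hd, e⟩ := dec g hg
    exact (piElt_decomp_unique h2 (piElt_one _) (hR.pi.piElt hr) (h.odd.piElt hd) (by simp)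
      (mem_C'.1 (RD hr) d hd) (by rw [mul_one, e])).1 ▸ hr
  exact ⟨R, hR.pi, hR.le.trans inf_le_left, RD, two, fun g hg => mem_N_of_finite fun r hr =>
    two _ (conj_mem hg (hR.le hr).1) ((hR.pi.piElt hr).conj g), dec⟩

/-- the elements normalising `M` and fixing the coset of `r` -/
def UL_stab (M : Subgroup G) (r : G) : Subgroup G where
  carrier := {g | g ∈ N[M] ∧ r * g * r⁻¹ * g⁻¹ ∈ M}
  one_mem' := ⟨one_mem _, by simp⟩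
  mul_mem' := fun {a b} ha hb => ⟨mul_mem ha.1 hb.1, by
    have := mul_mem ha.2 (conj_mem ha.1 hb.2)
    rwa [show r * a * r⁻¹ * a⁻¹ * (a * (r * b * r⁻¹ * b⁻¹) * a⁻¹) = r * (a * b) * r⁻¹ * (a * b)⁻¹ by
      group] at this⟩
  inv_mem' := fun {a} ha => ⟨inv_mem ha.1, by
    have := conj_mem' ha.1 (inv_mem ha.2)
    rwa [show a⁻¹ * (r * a * r⁻¹ * a⁻¹)⁻¹ * a = r * a⁻¹ * r⁻¹ * a⁻¹⁻¹ by group] at this⟩

theorem UL_comm (h5 : ∀ x ∈ R, x * x ∈ Q) (hx : x ∈ R) (hy : y ∈ R) : x * y * x⁻¹ * y⁻¹ ∈ Q := by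
  have := mul_mem (mul_mem (h5 _ hx) (h5 _ (mul_mem (inv_mem hx) hy))) (inv_mem (h5 _ hy))
  rwa [show x * x * (x⁻¹ * y * (x⁻¹ * y)) * (y * y)⁻¹ = x * y * x⁻¹ * y⁻¹ by group] at this

theorem UL_norm (h5 : ∀ x ∈ R, x * x ∈ Q) (h1 : Q ≤ M) (h2 : M ≤ R) : R ≤ N[M] := fun x hx =>
  mem_N_of_finite fun y hy => by
    simpa using mul_mem (h1 (UL_comm h5 hx (h2 hy))) hy

/-- the subgroup `Q [R, v]` -/
def UL_cmp (hQ : Q ≤ R) (h5 : ∀ x ∈ R, x * x ∈ Q) (hv : v ∈ N[R]) : Subgroup G where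
  carrier := {x | ∃ q ∈ Q, ∃ r ∈ R, x = q * (r * v * r⁻¹ * v⁻¹)}
  one_mem' := ⟨1, one_mem _, 1, one_mem _, by simp⟩
  mul_mem' := by
    rintro _ _ ⟨q, hq, r, hr, rfl⟩ ⟨q', hq', r', hr', rfl⟩
    have m : ∀ r ∈ R, r * v * r⁻¹ * v⁻¹ ∈ R := fun r hr => by
      simpa only [mul_assoc] using mul_mem hr (conj_mem hv (inv_mem hr))
    refine ⟨_, mul_mem (mul_mem (mul_mem hq (conj_mem (UL_norm h5 le_rfl hQ (m r hr)) hq'))
      (UL_comm h5 (m r hr) (m r' hr'))) (UL_comm h5 (m r' hr') hr), r * r', mul_mem hr hr', by group⟩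
  inv_mem' := by
    rintro _ ⟨q, hq, r, hr, rfl⟩
    have m : r * v * r⁻¹ * v⁻¹ ∈ R := by
      simpa only [mul_assoc] using mul_mem hr (conj_mem hv (inv_mem hr))
    exact ⟨_, mul_mem (conj_mem' (UL_norm h5 le_rfl hQ m) (inv_mem hq)) (inv_mem (h5 _ m)), r, hr,
      by group⟩

theorem Lc.UL_split (h : Lc X G0 t D) (hR : IsPi {2} R) (ht : t ∈ R) (h1 : R ⊓ C{t} ≤ X.T t)
    (h3 : ∀ l, X.h l ∈ N[R]) (hQ : Q ≤ R) (tQ : t ∉ Q) (h4 : ∀ l, X.h l ∈ N[Q])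
    (h5 : ∀ x ∈ R, x * x ∈ Q) {k : Eˣ} (hk : k ≠ 1) : ∃ R0, Q ≤ R0 ∧ R0 ≤ R ∧ t ∉ R0 ∧
      (∀ x ∈ R, x ∈ R0 ∨ x * t ∈ R0) ∧ (∀ l, X.h l ∈ N[R0]) ∧
      ∀ R1, Q ≤ R1 → R1 ≤ R → t ∉ R1 → (∀ x ∈ R, x ∈ R1 ∨ x * t ∈ R1) → X.h k ∈ N[R1] → R1 = R0 := by
  have m : ∀ r ∈ R, r * X.h k * r⁻¹ * (X.h k)⁻¹ ∈ R := fun r hr => by
    simpa only [mul_assoc] using mul_mem hr (conj_mem (h3 k) (inv_mem hr))
  have th := h.toSc.tu (X.h_mem k)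
  have ti := h.ti
  let R0 := UL_cmp hQ h5 (h3 k)
  have a1 : Q ≤ R0 := fun q hq => ⟨q, hq, 1, one_mem _, by simp⟩
  have a2 : R0 ≤ R := by
    rintro _ ⟨q, hq, r, hr, rfl⟩
    exact mul_mem (hQ hq) (m r hr)
  have a3 : ∀ l, X.h l ∈ N[R0] := fun l => mem_N_of_finite (by
    rintro _ ⟨q, hq, r, hr, rfl⟩
    refine ⟨_, conj_mem (h4 l) hq, _, conj_mem (h3 l) hr, ?_⟩
    have e : X.h k = X.h l * X.h k * (X.h l)⁻¹ := by rw [X.h_comm l k, mul_inv_cancel_right]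
    conv_rhs => rw [e]
    group)
  have a4 : t ∉ R0 := by
    rintro ⟨q, hq, r, hr, e⟩
    have e1 : r * X.h k * r⁻¹ * (X.h k)⁻¹ = q⁻¹ * t := by rw [e]; group
    have s2 : X.h k * X.h k ∈ UL_stab Q r := ⟨mul_mem (h4 k) (h4 k), by
      have := mul_mem (inv_mem hq) (conj_mem (UL_norm h5 le_rfl hQ ht) (conj_mem (h4 k) (inv_mem hq)))
      convert this using 1
      calc r * (X.h k * X.h k) * r⁻¹ * (X.h k * X.h k)⁻¹
          = r * X.h k * r⁻¹ * (X.h k)⁻¹ * (X.h k * (r * X.h k * r⁻¹ * (X.h k)⁻¹) * (X.h k)⁻¹) := by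
            group
        _ = q⁻¹ * t * (X.h k * q⁻¹ * (X.h k)⁻¹) * (X.h k * t * (X.h k)⁻¹) := by rw [e1]; group
        _ = _ := by rw [th, mul_inv_cancel_right, ti]; group⟩
    have s1 : X.h k ∈ UL_stab Q r := zpowers_le.2 (by rwa [pow_two] : X.h k ^ 2 ∈ UL_stab Q r)
      (mem_zpowers_pow_iff.2 ((piNat_compl_iff_coprime Nat.prime_two).1 (X.h_odd k)))
    exact tQ (e ▸ mul_mem hq s1.2)
  have pr := H26.coprime_isProd_of_comm_le (V := R0) (X := R) (A := zpowers (X.h k))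
    (zpowers_le.2 (a3 k)) ((hR.of_le a2).coprime (X.h_odd k).isPi) (.inr (abl_zpowers _).sol) a2
    (commutator_le.2 fun a ha b hb =>
      (zpowers_le.2 (show X.h k ∈ UL_stab R0 a from ⟨a3 k, 1, one_mem _, a, ha, (one_mul _).symm⟩) hb).2)
  have a5 : ∀ x ∈ R, x ∈ R0 ∨ x * t ∈ R0 := fun x hx => by
    obtain ⟨a, ha, c, hc, rfl⟩ := pr.3 x hx
    rw [C_zpowers] at hc
    rcases h.fix_h hR ht h1 hc.1 hk (mem_C1.1 hc.2) with rfl | rfl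
    · exact .inl (by rwa [mul_one])
    · exact .inr (by rwa [mul_assoc, h.tt, mul_one])
  refine ⟨R0, a1, a2, a4, a5, a3, fun R1 b1 b2 b3 b4 b5 => ?_⟩
  have c1 : R0 ≤ R1 := by
    rintro _ ⟨q, hq, r, hr, rfl⟩
    refine mul_mem (b1 hq) ?_
    rcases b4 r hr with e | e
    · simpa only [mul_assoc] using mul_mem e (conj_mem b5 (inv_mem e))
    · have := mul_mem e (conj_mem b5 (inv_mem e))
      convert this using 1
      calc r * X.h k * r⁻¹ * (X.h k)⁻¹ = r * (X.h k * t) * t⁻¹ * r⁻¹ * (X.h k)⁻¹ := by group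
        _ = _ := by rw [th]; group
  refine le_antisymm (fun x hx => (a5 x (b2 hx)).resolve_right fun e => b3 ?_) c1
  exact (mul_mem_cancel_left hx).1 (c1 e)

/-- the complement `[R, h]` to `t` -/
theorem Lc.split (h : Lc X G0 t D) (hR : IsPi {2} R) (ht : t ∈ R) (h1 : R ⊓ C{t} ≤ X.T t)
    (h2 : R ≤ C[D]) (h3 : ∀ g ∈ N[X.S], g * t = t * g → g ∈ N[R]) (hQ : Q ≤ R) (tQ : t ∉ Q)
    (h4 : ∀ g ∈ N[X.S], g * t = t * g → g ∈ N[Q]) (h5 : ∀ x ∈ R, x * x ∈ Q)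
    (h6 : ∀ x ∈ R, ∀ s ∈ X.S, x * s * x⁻¹ * s⁻¹ ∈ Q) : ∃ R0, Q ≤ R0 ∧ R0 ≤ R ∧ t ∉ R0 ∧
      (∀ x ∈ R, x ∈ R0 ∨ x * t ∈ R0) ∧ ∀ g ∈ N[X.S], g * t = t * g → g ∈ N[R0] := by
  have hR' : ∀ l, X.h l ∈ N[R] := fun l => h3 _ (X.h_NS l) (h.toSc.tu (X.h_mem l))
  have hQ' : ∀ l, X.h l ∈ N[Q] := fun l => h4 _ (X.h_NS l) (h.toSc.tu (X.h_mem l))
  obtain ⟨k, hk⟩ := K.exists_unit
  obtain ⟨R0, a1, a2, a3, a4, a5, -⟩ := h.UL_split hR ht h1 hR' hQ tQ hQ' h5 hk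
  refine ⟨R0, a1, a2, a3, a4, fun g hg gt => ?_⟩
  obtain ⟨l, s, hs, d, hd, e, el⟩ := X.h_eqv (h.Ct g gt) hg k
  have hl : l ≠ 1 := by
    rintro rfl
    refine hk (Units.ext ((algebraMap E F).injective ((X.χ g).injective ?_)))
    rw [← el]; simp
  obtain ⟨R1, -, -, -, -, -, u⟩ := h.UL_split hR ht h1 hR' hQ tQ hQ' h5 hl
  have gR := h3 g hg gt
  have gi : g⁻¹ * t * g = t := by rw [mul_assoc, ← gt, inv_mul_cancel_left]
  have b2 : cj g R0 ≤ R := cj_le_of_mem_N a2 gR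
  have b1 : Q ≤ cj g R0 := by
    rw [← cj_of_mem_N (h4 g hg gt)]; exact cj_mono g a1
  rw [mem_N_iff_cj, u R0 a1 a2 a3 (a4) (a5 l)]
  refine u _ (by rw [← u R0 a1 a2 a3 a4 (a5 l)]; exact b1) (by rw [← u R0 a1 a2 a3 a4 (a5 l)]; exact b2)
    ?_ ?_ ?_ <;> rw [← u R0 a1 a2 a3 a4 (a5 l)]
  · rw [mem_cj, gi]; exact a3
  · intro x hx
    rw [mem_cj, mem_cj, show g⁻¹ * (x * t) * g = g⁻¹ * x * g * (g⁻¹ * t * g) by group, gi]
    exact a4 _ (conj_mem' gR hx)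
  · have n1 : g * X.h k * g⁻¹ ∈ N[cj g R0] := by rw [← cj_N]; exact conj_mem_cj g (a5 k)
    have n2 : s ∈ N[cj g R0] := mem_N_of_finite fun y hy => by
      have := mul_mem (inv_mem (b1 (h6 y (b2 hy) s hs))) hy
      rwa [show (y * s * y⁻¹ * s⁻¹)⁻¹ * y = s * y * s⁻¹ by group] at this
    have n3 : d ∈ N[cj g R0] := C_le_N _ (C_anti b2 (cents_symm h2 (h.ZL_D hd)))
    rw [e] at n1
    exact (mul_mem_cancel_right n2).1 ((mul_mem_cancel_right n3).1 n1)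

theorem Lc.E3 (h : Lc X G0 t D) (hP : Syl 2 ⊤ P) (hA : Abl A) (h1 : X.Z ≤ A)
    (hsc : IsStronglyClosed A P) : Goal G0 t := by
  have m := h.le (X.z_mem 1)
  obtain ⟨M, hM⟩ := h.gold hP hA hsc (ne_bot_of_mem (mem_inf.2 ⟨h1 (X.z_mem_Z 1), m⟩) X.z1)
    (X.S_le.trans h.le) X.pi_S X.not_abl_S
  refine ⟨h.se hM, fun ht => ?_⟩
  obtain ⟨g, e⟩ := H26.BR.conj_of_se hM (u := ⟨t, ht⟩) (v := ⟨X.z 1, m⟩)
    (by rw [← orderOf_coe]; exact orderOf_eq_prime (by rw [sq, h.tt]) h.t1)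
    (by rw [← orderOf_coe]; exact orderOf_eq_prime (by rw [sq, X.z_sq]) X.z1)
  exact h.zn 1 ⟨g, (congrArg Subtype.val e).symm⟩

theorem Lc.not_mem (h : Lc X G0 t D) (hP : Syl 2 ⊤ P) (ht : t ∈ P) (h1 : ∀ p ∈ P, p ∈ P0 ∨ p * t ∈ P0)
    (h2 : ∀ s ∈ P0, ¬ DD t s) : t ∉ G0 := by
  have h4 := fun e => h2 _ e (DD.refl t)
  rcases H3.thompson_transfer P P0 (by
    have := hP.not_dvd Nat.prime_two
    rwa [relIndex_top_right, ← even_iff_two_dvd, Nat.not_even_iff_odd] at this)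
    (relIndex_eq_two_iff.2 ⟨_, ht, fun b hb => by
      rcases h1 b hb with e | e
      · exact .inr ⟨e, by rwa [mul_mem_cancel_left e]⟩
      · exact .inl ⟨e, fun e' => h4 (by rwa [mul_mem_cancel_left e'] at e)⟩⟩) _ h.tt ht h4
    with ⟨M, n, e, k⟩ | ⟨g, hg⟩
  · have := h.simple
    rcases (n.subgroupOf G0).eq_bot_or_eq_top with e1 | e1
    · have m : X.u 1 0 * X.u 1 0 ∈ M := (mul_mem_iff_of_index_two e).2 Iff.rfl
      rw [X.u_sq, K.nm_one] at m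
      have : (⟨X.z 1, h.le (X.z_mem 1)⟩ : G0) ∈ M.subgroupOf G0 := m
      rw [e1, mem_bot] at this
      exact absurd (congrArg Subtype.val this) X.z1
    · exact fun h0 => k (subgroupOf_eq_top.1 e1 h0)
  · exact absurd ((DD.refl t).conj g) (h2 _ hg)

theorem Lc.E2' (h : Lc X G0 t D) (hP : Syl 2 G0 P0) (h3 : Cl2 P0) (ht : t ∉ G0) : Goal G0 t := by
  refine ⟨?_, ht⟩
  have := h.simple
  have hle := hP.le
  have s1 := hP.subgroupOf le_rfl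
  rw [subgroupOf_self] at s1
  obtain ⟨g, -, e⟩ := Sylow_subJ Nat.prime_two hP X.pi_S (X.S_le.trans h.le)
  refine lie_of_cl2 s1 (commutator_le.2 fun a ha b hb => mem_C.2 fun c hc => Subtype.ext
    (mem_C.1 (h3 (commutator_mem_commutator ha hb)) c hc))
    (fun k => X.not_abl_S (((abl_of_subgroupOf hle k).cj g).of_le e)) ?_
  have c := card_le_of_le e
  rw [card_cj, X.card_S] at c
  rw [card_subgroupOf_of_le hle]
  have := Nat.pow_le_pow_left K.four 3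
  omega

end H2.U3
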