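import Mathlib
import Cfsg.Agent.H2.UDefs
import Cfsg.Agent.H2.UL
import Cfsg.Agent.H2.Z1a

set_option autoImplicit false
set_option linter.unusedVariables false
set_option linter.unusedSectionVars false

namespace H2.U3

open Cfsg H24 Subgroup
open H2.SZ (St DD Goal piElt_of_sq odd_mem' odd_comm)
open H2.C2 (Cl2)

universe u v

variable {G : Type u} [Group G] [Finite G] {E F : Type*} [Field E] [Fintype E] [Field F] [Fintype F]
  [Algebra E F] {K : UF E F} {L G0 D P P0 Q R A B C H T M W W1 W2 Z1 Z2 : Subgroup G}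
  {t g s f x y i v p : G} {X : UD K L} {a k : F} {b : E} {ρ : F ≃+* F}

local notation "𝐪" => Fintype.card E

/-! ### UY -/

theorem Lc.uy_tri (h : Lc X G0 t D) (hx : x ∈ X.E2 t) (hy : y ∈ X.E2 t) :
    x ∈ X.Z ∨ y ∈ X.Z ∨ x * y ∈ X.Z := by
  obtain ⟨b, rfl | rfl⟩ := (h.mem_E2 X).1 hx
  · exact .inl (X.z_mem_Z b)
  obtain ⟨c, rfl | rfl⟩ := (h.mem_E2 X).1 hy
  · exact .inr (.inl (X.z_mem_Z c))
  refine .inr (.inr ?_)
  rw [mul_assoc, ← mul_assoc (X.z b), h.tu (X.z_mem b), mul_assoc, ← mul_assoc t t, h.tt, one_mul, X.z_mul]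
  exact X.z_mem_Z _

theorem Lc.uy_spec (h : Lc X G0 t D) (hg : g ∈ N[X.E2 t]) : ∃ b, g * t * g⁻¹ = t * X.z b := by
  obtain ⟨b, e | e⟩ := (h.mem_E2 X).1 (conj_mem hg (mem_sup_left (mem_zpowers t)))
  · exact absurd (e ▸ (DD.refl t).conj g) (h.zn b)
  · exact ⟨b, e⟩

theorem Lc.uy_NE (h : Lc X G0 t D) (hg : g ∈ N[X.Z]) (e : g * t * g⁻¹ = t * X.z b) : g ∈ N[X.E2 t] :=
  mem_N_of_finite fun x hx => by
    obtain ⟨c, rfl | rfl⟩ := (h.mem_E2 X).1 hx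
    · exact mem_sup_right (conj_mem hg (X.z_mem_Z c))
    · rw [← conj_mul, e]
      exact mul_mem ((h.mem_E2 X).2 ⟨b, .inr rfl⟩) (mem_sup_right (conj_mem hg (X.z_mem_Z c)))

theorem Lc.uy_NE0 (h : Lc X G0 t D) (hg : g ∈ N[X.S]) (e : g * t = t * g) : g ∈ N[X.E2 t] :=
  h.uy_NE (b := 0) (X.NS_le_NZ hg) (by rw [e, X.z_zero, mul_one, mul_inv_cancel_right])

theorem UD.uy_mul (X : UD K L) {c : E} (hx : x ∈ C[X.Z]) (e1 : x * t * x⁻¹ = t * X.z b)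
    (e2 : y * t * y⁻¹ = t * X.z c) : x * y * t * (x * y)⁻¹ = t * X.z (b + c) := by
  rw [show x * y * t * (x * y)⁻¹ = x * (y * t * y⁻¹) * x⁻¹ by group, e2, ← conj_mul, e1,
    conj_eq_of_mem_C hx (X.z_mem_Z c), mul_assoc, X.z_mul]

theorem UD.uy_sq (X : UD K L) (hx : x ∈ C[X.Z]) (e1 : x * t * x⁻¹ = t * X.z b) : x * x ∈ C{t} := by
  have := X.uy_mul hx e1 e1
  rw [K.addE, X.z_zero, mul_one] at this
  exact mem_C1_iff_conj.2 this

theorem Lc.uy_h (h : Lc X G0 t D) (k : Eˣ) (e1 : x * t * x⁻¹ = t * X.z b) :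
    X.h k * x * (X.h k)⁻¹ * t * (X.h k * x * (X.h k)⁻¹)⁻¹ = t * X.z ((k : E) ^ 2 * b) := by
  have a := h.tu (X.h_mem k)
  calc _ = X.h k * (x * ((X.h k)⁻¹ * (t * X.h k)) * x⁻¹) * (X.h k)⁻¹ := by group
    _ = _ := by rw [← a, inv_mul_cancel_left, e1, ← conj_mul, X.h_z, a, mul_inv_cancel_right]

theorem Lc.uy_N (h : Lc X G0 t D) (h1 : s ∈ C[X.S]) (h2 : s ∈ C{X.w}) (hd : DD t s) :
    ∃ g ∈ N[X.S], s = g * t * g⁻¹ := by
  obtain ⟨g, rfl⟩ := hd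
  obtain ⟨l, hl, e⟩ := X.exists_l (h.S_in X h1 h2)
  exact ⟨g * l, e, by rw [mul_assoc g l, h.tu hl]; group⟩

/-- an element moving `t` and centralising `S / Z` -/
theorem Lc.uy_act (h : Lc X G0 t D) : ∃ x b, b ≠ 0 ∧ X.Act x 1 1 ∧ x * t * x⁻¹ = t * X.z b := by
  have zC := cents_symm X.S_CZ (X.z_mem_Z 1)
  obtain ⟨g, hg, e⟩ := h.uy_N (mul_mem (C_anti X.S_le h.tC) zC)
    (mul_mem (mem_C1.2 (h.tu X.w_mem).symm) (mem_C1.2 (X.w_z 1).symm)) (h.dd 1)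
  obtain ⟨k0, hk0⟩ := K.exists_unit
  obtain ⟨k, -, hk⟩ := X.exists_act hg
  obtain ⟨μ, hμ⟩ := K.aut_res (X.χ g)
  obtain ⟨γ, γi, hγ⟩ := X.exists_γ (X.NS_le_NZ hg)
  obtain ⟨c, hc⟩ := Finite.injective_iff_surjective.1 γi 1
  let k1 : Eˣ := Units.map μ.toMonoidHom k0
  refine ⟨g * X.h k0 * (X.h k1 * g)⁻¹, γ (((k0 : E) ^ 2 + 1) * c), fun a => ?_, ⟨one_ne_zero, fun a b => ?_⟩, ?_⟩
  · rcases mul_eq_zero.1 (γi (a.trans (map_zero γ).symm)) with a | a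
    · exact hk0 (Units.ext (K.sq_inj (by rw [Units.val_one]; linear_combination a - K.addE 1)))
    · rw [a, map_zero] at hc; exact zero_ne_one hc
  · obtain ⟨a', b', e1⟩ := X.mem_S.1 (conj_mem' (mul_mem (X.h_NS k1) hg) (X.u_mem_S a b))
    obtain ⟨b1, e2⟩ := hk a' b'
    obtain ⟨b2, e3⟩ := hk ((k0 : E) • a') ((k0 : E) ^ 2 * b')
    have e4 : X.u a b = X.u ((k1 : E) • (k * X.χ g a')) ((k1 : E) ^ 2 * b1) := by
      rw [← X.h_u, ← e2, ← e1]; group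
    refine ⟨b2, ?_⟩
    calc _ = g * (X.h k0 * ((X.h k1 * g)⁻¹ * X.u a b * (X.h k1 * g)) * (X.h k0)⁻¹) * g⁻¹ := by group
      _ = _ := by
        rw [e1, X.h_u, e3, (X.u_inj e4).1]
        congr 1
        simp only [Algebra.smul_def, map_mul, hμ, k1, Units.coe_map, RingAut.one_apply]
        change _ = 1 * (algebraMap E F (μ k0) * _)
        ring
  · have a1 : g⁻¹ * t * g = t * X.z c := by
      have := hγ c
      rw [hc] at this
      calc _ = g⁻¹ * (t * X.z 1 * X.z 1) * g := by rw [mul_assoc t, X.z_sq, mul_one]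
        _ = _ := by nth_rw 1 [e, ← this]; group
    have a2 := h.tu (X.h_mem k1)
    calc _ = g * (X.h k0 * (g⁻¹ * ((X.h k1)⁻¹ * (t * X.h k1)) * g) * (X.h k0)⁻¹) * g⁻¹ := by group
      _ = _ := by
        rw [← a2, inv_mul_cancel_left, a1, ← conj_mul (b := X.h k0), X.h_z, h.tu (X.h_mem k0),
          mul_inv_cancel_right, ← conj_mul, ← e, hγ, mul_assoc, X.z_mul, add_mul, one_mul, map_add, hc,
          add_comm]

theorem UD.uy_Z (h : X.Act x 1 1) : x ∈ C[X.Z] := mem_C'.2 fun z hz => by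
  obtain ⟨b, rfl⟩ := X.mem_Z.1 hz
  obtain ⟨c, e1, e2⟩ := h.z b
  rw [map_one, mul_one, one_mul] at e2
  rw [(algebraMap E F).injective e2] at e1
  exact mul_inv_eq_iff_eq_mul.1 e1

theorem UD.uy_l (h : X.Act x k 1) (hz : x ∈ C[X.Z]) :
    ∃ l : F → E, ∀ a b, x * X.u a b * x⁻¹ = X.u (k * a) (l a + b) := by
  choose l hl using fun a => h.2 a 0
  exact ⟨l, fun a b => by
    rw [X.u_eq, ← conj_mul, hl, conj_eq_of_mem_C hz (X.z_mem_Z b), X.u_z]; rfl⟩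

/-- every element of `tZ` is conjugate to `t` under `C(S)` -/
theorem Lc.uy_onto (h : Lc X G0 t D) (b : E) : ∃ x ∈ C[X.S], x * t * x⁻¹ = t * X.z b := by
  by_cases b0 : b = 0
  · exact ⟨1, one_mem _, by simp [b0, X.z_zero]⟩
  obtain ⟨x, c, c0, a, e⟩ := h.uy_act
  suffices ∃ x ∈ C[X.S], x * t * x⁻¹ = t * X.z c by
    obtain ⟨x, hx, e⟩ := this
    obtain ⟨k, rfl⟩ := K.exists_sq c0 b0
    exact ⟨_, conj_mem (N_le_NC _ (X.h_NS k)) hx, h.uy_h k e⟩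
  have pw : ∀ {m : G}, X.Act m K.w 1 → ∀ n : ℕ, ∀ a b, ∃ b', m ^ n * X.u a b * (m ^ n)⁻¹ = X.u (K.w ^ n * a) b' :=
    fun {m} hm n a b => by
      induction n with
      | zero => exact ⟨b, by simp⟩
      | succ n ih =>
        obtain ⟨b1, e1⟩ := ih
        obtain ⟨b2, e2⟩ := hm.2 (K.w ^ n * a) b1
        exact ⟨b2, by
          rw [pow_succ', pow_succ', mul_assoc K.w, ← (show _ = X.u (K.w * (K.w ^ n * a)) b2 from e2), ← e1]
          group⟩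
  have wZ : X.w ∈ C[X.Z] := mem_C'.2 fun z hz => by
    obtain ⟨b, rfl⟩ := X.mem_Z.1 hz
    exact X.w_z b
  have am : X.Act (x * X.w) K.w 1 := ⟨K.w0, fun a' b => by
    obtain ⟨b1, e1⟩ := a.2 (K.w * a') b
    exact ⟨b1, by
      rw [show x * X.w * X.u a' b * (x * X.w)⁻¹ = x * (X.w * X.u a' b * X.w⁻¹) * x⁻¹ by group, X.w_u, e1,
        one_mul]; rfl⟩⟩
  have mZ := mul_mem (UD.uy_Z a) wZ
  have em : x * X.w * t * (x * X.w)⁻¹ = t * X.z c := by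
    rw [← e, mul_assoc x, h.tu X.w_mem]; group
  generalize x * X.w = m at am mZ em
  obtain ⟨j, hj⟩ : Odd (orderOf X.w) :=
    Nat.coprime_two_right.1 ((piNat_compl_iff_coprime Nat.prime_two).1 X.w_odd).symm
  have w1 : K.w ^ orderOf X.w = 1 := by
    obtain ⟨b1, e1⟩ := pw ⟨K.w0, fun a b => ⟨b, X.w_u a b⟩⟩ (orderOf X.w) 1 0
    rw [pow_orderOf_eq_one, one_mul, inv_one, mul_one, mul_one] at e1
    exact (X.u_inj e1).1.symm
  have ag : X.Act (m ^ orderOf X.w) 1 1 := ⟨one_ne_zero, fun a b => by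
    obtain ⟨b1, e1⟩ := pw am (orderOf X.w) a b
    exact ⟨b1, by rw [e1, w1]; rfl⟩⟩
  have cm : m ^ orderOf X.w * m = m * m ^ orderOf X.w := by group
  refine ⟨m ^ orderOf X.w, ?_, ?_⟩
  · generalize m ^ orderOf X.w = g at ag cm
    obtain ⟨l, hl⟩ := UD.uy_l ag (UD.uy_Z ag)
    obtain ⟨l', hl'⟩ := UD.uy_l am mZ
    simp only [one_mul] at hl
    have z := K.winv (AddMonoidHom.mk' l fun a c => by
      have e1 := hl (a + c) (0 + 0 + K.β a c)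
      rw [← X.u_mul, ← conj_mul, hl, hl, X.u_mul] at e1
      linear_combination -(X.u_inj e1).2) fun a => by
      have e1 : g * (m * X.u a 0 * m⁻¹) * g⁻¹ = m * (g * X.u a 0 * g⁻¹) * m⁻¹ := by
        calc _ = g * m * X.u a 0 * (g * m)⁻¹ := by group
          _ = _ := by rw [cm]; group
      rw [hl', hl, hl, hl'] at e1
      change l _ = l _
      linear_combination (X.u_inj e1).2
    refine mem_C'.2 fun s hs => ?_
    obtain ⟨a, b, rfl⟩ := X.mem_S.1 hs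
    have := hl a b
    rw [show l a = 0 from z a, zero_add] at this
    exact mul_inv_eq_iff_eq_mul.1 this
  · rw [hj, pow_succ', pow_mul, sq, ← em,
      show ∀ y : G, m * y * t * (m * y)⁻¹ = m * (y * t * y⁻¹) * m⁻¹ from fun y => by group,
      mem_C1_iff_conj.1 (pow_mem (X.uy_sq mZ em) j)]

theorem Lc.exists_yd (h : Lc X G0 t D) : Nonempty (YD X t D) := by
  classical
  have SZ : C[X.S] ≤ C[X.Z] := C_anti X.Z_le_S
  have tS : t ∈ C[X.S] := C_anti X.S_le h.tC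
  have ET : X.E2 t ≤ X.T t := sup_le_sup_left X.Z_le_S _
  have mC : ∀ {g b}, g ∈ C[X.S] → g * t * g⁻¹ = t * X.z b → g ∈ C[X.S] ⊓ N[X.E2 t] := fun a e =>
    ⟨a, h.uy_NE (C_le_N _ (SZ a)) e⟩
  have mC0 : ∀ {g}, g ∈ C[X.S] → g * t = t * g → g ∈ C[X.S] ⊓ N[X.E2 t] := fun a e =>
    ⟨a, h.uy_NE0 (C_le_N _ a) e⟩
  have nC : ∀ g ∈ N[X.S], g * t = t * g → g ∈ N[C[X.S] ⊓ N[X.E2 t]] := fun g a e =>
    inf_normalizer_le_normalizer_inf ⟨N_le_NC _ a, norm_self _ (h.uy_NE0 a e)⟩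
  obtain ⟨R, pR, RC, RD, R2, RN, Rd⟩ := h.lift (C := C[X.S] ⊓ N[X.E2 t]) (mC0 tS rfl)
    (fun d hd => mC0 (C_anti X.S_le (h.D_L hd)) (mem_C1.1 (h.D_t hd)))
    (fun g hg e p => ET (h.two_E hg.1 e p)) (fun k => nC _ (X.h_NS k) (h.tu (X.h_mem k)))
    fun g hg p => by
      obtain ⟨b, e⟩ := h.uy_spec hg.2
      exact h.odd_D ⟨one_ne_zero, fun a b => ⟨b, by
        rw [conj_eq_of_mem_C hg.1 (X.u_mem_S a b), one_mul]; rfl⟩⟩
        (mem_C1.1 (odd_mem' p (X.uy_sq (SZ hg.1) e))) p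
  let y : G → E := fun g => if e : ∃ b, g * t * g⁻¹ = t * X.z b then e.choose else 0
  have ye : ∀ {g b}, g * t * g⁻¹ = t * X.z b → y g = b := fun {g b} e => by
    have e' : ∃ b, g * t * g⁻¹ = t * X.z b := ⟨b, e⟩
    simp only [y, dif_pos e']
    exact X.z_inj (mul_left_cancel (e'.choose_spec.symm.trans e))
  have ys : ∀ r ∈ R, r * t * r⁻¹ = t * X.z (y r) := fun r hr => by
    obtain ⟨b, e⟩ := h.uy_spec (RC hr).2
    rw [ye e, e]
  have RE : ∀ r ∈ R, r * t = t * r → r ∈ X.E2 t := fun r hr e => h.two_E (RC hr).1 e (pR.piElt hr)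
  have y0 : ∀ r ∈ R, y r = 0 → r * t = t * r := fun r hr e => by
    have := ys r hr
    rwa [e, X.z_zero, mul_one, mul_inv_eq_iff_eq_mul] at this
  have tZ : t ∉ X.Z := fun a => h.t_L X (X.S_le (X.Z_le_S a))
  obtain ⟨U, ZU, UR, tU, Ud, UN⟩ := h.split (Q := X.Z) pR (R2 t (mC0 tS rfl) (piElt_of_sq h.tt))
    (fun r hr => ET (RE r hr.1 (mem_C1.1 hr.2))) RD (fun g a e => RN (nC g a e))
    (fun z hz => R2 z (mC0 (cents_symm X.S_CZ hz) (h.tu (X.S_le (X.Z_le_S hz))))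
      (X.pi_S.piElt (X.Z_le_S hz))) tZ (fun g a _ => X.NS_le_NZ a)
    (fun x hx => by
      obtain ⟨b, e | e⟩ := (h.mem_E2 X).1 (RE _ (mul_mem hx hx) (mem_C1.1 (X.uy_sq (SZ (RC hx).1) (ys x hx))))
      · exact e ▸ X.z_mem_Z b
      have e1 : x * (t * X.z b) * x⁻¹ = t * X.z b := by rw [← e]; group
      rw [← conj_mul, conj_eq_of_mem_C (SZ (RC hx).1) (X.z_mem_Z b), mul_left_inj,
        mul_inv_eq_iff_eq_mul] at e1
      obtain ⟨c, rfl | rfl⟩ := (h.mem_E2 X).1 (RE x hx e1)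
      · exact mul_mem (X.z_mem_Z c) (X.z_mem_Z c)
      · rcases h.uy_tri (RE _ hx e1) (RE _ hx e1) with a | a | a
        exacts [mul_mem a a, mul_mem a a, a])
    fun x hx s hs => by
      rw [conj_eq_of_mem_C (RC hx).1 hs, mul_inv_cancel]; exact one_mem _
  have US : U ≤ C[X.S] := fun u hu => (RC (UR hu)).1
  have ker : ∀ u ∈ U, y u = 0 → u ∈ X.Z := fun u hu e => by
    obtain ⟨b, rfl | rfl⟩ := (h.mem_E2 X).1 (RE u (UR hu) (y0 u (UR hu) e))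
    exacts [X.z_mem_Z b, absurd ((mul_mem_cancel_right (ZU (X.z_mem_Z b))).1 hu) tU]
  have ym : ∀ u ∈ U, ∀ v ∈ U, y (u * v) = y u + y v := fun u hu v hv =>
    ye (X.uy_mul (SZ (US hu)) (ys u (UR hu)) (ys v (UR hv)))
  have yi : ∀ u ∈ U, y u⁻¹ = y u := fun u hu => by
    have := ym u hu _ (inv_mem hu)
    rw [mul_inv_cancel, ye (b := 0) (by simp [X.z_zero])] at this
    linear_combination -this - K.addE (y u)
  have dec : ∀ g ∈ C[X.S], ∀ b, g * t * g⁻¹ = t * X.z b →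
      ∃ u ∈ U, ∃ d ∈ D, g = u * d ∨ g = u * t * d := fun g hg b e => by
    obtain ⟨r, hr, d, hd, rfl⟩ := Rd g (mC hg e)
    rcases Ud r hr with a | a
    exacts [⟨r, a, d, hd, .inl rfl⟩, ⟨_, a, d, hd, .inr (by rw [mul_assoc r, h.tt, mul_one])⟩]
  have onto : ∀ b, ∃ u ∈ U, y u = b := fun b => by
    obtain ⟨x, hx, e⟩ := h.uy_onto b
    obtain ⟨u, hu, d, hd, rfl | rfl⟩ := dec x hx b e <;> refine ⟨u, hu, ye (e ▸ ?_)⟩
    · rw [mul_assoc u d, mem_C1.1 (h.D_t hd)]; group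
    · rw [mul_assoc _ d, mem_C1.1 (h.D_t hd)]; group
  have sqe : ∀ u ∈ U, ∀ v ∈ U, y u = y v → u * u = v * v := fun u hu v hv e => by
    obtain ⟨b, e1⟩ := X.mem_Z.1 (ker _ (mul_mem (inv_mem hv) hu) (by
      rw [ym _ (inv_mem hv) _ hu, yi v hv, e, K.addE]))
    rw [inv_mul_eq_iff_eq_mul.1 e1, mul_assoc, ← mul_assoc (X.z b),
      mem_C.1 (SZ (US hv)) _ (X.z_mem_Z b), mul_assoc, X.z_sq, mul_one]
  obtain ⟨u1, h1, y1⟩ := onto 1
  obtain ⟨c, hc⟩ := X.mem_Z.1 (ker _ (mul_mem h1 h1) (by rw [ym _ h1 _ h1, K.addE]))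
  have sq : ∀ u ∈ U, u * u = X.z (c * y u) := fun u hu => by
    by_cases b0 : y u = 0
    · obtain ⟨b, e⟩ := X.mem_Z.1 (ker u hu b0)
      rw [b0, mul_zero, e, X.z_sq, X.z_zero]
    obtain ⟨k, e⟩ := K.exists_sq one_ne_zero b0
    rw [sqe u hu _ (conj_mem (UN _ (X.h_NS k) (h.tu (X.h_mem k))) h1)
      (by rw [ye (h.uy_h k (ys u1 (UR h1))), y1, e]), conj_mul, hc, X.h_z, ← e, mul_one, mul_comm]
  have abl : Abl U := abl_iff.2 fun u hu => mem_C.2 fun v hv => by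
    have := sq _ (mul_mem hu hv)
    rw [ym u hu v hv, mul_add, ← X.z_mul, ← sq u hu, ← sq v hv, mul_assoc, mul_assoc, mul_right_inj,
      ← mul_assoc, ← mul_assoc, mul_left_inj] at this
    exact this
  have Uw : U ≤ C{X.w} := fun u hu => by
    have a := conj_mem (UN _ X.w_NS (h.tu X.w_mem)) hu
    obtain ⟨b, e⟩ := X.mem_Z.1 (ker _ (mul_mem a (inv_mem hu)) (by
      rw [ym _ a _ (inv_mem hu), yi u hu, ye (b := y u), K.addE]
      calc _ = X.w * (u * (X.w⁻¹ * (t * X.w)) * u⁻¹) * X.w⁻¹ := by group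
        _ = _ := by
          rw [← h.tu X.w_mem, inv_mul_cancel_left, ys u (UR hu), ← mul_assoc, h.tu X.w_mem, mul_assoc t,
            X.w_z, mul_assoc, mul_inv_cancel_right]))
    exact mem_C1.2 (odd_comm X.w_odd (e ▸ piElt_of_sq (X.z_sq b)) (by rw [e, X.w_z])).symm
  refine ⟨⟨U, y, c, ZU, fun u hu => ys u (UR hu), onto, ker, sq, abl, US, Uw, UR.trans RD, UN,
    fun g hg b e => ?_, fun s hs hd => ?_⟩⟩
  · obtain ⟨u, hu, d, hd, e | e⟩ := dec g hg b e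
    · exact ⟨u, hu, d, hd, .inl e⟩
    · exact ⟨_, conj_mem' (UN t (C_le_N _ tS) rfl) hu, d, hd, .inr (by rw [e]; group)⟩
  · obtain ⟨g, hg, rfl⟩ := h.uy_N (US hs) (Uw hs) hd
    have a : ∀ u ∈ U, g⁻¹ * u * g ∈ X.E2 t := fun u hu =>
      h.two_E (conj_mem' (N_le_NC _ hg) (US hu)) (by
        calc _ = g⁻¹ * (u * (g * t * g⁻¹)) * g := by group
          _ = _ := by rw [abl.comm hu hs]; group) (by simpa using (pR.piElt (UR hu)).conj g⁻¹)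
    have a' : ∀ u ∈ U, g⁻¹ * u * g ∈ X.Z → y u = 0 := fun u hu e => by
      obtain ⟨b, rfl⟩ := X.mem_Z.1 ((conj_mem_iff' (X.NS_le_NZ hg)).1 e)
      exact ye (by rw [h.tu (X.z_mem b), X.z_zero, mul_one, mul_inv_cancel_right])
    obtain ⟨e, e0, e1, -⟩ := K.exists_ne 0 1 1
    obtain ⟨v, hv, rfl⟩ := onto e
    rcases h.uy_tri (a _ h1) (a _ hv) with k | k | k
    · exact one_ne_zero (y1.symm.trans (a' _ h1 k))
    · exact e0 (a' _ hv k)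
    · have := a' _ (mul_mem h1 hv) (by convert k using 1; group)
      rw [ym _ h1 _ hv, y1] at this
      exact e1 (by linear_combination this - K.addE 1)

section
variable (Y : YD X t D) {u u' : G}
theorem YD.uy_Z : Y.U ≤ C[X.Z] := Y.U_S.trans (C_anti X.Z_le_S)
theorem YD.uy_e (hu : u ∈ Y.U) (e : u * t * u⁻¹ = t * X.z b) : Y.y u = b :=
  X.z_inj (mul_left_cancel ((Y.spec u hu).symm.trans e))
theorem YD.y_mul (h : Lc X G0 t D) (hu : u ∈ Y.U) (hu' : u' ∈ Y.U) : Y.y (u * u') = Y.y u + Y.y u' :=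
  Y.uy_e (mul_mem hu hu') (X.uy_mul (Y.uy_Z hu) (Y.spec u hu) (Y.spec u' hu'))
theorem YD.y_z (h : Lc X G0 t D) (b : E) : Y.y (X.z b) = 0 :=
  Y.uy_e (Y.Z_le (X.z_mem_Z b)) (by rw [h.tu (X.z_mem b), X.z_zero, mul_one, mul_inv_cancel_right])
theorem YD.y_inv (h : Lc X G0 t D) (hu : u ∈ Y.U) : Y.y u⁻¹ = Y.y u := by
  have := Y.y_mul h hu (inv_mem hu)
  rw [mul_inv_cancel, ← X.z_zero, Y.y_z h] at this
  linear_combination -this - K.addE (Y.y u)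
theorem YD.h_U (h : Lc X G0 t D) (k : Eˣ) : X.h k ∈ N[Y.U] := Y.nrm _ (X.h_NS k) (h.tu (X.h_mem k))
theorem YD.t_N (h : Lc X G0 t D) : t ∈ N[Y.U] := Y.nrm t (C_le_N _ (C_anti X.S_le h.tC)) rfl
theorem YD.y_h (h : Lc X G0 t D) (k : Eˣ) (hu : u ∈ Y.U) :
    Y.y (X.h k * u * (X.h k)⁻¹) = (k : E) ^ 2 * Y.y u :=
  Y.uy_e (conj_mem (Y.h_U h k) hu) (h.uy_h k (Y.spec u hu))
theorem YD.t_u (h : Lc X G0 t D) (hu : u ∈ Y.U) : t * u * t⁻¹ = u * X.z (Y.y u) := by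
  have := mul_inv_eq_iff_eq_mul.1 (Y.spec u hu)
  rw [inv_eq_of_mul_eq_one_right h.tt, mul_assoc, this, mul_assoc, ← mul_assoc, h.tt, one_mul,
    mem_C.1 (Y.uy_Z hu) _ (X.z_mem_Z _)]
theorem YD.tu_sq (h : Lc X G0 t D) (hu : u ∈ Y.U) : t * u * (t * u) = X.z ((Y.c + 1) * Y.y u) := by
  have := Y.t_u h hu
  rw [inv_eq_of_mul_eq_one_right h.tt] at this
  rw [← mul_assoc, this, mul_assoc, mem_C.1 (Y.uy_Z hu) _ (X.z_mem_Z _), ← mul_assoc, Y.sq u hu, X.z_mul,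
    add_mul, one_mul]
theorem YD.eqz (h : Lc X G0 t D) (hu : u ∈ Y.U) (hu' : u' ∈ Y.U) (e : Y.y u = Y.y u') :
    ∃ b, u = u' * X.z b := by
  obtain ⟨b, e1⟩ := X.mem_Z.1 (Y.ker _ (mul_mem (inv_mem hu') hu) (by
    rw [Y.y_mul h (inv_mem hu') hu, Y.y_inv h hu', e, K.addE]))
  exact ⟨b, inv_mul_eq_iff_eq_mul.1 e1⟩
theorem YD.card_U (h : Lc X G0 t D) : ♯Y.U = 𝐪 ^ 2 := by
  choose s hs ys using Y.onto
  have e : E × E ≃ Y.U := Equiv.ofBijective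
    (fun p => ⟨s p.1 * X.z p.2, mul_mem (hs _) (Y.Z_le (X.z_mem_Z _))⟩) ⟨fun p q e => by
      have e1 : s p.1 * X.z p.2 = s q.1 * X.z q.2 := congrArg Subtype.val e
      have e2 := congrArg Y.y e1
      rw [Y.y_mul h (hs _) (Y.Z_le (X.z_mem_Z _)), Y.y_mul h (hs _) (Y.Z_le (X.z_mem_Z _)), Y.y_z h,
        Y.y_z h, ys, ys, add_zero, add_zero] at e2
      rw [e2] at e1
      exact Prod.ext e2 (X.z_inj (mul_left_cancel e1)), fun u => by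
      obtain ⟨b, e⟩ := Y.eqz h u.2 (hs _) (ys _).symm
      exact ⟨(_, b), Subtype.ext e.symm⟩⟩
  rw [← Nat.card_congr e, Nat.card_prod, Nat.card_eq_fintype_card, pow_two]
theorem YD.pi_U (h : Lc X G0 t D) : IsPi {2} Y.U := by
  obtain ⟨n, -, e⟩ := K.pow2
  exact isPi_of_card (n := n * 2) Nat.prime_two (by rw [Y.card_U h, e, pow_mul])
theorem YD.U_inf (h : Lc X G0 t D) : Y.U ⊓ X.S ≤ X.Z := fun _ hx => X.S_CS ⟨hx.2, Y.U_S hx.1⟩
theorem YD.mem_Q0 (h : Lc X G0 t D) : g ∈ X.S ⊔ Y.U ↔ ∃ a, ∃ u ∈ Y.U, g = X.u a 0 * u := by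
  refine ⟨fun hg => ?_, by
    rintro ⟨a, u, hu, rfl⟩; exact mul_mem (mem_sup_left (X.u_mem_S a 0)) (mem_sup_right hu)⟩
  obtain ⟨s, hs, u, hu, rfl⟩ := (mem_sup_of_norm (norm_of_cent Y.U_S)).1 hg
  obtain ⟨a, b, rfl⟩ := X.mem_S.1 hs
  exact ⟨a, _, mul_mem (Y.Z_le (X.z_mem_Z b)) hu, by rw [X.u_eq, mul_assoc]⟩
theorem YD.two_Y (h : Lc X G0 t D) (h1 : g ∈ C[X.S]) (h2 : PiElt {2} g) (e : g * t * g⁻¹ = t * X.z b) :
    g ∈ Y.U ∨ t * g ∈ Y.U := by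
  have k : ∀ x d, PiElt {2} x → d ∈ D → x * d = d * x → g = x * d → g = x := fun x d p hd c e => by
    have := (p.inv.mul h2 (by rw [e, inv_mul_cancel_left, c, mul_inv_cancel_right])).eq_one (by
      rw [e, inv_mul_cancel_left]; exact h.odd.piElt hd)
    exact (inv_mul_eq_one.1 this).symm
  obtain ⟨u, hu, d, hd, e | e⟩ := Y.CQ g h1 b e
  · exact .inl (k u d ((Y.pi_U h).piElt hu) hd (mem_C'.1 (Y.U_D hu) d hd) e ▸ hu)
  · rw [k _ d (((piElt_of_sq h.tt).isPi.sup' (Y.pi_U h) (zpowers_le.2 (Y.t_N h))).piElt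
      (mul_mem (mem_sup_left (mem_zpowers t)) (mem_sup_right hu))) hd (by
        rw [mul_assoc, mem_C'.1 (Y.U_D hu) d hd, ← mul_assoc, ← mem_C1.1 (h.D_t hd), mul_assoc]) e,
      ← mul_assoc, h.tt, one_mul]
    exact .inr hu
theorem YD.NE (h : Lc X G0 t D) (hg : g ∈ N[X.Z]) (e : g * t * g⁻¹ = t * X.z b) :
    ∃ u ∈ Y.U, u⁻¹ * g ∈ N[X.S] ⊓ C{t} := by
  obtain ⟨u, hu, rfl⟩ := Y.onto b
  refine ⟨u, hu, mem_inf.2 ⟨mul_mem (inv_mem (C_le_N _ (Y.U_S hu))) (h.NE hg e), mem_C1_iff_conj.2 ?_⟩⟩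
  calc _ = u⁻¹ * (g * t * g⁻¹) * u := by group
    _ = _ := by rw [e, ← Y.spec u hu]; group
theorem YD.exists_l (h : Lc X G0 t D) (h1 : g ∈ C[X.Z]) (h2 : ∀ u ∈ Y.U, ∃ b, g * u * g⁻¹ = u * X.z b) :
    ∃ l : E →+ E, ∀ u ∈ Y.U, g * u * g⁻¹ = u * X.z (l (Y.y u)) := by
  choose s hs ys using Y.onto
  choose m hm using fun b => h2 _ (hs b)
  have k : ∀ u ∈ Y.U, g * u * g⁻¹ = u * X.z (m (Y.y u)) := fun u hu => by
    obtain ⟨b, e⟩ := Y.eqz h hu (hs _) (ys _).symm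
    generalize Y.y u = c at e
    rw [e, ← conj_mul, hm, conj_eq_of_mem_C h1 (X.z_mem_Z b), mul_assoc, mul_assoc, X.z_mul, X.z_mul,
      add_comm]
  refine ⟨AddMonoidHom.mk' m fun a c => ?_, k⟩
  have := k _ (mul_mem (hs a) (hs c))
  rw [← conj_mul, hm, hm, Y.y_mul h (hs a) (hs c), ys, ys, mul_assoc, ← mul_assoc (X.z _),
    mem_C.1 (Y.uy_Z (hs c)) _ (X.z_mem_Z _), mul_assoc, X.z_mul, ← mul_assoc] at this
  exact (X.z_inj (mul_left_cancel this)).symm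
end

end H2.U3
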