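import Mathlib
import Cfsg.Agent.H2.UDefs
import Cfsg.Agent.H2.UM1
import Cfsg.Agent.H2.UY

set_option autoImplicit false
set_option linter.unusedVariables false
set_option linter.unusedSectionVars false

namespace H2.U3

open Cfsg H24 Subgroup
open H2.SZ (St DD Goal piElt_of_sq inv_pow' mem_zp_inv)
open H2.C2 (Cl2)

universe u v

variable {G : Type u} [Group G] [Finite G] {E F : Type*} [Field E] [Fintype E] [Field F] [Fintype F]
  [Algebra E F] {K : UF E F} {L G0 D P P0 Q R A B C H T M W W1 W2 Z1 Z2 : Subgroup G}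
  {t g s f x y i v p : G} {X : UD K L} {a k : F} {b : E} {ρ : F ≃+* F}

local notation "𝐪" => Fintype.card E

/-! ### UM2 -/

theorem um2_odd {M : Type u} [Group M] [Finite M] {y o : M} (yy : y * y = 1) (ho : o ∈ oddCore M)
    (h : PiElt {2}ᶜ (y * o)) : y = 1 := by
  have pO : IsPi {2}ᶜ (oddCore M) :=
    (piNat_compl_iff_coprime Nat.prime_two).2 (H2.pPrimeCore_coprime 2 M).symm
  have a := h.map (QuotientGroup.mk' (oddCore M))
  rw [map_mul, show QuotientGroup.mk' (oddCore M) o = 1 from (QuotientGroup.eq_one_iff o).2 ho, mul_one] at a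
  exact (piElt_of_sq yy).eq_one (pO.piElt ((QuotientGroup.eq_one_iff y).1
    (((piElt_of_sq yy).map _).eq_one a)))

theorem um2_dih (xx : x * x = 1) (yy : y * y = 1) (h : ¬ PiElt {2}ᶜ (x * y)) :
    ∃ j ∈ zpowers (x * y), j ≠ 1 ∧ j * j = 1 ∧ j * x = x * j ∧ j * y = y * j := by
  obtain ⟨a, o, ha, ho, h1, -, e⟩ := exists_piElt_decomp {2} (x * y)
  obtain ⟨n, n1, n2⟩ := inv_pow' ha (by rintro rfl; exact h (by rwa [e, one_mul]))
  replace h1 := pow_mem h1 n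
  generalize a ^ n = j at h1 n1 n2
  have key : ∀ c, c * (x * y) * c⁻¹ = (x * y)⁻¹ → j * c = c * j := fun c hc => by
    obtain ⟨m, rfl⟩ := h1
    have : c * (x * y) ^ m * c⁻¹ = (x * y) ^ m := by
      rw [← conj_zpow, hc, inv_zpow]
      exact inv_eq_of_mul_eq_one_left n2
    exact (mul_inv_eq_iff_eq_mul.1 this).symm
  have xi := inv_eq_of_mul_eq_one_left xx
  have yi := inv_eq_of_mul_eq_one_left yy
  refine ⟨j, h1, n1, n2, key x ?_, key y ?_⟩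
  · rw [mul_inv_rev, xi, yi, ← mul_assoc x, xx, one_mul]
  · rw [mul_inv_rev, xi, mul_assoc, mul_inv_cancel_right, yi]

theorem Lc.mlem (h : Lc X G0 t D) (hA : Abl A) (hP : Syl 2 C{X.w} P) (AP : A ≤ P) (tP : t ∈ P)
    (idx : ∀ p ∈ P, p ∈ A ∨ p * t ∈ A) (nd : ∀ s ∈ A, ¬ DD t s) (ZA : X.Z ≤ A)
    (sc : ∀ g ∈ C{X.w}, ∀ b, g * X.z b * g⁻¹ ∈ A → g * X.z b * g⁻¹ ∈ X.Z) (hh : ∀ k, X.h k ∈ N[A]) :
    A ≤ X.Z := by
  obtain ⟨k, k1⟩ := K.exists_unit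
  have ZM : X.Z ≤ C{X.w} := ZA.trans (AP.trans hP.le)
  have PE : P ⊓ C{t} ≤ X.E2 t := (h.CW.eq_of_le (hP.pi.inf_left _) (le_inf
    (sup_le (zpowers_le.2 tP) (ZA.trans AP)) (h.CW.le.trans inf_le_left))
    (le_inf inf_le_right (inf_le_left.trans hP.le))).le
  have hw : ∀ k, X.h k ∈ C{X.w} := fun k => mem_C1.2 (X.h_w k)
  rcases H2.U3.mlem (M := C{X.w}) (P := P.subgroupOf _) (A := A.subgroupOf _) (Z := X.Z.subgroupOf _)
    (t := ⟨t, hP.le tP⟩) (v := ⟨X.h k, hw k⟩) ((hall_subgroupOf_top hP.le).2 hP) (hA.subgroupOf _)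
    (subgroupOf_mono _ AP) tP (Subtype.ext h.tt) (fun p hp => idx p hp) (fun g a => nd _ a ⟨g, rfl⟩)
    (subgroupOf_mono _ ZA) (fun z hz => by
      obtain ⟨b, e⟩ := X.mem_Z.1 (mem_subgroupOf.1 hz)
      exact Subtype.ext (by rw [coe_mul, e]; exact X.z_sq b))
    (by rw [card_subgroupOf_of_le ZM, X.card_Z]; exact K.four)
    (fun g z hz a => by
      obtain ⟨b, e⟩ := X.mem_Z.1 hz
      have := sc g g.2 b (by rw [← e]; exact a)
      rwa [← e] at this)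
    (fun a ha e => by
      obtain ⟨b, c | c⟩ := (h.mem_E2 X).1 (PE ⟨AP ha, mem_C1.2 (congrArg Subtype.val e)⟩)
      · exact X.mem_Z.2 ⟨b, c⟩
      · exact absurd (c ▸ h.dd b) (nd _ ha))
    (mem_N_of_finite fun a ha => mem_subgroupOf.2 (conj_mem (hh k) (mem_subgroupOf.1 ha)))
    (by have := X.h_odd k; unfold PiElt at this ⊢; rwa [← orderOf_coe])
    (fun a ha e => Subtype.ext ((h.fix_h hP.pi tP (PE.trans (sup_le_sup_left X.Z_le_S _)) (AP ha) k1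
      (congrArg Subtype.val e)).resolve_right fun c => nd _ ha (c ▸ DD.refl t)))
    (fun z hz z1 z' hz' z1' => by
      obtain ⟨b, e⟩ := X.mem_Z.1 (mem_subgroupOf.1 hz)
      obtain ⟨b', e'⟩ := X.mem_Z.1 (mem_subgroupOf.1 hz')
      obtain ⟨l, hl⟩ := K.exists_sq (x := b) (y := b')
        (fun c => z1 (Subtype.ext (e.trans (X.z_eq_one.2 c)))) fun c => z1' (Subtype.ext (e'.trans (X.z_eq_one.2 c)))
      exact ⟨⟨X.h l, hw l⟩, Subtype.ext (by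
        change (z' : G) = X.h l * z * (X.h l)⁻¹
        rw [e, e', X.h_z, hl])⟩) with a | a
  · exact fun x hx => a (show (⟨x, hP.le (AP hx)⟩ : C{X.w}) ∈ A.subgroupOf _ from hx)
  exfalso
  obtain ⟨z0, h0, o, ho, e⟩ := mem_sup_of_normal_right.1 (a.conj_mem ⟨X.z 1, ZM (X.z_mem_Z 1)⟩
    (mem_sup_left (X.z_mem_Z 1)) ⟨X.n, mem_C1.2 X.n_w⟩)
  obtain ⟨b0, e0⟩ := X.mem_Z.1 (mem_subgroupOf.1 h0)
  obtain ⟨b, b1, b2, -⟩ := K.exists_ne 0 b0 0
  obtain ⟨j, j0, j1, j2, j3, j4⟩ := um2_dih (X.z_sq b) (y := X.n * X.z 1 * X.n⁻¹)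
    (by rw [conj_mul, X.z_sq, mul_one, mul_inv_cancel]) fun c => by
      have := um2_odd (y := ⟨X.z b, ZM (X.z_mem_Z b)⟩ * z0) (Subtype.ext (by
        change X.z b * z0 * (X.z b * z0) = 1
        rw [e0, X.z_mul, X.z_sq])) ho (by
          unfold PiElt at c ⊢
          rwa [mul_assoc, e, ← orderOf_coe])
      replace this : X.z b * z0 = 1 := congrArg Subtype.val this
      rw [e0, X.z_mul, X.z_eq_one] at this
      exact b2 (by linear_combination this - K.addE b0)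
  have jL : j ∈ L := zpowers_le.2 (mul_mem (X.z_mem b) (mul_mem (mul_mem X.n_mem (X.z_mem 1))
    (inv_mem X.n_mem))) j0
  have S2 : ∀ j ∈ L, ∀ b ≠ 0, j * j = 1 → j * X.z b = X.z b * j → j ∈ X.S := fun j jL b hb j2 e =>
    X.two_L jL (X.norm_S (norm_self L jL) hb (by rw [e, mul_inv_cancel_right]; exact X.u_mem_S 0 b))
      (piElt_of_sq j2)
  obtain ⟨c, rfl⟩ := X.mem_Z.1 (X.mem_Z_of_sq (S2 j jL b b1 j2 j3) j2)
  refine X.n_NS ((inv_mem_iff (x := X.n)).1 (X.norm_S (norm_self L (inv_mem X.n_mem))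
    (fun a => j1 (X.z_eq_one.2 a)) (S2 _ (conj_mem (norm_self L (inv_mem X.n_mem)) jL) 1 one_ne_zero
      (by rw [conj_mul, j2, mul_one, mul_inv_cancel]) ?_)))
  calc _ = X.n⁻¹ * (X.z c * (X.n * X.z 1 * X.n⁻¹)) * X.n := by group
    _ = _ := by rw [j4]; group

variable {Y : YD X t D}

theorem YD.um2_mem (h : Lc X G0 t D) (hg : g ∈ Y.U ⊔ zpowers t) : g ∈ Y.U ∨ g * t ∈ Y.U := by
  obtain ⟨u, hu, _, c, rfl⟩ := (mem_sup_of_norm (zpowers_le.2 (Y.t_N h))).1 hg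
  rcases (mem_zp_inv h.tt).1 c with rfl | rfl
  · exact .inl (by rwa [mul_one])
  · exact .inr (by rwa [mul_assoc, h.tt, mul_one])

theorem YD.um2_inv (h : Lc X G0 t D) (hc : Y.c ≠ 1) (hg : g * t ∈ Y.U) (gg : g * g = 1) :
    ∃ b, g = t * X.z b := by
  have u := conj_mem' (Y.t_N h) hg
  have e : t * (t⁻¹ * (g * t) * t) = g := by rw [← mul_assoc, ← mul_assoc, mul_inv_cancel, one_mul, mul_assoc, h.tt, mul_one]
  have := Y.tu_sq h u
  rw [e, gg, eq_comm, X.z_eq_one, mul_eq_zero] at this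
  obtain ⟨b, a⟩ := X.mem_Z.1 (Y.ker _ u (this.resolve_left fun a => hc (by linear_combination a - K.two)))
  exact ⟨b, by rw [← a, e]⟩

theorem YD.um2_syl (h : Lc X G0 t D) (hc : Y.c ≠ 1) : Syl 2 C{X.w} (Y.U ⊔ zpowers t) := by
  have le : Y.U ⊔ zpowers t ≤ C{X.w} := sup_le Y.U_w (zpowers_le.2 (mem_C1.2 (h.tu X.w_mem).symm))
  have tP : t ∈ Y.U ⊔ zpowers t := mem_sup_right (mem_zpowers t)
  by_contra hn
  obtain ⟨R, h3, h4, h6, h5⟩ := exists_lt_norm_of_not_syl Nat.prime_two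
    ((Y.pi_U h).sup (piElt_of_sq h.tt).isPi (zpowers_le.2 (Y.t_N h))) le hn
  obtain ⟨g, g1, g2⟩ := SetLike.exists_of_lt h4
  have key : ∀ s ∈ Y.U ⊔ zpowers t, DD t s → ∃ b, g * s * g⁻¹ = t * X.z b := fun s hs d =>
    Y.um2_inv h hc ((Y.um2_mem h (conj_mem (h5 g1) hs)).resolve_left fun a => Y.nd _ a (d.conj g))
      ((d.conj g).sq h.toSt).1
  obtain ⟨b, e⟩ := key t tP (DD.refl t)
  obtain ⟨u, hu, c⟩ := Y.NE h (mem_N_of_finite fun z hz => by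
    obtain ⟨c, rfl⟩ := X.mem_Z.1 hz
    obtain ⟨b', e'⟩ := key _ (mul_mem tP (mem_sup_left (Y.Z_le hz))) (h.dd c)
    rw [← conj_mul, e, mul_assoc t, mul_right_inj] at e'
    exact (mul_mem_cancel_left (X.z_mem_Z b)).1 (e' ▸ X.z_mem_Z b')) e
  have r := mul_mem (inv_mem (h4.le (mem_sup_left hu))) g1
  exact g2 ((mul_mem_cancel_left (inv_mem (mem_sup_left hu))).1
    (sup_le (le_sup_right) (Y.Z_le.trans le_sup_left) (h.two_E (X.χ_w c.1 (h3.piElt r) (mem_C1.1 (h6 r)))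
      (mem_C1.1 c.2) (h3.piElt r))))

theorem YD.um2_not (h : Lc X G0 t D) (hc : Y.c ≠ 1)
    (sc : ∀ g ∈ C{X.w}, ∀ b, g * X.z b * g⁻¹ ∈ Y.U → g * X.z b * g⁻¹ ∈ X.Z) : False := by
  obtain ⟨u, hu, e⟩ := Y.onto 1
  obtain ⟨b, rfl⟩ := X.mem_Z.1 (h.mlem Y.abl (Y.um2_syl h hc) le_sup_left (mem_sup_right (mem_zpowers t))
    (fun p hp => Y.um2_mem h hp) Y.nd Y.Z_le sc (Y.h_U h) hu)
  exact one_ne_zero (e.symm.trans (Y.y_z h b))

theorem YD.c01 (Y : YD X t D) (h : Lc X G0 t D) : Y.c = 0 ∨ Y.c = 1 := by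
  by_contra hn
  push Not at hn
  refine Y.um2_not h hn.2 fun g _ b a => Y.ker _ a ?_
  have := Y.sq _ a
  rw [conj_mul, X.z_sq, mul_one, mul_inv_cancel, eq_comm, X.z_eq_one, mul_eq_zero] at this
  exact this.resolve_left hn.1

theorem YD.NU (Y : YD X t D) (h : Lc X G0 t D) (hc : Y.c = 0) : ¬ N[Y.U] ≤ N[X.Z] := fun hn => by
  have c1 : Y.c ≠ 1 := hc ▸ zero_ne_one
  have hP := Y.um2_syl h c1
  have wc : ∀ g, cj g Y.U ≤ Y.U ⊔ zpowers t → g ∈ N[Y.U] := fun g hg => mem_N_of_finite fun u hu =>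
    (Y.um2_mem h (hg (conj_mem_cj g hu))).resolve_right fun a => by
      obtain ⟨b, e⟩ := Y.um2_inv h c1 a (by
        rw [conj_mul, Y.sq u hu, hc, zero_mul, X.z_zero, mul_one, mul_inv_cancel])
      exact Y.nd u hu (DD.of_conj (e ▸ h.dd b))
  refine Y.um2_not h c1 fun g hg b a => ?_
  obtain ⟨T, hT, UT⟩ := Sylow_superset Nat.prime_two (Y.pi_U h)
    (le_inf Y.U_w fun u hu => mem_C1.2 (Y.abl.comm hu a))
  obtain ⟨c, hc, h3⟩ := Sylow_Jsub Nat.prime_two hT ((Y.pi_U h).cj g) (le_inf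
    ((cj_mono g Y.U_w).trans (cj_of_mem hg).le) fun x hx => by
      obtain ⟨u, hu, rfl⟩ := mem_cj'.1 hx
      rw [mem_C1, conj_mul, conj_mul, Y.abl.comm hu (Y.Z_le (X.z_mem_Z b))])
  obtain ⟨y, -, h4⟩ := Sylow_Jsub Nat.prime_two hP hT.pi (hT.le.trans inf_le_left)
  have := conj_mem (hn ((mul_mem_cancel_left (wc y ((cj_mono y UT).trans h4))).1
    (wc (y * (c * g)) (by rw [cj_mul, cj_mul]; exact (cj_mono y h3).trans h4)))) (X.z_mem_Z b)
  rwa [show c * g * X.z b * (c * g)⁻¹ = c * (g * X.z b * g⁻¹) * c⁻¹ by group, mem_C1_iff_conj.1 hc.2] at this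

end H2.U3
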