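import Mathlib
import Cfsg.Agent.H2.UDefs
import Cfsg.Agent.H2.UM2
import Cfsg.Agent.H2.Z1a

set_option autoImplicit false
set_option linter.unusedVariables false
set_option linter.unusedSectionVars false

namespace H2.U3

open Cfsg H24 Subgroup
open H2.SZ (St DD Goal)
open H2.C2 (Cl2)

universe u v

variable {G : Type u} [Group G] [Finite G] {E F : Type*} [Field E] [Fintype E] [Field F] [Fintype F]
  [Algebra E F] {K : UF E F} {L G0 D P P0 Q R A B C H T M W W1 W2 Z1 Z2 : Subgroup G}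
  {t g s f x y i v p : G} {X : UD K L} {a k : F} {b : E} {ρ : F ≃+* F}

local notation "𝐪" => Fintype.card E

/-! ### UC1 -/

section
open H2.SZ (odd_mem' odd_comm odd_cent inv_pow' exists_pow_sq)
variable {Y : YD X t D} {u : G}

namespace UC1x

theorem syl_of (hP : IsPi {2} P) (hle : P ≤ H) (h : ∀ g ∈ H, g ∈ N[P] → PiElt {2} g → g ∈ P) :
    Syl 2 H P := by
  by_contra hn
  obtain ⟨R, h3, h4, h6, h5⟩ := exists_lt_norm_of_not_syl Nat.prime_two hP hle hn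
  obtain ⟨g, g1, g2⟩ := SetLike.exists_of_lt h4
  exact g2 (h g (h6 g1) (h5 g1) (h3.piElt g1))

theorem CS_Z (X : UD K L) : C[X.S] ≤ C[X.Z] := C_anti X.Z_le_S

theorem tS (h : Lc X G0 t D) : t ∈ C[X.S] := C_anti X.S_le h.tC

theorem act1 (hg : g ∈ C[X.S]) : X.Act g 1 1 := ⟨one_ne_zero, fun a b =>
  ⟨b, by rw [conj_eq_of_mem_C hg (X.u_mem_S a b), one_mul]; rfl⟩⟩

theorem sqU (hc : Y.c = 1) (hu : u ∈ Y.U) : u * u = X.z (Y.y u) := by rw [Y.sq u hu, hc, one_mul]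

theorem tU (h : Lc X G0 t D) (hc : Y.c = 1) (hu : u ∈ Y.U) : t * u * t⁻¹ = u⁻¹ := by
  rw [Y.t_u h hu, eq_inv_iff_mul_eq_one, mul_assoc, mem_C.1 (CS_Z X (Y.U_S hu)) _ (X.z_mem_Z _),
    ← mul_assoc, sqU hc hu, X.z_sq]

theorem U2 (hc : Y.c = 1) (hu : u ∈ Y.U) (e : u * u = 1) : u ∈ X.Z := by
  rw [sqU hc hu, X.z_eq_one] at e
  exact Y.ker u hu e

theorem tnC (h : Lc X G0 t D) : t ∉ C[Y.U] := fun e => by
  obtain ⟨u, hu, e1⟩ := Y.onto 1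
  have := Y.spec u hu
  rw [mem_C.1 e u hu, mul_inv_cancel_right, left_eq_mul, e1] at this
  exact X.z1 this

theorem UC : Y.U ≤ C[Y.U] := abl_iff.1 Y.abl

theorem CZ0 (h : Lc X G0 t D) (h1 : g ∈ C[Y.U]) (h0 : g ∈ C[X.S]) (h2 : PiElt {2} g)
    (e : g * t = t * g) : g ∈ X.Z := by
  obtain ⟨b, rfl | rfl⟩ := (h.toSc.mem_E2 X).1 (h.two_E h0 e h2)
  · exact X.z_mem_Z b
  · exact absurd ((mul_mem_cancel_right (UC (Y.Z_le (X.z_mem_Z b)))).1 h1) (tnC h)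

theorem QC (h : Lc X G0 t D) (h1 : g ∈ C[Y.U]) (h0 : g ∈ C[X.S]) (h2 : PiElt {2} g)
    (e : g * t * g⁻¹ = t * X.z b) : g ∈ Y.U :=
  (Y.two_Y h h0 h2 e).resolve_right fun m => tnC h ((mul_mem_cancel_right h1).1 (UC m))

theorem M_triv (h : Lc X G0 t D) (hc : Y.c = 1) (h1 : g ∈ N[Y.U]) (h2 : g ∈ C[X.Z]) (hu : u ∈ Y.U) :
    ∃ b, g * u * g⁻¹ = u * X.z b := by
  refine Y.eqz h (conj_mem h1 hu) hu (X.z_inj ?_)
  rw [← sqU hc (conj_mem h1 hu), conj_mul, sqU hc hu, conj_eq_of_mem_C h2 (X.z_mem_Z _)]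

theorem comm_Y (h : Lc X G0 t D) (hc : Y.c = 1) (ha : x ∈ N[Y.U] ⊓ C[X.Z])
    (hb : y ∈ N[Y.U] ⊓ C[X.Z]) : x * x ∈ C[Y.U] ∧ x * y * x⁻¹ * y⁻¹ ∈ C[Y.U] := by
  have k : ∀ a ∈ N[Y.U] ⊓ C[X.Z], a * a ∈ C[Y.U] := fun a ha => mem_C'.2 fun q hq => by
    obtain ⟨b, e⟩ := M_triv h hc ha.1 ha.2 hq
    rw [← mul_inv_eq_iff_eq_mul, show a * a * q * (a * a)⁻¹ = a * (a * q * a⁻¹) * a⁻¹ by group, e,
      ← conj_mul, e, conj_eq_of_mem_C ha.2 (X.z_mem_Z _), mul_assoc, X.z_sq, mul_one]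
  have := mul_mem (mul_mem (k x ha) (k _ (mul_mem (inv_mem ha) hb))) (inv_mem (k y hb))
  exact ⟨k x ha, by
    rwa [show x * x * (x⁻¹ * y * (x⁻¹ * y)) * (y * y)⁻¹ = x * y * x⁻¹ * y⁻¹ by group] at this⟩

theorem inv4 (h : Lc X G0 t D) (hw : g ∈ C[Y.U]) (h0 : g ∈ C[X.S]) (h2 : PiElt {2} g)
    (e : t * g * t⁻¹ = g⁻¹) (e4 : g * g * (g * g) = 1) : g ∈ Y.U := by
  obtain ⟨b, e1⟩ := X.mem_Z.1 (CZ0 h (mul_mem hw hw) (mul_mem h0 h0) (h2.mul h2 rfl) (by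
    rw [eq_comm, ← mul_inv_eq_iff_eq_mul, ← conj_mul, e, ← mul_inv_rev, inv_eq_iff_mul_eq_one, e4]))
  refine QC h hw h0 h2 (b := b) ?_
  calc _ = t * (t⁻¹ * g * t * g⁻¹) := by group
    _ = _ := by rw [← X.z_inv, ← e1, show t⁻¹ * g * t = g⁻¹ by rw [← e, h.ti]]; group

theorem Y1 (h : Lc X G0 t D) (hA : IsPi {2} A) (hC : A ≤ C[Y.U]) (hS : A ≤ C[X.S]) (ht : t ∈ N[A])
    (hy : y ∈ A) (e : y * y ∈ X.Z) : y ∈ Y.U := by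
  obtain ⟨b, e⟩ := X.mem_Z.1 e
  have tz := CS_Z X (tS h)
  have m : y * (t * y * t⁻¹) ∈ A := mul_mem hy (conj_mem ht hy)
  have yi : y⁻¹ = y * X.z b := by rw [inv_eq_iff_mul_eq_one, ← mul_assoc, e, X.z_sq]
  have zy := mem_C.1 (CS_Z X (hS hy)) _ (X.z_mem_Z b)
  have zy' := mem_C.1 (CS_Z X (hS (conj_mem ht hy))) _ (X.z_mem_Z b)
  have yi' : (t * y * t⁻¹)⁻¹ = t * y * t⁻¹ * X.z b := by
    rw [inv_eq_iff_mul_eq_one, ← mul_assoc, conj_mul, e, conj_eq_of_mem_C tz (X.z_mem_Z b), X.z_sq]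
  have e0 : (y * (t * y * t⁻¹))⁻¹ = t * y * t⁻¹ * y := by
    rw [mul_inv_rev, yi', yi, mul_assoc, ← zy, ← mul_assoc (X.z b), X.z_sq, one_mul]
  have e1 : t * (y * (t * y * t⁻¹)) * t⁻¹ = (y * (t * y * t⁻¹))⁻¹ := by
    rw [e0, ← conj_mul, h.ti, show t * (t * y * t) * t = t * t * y * (t * t) by group, h.tt, one_mul,
      mul_one]
  have e2 : y * (y * (t * y * t⁻¹)) * y⁻¹ = (y * (t * y * t⁻¹))⁻¹ := by
    rw [e0, yi, ← mul_assoc y y, e, zy', mul_assoc, ← zy, ← mul_assoc (X.z b), X.z_sq, one_mul]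
  have hρ : y * (t * y * t⁻¹) ∈ X.Z := by
    generalize y * (t * y * t⁻¹) = ρ at m e1 e2
    by_cases e3 : ρ * ρ = 1
    · exact CZ0 h (hC m) (hS m) (hA.piElt m)
        (by rw [eq_comm, ← mul_inv_eq_iff_eq_mul, e1, inv_eq_of_mul_eq_one_right e3])
    · obtain ⟨n, n1, n2⟩ := inv_pow' (hA.piElt (mul_mem m m)) e3
      rw [(Commute.refl ρ).mul_pow] at n1 n2
      have := inv4 h (hC (pow_mem m n)) (hS (pow_mem m n)) (hA.piElt (pow_mem m n))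
        (by rw [← conj_pow, e1, inv_pow]) n2
      refine absurd (mul_eq_one_iff_eq_inv.2 ?_) n1
      rw [← inv_pow, ← e2, conj_pow, conj_eq_of_mem_C (hC hy) this]
  obtain ⟨d, e4⟩ := X.mem_Z.1 hρ
  refine QC h (hC hy) (hS hy) (hA.piElt hy) (b := d + b) ?_
  rw [← X.z_mul, ← mul_assoc, ← mem_C.1 tz _ (X.z_mem_Z d), ← e4, yi]
  group

theorem abl_B (h : Lc X G0 t D) (hc : Y.c = 1) (hA : IsPi {2} A) (hC : A ≤ C[Y.U]) (hS : A ≤ C[X.S])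
    (hD : A ≤ C[D]) (ht : t ∈ N[A]) (hU : Y.U ≤ A) (hh : ∀ k, X.h k ∈ N[A]) : Abl A := by
  by_contra hn
  have zA : ∀ b, X.z b ∈ A := fun b => hU (Y.Z_le (X.z_mem_Z b))
  have k : ∀ w : A, w ≠ 1 → w * w = 1 → ∃ b ≠ 0, (w : G) = X.z b := fun w w1 e => by
    have e' : (w : G) * w = 1 := congrArg Subtype.val e
    obtain ⟨b, e1⟩ := X.mem_Z.1 (U2 hc (Y1 h hA hC hS ht w.2 (e' ▸ one_mem _)) e')
    exact ⟨b, fun e2 => w1 (Subtype.ext (by rw [e1, e2, X.z_zero]; rfl)), e1⟩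
  let ψ : Eˣ →* MulAut A := MonoidHom.mk' (fun k => A.normalizerMonoidHom ⟨X.h k, hh k⟩) fun k l => by
    ext w
    obtain ⟨d, hd, e⟩ := X.h_mul k l
    change X.h (k * l) * w * (X.h (k * l))⁻¹ = X.h k * (X.h l * w * (X.h l)⁻¹) * (X.h k)⁻¹
    rw [e, show X.h k * X.h l * d * w * (X.h k * X.h l * d)⁻¹ =
      X.h k * (X.h l * (d * w * d⁻¹) * (X.h l)⁻¹) * (X.h k)⁻¹ by group,
      mem_C.1 (hD w.2) d (h.ZL_D hd), mul_inv_cancel_right]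
  have hψ : ∀ k (w : A), (ψ k w : G) = X.h k * w * (X.h k)⁻¹ := fun k w => rfl
  obtain ⟨x, x0, x1, -⟩ := K.exists_ne 0 1 1
  obtain ⟨u, hu, eu⟩ := Y.onto 1
  have := (Agent.S1137.result (P := A) ⟨inferInstance, (isPi_iff_isPGroup Nat.prime_two).1 hA, ?_,
    ⟨⟨_, zA 1⟩, ⟨_, zA x⟩, fun e => x1 (X.z_inj (congrArg Subtype.val e)).symm,
      fun e => X.z1 (congrArg Subtype.val e), Subtype.ext (X.z_sq 1),
      fun e => x0 (X.z_eq_one.1 (congrArg Subtype.val e)), Subtype.ext (X.z_sq x)⟩,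
    ψ.range, isCyclic_of_surjective _ ψ.rangeRestrict_surjective, fun v w v1 v2 w1 w2 => ?_⟩).2
      ⟨u, hU hu⟩ (mem_center_iff.2 fun a => Subtype.ext (mem_C'.1 (hC a.2) u hu))
  · have e := (sqU hc hu).symm.trans (congrArg Subtype.val this)
    rw [eu] at e
    exact X.z1 e
  · by_contra e
    exact hn (abl_iff.2 fun a ha => mem_C'.2 fun b hb => by_contra fun e1 =>
      e ⟨⟨a, ha⟩, ⟨b, hb⟩, fun e2 => e1 (congrArg Subtype.val e2)⟩)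
  · obtain ⟨a, a0, e1⟩ := k v v1 v2
    obtain ⟨b, b0, e2⟩ := k w w1 w2
    obtain ⟨j, hj⟩ := K.exists_sq a0 b0
    refine ⟨⟨ψ j, j, rfl⟩, Subtype.ext (by rw [hψ, e1, e2, X.h_z, hj]), ?_⟩
    rintro ⟨_, i, rfl⟩ e
    have e3 := congrArg Subtype.val e
    rw [hψ, e1, e2, X.h_z, ← hj] at e3
    rw [show i = j from Units.ext (K.sq_inj (mul_right_cancel₀ a0 (X.z_inj e3)))]

/-- an element of odd order normalising `P` and `U` and centralising `Z` centralises `P` -/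
theorem odd_C (h : Lc X G0 t D) (hc : Y.c = 1) (p1 : IsPi {2} P) (tP : t ∈ P) (UP : Y.U ≤ P)
    (p3 : P ≤ N[Y.U]) (p4 : P ≤ C[X.S]) (p5 : ∀ k, X.h k ∈ N[P]) (p6 : P ≤ C[D]) (hx : x ∈ N[P])
    (h1 : x ∈ N[Y.U]) (h2 : x ∈ C[X.Z]) (k : PiElt {2}ᶜ x) (hp : p ∈ P) : x * p = p * x := by
  have nB : N[P] ⊓ N[Y.U] ≤ N[P ⊓ C[Y.U]] := norm_inf inf_le_left (inf_le_right.trans (N_le_NC _))
  have tB := nB ⟨norm_self _ tP, Y.t_N h⟩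
  have := odd_cent k (p1.inf_left C[Y.U]) (abl_B h hc (p1.inf_left _) inf_le_right
    (inf_le_left.trans p4) (inf_le_left.trans p6) tB (le_inf UP UC) fun j => nB ⟨p5 j, Y.h_U h j⟩)
    (nB ⟨hx, h1⟩) fun a ha e => mem_C.1 h2 a
      (U2 hc (Y1 h (p1.inf_left _) inf_le_right (inf_le_left.trans p4) tB ha (e ▸ one_mem _)) e)
  have m : x * p * x⁻¹ * p⁻¹ ∈ P ⊓ C[Y.U] := mem_inf.2 ⟨mul_mem (conj_mem hx hp) (inv_mem hp),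
    (comm_Y h hc ⟨h1, h2⟩ ⟨p3 hp, CS_Z X (p4 hp)⟩).2⟩
  exact odd_comm k (p1.piElt m.1) (mem_C.1 this _ m)

end UC1x

open UC1x

theorem YD.N0_of (Y : YD X t D) (h : Lc X G0 t D) (hc : Y.c = 1) (hg : g ∈ N[X.S])
    (h1 : g * t * g⁻¹ ∈ N[Y.U]) : g ∈ N[Y.U] := by
  have ts := conj_mem (N_le_NC _ hg) (tS h)
  have gZ := X.NS_le_NZ hg
  refine inv_mem_iff.1 (mem_N_of_cj_le fun x hx => ?_)
  obtain ⟨u, hu, rfl⟩ := mem_cj'.1 hx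
  obtain ⟨b, e⟩ := M_triv h hc (inv_mem h1) (inv_mem (CS_Z X ts)) hu
  obtain ⟨b', e'⟩ := X.mem_Z.1 (conj_mem (inv_mem gZ) (X.z_mem_Z b))
  have zu := mem_C.1 (CS_Z X (Y.U_S hu)) _ (X.z_mem_Z b)
  have e2 : g⁻¹ * u * g⁻¹⁻¹ * t * (g⁻¹ * u * g⁻¹⁻¹)⁻¹ = t * X.z b' := by
    calc _ = t * (g⁻¹ * ((g * t * g⁻¹)⁻¹ * u * (g * t * g⁻¹)⁻¹⁻¹ * u⁻¹) * g⁻¹⁻¹) := by group
      _ = _ := by rw [e, ← zu, mul_inv_cancel_right, e']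
  refine (Y.two_Y h (conj_mem (N_le_NC _ (inv_mem hg)) (Y.U_S hu))
    (((Y.pi_U h).piElt hu).conj _) e2).elim id fun m => ?_
  have := Y.tu_sq h m
  rw [← mul_assoc t t, h.tt, one_mul, conj_mul, hc, K.addE, zero_mul, X.z_zero, conj_eq_one_iff] at this
  exact Y.Z_le (conj_mem (inv_mem gZ) (U2 hc hu this))

theorem YD.dd_inv (Y : YD X t D) (h : Lc X G0 t D) (hc : Y.c = 1) (hs : DD t s) (h1 : s ∈ N[Y.U])
    (h2 : s ∈ C[X.S]) (h3 : s ∈ C{X.w}) (hu : u ∈ Y.U) : s * u * s⁻¹ = u⁻¹ := by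
  obtain ⟨g, rfl⟩ := hs
  obtain ⟨l, hl, m⟩ := X.exists_l (h.toSc.S_in X h2 h3)
  have e : g * t * g⁻¹ = g * l * t * (g * l)⁻¹ := by
    rw [mul_assoc g l, h.toSc.tu hl]; group
  rw [e] at h1 ⊢
  have := tU h hc (conj_mem' (Y.N0_of h hc m h1) hu)
  calc _ = g * l * (t * ((g * l)⁻¹ * u * (g * l)) * t⁻¹) * (g * l)⁻¹ := by group
    _ = _ := by rw [this]; group

theorem YD.exists_mp (Y : YD X t D) (h : Lc X G0 t D) (hc : Y.c = 1) : ∃ P, Mp Y G0 P := by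
  have tN := Y.t_N h
  have t2 := H2.SZ.piElt_of_sq h.tt
  have nQ : ∀ g ∈ N[Y.U], g * t = t * g → g ∈ N[zpowers t ⊔ Y.U] := fun g hg e =>
    zpowers_le.1 (norm_sup (zpowers_le.2 (C_le_N _ (by rw [C_zpowers]; exact mem_C1.2 e)))
      (zpowers_le.2 hg))
  have wU : X.w ∈ N[Y.U] := C_le_N _ (mem_C'.2 fun u hu => (mem_C1.1 (Y.U_w hu)).symm)
  obtain ⟨P, -, ⟨p1, p2, p3, p4, p5, p6, p7⟩, hm⟩ := Finite.exists_le_maximal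
    (p := fun P : Subgroup G => IsPi {2} P ∧ zpowers t ⊔ Y.U ≤ P ∧ P ≤ N[Y.U] ∧ P ≤ C[X.S] ∧
      (∀ k, X.h k ∈ N[P]) ∧ P ≤ C[D] ∧ X.w ∈ N[P])
    ⟨t2.isPi.sup' (Y.pi_U h) (zpowers_le.2 tN), le_rfl, sup_le (zpowers_le.2 tN) (norm_self _),
      sup_le (zpowers_le.2 (tS h)) Y.U_S, fun k => nQ _ (Y.h_U h k) (h.toSc.tu (X.h_mem k)),
      sup_le (zpowers_le.2 (mem_C.2 fun d hd => mem_C1.1 (h.D_t hd))) Y.U_D,
      nQ _ wU (h.toSc.tu X.w_mem)⟩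
  have tP : t ∈ P := p2 (mem_sup_left (mem_zpowers t))
  have UP : Y.U ≤ P := le_sup_right.trans p2
  have n0 : N[P] ⊓ C[X.S] ≤ N[Y.U] := fun g hg =>
    Y.N0_of h hc (C_le_N _ hg.2) (p3 (conj_mem hg.1 tP))
  have od : ∀ g ∈ N[P] ⊓ C[X.S], PiElt {2}ᶜ g → g ∈ D := fun x hx k =>
    h.odd_D (act1 hx.2) (odd_C h hc p1 tP UP p3 p4 p5 p6 hx.1 (n0 hx) (CS_Z X hx.2) k tP) k
  have hC : ∀ x ∈ N[P], x ∈ N[X.S] → x ∈ N[N[P] ⊓ C[X.S]] := fun x h1 h2 => mem_N_of_finite fun g hg =>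
    ⟨conj_mem (norm_self _ h1) hg.1, conj_mem (N_le_NC _ h2) hg.2⟩
  have PC : P ≤ N[P] ⊓ C[X.S] := le_inf (norm_self _) p4
  obtain ⟨R, r1, r2, r3, r4, r5, -⟩ := h.lift (C := N[P] ⊓ C[X.S]) (PC tP)
    (le_inf ((cents_symm p6).trans (C_le_N _)) (h.D_L.trans (C_anti X.S_le)))
    (fun g hg e k => sup_le_sup_left X.Z_le_S _ (h.two_E hg.2 e k))
    (fun k => hC _ (p5 k) (X.h_NS k)) od
  have PR : P ≤ R := fun p hp => r4 p (PC hp) (p1.piElt hp)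
  have RP := hm ⟨r1, p2.trans PR, r2.trans n0, r2.trans inf_le_right,
    fun k => r5 (hC _ (p5 k) (X.h_NS k)), r3, r5 (hC _ p7 X.w_NS)⟩ PR
  exact ⟨P, h, hc, p1, tP, UP, p3, p4, fun p hp => mem_C1.2 (odd_C h hc p1 tP UP p3 p4 p5 p6 p7 wU
    (mem_C'.2 fun z hz => by obtain ⟨b, rfl⟩ := X.mem_Z.1 hz; exact X.w_z b) X.w_odd hp).symm, p6, p5,
    fun g g1 g2 g3 => RP (r4 g ⟨g1, g2⟩ g3)⟩

theorem Mp.sylS (h : Mp Y G0 P) : Syl 2 C[X.S] P :=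
  syl_of h.pi h.P_S fun g h1 h2 h3 => h.two g h2 h1 h3

theorem Mp.sylM (h : Mp Y G0 P) : Syl 2 C{X.w} P := syl_of h.pi h.P_w fun g h1 h2 h3 => by
  have m := conj_mem h2 h.t_mem
  have zP : X.z 1 ∈ P ⊓ C[P] := ⟨h.U_le (Y.Z_le (X.z_mem_Z 1)),
    mem_C'.2 fun p hp => mem_C.1 (CS_Z X (h.P_S hp)) _ (X.z_mem_Z 1)⟩
  have m2 : g * X.z 1 * g⁻¹ ∈ P ⊓ C[P] := ⟨conj_mem h2 zP.1, conj_mem (N_le_NC _ h2) zP.2⟩
  have := h.toSc.NS_of X (h.P_S m) (h.P_w m) one_ne_zero (X.Z_le_S (CZ0 (Y := Y) h.toLc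
    (C_anti h.U_le m2.2) (h.P_S m2.1) (h.pi.piElt m2.1) (mem_C'.1 m2.2 t h.t_mem)))
  exact h.two g h2 (X.χ_w this h3 (mem_C1.1 h1)) h3

theorem Mp.triv (h : Mp Y G0 P) (hp : p ∈ P) (hu : u ∈ Y.U) : ∃ b, p * u * p⁻¹ = u * X.z b :=
  M_triv h.toLc h.c1 (h.P_N hp) (CS_Z X (h.P_S hp)) hu

theorem Mp.UC1_NB (h : Mp Y G0 P) (h1 : g ∈ N[P]) (h2 : g ∈ N[Y.U]) : g ∈ N[P ⊓ C[Y.U]] :=
  zpowers_le.1 (norm_inf (zpowers_le.2 h1) (zpowers_le.2 (N_le_NC _ h2)))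

theorem Mp.UC1_PB (h : Mp Y G0 P) (hp : p ∈ P) : p ∈ N[P ⊓ C[Y.U]] :=
  h.UC1_NB (norm_self _ hp) (h.P_N hp)

theorem Mp.UC1_hB (h : Mp Y G0 P) (k : Eˣ) : X.h k ∈ N[P ⊓ C[Y.U]] :=
  h.UC1_NB (h.h_P k) (Y.h_U h.toLc k)

theorem Mp.abl (h : Mp Y G0 P) : Abl (P ⊓ C[Y.U]) :=
  abl_B h.toLc h.c1 (h.pi.inf_left _) inf_le_right (inf_le_left.trans h.P_S) (inf_le_left.trans h.P_D)
    (h.UC1_PB h.t_mem) (le_inf h.U_le UC) h.UC1_hB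

theorem Mp.B1 (h : Mp Y G0 P) (hy : y ∈ P ⊓ C[Y.U]) (e : y * y ∈ X.Z) : y ∈ Y.U :=
  Y1 h.toLc (h.pi.inf_left _) inf_le_right (inf_le_left.trans h.P_S) (h.UC1_PB h.t_mem) hy e

theorem Mp.sqP (h : Mp Y G0 P) (hp : p ∈ P) : p * p ∈ P ⊓ C[Y.U] :=
  ⟨mul_mem hp hp, (comm_Y h.toLc h.c1 ⟨h.P_N hp, CS_Z X (h.P_S hp)⟩ ⟨h.P_N hp, CS_Z X (h.P_S hp)⟩).1⟩

theorem Mp.comm (h : Mp Y G0 P) (hx : x ∈ P) (hy : y ∈ P) : x * y * x⁻¹ * y⁻¹ ∈ P ⊓ C[Y.U] :=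
  mem_inf.2 ⟨mul_mem (mul_mem (mul_mem hx hy) (inv_mem hx)) (inv_mem hy),
    (comm_Y h.toLc h.c1 ⟨h.P_N hx, CS_Z X (h.P_S hx)⟩ ⟨h.P_N hy, CS_Z X (h.P_S hy)⟩).2⟩

theorem Mp.root (h : Mp Y G0 P) (hx : x ∈ P ⊓ C[Y.U]) (hn : x ∉ Y.U) (b : E) :
    ∃ x ∈ P ⊓ C[Y.U], x * x ∈ Y.U ∧ Y.y (x * x) = b := by
  by_cases y0 : b = 0
  · exact ⟨1, one_mem _, by simp, by rw [mul_one, ← X.z_zero, Y.y_z h.toLc, y0]⟩
  obtain ⟨n, n1, n2⟩ := exists_pow_sq (h.pi.piElt hx.1) hn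
  obtain ⟨k, e⟩ := K.exists_sq (x := Y.y (x ^ n * x ^ n))
    (fun e => n1 (h.B1 (pow_mem hx n) (Y.ker _ n2 e))) y0
  exact ⟨_, conj_mem (h.UC1_hB k) (pow_mem hx n),
    by rw [conj_mul]; exact conj_mem (Y.h_U h.toLc k) n2, by rw [conj_mul, Y.y_h h.toLc k n2, e]⟩

theorem Mp.nhom (h : Mp Y G0 P) : ¬ ∀ p ∈ P, p ∈ C[Y.U] ∨ p * t ∈ C[Y.U] := fun hn => by
  obtain ⟨u, hu, eu⟩ := Y.onto 1
  have := h.toLc.mlem h.abl h.sylM inf_le_left h.t_mem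
    (fun p hp => (hn p hp).imp (fun e => ⟨hp, e⟩) fun e => ⟨mul_mem hp h.t_mem, e⟩)
    (fun s hs hd => by
      have := Y.dd_inv h.toLc h.c1 hd (h.P_N hs.1) (h.P_S hs.1) (h.P_w hs.1) hu
      rw [conj_eq_of_mem_C hs.2 hu, ← mul_eq_one_iff_eq_inv, sqU h.c1 hu, eu] at this
      exact X.z1 this)
    (Y.Z_le.trans (le_inf h.U_le UC))
    (fun g _ b m => by
      have e : g * X.z b * g⁻¹ * (g * X.z b * g⁻¹) = 1 := by rw [conj_mul, X.z_sq]; group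
      exact U2 h.c1 (h.B1 m (e ▸ one_mem _)) e) h.UC1_hB
  obtain ⟨b, e⟩ := X.mem_Z.1 (this ⟨h.U_le hu, UC hu⟩)
  rw [e, Y.y_z h.toLc] at eu
  exact zero_ne_one eu
end

end H2.U3
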