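import Mathlib
import Cfsg.Agent.H2.UDefs
import Cfsg.Agent.H2.UC1

set_option autoImplicit false
set_option linter.unusedVariables false
set_option linter.unusedSectionVars false

namespace H2.U3

open Cfsg H24 Subgroup
open H2.SZ (St DD Goal)
open H2.C2 (Cl2)

universe u v

variable {G : Type u} [Group G] [Finite G] {E F : Type*} [Field E] [Fintype E] [Field F] [Fintype F]
  [Algebra E F] {K : UF E F} {L G0 D P P0 Q R A B C H T M W W1 W2 Z1 Z2 : Subgroup G}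
  {t g s f x y i v p : G} {X : UD K L} {a k : F} {b : E} {ρ : F ≃+* F}

local notation "𝐪" => Fintype.card E

/-! ### UC2 -/

open UC1x

theorem Mp.UC2_l {Y : YD X t D} (h : Mp Y G0 P) : ∃ l : G → E →+ E,
    (∀ p ∈ P, ∀ u ∈ Y.U, p * u * p⁻¹ = u * X.z (l p (Y.y u))) ∧
    (∀ a ∈ P, ∀ b ∈ P, ∀ y, l (a * b) y = l a y + l b y) ∧
    (∀ k : Eˣ, ∀ a ∈ P, ∀ y, l (X.h k * a * (X.h k)⁻¹) ((k : E) ^ 2 * y) = (k : E) ^ 2 * l a y) ∧
    (∀ y, l t y = y) ∧ ∀ a ∈ Y.U, ∀ y, l a y = 0 := by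
  have : ∀ p, ∃ l : E →+ E, p ∈ P → ∀ u ∈ Y.U, p * u * p⁻¹ = u * X.z (l (Y.y u)) := fun p => by
    by_cases hp : p ∈ P
    · exact (Y.exists_l h.toLc (CS_Z X (h.P_S hp)) fun u hu => h.triv hp hu).imp fun l k _ => k
    · exact ⟨0, fun k => absurd k hp⟩
  choose l hl using this
  refine ⟨l, hl, fun a ha b hb y => ?_, fun k a ha y => ?_, fun y => ?_, fun a ha y => ?_⟩ <;>
    obtain ⟨u, hu, e⟩ := Y.onto y
  · have := hl _ (mul_mem ha hb) u hu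
    rw [show a * b * u * (a * b)⁻¹ = a * (b * u * b⁻¹) * a⁻¹ by group, hl b hb u hu, ← conj_mul,
      hl a ha u hu, conj_eq_of_mem_C (CS_Z X (h.P_S ha)) (X.z_mem_Z _), mul_assoc, X.z_mul,
      mul_right_inj, e] at this
    exact (X.z_inj this).symm
  · have := hl _ (conj_mem (h.h_P k) ha) _ (conj_mem (Y.h_U h.toLc k) hu)
    rw [conj_inv, conj_mul, conj_mul, hl a ha u hu, ← conj_mul, X.h_z, mul_right_inj,
      Y.y_h h.toLc k hu, e] at this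
    exact (X.z_inj this).symm
  · have := (hl t h.t_mem u hu).symm.trans (Y.t_u h.toLc hu)
    rw [mul_right_inj, e] at this
    exact X.z_inj this
  · have := hl a (h.U_le ha) u hu
    rw [conj_eq_of_mem_C (UC ha) hu, left_eq_mul, X.z_eq_one, e] at this
    exact this

/-- `P = S₁⟨t⟩` -/
theorem Mp.s1 {Y : YD X t D} (h : Mp Y G0 P) (rt : E ≃+* E) (hrt : ∀ x, rt x ^ 2 = x) :
    ∃ (S1 : Subgroup G) (ξ : G → E), Y.U ≤ S1 ∧ S1 ≤ P ∧ (∀ p ∈ P, p ∈ S1 ∨ p * t ∈ S1) ∧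
      (∀ k, X.h k ∈ N[S1]) ∧ (∀ p ∈ S1, p * p ∈ X.Z) ∧ (∀ s ∈ S1, ¬ DD t s) ∧ (∀ e, ∃ p ∈ S1, ξ p = e) ∧
      (∀ p ∈ S1, ∃ u ∈ Y.U, p * t * p⁻¹ = t * u ∧ Y.y u = ξ p ^ 2) ∧ (∀ p ∈ S1, ξ p = 0 → p ∈ Y.U) ∧
      ∀ p ∈ S1, ∀ u ∈ Y.U, p * u * p⁻¹ = u * X.z (ξ p * rt (Y.y u)) := by
  obtain ⟨l, hl, lm, lh, lt, lU⟩ := h.UC2_l
  have tP := h.t_mem
  have hL := h.toLc
  have eqa : ∀ {x y : E}, x + y = 0 → x = y := fun {x y} e => by linear_combination e - K.addE y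
  have rtm : ∀ x, rt (x * x) = x := fun x => by rw [map_mul, ← sq, hrt]
  have rts : ∀ x, rt (x ^ 2) = x := fun x => by rw [sq, rtm]
  have ht : ∀ k, X.h k * t * (X.h k)⁻¹ = t := fun k => by
    rw [h.toSc.tu (X.h_mem k), mul_inv_cancel_right]
  have hm : ∀ k, ∀ a ∈ P, X.h k * a * (X.h k)⁻¹ ∈ P := fun k a ha => conj_mem (h.h_P k) ha
  have l0 : ∀ p ∈ P, (∀ y, l p y = 0) → p ∈ C[Y.U] := fun p hp e => mem_C'.2 fun u hu => by
    rw [← mul_inv_eq_iff_eq_mul, hl p hp u hu, e, X.z_zero, mul_one]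
  have nh : ¬ ∀ p ∈ P, (∀ y, l p y = 0) ∨ ∀ y, l p y = y := fun k => h.nhom fun p hp =>
    (k p hp).imp (l0 p hp) fun e => l0 _ (mul_mem hp tP) fun y => by rw [lm p hp t tP, e, lt, K.addE]
  have BU : ∀ b ∈ P ⊓ C[Y.U], b ∈ Y.U := fun b0 h0 => by_contra fun h1 => by
    refine nh fun p hp => K.idem {a | ∃ p ∈ P, a = l p} ?_ ?_ ?_ _ ⟨p, hp, rfl⟩
    · rintro _ ⟨a, ha, rfl⟩ _ ⟨b, hb, rfl⟩
      exact ⟨_, mul_mem ha hb, AddMonoidHom.ext fun y => (lm a ha b hb y).symm⟩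
    · rintro _ ⟨a, ha, rfl⟩ k
      exact ⟨_, ⟨_, hm k a ha, rfl⟩, lh k a ha⟩
    rintro _ ⟨p, hp, rfl⟩ y
    obtain ⟨b, hb, b1, rfl⟩ := h.root h0 h1 y
    have ab := fun x hx y hy => mem_C'.1 (abl_iff.1 h.abl (x := x) hx) y hy
    obtain ⟨d, hd, e⟩ : ∃ d ∈ P ⊓ C[Y.U], p * b * p⁻¹ = b * d :=
      ⟨_, mul_mem (inv_mem hb) (conj_mem (h.UC1_PB hp) hb), (mul_inv_cancel_left _ _).symm⟩
    have e1 : d * d = X.z (l p (Y.y (b * b))) := by
      have := hl p hp _ b1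
      rwa [← conj_mul, e, mul_assoc, ← mul_assoc d, ab d hd b hb, mul_assoc, ← mul_assoc,
        mul_right_inj] at this
    have dU := h.B1 hd (e1 ▸ X.z_mem_Z _)
    have e2 : p * (p * b * p⁻¹) * p⁻¹ = b := by
      rw [show p * (p * b * p⁻¹) * p⁻¹ = p * p * b * (p * p)⁻¹ by group, ab _ (h.sqP hp) b hb,
        mul_inv_cancel_right]
    rw [e, ← conj_mul, e, hl p hp d dU, mul_assoc, mul_eq_left, ← mul_assoc, e1, X.z_mul, X.z_eq_one,
      X.z_inj ((sqU h.c1 dU).symm.trans e1)] at e2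
    exact (eqa e2).symm
  have : ∀ p, ∃ u, p ∈ P → u ∈ Y.U ∧ p * t * p⁻¹ = t * u := fun p => ⟨t * p * t⁻¹ * p⁻¹, fun hp =>
    ⟨BU _ (h.comm tP hp), by rw [← mul_assoc, ← mul_assoc, ← mul_assoc, h.tt, one_mul, h.ti]⟩⟩
  choose w hw using this
  obtain ⟨σ, hσ⟩ : ∃ σ : G → E, ∀ p, σ p = Y.y (w p) := ⟨_, fun _ => rfl⟩
  have wm : ∀ a ∈ P, ∀ b ∈ P, w (a * b) = w a * w b * X.z (l a (σ b)) := fun a ha b hb => by
    have := (hw _ (mul_mem ha hb)).2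
    rw [show a * b * t * (a * b)⁻¹ = a * (b * t * b⁻¹) * a⁻¹ by group, (hw b hb).2, ← conj_mul,
      (hw a ha).2, hl a ha _ (hw b hb).1, mul_assoc, mul_right_inj] at this
    rw [← this, hσ, mul_assoc]
  have σm : ∀ a ∈ P, ∀ b ∈ P, σ (a * b) = σ a + σ b := fun a ha b hb => by
    rw [hσ, wm a ha b hb, Y.y_mul hL (mul_mem (hw a ha).1 (hw b hb).1) (Y.Z_le (X.z_mem_Z _)),
      Y.y_z hL, add_zero, Y.y_mul hL (hw a ha).1 (hw b hb).1, hσ, hσ]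
  have σh : ∀ k : Eˣ, ∀ a ∈ P, σ (X.h k * a * (X.h k)⁻¹) = (k : E) ^ 2 * σ a := fun k a ha => by
    have := (hw _ (hm k a ha)).2
    rw [show X.h k * a * (X.h k)⁻¹ * t * (X.h k * a * (X.h k)⁻¹)⁻¹ = X.h k * (a * t * a⁻¹) * (X.h k)⁻¹ by
      conv_lhs => rw [← ht k]
      rw [conj_inv, conj_mul, conj_mul], (hw a ha).2, ← conj_mul, ht, mul_right_inj] at this
    rw [hσ, hσ, ← this, Y.y_h hL k (hw a ha).1]
  have σQ : ∀ a ∈ P, σ a = 0 → a ∈ Y.U ∨ t * a ∈ Y.U := fun a ha e => by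
    obtain ⟨b, e1⟩ := X.mem_Z.1 (Y.ker _ (hw a ha).1 (by rw [← hσ, e]))
    exact Y.two_Y hL (h.P_S ha) (h.pi.piElt ha) (e1 ▸ (hw a ha).2)
  have lz : ∀ a ∈ P, σ a = 0 → ∃ ε, (ε = 0 ∨ ε = 1) ∧ ∀ y, l a y = ε * y := fun a ha e => by
    rcases σQ a ha e with m | m
    · exact ⟨0, .inl rfl, fun y => by rw [lU a m, zero_mul]⟩
    · refine ⟨1, .inr rfl, fun y => ?_⟩
      have := lU _ m y
      rw [lm t tP a ha, lt] at this
      rw [one_mul, ← eqa this]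
  have σU : ∀ a ∈ Y.U, σ a = 0 := fun a ha => by
    have := (Y.spec a ha).symm.trans (hw a (h.U_le ha)).2
    rw [mul_right_inj] at this
    rw [hσ, ← this, Y.y_z hL]
  have σt : σ t = 0 := by
    have := (hw t tP).2
    rw [mul_inv_cancel_right, left_eq_mul] at this
    rw [hσ, this, ← X.z_zero, Y.y_z hL]
  have sq : ∀ p ∈ P, Y.y (p * p) = σ p + l p (σ p) := fun p hp => by
    have := (Y.spec _ (BU _ (h.sqP hp))).symm.trans (hw _ (mul_mem hp hp)).2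
    rw [mul_right_inj, wm p hp p hp, sqU h.c1 (hw p hp).1, ← hσ, X.z_mul] at this
    exact X.z_inj this
  have s0 : ¬ ∀ p ∈ P, σ p = 0 := fun s0 => nh fun p hp => by
    obtain ⟨ε, rfl | rfl, e⟩ := lz p hp (s0 p hp) <;> simp [e]
  have : ∀ a, ∃ v ∈ P, σ v = a := fun a => by
    obtain ⟨p, hp, e⟩ : ∃ p ∈ P, σ p ≠ 0 := by simpa using s0
    by_cases a0 : a = 0
    · exact ⟨t, tP, σt.trans a0.symm⟩
    · obtain ⟨k, e1⟩ := K.exists_sq e a0
      exact ⟨_, hm k p hp, (σh k p hp).trans e1⟩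
  choose v hv σv using this
  obtain ⟨k, hk⟩ := K.exists_unit
  have k0 : ∀ j : Eˣ, (j : E) ^ 2 ≠ 0 := fun j => pow_ne_zero _ j.ne_zero
  have n1 : 1 + (k : E) ^ 2 ≠ 0 := fun e =>
    hk (Units.ext (K.sq_inj ((eqa e).symm.trans (one_pow 2).symm)))
  obtain ⟨β, hβ⟩ : ∃ β : E → E → E, ∀ a ∈ P, ∀ y, β (σ a) y = l a y + l (X.h k * a * (X.h k)⁻¹) y :=
    ⟨fun a y => l (v a) y + l (X.h k * v a * (X.h k)⁻¹) y, fun a ha y => by
      obtain ⟨ε, -, e⟩ := lz _ (mul_mem (hv (σ a)) ha) (by rw [σm _ (hv _) a ha, σv, K.addE])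
      obtain ⟨y', rfl⟩ : ∃ y', y = (k : E) ^ 2 * y' := ⟨y / (k : E) ^ 2, (mul_div_cancel₀ _ (k0 k)).symm⟩
      have e1 := e ((k : E) ^ 2 * y')
      have e2 := e y'
      rw [lm _ (hv _) a ha] at e1 e2
      change l _ _ + l _ _ = _
      rw [lh k _ (hv _), lh k a ha]
      linear_combination e1 + (k : E) ^ 2 * e2 - K.addE (l a ((k : E) ^ 2 * y')) -
        K.addE ((k : E) ^ 2 * l a y') + K.addE (ε * (k : E) ^ 2 * y')⟩
  obtain ⟨c, hc⟩ := K.blem2 rt hrt β (fun a b y => by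
    rw [← σv a, ← σv b, ← σm _ (hv a) _ (hv b), hβ _ (hv a), hβ _ (hv b), hβ _ (mul_mem (hv a) (hv b)),
      ← conj_mul, lm _ (hv a) _ (hv b), lm _ (hm k _ (hv a)) _ (hm k _ (hv b))]
    ring) (fun a y y' => by
    rw [← σv a, hβ _ (hv a), hβ _ (hv a), hβ _ (hv a), map_add, map_add]; ring) fun j a y => by
    rw [← σv a, ← σh j _ (hv a), hβ _ (hv a), hβ _ (hm j _ (hv a)), lh j _ (hv a), mul_add,
      ← lh j _ (hm k _ (hv a)), ← mul_assoc, ← mul_assoc, X.h_comm k, mul_assoc _ _ (X.h k)⁻¹,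
      ← mul_inv_rev, X.h_comm k]
    simp only [mul_assoc, mul_inv_rev]
  obtain ⟨c', form⟩ : ∃ c', ∀ p ∈ P,
      (∀ y, l p y = c' * rt (σ p * y)) ∨ ∀ y, l p y = c' * rt (σ p * y) + y :=
    ⟨c * rt (1 + (k : E) ^ 2)⁻¹, fun p hp => by
      have m := hv (σ p / (1 + (k : E) ^ 2))
      have m' := mul_mem m (hm k _ m)
      obtain ⟨ε, hε, e⟩ := lz _ (mul_mem hp m') (by
        rw [σm p hp _ m', σm _ m _ (hm k _ m), σh k _ m, σv, ← one_add_mul, mul_div_cancel₀ _ n1,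
          K.addE])
      have : ∀ y, l p y = c * rt (1 + (k : E) ^ 2)⁻¹ * rt (σ p * y) + ε * y := fun y => by
        have e1 := e y
        rw [lm p hp _ m', lm _ m _ (hm k _ m), ← hβ _ m, hc, σv, div_mul_eq_mul_div, div_eq_inv_mul,
          map_mul, ← mul_assoc] at e1
        linear_combination e1 - K.addE (c * rt (1 + (k : E) ^ 2)⁻¹ * rt (σ p * y))
      rcases hε with rfl | rfl
      exacts [.inl fun y => by simp [this], .inr fun y => by simp [this]]⟩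
  have f2 : ∀ p ∈ P, (∀ y, l p y = c' * rt (σ p * y) + y) →
      ∀ y, l (p * t) y = c' * rt (σ (p * t) * y) := fun p hp e y => by
    rw [lm p hp t tP, σm p hp t tP, e, lt, σt, add_zero, add_assoc, K.addE, add_zero]
  have c0 : c' ≠ 0 := fun c0 => nh fun p hp => by simpa [c0] using form p hp
  obtain rfl : c' = 1 := by
    obtain ⟨p, hp, e1, e2⟩ : ∃ p ∈ P, σ p = 1 ∧ ∀ y, l p y = c' * rt (σ p * y) := by
      rcases form _ (hv 1) with e | e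
      · exact ⟨_, hv 1, σv 1, e⟩
      · exact ⟨_, mul_mem (hv 1) tP, by rw [σm _ (hv 1) t tP, σv, σt, add_zero], f2 _ (hv 1) e⟩
    have := hl p hp _ (BU _ (h.sqP hp))
    rw [← mul_assoc, mul_inv_cancel_right, left_eq_mul, X.z_eq_one, sq p hp, e2, e2, e1] at this
    simpa using (eqa ((map_eq_zero rt).1 ((mul_eq_zero.1 this).resolve_left c0) |>
      (one_mul _).symm.trans)).symm
  simp only [one_mul] at form f2
  let P0 : Subgroup G :=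
    { carrier := {p | p ∈ P ∧ ∀ y, l p y = rt (σ p * y)}
      one_mem' := ⟨one_mem _, fun y => by
        have e1 := lm 1 (one_mem _) 1 (one_mem _) y
        have e2 := σm 1 (one_mem _) 1 (one_mem _)
        rw [mul_one, K.addE] at e1 e2
        simp [e1, e2]⟩
      mul_mem' := fun {a b} ha hb => ⟨mul_mem ha.1 hb.1, fun y => by
        rw [lm a ha.1 b hb.1, σm a ha.1 b hb.1, ha.2, hb.2, add_mul, map_add]⟩
      inv_mem' := fun {a} ha => ⟨inv_mem ha.1, fun y => by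
        have e1 := lm _ (inv_mem ha.1) _ (mul_mem ha.1 ha.1) y
        have e2 := σm _ (inv_mem ha.1) _ (mul_mem ha.1 ha.1)
        rw [inv_mul_cancel_left, lm a ha.1 a ha.1, K.addE, add_zero] at e1
        rw [inv_mul_cancel_left, σm a ha.1 a ha.1, K.addE, add_zero] at e2
        rw [← e1, ← e2, ha.2]⟩ }
  have cas : ∀ p ∈ P, p ∈ P0 ∨ p * t ∈ P0 := fun p hp =>
    (form p hp).imp (fun e => ⟨hp, e⟩) fun e => ⟨mul_mem hp tP, f2 p hp e⟩
  refine ⟨P0, fun p => rt (σ p), fun a ha => ⟨h.U_le ha, fun y => ?_⟩, fun _ k => k.1, cas,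
    fun j => mem_N_of_finite fun p hp => ⟨hm j p hp.1, fun y => ?_⟩, fun p hp => ?_,
    fun s hs hd => ?_, fun e => ?_, fun p hp => ⟨w p, (hw p hp.1).1, (hw p hp.1).2, ?_⟩,
    fun p hp e => ?_, fun p hp u hu => ?_⟩
  · rw [lU a ha, σU a ha, zero_mul, map_zero]
  · obtain ⟨y', rfl⟩ : ∃ y', y = (j : E) ^ 2 * y' := ⟨y / (j : E) ^ 2, (mul_div_cancel₀ _ (k0 j)).symm⟩
    rw [lh j p hp.1, σh j p hp.1, hp.2, mul_mul_mul_comm, map_mul rt (_ * _), rtm]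
  · exact Y.ker _ (BU _ (h.sqP hp.1)) (by rw [sq p hp.1, hp.2, rtm, K.addE])
  · have k1 : ∀ y, rt (σ s * y) = y := fun y => by
      obtain ⟨u, hu, e⟩ := Y.onto y
      have := (hl s hs.1 u hu).symm.trans ((Y.dd_inv hL h.c1 hd (h.P_N hs.1) (h.P_S hs.1)
        (h.P_w hs.1) hu).trans (tU hL h.c1 hu).symm)
      rw [hl t tP u hu, mul_right_inj, e, hs.2, lt] at this
      exact X.z_inj this
    obtain ⟨x, x0, x1, -⟩ := K.exists_ne 0 1 1
    have a1 := hrt (σ s * 1)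
    have a2 := hrt (σ s * x)
    rw [k1, one_pow, mul_one] at a1
    rw [k1, ← a1, one_mul, _root_.sq] at a2
    exact x1 (mul_left_cancel₀ x0 (a2.trans (mul_one x).symm))
  · rcases cas _ (hv (e ^ 2)) with m | m
    · exact ⟨_, m, by simp only [σv, rts]⟩
    · exact ⟨_, m, by simp only [σm _ (hv _) t tP, σv, σt, add_zero, rts]⟩
  · simp only [hrt, hσ]
  · have e' : σ p = 0 := (map_eq_zero rt).1 e
    refine (σQ p hp.1 e').resolve_right fun m => ?_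
    have := lU _ m 1
    rw [lm t tP p hp.1, lt, hp.2, e', zero_mul, map_zero, add_zero] at this
    exact one_ne_zero this
  · rw [hl p hp.1 u hu, hp.2, map_mul]

end H2.U3
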