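import Mathlib
import Cfsg.Agent.H2.UDefs
import Cfsg.Agent.H2.UC2

set_option autoImplicit false
set_option linter.unusedVariables false
set_option linter.unusedSectionVars false

namespace H2.U3

open Cfsg H24 Subgroup
open H2.SZ (St DD Goal)
open H2.C2 (Cl2)

universe u v

variable {G : Type u} [Group G] [Finite G] {E F : Type*} [Field E] [Fintype E] [Field F] [Fintype F]
  [Algebra E F] {K : UF E F} {L G0 D P P0 Q R A B C H T M W W1 W2 Z1 Z2 : Subgroup G}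
  {t g s f x y i v p : G} {X : UD K L} {a k : F} {b : E} {ρ : F ≃+* F}

local notation "𝐪" => Fintype.card E

/-- the output of `Mp.s1` -/
structure UC3D (Y : YD X t D) (G0 P : Subgroup G) (rt : E ≃+* E) (S1 : Subgroup G) (ξ : G → E) :
    Prop where
  mp : Mp Y G0 P
  hrt : ∀ x, rt x ^ 2 = x
  U_le : Y.U ≤ S1
  le : S1 ≤ P
  idx : ∀ p ∈ P, p ∈ S1 ∨ p * t ∈ S1
  hN : ∀ k, X.h k ∈ N[S1]
  sq : ∀ p ∈ S1, p * p ∈ X.Z
  nd : ∀ s ∈ S1, ¬ DD t s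
  onto : ∀ e, ∃ p ∈ S1, ξ p = e
  spec : ∀ p ∈ S1, ∃ u ∈ Y.U, p * t * p⁻¹ = t * u ∧ Y.y u = ξ p ^ 2
  ker : ∀ p ∈ S1, ξ p = 0 → p ∈ Y.U
  act : ∀ p ∈ S1, ∀ u ∈ Y.U, p * u * p⁻¹ = u * X.z (ξ p * rt (Y.y u))

namespace UC3D

variable {Y : YD X t D} {rt : E ≃+* E} {S1 : Subgroup G} {ξ : G → E} (h : UC3D Y G0 P rt S1 ξ)
  {u q : G}
include h

theorem lc : Lc X G0 t D := h.mp.toLc
theorem tt : t * t = 1 := h.lc.tt
theorem ti : t⁻¹ = t := inv_eq_of_mul_eq_one_right h.tt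
theorem zU (b : E) : X.z b ∈ Y.U := Y.Z_le (X.z_mem_Z b)
theorem zS (b : E) : X.z b ∈ S1 := h.U_le (h.zU b)
theorem CS : S1 ≤ C[X.S] := h.le.trans h.mp.P_S
theorem zc (hp : p ∈ S1) (b : E) : p * X.z b = X.z b * p :=
  mem_C'.1 (h.CS hp) _ (X.Z_le_S (X.z_mem_Z b))
theorem rt_sq (e : E) : rt (e ^ 2) = e := K.sq_inj (h.hrt _)
theorem ht (k : Eˣ) : X.h k * t = t * X.h k := h.lc.toSc.tu (X.h_mem k)

theorem ξ_eq (hp : p ∈ S1) (hu : u ∈ Y.U) (e : p * t * p⁻¹ = t * u) {c : E} (hc : Y.y u = c ^ 2) :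
    ξ p = c := by
  obtain ⟨u', -, e', hy⟩ := h.spec p hp
  rw [e, mul_right_inj] at e'
  exact K.sq_inj (by rw [← hy, ← e', hc])

theorem ξ_mul (hp : p ∈ S1) (hq : q ∈ S1) : ξ (p * q) = ξ p + ξ q := by
  obtain ⟨u, hu, e, hy⟩ := h.spec p hp
  obtain ⟨u', hu', e', hy'⟩ := h.spec q hq
  refine h.ξ_eq (mul_mem hp hq) (mul_mem hu (mul_mem hu' (h.zU (ξ p * rt (Y.y u'))))) ?_ ?_
  · calc p * q * t * (p * q)⁻¹ = p * (q * t * q⁻¹) * p⁻¹ := by group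
      _ = (p * t * p⁻¹) * (p * u' * p⁻¹) := by rw [e']; group
      _ = _ := by rw [e, h.act p hp u' hu', mul_assoc]
  · rw [Y.y_mul h.lc hu (mul_mem hu' (h.zU _)), Y.y_mul h.lc hu' (h.zU _), Y.y_z h.lc, hy, hy']
    linear_combination (-(ξ p * ξ q)) * K.two

theorem ξ_U (hu : u ∈ Y.U) : ξ u = 0 :=
  h.ξ_eq (h.U_le hu) (h.zU _) (Y.spec u hu) (by rw [Y.y_z h.lc]; simp)

theorem ξ_h (hp : p ∈ S1) (k : Eˣ) : ξ (X.h k * p * (X.h k)⁻¹) = k * ξ p := by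
  obtain ⟨u, hu, e, hy⟩ := h.spec p hp
  refine h.ξ_eq (conj_mem (h.hN k) hp) (conj_mem (Y.h_U h.lc k) hu) ?_ ?_
  · have e1 : (X.h k)⁻¹ * t * X.h k = t := by rw [mul_assoc, ← h.ht]; group
    calc X.h k * p * (X.h k)⁻¹ * t * (X.h k * p * (X.h k)⁻¹)⁻¹
        = X.h k * (p * ((X.h k)⁻¹ * t * X.h k) * p⁻¹) * (X.h k)⁻¹ := by group
      _ = (X.h k * t) * u * (X.h k)⁻¹ := by rw [e1, e]; group
      _ = _ := by rw [h.ht]; group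
  · rw [Y.y_h h.lc k hu, hy, mul_pow]

theorem t_conj (hp : p ∈ S1) : ∃ u ∈ Y.U, t * p * t⁻¹ = u * p ∧ Y.y u = ξ p ^ 2 := by
  obtain ⟨u, hu, e, hy⟩ := h.spec p hp
  refine ⟨u, hu, ?_, hy⟩
  calc t * p * t⁻¹ = t * (p * t * p⁻¹) * p := by rw [h.ti]; group
    _ = t * t * u * p := by rw [e]; group
    _ = _ := by rw [h.tt, one_mul]

theorem conj_t (hp : p ∈ S1) (e : p * t * (p * t) ∈ X.Z) : ∃ q ∈ S1, p * t = q * t * q⁻¹ := by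
  obtain ⟨u, hu, e1, hy⟩ := h.t_conj hp
  have e2 : p * t * (p * t) = u * X.z (ξ p * rt (Y.y u)) * (p * p) := by
    rw [← h.act p hp u hu]
    calc p * t * (p * t) = p * (t * p * t⁻¹) := by rw [h.ti]; group
      _ = _ := by rw [e1]; group
  rw [e2, mul_mem_cancel_right (h.sq p hp), mul_mem_cancel_right (X.z_mem_Z _)] at e
  obtain ⟨c, rfl⟩ := X.mem_Z.1 e
  rw [Y.y_z h.lc] at hy
  have hpU := h.ker p hp (pow_eq_zero_iff two_ne_zero |>.1 hy.symm)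
  have h2 : t⁻¹ * p * t ∈ Y.U := conj_mem' (Y.t_N h.lc) hpU
  obtain ⟨q, hq, hξ⟩ := h.onto (rt (Y.y (t⁻¹ * p * t)))
  obtain ⟨u3, hu3, e3, hy3⟩ := h.spec q hq
  rw [hξ, h.hrt] at hy3
  obtain ⟨b, hb⟩ := Y.eqz h.lc h2 hu3 hy3.symm
  obtain ⟨w, hw, rfl⟩ := Y.onto b
  refine ⟨w * q, mul_mem (h.U_le hw) hq, ?_⟩
  have c1 : w * u3 = u3 * w := Y.abl.comm hw hu3
  have c2 : X.z (Y.y w) * u3 = u3 * X.z (Y.y w) := Y.abl.comm (h.zU _) hu3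
  calc p * t = t * (t⁻¹ * p * t) := by group
    _ = t * (X.z (Y.y w) * u3) := by rw [hb, c2]
    _ = (w * t * w⁻¹) * u3 := by rw [Y.spec w hw]; group
    _ = w * (t * u3) * w⁻¹ := by
      calc w * t * w⁻¹ * u3 = w * t * w⁻¹ * (u3 * w) * w⁻¹ := by group
        _ = _ := by rw [← c1]; group
    _ = _ := by rw [← e3]; group

theorem cm (hp : p ∈ S1) (hq : q ∈ S1) : ∃ c, p * q * p⁻¹ = q * X.z c := by
  obtain ⟨c1, e1⟩ := X.mem_Z.1 (h.sq p hp)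
  obtain ⟨c2, e2⟩ := X.mem_Z.1 (h.sq q hq)
  obtain ⟨c3, e3⟩ := X.mem_Z.1 (h.sq _ (mul_mem hp hq))
  refine ⟨c3 + c1 + c2, ?_⟩
  have a1 : X.z c1 * p * p = 1 := by rw [mul_assoc, e1, X.z_sq]
  have a2 : X.z c2 * q * q = 1 := by rw [mul_assoc, e2, X.z_sq]
  calc p * q * p⁻¹ = p * q * (p * q) * q⁻¹ * (p * p)⁻¹ := by group
    _ = X.z c3 * q⁻¹ * X.z c1 := by rw [e3, e1, X.z_inv]
    _ = X.z c3 * (q * (q * q)⁻¹) * X.z c1 := by group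
    _ = (X.z c3 * q) * X.z c2 * X.z c1 := by rw [e2, X.z_inv]; group
    _ = _ := by rw [← h.zc hq, mul_assoc, mul_assoc, X.z_mul, X.z_mul]; congr 2; ring

theorem exists_η0 : ∃ η : G → E, (∀ p ∈ S1, ∀ q ∈ S1, η (p * q) = η p + η q) ∧
    ∀ u ∈ Y.U, η u = rt (Y.y u) := by
  classical
  obtain ⟨p0, hp0, e0⟩ := h.onto 1
  let η : G → E := fun q => if hq : q ∈ S1 then (h.cm hp0 hq).choose else 0
  have sp : ∀ q ∈ S1, p0 * q * p0⁻¹ = q * X.z (η q) := fun q hq => by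
    simp only [η, dif_pos hq]
    exact (h.cm hp0 hq).choose_spec
  refine ⟨η, fun p hp q hq => X.z_inj (mul_left_cancel (a := p * q) ?_),
    fun u hu => X.z_inj (mul_left_cancel (a := u) ?_)⟩
  · rw [← sp _ (mul_mem hp hq), ← X.z_mul]
    calc p0 * (p * q) * p0⁻¹ = (p0 * p * p0⁻¹) * (p0 * q * p0⁻¹) := by group
      _ = p * (X.z (η p) * q) * X.z (η q) := by rw [sp p hp, sp q hq]; group
      _ = _ := by rw [← h.zc hq]; group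
  · rw [← sp u (h.U_le hu), h.act p0 hp0 u hu, e0, one_mul]

theorem exists_η : ∃ η : G → E, (∀ p ∈ S1, ∀ q ∈ S1, η (p * q) = η p + η q) ∧
    (∀ u ∈ Y.U, η u = rt (Y.y u)) ∧
    ∀ (k : Eˣ), ∀ p ∈ S1, η (X.h k * p * (X.h k)⁻¹) = k * η p := by
  classical
  obtain ⟨η, a1, a2⟩ := h.exists_η0
  refine ⟨fun p => ∑ k : Eˣ, ((k⁻¹ : Eˣ) : E) * η (X.h k * p * (X.h k)⁻¹), fun p hp q hq => ?_,
    fun u hu => ?_, fun l p hp => ?_⟩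
  · rw [← Finset.sum_add_distrib]
    refine Finset.sum_congr rfl fun k _ => ?_
    rw [← mul_add, ← a1 _ (conj_mem (h.hN k) hp) _ (conj_mem (h.hN k) hq)]
    congr 2
    group
  · have : ∀ k : Eˣ, ((k⁻¹ : Eˣ) : E) * η (X.h k * u * (X.h k)⁻¹) = rt (Y.y u) := fun k => by
      rw [a2 _ (conj_mem (Y.h_U h.lc k) hu), Y.y_h h.lc k hu, map_mul, h.rt_sq, ← mul_assoc,
        Units.inv_mul, one_mul]
    simp only [this]
    rw [Finset.sum_const, Finset.card_univ, Fintype.card_units, nsmul_eq_mul]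
    obtain ⟨m, hm⟩ := K.odd_E
    rw [hm]
    push_cast
    rw [K.two]
    ring
  · simp only
    rw [Finset.mul_sum, ← Equiv.sum_comp (Equiv.mulRight l)
      (fun k : Eˣ => (l : E) * (((k⁻¹ : Eˣ) : E) * η (X.h k * p * (X.h k)⁻¹)))]
    refine Finset.sum_congr rfl fun k _ => ?_
    obtain ⟨d, hd, e⟩ := X.h_mul k l
    have c : d * p = p * d := mem_C.1 (h.mp.P_D (h.le hp)) d (h.lc.ZL_D hd)
    have e1 : X.h (k * l) * p * (X.h (k * l))⁻¹ = X.h k * (X.h l * p * (X.h l)⁻¹) * (X.h k)⁻¹ := by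
      rw [e]
      calc X.h k * X.h l * d * p * (X.h k * X.h l * d)⁻¹
          = X.h k * X.h l * (d * p) * (X.h k * X.h l * d)⁻¹ := by group
        _ = _ := by rw [c]; group
    simp only [Equiv.coe_mulRight]
    rw [e1, _root_.mul_inv_rev k l, Units.val_mul, ← mul_assoc (l : E), ← mul_assoc (l : E),
      Units.mul_inv, one_mul]

theorem exists_n {η : G → E} (a1 : ∀ p ∈ S1, ∀ q ∈ S1, η (p * q) = η p + η q)
    (a2 : ∀ u ∈ Y.U, η u = rt (Y.y u))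
    (a3 : ∀ (k : Eˣ), ∀ p ∈ S1, η (X.h k * p * (X.h k)⁻¹) = k * η p) :
    (∀ e c, ∃ p ∈ S1, η p = e ∧ ξ p = c) ∧ (∀ p ∈ S1, η p = 0 → ξ p = 0 → p ∈ X.Z) ∧
      ∃ n, ∀ p ∈ S1, p * p = X.z (η p ^ 2 + η p * ξ p + n * ξ p ^ 2) := by
  have b1 : ∀ e c, ∃ p ∈ S1, η p = e ∧ ξ p = c := fun e c => by
    obtain ⟨p, hp, rfl⟩ := h.onto c
    obtain ⟨u, hu, hy⟩ := Y.onto ((e + η p) ^ 2)
    refine ⟨u * p, mul_mem (h.U_le hu) hp, ?_, by rw [h.ξ_mul (h.U_le hu) hp, h.ξ_U hu, zero_add]⟩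
    rw [a1 _ (h.U_le hu) _ hp, a2 u hu, hy, h.rt_sq, add_assoc, K.addE, add_zero]
  have b2 : ∀ p ∈ S1, η p = 0 → ξ p = 0 → p ∈ X.Z := fun p hp e1 e2 => by
    have hu := h.ker p hp e2
    rw [a2 p hu, map_eq_zero] at e1
    exact Y.ker p hu e1
  refine ⟨b1, b2, ?_⟩
  obtain ⟨p1, hp1, e1, e2⟩ := b1 0 1
  obtain ⟨n, hn⟩ := X.mem_Z.1 (h.sq p1 hp1)
  have ηi : ∀ p ∈ S1, η p⁻¹ = η p := fun p hp => by
    have := a1 _ (inv_mem hp) _ hp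
    rw [inv_mul_cancel, a2 1 (one_mem _), ← X.z_zero, Y.y_z h.lc, map_zero] at this
    linear_combination (-1 : E) * this - η p * K.two
  have ξi : ∀ p ∈ S1, ξ p⁻¹ = ξ p := fun p hp => by
    have := h.ξ_mul (inv_mem hp) hp
    rw [inv_mul_cancel, h.ξ_U (one_mem _)] at this
    linear_combination (-1 : E) * this - ξ p * K.two
  have b3 : ∀ p ∈ S1, η p = 0 → p * p = X.z (n * ξ p ^ 2) := fun p hp e => by
    by_cases c : ξ p = 0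
    · obtain ⟨b, rfl⟩ := X.mem_Z.1 (b2 p hp e c)
      rw [c, X.z_sq]; simp [X.z_zero]
    set k := Units.mk0 _ c with hk
    have hp' := conj_mem (h.hN k) hp1
    obtain ⟨b, hb⟩ := X.mem_Z.1 (b2 _ (mul_mem (inv_mem hp') hp)
      (by rw [a1 _ (inv_mem hp') _ hp, ηi _ hp', a3 k _ hp1, e1, e]; simp)
      (by rw [h.ξ_mul (inv_mem hp') hp, ξi _ hp', h.ξ_h hp1, e2, mul_one]; exact K.addE _))
    have e3 : p = X.h k * p1 * (X.h k)⁻¹ * X.z b := by rw [← hb]; group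
    have e4 : X.h k * p1 * (X.h k)⁻¹ * (X.h k * p1 * (X.h k)⁻¹) = X.z (n * ξ p ^ 2) := by
      calc _ = X.h k * (p1 * p1) * (X.h k)⁻¹ := by group
        _ = _ := by rw [hn, X.h_z, mul_comm]; rfl
    rw [← e4]
    conv_lhs => rw [e3]
    generalize X.h k * p1 * (X.h k)⁻¹ = r at hp'
    calc r * X.z b * (r * X.z b) = r * (X.z b * r) * X.z b := by group
      _ = r * r * (X.z b * X.z b) := by rw [← h.zc hp']; group
      _ = _ := by rw [X.z_sq, mul_one]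
  refine ⟨n, fun p hp => ?_⟩
  obtain ⟨u, hu, hy⟩ := Y.onto (η p ^ 2)
  have hu' := h.U_le hu
  have hq := mul_mem (inv_mem hu') hp
  have q1 : η (u⁻¹ * p) = 0 := by
    rw [a1 _ (inv_mem hu') _ hp, ηi _ hu', a2 u hu, hy, h.rt_sq, K.addE]
  have q2 : ξ (u⁻¹ * p) = ξ p := by rw [h.ξ_mul (inv_mem hu') hp, h.ξ_U (inv_mem hu), zero_add]
  have q3 := b3 _ hq q1
  have q4 := h.act _ hq u hu
  rw [q2] at q3 q4
  rw [hy, h.rt_sq] at q4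
  have q5 := Y.sq u hu
  rw [h.mp.c1, one_mul, hy] at q5
  have e : p = u * (u⁻¹ * p) := by group
  generalize u⁻¹ * p = r at q3 q4 e
  rw [← X.z_mul, ← X.z_mul, ← q5, ← q3, mul_comm (η p), mul_assoc u, ← q4]
  conv_lhs => rw [e]
  group

theorem syl : ∃ T, Syl 2 C{t} T ∧ T ≤ N[X.S] ∧ T ≤ N[S1] := by
  obtain ⟨T, hT, h1, h2⟩ := h.lc.toSc.exists_T X
  obtain ⟨R, hR, hTR⟩ := Sylow_superset Nat.prime_two hT.pi (le_sup_left : T ≤ T ⊔ C[X.S])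
  have hR' : Syl 2 C[X.S] (R ⊓ C[X.S]) :=
    hR.inf_norm le_sup_right (hR.le.trans (sup_le (norm_C h2) (norm_self _)))
  obtain ⟨c, hc, e⟩ := Sylow_trans Nat.prime_two hR' h.mp.sylS
  have tR : t ∈ R ⊓ C[X.S] := mem_inf.2 ⟨hTR (h1 (mem_sup_left (mem_zpowers t))), h.mp.P_S h.mp.t_mem⟩
  have hs : c * t * c⁻¹ ∈ P := e ▸ conj_mem_cj c tR
  have hs1 := (h.idx _ hs).resolve_left fun e => h.nd _ e ⟨c, rfl⟩
  have e1 : c * t * c⁻¹ * t * t = c * t * c⁻¹ := by rw [mul_assoc _ t, h.tt, mul_one]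
  obtain ⟨q, hq, e2⟩ := h.conj_t hs1 (by
    rw [e1]
    have : c * t * c⁻¹ * (c * t * c⁻¹) = c * (t * t) * c⁻¹ := by group
    rw [this, h.tt, mul_one, mul_inv_cancel]
    exact one_mem _)
  rw [e1] at e2
  have c1 : q⁻¹ * c ∈ C{t} := mem_C1_iff_conj.2 (by
    calc q⁻¹ * c * t * (q⁻¹ * c)⁻¹ = q⁻¹ * (c * t * c⁻¹) * q := by group
      _ = _ := by rw [e2]; group)
  have c2 : q⁻¹ * c ∈ N[X.S] := C_le_N _ (mul_mem (inv_mem (h.CS hq)) hc)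
  have n1 : cj (q⁻¹ * c) T ≤ N[X.S] := cj_le_of_mem h2 c2
  have n2 : cj (q⁻¹ * c) T ≤ N[P] := by
    have := norm_cj (norm_inf (norm_of_le hTR) (norm_C h2)) (q⁻¹ * c)
    rwa [cj_mul q⁻¹ c (R ⊓ _), ← e, cj_of_mem (inv_mem (h.le hq))] at this
  refine ⟨_, hT.cj_mem c1, n1, fun g hg => mem_N_of_finite fun p hp => ?_⟩
  by_contra hcon
  have k1 := (h.idx _ (conj_mem (n2 hg) (h.le hp))).resolve_left hcon
  have e3 : g * p * g⁻¹ * t * t = g * p * g⁻¹ := by rw [mul_assoc _ t, h.tt, mul_one]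
  obtain ⟨r, -, e4⟩ := h.conj_t k1 (by
    rw [e3]
    have : g * p * g⁻¹ * (g * p * g⁻¹) = g * (p * p) * g⁻¹ := by group
    rw [this]
    exact conj_mem (X.NS_le_NZ (n1 hg)) (h.sq p hp))
  rw [e3] at e4
  exact h.nd p hp ⟨g⁻¹ * r, by
    calc p = g⁻¹ * (g * p * g⁻¹) * g := by group
      _ = _ := by rw [e4]; group⟩

theorem mem3 : g ∈ X.S ⊔ S1 ↔ ∃ a, ∃ p ∈ S1, g = X.u a 0 * p := by
  rw [mem_sup_of_norm (norm_of_cent h.CS)]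
  constructor
  · rintro ⟨s, hs, p, hp, rfl⟩
    obtain ⟨a, b, rfl⟩ := X.mem_S.1 hs
    exact ⟨a, _, mul_mem (h.zS b) hp, by rw [X.u_eq, mul_assoc]⟩
  · rintro ⟨a, p, hp, rfl⟩
    exact ⟨_, X.u_mem_S a 0, p, hp, rfl⟩

theorem uniq {a a' : F} (hp : p ∈ S1) (hq : q ∈ S1) (e : X.u a 0 * p = X.u a' 0 * q) : a = a' := by
  have e1 : (X.u a' 0)⁻¹ * X.u a 0 = q * p⁻¹ := by
    calc _ = (X.u a' 0)⁻¹ * (X.u a 0 * p) * p⁻¹ := by group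
      _ = _ := by rw [e]; group
  have : (X.u a' 0)⁻¹ * X.u a 0 ∈ X.Z := X.S_CS (mem_inf.2
    ⟨mul_mem (inv_mem (X.u_mem_S _ _)) (X.u_mem_S _ _), e1 ▸ h.CS (mul_mem hq (inv_mem hp))⟩)
  obtain ⟨b, hb⟩ := X.mem_Z.1 this
  rw [inv_mul_eq_iff_eq_mul, X.u_z] at hb
  exact (X.u_inj hb).1

end UC3D

/-! ### UC3 -/

theorem Mp.c3 {Y : YD X t D} (h : Mp Y G0 P) : ∃ Y3 : C3D X t, Y3.P ≤ C[D] := by
  classical
  obtain ⟨rt, hrt⟩ := K.exists_rt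
  obtain ⟨S1, ξ, s1, s2, s3, s4, s5, s6, s7, s8, s9, s10⟩ := h.s1 rt hrt
  have d : UC3D Y G0 P rt S1 ξ := ⟨h, hrt, s1, s2, s3, s4, s5, s6, s7, s8, s9, s10⟩
  obtain ⟨η, a1, a2, a3⟩ := d.exists_η
  obtain ⟨b1, b2, n, b3⟩ := d.exists_n a1 a2 a3
  let π : G → F × E × E := fun g => if hg : ∃ a, (X.u a 0)⁻¹ * g ∈ S1 then
    (hg.choose, η ((X.u hg.choose 0)⁻¹ * g), ξ ((X.u hg.choose 0)⁻¹ * g)) else 0
  have π0 : ∀ a, ∀ p ∈ S1, π (X.u a 0 * p) = (a, η p, ξ p) := fun a p hp => by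
    have hg : ∃ a', (X.u a' 0)⁻¹ * (X.u a 0 * p) ∈ S1 := ⟨a, by simpa using hp⟩
    have e : hg.choose = a := d.uniq hg.choose_spec hp (by group)
    simp only [π, dif_pos hg, e, inv_mul_cancel_left]
  have ηz : ∀ b, η (X.z b) = 0 := fun b => by rw [a2 _ (d.zU b), Y.y_z d.lc, map_zero]
  have π1 : ∀ a b, ∀ p ∈ S1, π (X.u a b * p) = (a, η p, ξ p) := fun a b p hp => by
    rw [X.u_eq, mul_assoc, π0 a _ (mul_mem (d.zS b) hp), a1 _ (d.zS b) _ hp, d.ξ_mul (d.zS b) hp,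
      ηz, d.ξ_U (d.zU b), zero_add, zero_add]
  have cu : ∀ a b, ∀ p ∈ S1, p * X.u a b = X.u a b * p := fun a b p hp =>
    mem_C'.1 (d.CS hp) _ (X.u_mem_S a b)
  have mm : ∀ a a', ∀ p ∈ S1, ∀ q, X.u a 0 * p * (X.u a' 0 * q) = X.u a 0 * X.u a' 0 * (p * q) :=
    fun a a' p hp q => by
      calc _ = X.u a 0 * (p * X.u a' 0) * q := by group
        _ = _ := by rw [cu _ _ p hp]; group
  have tS : t ∈ C[X.S] := h.P_S h.t_mem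
  have tN : t ∈ N[S1] := mem_N_of_finite fun p hp => by
    obtain ⟨u, hu, e, -⟩ := d.t_conj hp
    exact e ▸ mul_mem (s1 hu) hp
  have z1 : ∀ g ∈ X.S ⊔ S1, (π g).1 = 0 → g ∈ S1 ∧ π g = (0, η g, ξ g) := fun g hg e => by
    obtain ⟨a, p, hp, rfl⟩ := d.mem3.1 hg
    rw [π0 a p hp] at e ⊢
    simp only at e
    rw [e, X.u_zero, one_mul]
    exact ⟨hp, rfl⟩
  refine ⟨⟨X.S ⊔ S1, n, π, le_sup_left, fun a b => ?_, fun g hg k hk => ?_, fun g hg e => ?_,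
    fun v => ?_, fun g hg => ?_, sup_le X.S_CZ (d.CS.trans (C_anti X.Z_le_S)),
    norm_sup (X := zpowers t) (zpowers_le.2 (C_le_N _ tS)) (zpowers_le.2 tN) (mem_zpowers t),
    fun g hg => ?_, fun g hg e1 e2 => ?_,
    fun k => norm_sup (X := zpowers (X.h k)) (zpowers_le.2 (X.h_NS k)) (zpowers_le.2 (s4 k))
      (mem_zpowers _), fun k g hg => ?_, fun g hg e => ?_, ?_⟩,
    sup_le (X.S_le.trans (cents_symm h.D_L)) (s2.trans h.P_D)⟩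
  · have := π1 a b 1 (one_mem _)
    rwa [mul_one, ← X.z_zero, ηz, d.ξ_U (d.zU _)] at this
  · obtain ⟨a, p, hp, rfl⟩ := d.mem3.1 hg
    obtain ⟨a', q, hq, rfl⟩ := d.mem3.1 hk
    rw [mm a a' p hp, X.u_mul, π1 _ _ _ (mul_mem hp hq), π0 a p hp, π0 a' q hq, a1 p hp q hq,
      d.ξ_mul hp hq]
    rfl
  · obtain ⟨k1, k2⟩ := z1 g hg (by rw [e]; rfl)
    rw [e] at k2
    simp only [Prod.ext_iff, Prod.fst_zero, Prod.snd_zero] at k2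
    exact b2 g k1 k2.2.1.symm k2.2.2.symm
  · obtain ⟨p, hp, e1, e2⟩ := b1 v.2.1 v.2.2
    exact ⟨X.u v.1 0 * p, d.mem3.2 ⟨_, p, hp, rfl⟩, by rw [π0 _ p hp, e1, e2]⟩
  · obtain ⟨a, p, hp, rfl⟩ := d.mem3.1 hg
    rw [mm a a p hp, X.u_sq, b3 p hp, X.z_mul, π0 a p hp]
    rfl
  · obtain ⟨a, p, hp, rfl⟩ := d.mem3.1 hg
    obtain ⟨u, hu, e, hy⟩ := d.t_conj hp
    have e1 : t * (X.u a 0 * p) * t⁻¹ = X.u a 0 * (u * p) := by
      rw [← e, ← mul_assoc t, mem_C'.1 tS _ (X.u_mem_S a 0)]; group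
    rw [e1, π0 a _ (mul_mem (s1 hu) hp), π0 a p hp, K.rf_e, a1 _ (s1 hu) _ hp, d.ξ_mul (s1 hu) hp,
      a2 u hu, hy, d.rt_sq, d.ξ_U hu, zero_add, add_comm]
  · obtain ⟨k1, k2⟩ := z1 g hg e1
    rw [k2] at e2
    have hu := s9 g k1 e2
    have := Y.sq g hu
    rw [h.c1, one_mul] at this
    rw [Y.t_u d.lc hu, eq_inv_iff_mul_eq_one, mul_assoc, ← d.zc k1, ← mul_assoc, this, X.z_sq]
  · obtain ⟨a, p, hp, rfl⟩ := d.mem3.1 hg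
    have e1 : X.h k * (X.u a 0 * p) * (X.h k)⁻¹ =
        (X.h k * X.u a 0 * (X.h k)⁻¹) * (X.h k * p * (X.h k)⁻¹) := by group
    rw [e1, X.h_u, π1 _ _ _ (conj_mem (s4 k) hp), a3 k p hp, d.ξ_h hp, π0 a p hp]
    rfl
  · exact (mem_C1.1 (h.P_w (s2 (z1 g hg e).1))).symm
  · obtain ⟨T, k1, k2, k3⟩ := d.syl
    exact ⟨T, k1, k2, norm_sup k2 k3⟩

end H2.U3
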