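import Mathlib
import Cfsg.Agent.H2.UDefs
import Cfsg.Agent.H2.UM2

/-!
# Standard `U₃(q)`, case `c = 0`: the group `Q = ⟨t⟩ S U` and an element moving `t` out of `t Z`
-/

set_option autoImplicit false
set_option linter.unusedVariables false
set_option linter.unusedSectionVars false

namespace H2.U3

open Cfsg H24 Subgroup
open H2.SZ (St DD Goal)
open H2.C2 (Cl2)

universe u v

variable {G : Type u} [Group G] [Finite G] {E F : Type*} [Field E] [Fintype E] [Field F] [Fintype F]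
  [Algebra E F] {K : UF E F} {L G0 D P P0 Q R A B C H T M W W1 W2 Z1 Z2 : Subgroup G}
  {t g s f x y i v p : G} {X : UD K L} {a k : F} {b : E} {ρ : F ≃+* F}

local notation "𝐪" => Fintype.card E

namespace UD1

/-- the elements of `N(B)` centralising `A` modulo `B` -/
def CM (B A : Subgroup G) : Subgroup G where
  carrier := {x | x ∈ N[B] ∧ ∀ p ∈ A, x * p * x⁻¹ * p⁻¹ ∈ B}
  one_mem' := ⟨one_mem _, fun p _ => by simp⟩
  mul_mem' := fun {x y} hx hy => ⟨mul_mem hx.1 hy.1, fun p hp => by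
    have e : x * y * p * (x * y)⁻¹ * p⁻¹ =
        x * (y * p * y⁻¹ * p⁻¹) * x⁻¹ * (x * p * x⁻¹ * p⁻¹) := by group
    rw [e]; exact mul_mem (conj_mem hx.1 (hy.2 p hp)) (hx.2 p hp)⟩
  inv_mem' := fun {x} hx => ⟨inv_mem hx.1, fun p hp => by
    have e : x⁻¹ * p * x⁻¹⁻¹ * p⁻¹ = x⁻¹ * (x * p * x⁻¹ * p⁻¹)⁻¹ * x := by group
    rw [e]; exact conj_mem' hx.1 (inv_mem (hx.2 p hp))⟩

theorem mem_CM : x ∈ CM B A ↔ x ∈ N[B] ∧ ∀ p ∈ A, x * p * x⁻¹ * p⁻¹ ∈ B := Iff.rfl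

theorem CM_symm (h : A ≤ CM B C) (hC : C ≤ N[B]) : C ≤ CM B A := fun x hx =>
  ⟨hC hx, fun p hp => by
    have e : x * p * x⁻¹ * p⁻¹ = (p * x * p⁻¹ * x⁻¹)⁻¹ := by group
    rw [e]; exact inv_mem ((h hp).2 x hx)⟩

theorem N_le_CM (B : Subgroup G) : N[B] ≤ CM B B := fun x hx =>
  ⟨hx, fun p hp => mul_mem (conj_mem hx hp) (inv_mem hp)⟩

theorem CM_sup (h1 : A ≤ CM B W1) (h2 : A ≤ CM B W2) (n1 : W1 ≤ N[B]) (n2 : W2 ≤ N[B]) :
    A ≤ CM B (W1 ⊔ W2) :=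
  CM_symm (sup_le (CM_symm h1 n1) (CM_symm h2 n2)) fun _ hx => (h1 hx).1

theorem norm_CM (h1 : g ∈ N[B]) (h2 : g ∈ N[A]) : g ∈ N[CM B A] :=
  mem_N_of_finite fun x hx => ⟨mul_mem (mul_mem h1 hx.1) (inv_mem h1), fun p hp => by
    have e : g * x * g⁻¹ * p * (g * x * g⁻¹)⁻¹ * p⁻¹ =
        g * (x * (g⁻¹ * p * g) * x⁻¹ * (g⁻¹ * p * g)⁻¹) * g⁻¹ := by group
    rw [e]; exact conj_mem h1 (hx.2 _ (conj_mem' h2 hp))⟩

theorem nrm1 (h : g ∈ N[A]) : zpowers g ≤ N[A] := zpowers_le.2 h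

theorem N_inf (h1 : g ∈ N[A]) (h2 : g ∈ N[B]) : g ∈ N[A ⊓ B] :=
  norm_inf (nrm1 h1) (nrm1 h2) (mem_zpowers g)

theorem N_sup (h1 : g ∈ N[A]) (h2 : g ∈ N[B]) : g ∈ N[A ⊔ B] :=
  norm_sup (nrm1 h1) (nrm1 h2) (mem_zpowers g)

variable (Y : YD X t D) {u : G}

theorem uU (h : Lc X G0 t D) (hu : X.u a b ∈ Y.U) : a = 0 := by
  obtain ⟨c, e⟩ := X.mem_Z.1 (Y.U_inf h ⟨hu, X.u_mem_S a b⟩)
  exact (X.u_inj e).1

theorem S_CU : X.S ≤ C[Y.U] := cents_symm Y.U_S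

theorem Q0_C : X.S ⊔ Y.U ≤ C[Y.U] := sup_le (S_CU Y) Y.abl.le_C

theorem CU_CZ : C[Y.U] ≤ C[X.Z] := C_anti Y.Z_le

theorem t_nC (h : Lc X G0 t D) : t ∉ C[Y.U] := fun hc => by
  obtain ⟨u, hu, e⟩ := Y.onto 1
  have h1 := Y.t_u h hu
  rw [conj_eq_of_mem_C hc hu, e] at h1
  exact X.z1 (by simpa using h1)

theorem tS (h : Lc X G0 t D) : t ∈ C[X.S] := C_anti X.S_le h.tC

theorem T_N (h : Lc X G0 t D) : X.T t ≤ N[Y.U] :=
  sup_le (nrm1 (Y.t_N h)) (norm_of_cent (S_CU Y))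

theorem Q_N (h : Lc X G0 t D) : X.T t ⊔ Y.U ≤ N[Y.U] := sup_le (T_N Y h) (norm_self _)

theorem t_Q : t ∈ X.T t ⊔ Y.U := mem_sup_left (mem_sup_left (mem_zpowers t))

theorem Q0_le : X.S ⊔ Y.U ≤ X.T t ⊔ Y.U := sup_le_sup_right le_sup_right _

theorem mem_Q (h : Lc X G0 t D) (hg : g ∈ X.T t ⊔ Y.U) : g ∈ X.S ⊔ Y.U ∨ t * g ∈ X.S ⊔ Y.U := by
  obtain ⟨e, he, u, hu, rfl⟩ := (mem_sup_of_norm' (T_N Y h)).1 hg
  rcases (h.toSc.mem_T X).1 he with h1 | h1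
  · exact .inl (mul_mem (mem_sup_left h1) (mem_sup_right hu))
  · exact .inr (by rw [← mul_assoc]; exact mul_mem (mem_sup_left h1) (mem_sup_right hu))

theorem mem_Q' (h : Lc X G0 t D) (hg : g ∈ X.T t ⊔ Y.U) :
    ∃ a, ∃ u ∈ Y.U, g = X.u a 0 * u ∨ g = t * X.u a 0 * u := by
  rcases mem_Q Y h hg with h1 | h1
  · obtain ⟨a, u, hu, e⟩ := (Y.mem_Q0 h).1 h1
    exact ⟨a, u, hu, .inl e⟩
  · obtain ⟨a, u, hu, e⟩ := (Y.mem_Q0 h).1 h1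
    exact ⟨a, u, hu, .inr (by rw [mul_assoc, ← e, ← mul_assoc, h.tt, one_mul])⟩

theorem pi_Q (h : Lc X G0 t D) : IsPi {2} (X.T t ⊔ Y.U) :=
  (h.toSc.pi_T X).sup' (Y.pi_U h) (T_N Y h)

theorem Q_CZ (h : Lc X G0 t D) : X.T t ⊔ Y.U ≤ C[X.Z] :=
  sup_le (sup_le (zpowers_le.2 (C_anti X.Z_le_S (tS h))) X.S_CZ) (Y.abl.le_C.trans (CU_CZ Y))

theorem Q_CM (h : Lc X G0 t D) : X.T t ⊔ Y.U ≤ CM Y.U (X.T t ⊔ Y.U) := by
  have nS : X.S ≤ N[Y.U] := norm_of_cent (S_CU Y)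
  have nt : zpowers t ≤ N[Y.U] := nrm1 (Y.t_N h)
  have h1 : zpowers t ≤ CM Y.U (X.T t) := zpowers_le.2 ⟨Y.t_N h, fun p hp => by
    have : X.T t ≤ C{t} := sup_le (zpowers_le_C1 t) (mem_C_iff_le_C1.1 (tS h))
    rw [← mem_C1.1 (this hp)]; simp⟩
  have h2 : X.S ≤ CM Y.U X.S := fun x hx => ⟨nS hx, fun p hp => Y.Z_le (X.spc.comm hx hp)⟩
  have h3 : X.S ≤ CM Y.U (zpowers t) :=
    CM_symm (fun x hx => ⟨nt hx, fun p hp => (h1 hx).2 p (mem_sup_right hp)⟩) nS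
  have h4 : X.T t ≤ CM Y.U (X.T t) := sup_le h1 (CM_sup h3 h2 nt nS)
  have h5 : X.T t ⊔ Y.U ≤ CM Y.U Y.U := (Q_N Y h).trans (N_le_CM _)
  exact CM_sup (sup_le h4 (CM_symm (le_sup_left.trans h5) (norm_self _))) h5 (T_N Y h) (norm_self _)

/-- the commutators of an element of `Q` with `S` -/
theorem cmS (h : Lc X G0 t D) (hu : u ∈ Y.U) (e : x = X.u a 0 * u ∨ x = t * X.u a 0 * u) (c : F) :
    x * X.u c 0 * x⁻¹ * (X.u c 0)⁻¹ = X.z (K.B a c) := by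
  have h1 : X.u a 0 * u * X.u c 0 * (X.u a 0 * u)⁻¹ = X.u c 0 * X.z (K.B a c) := by
    rw [← X.u_conj a c 0 0]
    conv_rhs => rw [← conj_eq_of_mem_C (Y.U_S hu) (X.u_mem_S c 0)]
    group
  have h2 : x * X.u c 0 * x⁻¹ = X.u c 0 * X.z (K.B a c) := by
    rcases e with rfl | rfl
    · exact h1
    · rw [← conj_eq_of_mem_C (tS h) (mul_mem (X.u_mem_S c 0) (X.Z_le_S (X.z_mem_Z _))), ← h1]
      group
  rw [h2, ← X.z_u]; group

/-- an element of `Q` with at most two commutators lies in `U` -/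
theorem two_cm (h : Lc X G0 t D) (hx : x ∈ X.T t ⊔ Y.U) {c : G}
    (hc : ∀ p ∈ X.T t ⊔ Y.U, x * p * x⁻¹ * p⁻¹ = 1 ∨ x * p * x⁻¹ * p⁻¹ = c) : x ∈ Y.U := by
  obtain ⟨k, hk⟩ := K.exists_unit
  have key : (∀ b, ∃ p ∈ X.T t ⊔ Y.U, x * p * x⁻¹ * p⁻¹ = X.z b) → False := fun hh => by
    obtain ⟨p, hp, e⟩ := hh 1
    obtain ⟨p', hp', e'⟩ := hh k
    have h1 := hc p hp
    have h2 := hc p' hp'
    rw [e] at h1
    rw [e'] at h2
    rcases h1 with h1 | h1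
    · exact X.z1 h1
    rcases h2 with h2 | h2
    · exact k.ne_zero (X.z_eq_one.1 h2)
    exact hk (Units.ext (X.z_inj (h2.trans h1.symm)))
  obtain ⟨a, u, hu, e⟩ := mem_Q' Y h hx
  by_cases ha : a = 0
  · subst ha
    rw [X.u_zero, one_mul, mul_one] at e
    rcases e with rfl | rfl
    · exact hu
    · refine (key fun b => ?_).elim
      obtain ⟨u', hu', e⟩ := Y.onto b
      refine ⟨u', mem_sup_right hu', ?_⟩
      have h1 : t * u * u' * (t * u)⁻¹ = t * (u * u' * u⁻¹) * t⁻¹ := by group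
      rw [h1, conj_eq_of_mem_C (Y.abl.le_C hu) hu', Y.t_u h hu', e,
        ← Y.abl.comm (Y.Z_le (X.z_mem_Z b)) hu']
      group
  · refine (key fun b => ?_).elim
    obtain ⟨c, e'⟩ := K.B_surj ha b
    exact ⟨X.u c 0, Q0_le Y (mem_sup_left (X.u_mem_S c 0)), by rw [cmS Y h hu e, e']⟩

theorem cmU (h : Lc X G0 t D) (hu : u ∈ Y.U) (hp : p ∈ X.T t ⊔ Y.U) :
    u * p * u⁻¹ * p⁻¹ = 1 ∨ u * p * u⁻¹ * p⁻¹ = u * t * u⁻¹ * t⁻¹ := by
  rcases mem_Q Y h hp with h1 | h1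
  · left; rw [mem_C.1 (Q0_C Y h1) u hu]; group
  · right
    have h2 := mem_C.1 (Q0_C Y h1) u hu
    have h3 : t⁻¹ = t := inv_eq_of_mul_eq_one_right h.tt
    calc u * p * u⁻¹ * p⁻¹ = u * t⁻¹ * u⁻¹ * (u * (t * p)) * u⁻¹ * p⁻¹ := by group
      _ = u * t⁻¹ * u⁻¹ * t := by rw [h2]; group
      _ = _ := by rw [h3]

end UD1

open UD1

theorem YD.NQ (Y : YD X t D) (h : Lc X G0 t D) (hc : Y.c = 0) :
    N[X.T t ⊔ Y.U] ≤ N[X.Z] ⊓ N[Y.U] ⊓ N[X.S ⊔ Y.U] := by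
  have hU : N[X.T t ⊔ Y.U] ≤ N[Y.U] := fun g hg => mem_N_of_finite fun u hu => by
    refine two_cm Y h (conj_mem hg (mem_sup_right hu)) (c := g * (u * t * u⁻¹ * t⁻¹) * g⁻¹)
      fun p hp => ?_
    have e : g * u * g⁻¹ * p * (g * u * g⁻¹)⁻¹ * p⁻¹ =
        g * (u * (g⁻¹ * p * g) * u⁻¹ * (g⁻¹ * p * g)⁻¹) * g⁻¹ := by group
    rw [e]
    rcases cmU Y h hu (conj_mem' hg hp) with h1 | h1 <;> rw [h1]
    · left; group
    · right; rfl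
  have hZ : X.Z = (X.T t ⊔ Y.U) ⊓ C[X.T t ⊔ Y.U] := by
    refine le_antisymm (le_inf (Y.Z_le.trans le_sup_right) (cents_symm (Q_CZ Y h))) fun x hx => ?_
    have hu : x ∈ Y.U := two_cm Y h hx.1 (c := 1) fun p hp => .inl (by
      rw [mem_C'.1 hx.2 p hp]; group)
    have h1 := Y.spec x hu
    rw [conj_eq_of_mem_C hx.2 (t_Q Y)] at h1
    exact Y.ker x hu (X.z_eq_one.1 (by simpa using h1))
  have h0 : X.S ⊔ Y.U = (X.T t ⊔ Y.U) ⊓ C[Y.U] := by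
    refine le_antisymm (le_inf (Q0_le Y) (Q0_C Y)) fun x hx => ?_
    rcases mem_Q Y h hx.1 with h1 | h1
    · exact h1
    · exact (t_nC Y h (by simpa using mul_mem (Q0_C Y h1) (inv_mem hx.2))).elim
  refine le_inf (le_inf ?_ hU) ?_
  · rw [hZ]; exact norm_Z le_rfl
  · rw [h0]; exact norm_inf le_rfl (norm_C hU)

theorem YD.move (Y : YD X t D) (h : Lc X G0 t D) (hc : Y.c = 0) :
    ∃ g ∈ N[X.T t ⊔ Y.U], g ∈ C[X.Z] ∧ ∀ b, g * t * g⁻¹ ≠ t * X.z b := by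
  by_contra! hh
  have p2 : Nat.Prime 2 := Nat.prime_two
  have tN : zpowers t ≤ N[C[Y.U]] := norm_C (nrm1 (Y.t_N h))
  have hQ : X.T t ⊔ Y.U ≤ C[Y.U] ⊔ zpowers t :=
    sup_le (sup_le le_sup_right ((S_CU Y).trans le_sup_left)) (Y.abl.le_C.trans le_sup_left)
  obtain ⟨R, hR, QR⟩ := Sylow_superset p2 (pi_Q Y h) hQ
  have RZ : R ≤ C[X.Z] :=
    hR.le.trans (sup_le (CU_CZ Y) (zpowers_le.2 (C_anti X.Z_le_S (tS h))))
  have RU : R ≤ N[Y.U] := hR.le.trans (sup_le (C_le_N _) (nrm1 (Y.t_N h)))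
  -- the elements of `N_R(Q)`
  have dec : ∀ x ∈ R, x ∈ N[X.T t ⊔ Y.U] → ∃ u ∈ Y.U, ∃ f ∈ R, x = u * f ∧ f ∈ N[X.S] ∧
      f * t = t * f ∧ (X.χ f = 1 ∨ X.χ f = K.σ) := fun x hx hn => by
    obtain ⟨b, e⟩ := hh x hn (RZ hx)
    obtain ⟨u, hu, h1, h2⟩ := Y.NE h (C_le_N _ (RZ hx)) e
    have hf : u⁻¹ * x ∈ R := mul_mem (inv_mem (QR (mem_sup_right hu))) hx
    exact ⟨u, hu, _, hf, by group, h1, mem_C1.1 h2, X.χ_Z h1 (RZ hf)⟩
  have inT : ∀ f ∈ R, f ∈ N[X.S] → f * t = t * f → X.χ f = 1 → f ∈ X.T t := fun f hf h1 h2 h3 =>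
    h.two_T h1 h2 (hR.pi.piElt hf) h3
  have hRN : R ⊓ N[X.T t ⊔ Y.U] = R := by
    refine (hR.pi.nil p2).eq_of_norm_le inf_le_left fun g hg => ⟨hg.1, ?_⟩
    refine mem_N_of_finite fun x hx => ?_
    have xR : x ∈ R ⊓ N[X.T t ⊔ Y.U] := ⟨QR hx, norm_self _ hx⟩
    -- `x` has at most two commutators modulo `U`
    have hx2 : ∃ c, ∀ p ∈ R ⊓ N[X.T t ⊔ Y.U], x * p * x⁻¹ * p⁻¹ ∈ Y.U ∨
        c * (x * p * x⁻¹ * p⁻¹) ∈ Y.U := by
      by_cases h0 : R ⊓ N[X.T t ⊔ Y.U] ≤ X.T t ⊔ Y.U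
      · exact ⟨1, fun p hp => .inl ((Q_CM Y h hx).2 p (h0 hp))⟩
      obtain ⟨p0, hp0, hn⟩ := SetLike.not_le_iff_exists.1 h0
      refine ⟨(x * p0 * x⁻¹ * p0⁻¹)⁻¹, fun p hp => ?_⟩
      obtain ⟨u, hu, f, hf, rfl, a1, a2, a3⟩ := dec p hp.1 hp.2
      obtain ⟨u0, hu0, f0, hf0, rfl, b1, b2, b3⟩ := dec p0 hp0.1 hp0.2
      rcases a3 with a3 | a3
      · exact .inl ((Q_CM Y h hx).2 _
          (mul_mem (mem_sup_right hu) (mem_sup_left (inT f hf a1 a2 a3))))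
      rcases b3 with b3 | b3
      · exact (hn (mul_mem (mem_sup_right hu0) (mem_sup_left (inT f0 hf0 b1 b2 b3)))).elim
      right
      have c1 : f0⁻¹ * f ∈ X.T t := inT _ (mul_mem (inv_mem hf0) hf) (mul_mem (inv_mem b1) a1)
        (mem_C1.1 (mul_mem (inv_mem (mem_C1.2 b2)) (mem_C1.2 a2)))
        (by rw [X.χ_mul (inv_mem b1) a1, X.χ_inv b1, a3, b3, inv_mul_cancel])
      have c2 : (u0 * f0)⁻¹ * (u * f) ∈ X.T t ⊔ Y.U := by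
        have e : (u0 * f0)⁻¹ * (u * f) = f0⁻¹ * (u0⁻¹ * u) * f0 * (f0⁻¹ * f) := by group
        rw [e]
        exact mul_mem (mem_sup_right (conj_mem' (RU hf0) (mul_mem (inv_mem hu0) hu)))
          (mem_sup_left c1)
      have c3 := conj_mem (RU hp0.1) ((Q_CM Y h hx).2 _ c2)
      convert c3 using 1
      group
    obtain ⟨c, hc2⟩ := hx2
    obtain ⟨u, hu, f, hf, e, a1, a2, a3⟩ :=
      dec _ (conj_mem hg.2 xR).1 (conj_mem hg.2 xR).2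
    rcases a3 with a3 | a3
    · rw [e]; exact mul_mem (mem_sup_right hu) (mem_sup_left (inT f hf a1 a2 a3))
    exfalso
    obtain ⟨k, hk0, hk⟩ := X.exists_act a1
    rw [a3] at hk
    obtain ⟨c0, hc0⟩ : ∃ c0, k * K.σ c0 + c0 ≠ 0 := by
      by_contra! h0
      have k1 : k = 1 := by
        have := h0 1
        rw [map_one, mul_one] at this
        linear_combination this - K.twoF
      refine K.σ_ne (RingEquiv.ext fun x => ?_)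
      have := h0 x
      rw [k1, one_mul] at this
      show K.σ x = x
      linear_combination this - x * K.twoF
    have cm : ∀ e' : E, ∃ b', g * x * g⁻¹ * X.u (e' • c0) 0 * (g * x * g⁻¹)⁻¹ *
        (X.u (e' • c0) 0)⁻¹ = X.u (e' • (k * K.σ c0 + c0)) b' := fun e' => by
      obtain ⟨b', e1⟩ := hk (e' • c0) 0
      have e2 : u * f * X.u (e' • c0) 0 * (u * f)⁻¹ = u * (f * X.u (e' • c0) 0 * f⁻¹) * u⁻¹ := by
        group
      rw [e, e2, e1, conj_eq_of_mem_C (Y.U_S hu) (X.u_mem_S _ _), X.u_inv, X.u_mul, K.σ_smul,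
        mul_smul_comm, ← smul_add]
      exact ⟨_, rfl⟩
    have cm2 : ∀ e' : E, e' ≠ 0 → ∃ b', g * c * g⁻¹ * X.u (e' • (k * K.σ c0 + c0)) b' ∈ Y.U :=
      fun e' he' => by
      obtain ⟨b', e1⟩ := cm e'
      have sR : X.u (e' • c0) 0 ∈ R ⊓ N[X.T t ⊔ Y.U] :=
        ⟨QR (Q0_le Y (mem_sup_left (X.u_mem_S _ _))),
          norm_self _ (Q0_le Y (mem_sup_left (X.u_mem_S _ _)))⟩
      have e2 : X.u (e' • (k * K.σ c0 + c0)) b' = g * (x * (g⁻¹ * X.u (e' • c0) 0 * g) * x⁻¹ *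
          (g⁻¹ * X.u (e' • c0) 0 * g)⁻¹) * g⁻¹ := by rw [← e1]; group
      rcases hc2 _ (conj_mem' hg.2 sR) with h1 | h1
      · have := conj_mem (RU hg.1) h1
        rw [← e2] at this
        exact (smul_ne_zero he' hc0 (uU Y h this)).elim
      · refine ⟨b', ?_⟩
        have := conj_mem (RU hg.1) h1
        rw [e2]
        convert this using 1
        group
    obtain ⟨k', hk'⟩ := K.exists_unit
    obtain ⟨b1, e1⟩ := cm2 1 one_ne_zero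
    obtain ⟨b2, e2⟩ := cm2 k' k'.ne_zero
    have e3 := mul_mem (inv_mem e1) e2
    rw [mul_inv_rev, mul_assoc, inv_mul_cancel_left, X.u_inv, X.u_mul, ← add_smul] at e3
    rcases smul_eq_zero.1 (uU Y h e3) with h1 | h1
    · exact hk' (Units.ext (by
        show (k' : E) = 1
        linear_combination h1 - K.two))
    · exact hc0 h1
  -- `R ⊓ C(U)` is a Sylow subgroup of `C(U)` and its commutators lie in `S`
  have RQ : R ≤ N[X.T t ⊔ Y.U] := hRN.ge.trans inf_le_right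
  have cmR : ∀ x ∈ R ⊓ C[Y.U], ∀ y ∈ R ⊓ C[Y.U], x * y * x⁻¹ * y⁻¹ ∈ X.S := fun x hx y hy => by
    obtain ⟨u, hu, f, hf, rfl, a1, a2, a3⟩ := dec x hx.1 (RQ hx.1)
    obtain ⟨u0, hu0, f0, hf0, rfl, b1, b2, b3⟩ := dec y hy.1 (RQ hy.1)
    have fC : f ∈ C[Y.U] := by simpa using mul_mem (inv_mem (Y.abl.le_C hu)) hx.2
    have fC0 : f0 ∈ C[Y.U] := by simpa using mul_mem (inv_mem (Y.abl.le_C hu0)) hy.2
    have e : u * f * (u0 * f0) * (u * f)⁻¹ * (u0 * f0)⁻¹ = f * f0 * f⁻¹ * f0⁻¹ := by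
      have h1 : u * f * (u0 * f0) * (u * f)⁻¹ = f * (u0 * f0) * f⁻¹ := by
        rw [mem_C.1 fC u hu, mul_assoc f, mem_C.1 hy.2 u hu]; group
      have h2 : f * (u0 * f0) * f⁻¹ = f * f0 * f⁻¹ * u0 := by
        rw [mem_C.1 fC0 u0 hu0, mul_assoc _ f⁻¹, ← mem_C.1 (inv_mem fC) u0 hu0]; group
      rw [h1, h2, mem_C.1 fC0 u0 hu0]; group
    rw [e]
    have hT : f * f0 * f⁻¹ * f0⁻¹ ∈ X.T t := by
      refine inT _ (mul_mem (mul_mem (mul_mem hf hf0) (inv_mem hf)) (inv_mem hf0))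
        (mul_mem (mul_mem (mul_mem a1 b1) (inv_mem a1)) (inv_mem b1))
        (mem_C1.1 (mul_mem (mul_mem (mul_mem (mem_C1.2 a2) (mem_C1.2 b2)) (inv_mem (mem_C1.2 a2)))
          (inv_mem (mem_C1.2 b2)))) ?_
      rw [X.χ_mul (mul_mem (mul_mem a1 b1) (inv_mem a1)) (inv_mem b1),
        X.χ_mul (mul_mem a1 b1) (inv_mem a1), X.χ_mul a1 b1, X.χ_inv a1, X.χ_inv b1]
      rcases a3 with a3 | a3 <;> rcases b3 with b3 | b3 <;> rw [a3, b3] <;> group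
    rcases (h.toSc.mem_T X).1 hT with h1 | h1
    · exact h1
    · refine (t_nC Y h ?_).elim
      have := mul_mem (S_CU Y h1)
        (inv_mem (mul_mem (mul_mem (mul_mem fC fC0) (inv_mem fC)) (inv_mem fC0)))
      rwa [mul_inv_cancel_right] at this
  have NR : N[R ⊓ C[Y.U]] ≤ N[X.Z] := fun g hg => mem_N_of_finite fun z hz => by
    obtain ⟨b, rfl⟩ := X.mem_Z.1 hz
    obtain ⟨c, e⟩ := K.B_surj (one_ne_zero (α := F)) b
    have m : ∀ a, X.u a 0 ∈ R ⊓ C[Y.U] := fun a =>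
      ⟨QR (Q0_le Y (mem_sup_left (X.u_mem_S _ _))), S_CU Y (X.u_mem_S _ _)⟩
    refine X.mem_Z_of_sq ?_ (by rw [conj_mul, X.z_sq]; group)
    have e1 := cmS Y h (one_mem Y.U) (.inl (mul_one (X.u 1 0)).symm) c
    have := cmR _ (conj_mem hg (m 1)) _ (conj_mem hg (m c))
    rw [← e, ← e1]
    convert this using 1
    group
  have hS : Syl 2 C[Y.U] (R ⊓ C[Y.U]) :=
    hR.inf_nml ⟨le_sup_left, sup_le (norm_self _) tN⟩
  refine Y.NU h hc ?_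
  rw [← (Frattini_arg p2 ⟨C_le_N _, N_le_NC _⟩ hS).sup_eq]
  exact sup_le ((CU_CZ Y).trans (C_le_N _)) (inf_le_right.trans NR)

end H2.U3
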