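import Mathlib
import Cfsg.Agent.H2.UDefs
import Cfsg.Agent.H2.UD1

/-!
# Standard `U₃(q)`, case `c = 0`: the group `P₀` of order `q⁶`
-/

set_option autoImplicit false
set_option linter.unusedVariables false
set_option linter.unusedSectionVars false

namespace H2.U3

open Cfsg H24 Subgroup
open H2.SZ (St DD Goal)
open H2.C2 (Cl2)

universe u v

variable {G : Type u} [Group G] [Finite G] {E F : Type*} [Field E] [Fintype E] [Field F] [Fintype F]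
  [Algebra E F] {K : UF E F} {L G0 D P P0 Q R A B C H T M W W1 W2 Z1 Z2 : Subgroup G}
  {t g s f x y i v p : G} {X : UD K L} {a k : F} {b : E} {ρ : F ≃+* F}

local notation "𝐪" => Fintype.card E

namespace UD2

open UD1

variable (Y : YD X t D) {u u' : G} {a' : F} {b' : E}

/-- the elements of `N(Q) ⊓ C(Z)` centralising `S U / U` -/
def C2 : Subgroup G := C[X.Z] ⊓ N[X.T t ⊔ Y.U] ⊓ CM Y.U X.S

open Classical in
/-- the class of `t · g t g⁻¹` in `S U / U` -/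
noncomputable def sv (g : G) : F :=
  if h : ∃ a, ∃ u ∈ Y.U, g * t * g⁻¹ = t * X.u a 0 * u then h.choose else 0

theorem ueq (h : Lc X G0 t D) (hu : u ∈ Y.U) (hu' : u' ∈ Y.U) (e : X.u a b * u = X.u a' b' * u') :
    a = a' := by
  have h1 : (X.u a b)⁻¹ * X.u a' b' = u * u'⁻¹ := by
    rw [eq_mul_inv_iff_mul_eq, mul_assoc, ← e]; group
  have h2 := mul_mem hu (inv_mem hu')
  rw [← h1, X.u_inv, X.u_mul] at h2
  linear_combination uU Y h h2 - K.addF a'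

theorem sv_eq (h : Lc X G0 t D) (hu : u ∈ Y.U) (e : g * t * g⁻¹ = t * X.u a b * u) : sv Y g = a := by
  have h0 : ∃ a, ∃ u ∈ Y.U, g * t * g⁻¹ = t * X.u a 0 * u :=
    ⟨a, X.z b * u, mul_mem (Y.Z_le (X.z_mem_Z b)) hu, by rw [e, X.u_eq a b]; group⟩
  rw [sv, dif_pos h0]
  obtain ⟨u', hu', e'⟩ := h0.choose_spec
  have e2 := e.symm.trans e'
  rw [mul_assoc, mul_assoc, mul_right_inj] at e2
  exact (ueq Y h hu hu' e2).symm

theorem sv_spec (h : Lc X G0 t D) (hc : Y.c = 0) (hg : g ∈ N[X.T t ⊔ Y.U]) :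
    ∃ u ∈ Y.U, g * t * g⁻¹ = t * X.u (sv Y g) 0 * u := by
  obtain ⟨a, u, hu, e | e⟩ := mem_Q' Y h (conj_mem hg (t_Q Y))
  · refine (t_nC Y h (Q0_C Y ((conj_mem_iff (Y.NQ h hc hg).2).1 ?_))).elim
    rw [e]; exact mul_mem (mem_sup_left (X.u_mem_S _ _)) (mem_sup_right hu)
  · exact ⟨u, hu, by rw [sv_eq Y h hu e, e]⟩

theorem sv_t (h : Lc X G0 t D) (e : g * t = t * g) : sv Y g = 0 :=
  sv_eq Y h (b := 0) (one_mem _) (by rw [e, X.u_zero]; group)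

theorem sv_mul (h : Lc X G0 t D) (hc : Y.c = 0) (hg : g ∈ C2 Y) (hx : x ∈ N[X.T t ⊔ Y.U]) :
    sv Y (g * x) = sv Y g + sv Y x := by
  obtain ⟨u, hu, e⟩ := sv_spec Y h hc hg.1.2
  obtain ⟨u', hu', e'⟩ := sv_spec Y h hc hx
  have h1 := mul_mem hu (hg.2.2 _ (X.u_mem_S (sv Y x) 0))
  refine sv_eq Y h (mul_mem h1 (conj_mem hg.2.1 hu')) (b := 0 + 0 + K.β (sv Y g) (sv Y x)) ?_
  have h2 := mem_C.1 (Y.U_S h1) _ (X.u_mem_S (sv Y x) 0)
  calc g * x * t * (g * x)⁻¹ = g * (x * t * x⁻¹) * g⁻¹ := by group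
    _ = g * t * g⁻¹ * (g * X.u (sv Y x) 0 * g⁻¹) * (g * u' * g⁻¹) := by rw [e']; group
    _ = t * X.u (sv Y g) 0 * (u * (g * X.u (sv Y x) 0 * g⁻¹ * (X.u (sv Y x) 0)⁻¹) *
        X.u (sv Y x) 0) * (g * u' * g⁻¹) := by rw [e]; group
    _ = _ := by rw [← h2, ← X.u_mul]; group

theorem sv_left (h : Lc X G0 t D) (hc : Y.c = 0) (hx : x ∈ N[X.T t ⊔ Y.U]) (ft : f * t = t * f)
    (fU : f ∈ N[Y.U]) (e : f * X.u (sv Y x) 0 * f⁻¹ = X.u a b) : sv Y (f * x) = a := by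
  obtain ⟨u, hu, e'⟩ := sv_spec Y h hc hx
  refine sv_eq Y h (conj_mem fU hu) (b := b) ?_
  calc f * x * t * (f * x)⁻¹ = f * (x * t * x⁻¹) * f⁻¹ := by group
    _ = f * t * f⁻¹ * (f * X.u (sv Y x) 0 * f⁻¹) * (f * u * f⁻¹) := by rw [e']; group
    _ = _ := by rw [e, ft]; group

theorem sv_right (ft : f * t = t * f) : sv Y (x * f) = sv Y x := by
  have e : x * f * t * (x * f)⁻¹ = x * t * x⁻¹ := by rw [mul_assoc x, ft]; group
  unfold sv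
  rw [e]

theorem sv_conj (h : Lc X G0 t D) (hc : Y.c = 0) (hx : x ∈ N[X.T t ⊔ Y.U]) (ft : f * t = t * f)
    (fU : f ∈ N[Y.U]) (e : f * X.u (sv Y x) 0 * f⁻¹ = X.u a b) : sv Y (f * x * f⁻¹) = a := by
  rw [sv_right Y (mem_C1.1 (inv_mem (mem_C1.2 ft))), sv_left Y h hc hx ft fU e]

theorem zero (h : Lc X G0 t D) (hc : Y.c = 0) (hg : g ∈ N[X.T t ⊔ Y.U]) (e : sv Y g = 0) :
    ∃ b, g * t * g⁻¹ = t * X.z b := by
  obtain ⟨u, hu, e'⟩ := sv_spec Y h hc hg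
  rw [e, X.u_zero, mul_one] at e'
  have h1 := Y.tu_sq h hu
  rw [← e', conj_mul, h.tt, hc, zero_add, one_mul, mul_one, mul_inv_cancel] at h1
  obtain ⟨b, rfl⟩ := X.mem_Z.1 (Y.ker u hu (X.z_eq_one.1 h1.symm))
  exact ⟨b, e'⟩

theorem nQ (hf : f ∈ N[X.S]) (ft : f * t = t * f) : f ∈ N[X.T t ⊔ Y.U] :=
  N_sup (N_sup (norm_zpowers_of_cent le_rfl (mem_C1.2 ft)) hf) (Y.nrm f hf ft)

theorem nC2 (hf : f ∈ N[X.S]) (ft : f * t = t * f) : f ∈ N[C2 Y] :=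
  N_inf (N_inf (N_le_NC _ (X.NS_le_NZ hf)) (norm_self _ (nQ Y hf ft))) (norm_CM (Y.nrm f hf ft) hf)

theorem act1 (h : Lc X G0 t D) (hg : g ∈ C2 Y) (hS : g ∈ N[X.S]) : X.Act g 1 1 := by
  refine ⟨one_ne_zero, fun a b => ?_⟩
  obtain ⟨a', b', e⟩ := X.mem_S.1 (conj_mem hS (X.u_mem_S a b))
  have h1 := hg.2.2 _ (X.u_mem_S a b)
  rw [e, X.u_inv, X.u_mul] at h1
  have h2 : a' = a := by linear_combination uU Y h h1 - K.addF a
  exact ⟨b', by rw [e, h2, one_mul]; rfl⟩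

theorem ct_T (h : Lc X G0 t D) (hg : g ∈ C2 Y) (gt : g * t = t * g) (h2 : PiElt {2} g) :
    g ∈ X.T t := by
  have hS : g ∈ N[X.S] := X.norm_S (h.Ct g gt) one_ne_zero (by
    rw [conj_eq_of_mem_C hg.1.1 (X.z_mem_Z 1)]; exact X.Z_le_S (X.z_mem_Z 1))
  exact h.two_T hS gt h2 (act1 Y h hg hS).χ_eq

theorem Q_C2 (h : Lc X G0 t D) : X.T t ⊔ Y.U ≤ C2 Y := fun x hx =>
  ⟨⟨Q_CZ Y h hx, norm_self _ hx⟩, (Q_CM Y h hx).1, fun p hp =>
    (Q_CM Y h hx).2 p (Q0_le Y (mem_sup_left hp))⟩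

theorem D_CQ (h : Lc X G0 t D) : D ≤ C[X.T t ⊔ Y.U] :=
  cents_sup (cents_sup (by rw [C_zpowers]; exact h.D_t) (h.D_L.trans (C_anti X.S_le)))
    (cents_symm Y.U_D)

theorem D_C2 (h : Lc X G0 t D) : D ≤ C2 Y := fun x hx =>
  ⟨⟨C_anti (Y.Z_le.trans le_sup_right) (D_CQ Y h hx), C_le_N _ (D_CQ Y h hx)⟩,
    C_le_N _ (cents_symm Y.U_D hx), fun p hp => by
      rw [conj_eq_of_mem_C (D_CQ Y h hx) (Q0_le Y (mem_sup_left hp)), mul_inv_cancel]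
      exact one_mem _⟩

theorem kerC (h : Lc X G0 t D) (hc : Y.c = 0) (hg : g ∈ C2 Y) (e : sv Y g = 0) :
    ∃ q ∈ X.T t ⊔ Y.U, ∃ d ∈ D, g = q * d := by
  obtain ⟨b, e'⟩ := zero Y h hc hg.1.2 e
  obtain ⟨u, hu, h1, h2⟩ := Y.NE h (C_le_N _ hg.1.1) e'
  obtain ⟨r, hr, d, hd, e2⟩ := h.act_T
    (act1 Y h (mul_mem (inv_mem (Q_C2 Y h (mem_sup_right hu))) hg) h1) (mem_C1.1 h2)
  exact ⟨u * r, mul_mem (mem_sup_right hu) (mem_sup_left hr), d, hd, by rw [mul_assoc, ← e2]; group⟩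

/-- the kernel of `sv` -/
def K0 (h : Lc X G0 t D) (hc : Y.c = 0) : Subgroup G where
  carrier := {g | g ∈ C2 Y ∧ sv Y g = 0}
  one_mem' := ⟨one_mem _, sv_t Y h (by group)⟩
  mul_mem' := fun {x y} hx hy =>
    ⟨mul_mem hx.1 hy.1, by rw [sv_mul Y h hc hx.1 hy.1.1.2, hx.2, hy.2, add_zero]⟩
  inv_mem' := fun {x} hx => ⟨inv_mem hx.1, by
    have := sv_mul Y h hc hx.1 (inv_mem hx.1).1.2
    rw [hx.2, zero_add, mul_inv_cancel, sv_t Y h (by group)] at this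
    exact this.symm⟩

theorem sv_inv (h : Lc X G0 t D) (hc : Y.c = 0) (hg : g ∈ C2 Y) : sv Y g⁻¹ = sv Y g := by
  have := sv_mul Y h hc hg (inv_mem hg).1.2
  rw [mul_inv_cancel, sv_t Y h (by group)] at this
  linear_combination -this - K.addF (sv Y g)

theorem odd_mem2 (h : PiElt {2}ᶜ g) (m : g * g ∈ H) : g ∈ H := by
  have ho : Odd (orderOf g) := Nat.odd_iff.2 (Nat.two_dvd_ne_zero.1 fun hd =>
    h 2 Nat.prime_two hd rfl)
  obtain ⟨n, hn⟩ := ho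
  have e : g = (g * g) ^ (n + 1) := by
    rw [← sq, ← pow_mul, show 2 * (n + 1) = orderOf g + 1 by omega, pow_succ, pow_orderOf_eq_one,
      one_mul]
  rw [e]; exact pow_mem m _

theorem oddD (h : Lc X G0 t D) (hc : Y.c = 0) (hg : g ∈ C2 Y) (ho : PiElt {2}ᶜ g) : g ∈ D := by
  have h1 : g ∈ K0 Y h hc := odd_mem2 ho
    ⟨mul_mem hg hg, by rw [sv_mul Y h hc hg hg.1.2, K.addF]⟩
  obtain ⟨q, hq, d, hd, e⟩ := kerC Y h hc hg h1.2
  have c1 := mem_C.1 (D_CQ Y h hd) q hq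
  have h2 : PiElt {2}ᶜ (g * d⁻¹) := ho.mul (h.odd.piElt hd).inv (by
    rw [e]
    calc q * d * d⁻¹ = d⁻¹ * (d * q) := by group
      _ = _ := by rw [c1])
  rw [e, mul_inv_cancel_right] at h2
  rw [e, ((pi_Q Y h).piElt hq).eq_one h2, one_mul]
  exact hd

/-- the action on `S U / U` -/
def Ac (g : G) (φ : F → F) : Prop :=
  ∀ a b, ∃ b', ∃ u ∈ Y.U, g * X.u a b * g⁻¹ = X.u (φ a) b' * u

theorem ac_eq {φ : F → F} (hx : Ac Y x φ) (hy : Ac Y y φ) (nx : x ∈ N[Y.U]) (ny : y ∈ N[Y.U]) :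
    x⁻¹ * y ∈ CM Y.U X.S := by
  refine ⟨mul_mem (inv_mem nx) ny, fun p hp => ?_⟩
  obtain ⟨a, b, rfl⟩ := X.mem_S.1 hp
  obtain ⟨b1, u1, h1, e1⟩ := hx a b
  obtain ⟨b2, u2, h2, e2⟩ := hy a b
  have e : x⁻¹ * y * X.u a b * (x⁻¹ * y)⁻¹ * (X.u a b)⁻¹ =
      x⁻¹ * (y * X.u a b * y⁻¹ * (x * X.u a b * x⁻¹)⁻¹) * x := by group
  rw [e, e1, e2, X.u_eq _ b1, X.u_eq _ b2]
  refine conj_mem' nx ?_
  have := conj_mem (C_le_N _ (S_CU Y (X.u_mem_S (φ a) 0)))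
    (mul_mem (mul_mem (Y.Z_le (X.z_mem_Z b2)) h2) (inv_mem (mul_mem (Y.Z_le (X.z_mem_Z b1)) h1)))
  convert this using 1
  group

theorem exists_ac (h : Lc X G0 t D) (hc : Y.c = 0) (hg : g ∈ N[X.T t ⊔ Y.U]) (hz : g ∈ C[X.Z]) :
    ∃ α : F → F, Ac Y g α ∧ ∀ (e : E) a, α (e • a) = e • α a := by
  have h0 : ∀ a, ∃ a', ∃ u ∈ Y.U, g * X.u a 0 * g⁻¹ = X.u a' 0 * u := fun a =>
    (Y.mem_Q0 h).1 (conj_mem (Y.NQ h hc hg).2 (mem_sup_left (X.u_mem_S a 0)))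
  choose α U hU e using h0
  have ac : Ac Y g α := fun a b => ⟨0, U a * X.z b, mul_mem (hU a) (Y.Z_le (X.z_mem_Z b)), by
    rw [X.u_eq a b, ← conj_mul, e, conj_eq_of_mem_C hz (X.z_mem_Z b), mul_assoc]⟩
  have add : ∀ a c, α (a + c) = α a + α c := fun a c => by
    obtain ⟨b', u, hu, e'⟩ := ac (a + c) (0 + 0 + K.β a c)
    rw [← X.u_mul, ← conj_mul, e, e] at e'
    refine (ueq Y h (mul_mem (hU a) (hU c)) hu (b := 0 + 0 + K.β (α a) (α c)) (b' := b') ?_).symm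
    rw [← e', ← X.u_mul, mul_assoc, mul_assoc, ← mul_assoc (U a),
      ← mem_C.1 (Y.U_S (hU a)) _ (X.u_mem_S (α c) 0), mul_assoc]
  have nm : ∀ a, K.nm (α a) = K.nm a := fun a => by
    have h1 : g * X.u a 0 * g⁻¹ * (g * X.u a 0 * g⁻¹) = X.z (K.nm a) := by
      rw [conj_mul, X.u_sq, conj_eq_of_mem_C hz (X.z_mem_Z _)]
    have h2 := Y.sq _ (hU a)
    rw [hc, zero_mul, X.z_zero] at h2
    rw [e, mul_assoc, ← mul_assoc (U a), ← mem_C.1 (Y.U_S (hU a)) _ (X.u_mem_S (α a) 0), mul_assoc,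
      h2, mul_one, X.u_sq] at h1
    exact X.z_inj h1
  refine ⟨α, ac, fun e a => ?_⟩
  rcases K.isom (AddMonoidHom.mk' α add) nm with h1 | h1
  · have h2 : ∀ x, α x = α 1 * x := h1
    rw [h2, h2 a, mul_smul_comm]
  · have h2 : ∀ x, α x = α 1 * K.σ x := h1
    rw [h2, h2 a, K.σ_smul, mul_smul_comm]

theorem sv_onto (h : Lc X G0 t D) (hc : Y.c = 0) (hg : g ∈ N[X.T t ⊔ Y.U])
    (hz : g ∈ C[X.Z]) (hm : ∀ b, g * t * g⁻¹ ≠ t * X.z b) (a : F) : ∃ x ∈ C2 Y, sv Y x = a := by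
  let I : AddSubgroup F :=
    { carrier := {a | ∃ x ∈ C2 Y, sv Y x = a}
      zero_mem' := ⟨1, one_mem _, sv_t Y h (by group)⟩
      add_mem' := by
        rintro _ _ ⟨x, hx, rfl⟩ ⟨y, hy, rfl⟩
        exact ⟨x * y, mul_mem hx hy, sv_mul Y h hc hx hy.1.2⟩
      neg_mem' := by
        rintro _ ⟨x, hx, rfl⟩
        exact ⟨x, hx, by linear_combination K.addF (sv Y x)⟩ }
  have ht : ∀ k, X.h k * t = t * X.h k := fun k => h.toSc.tu (X.h_mem k)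
  have hI : I = ⊤ := by
    refine K.subF I ?_ ?_ ?_
    · rintro k _ ⟨x, hx, rfl⟩
      exact ⟨_, conj_mem (nC2 Y (X.h_NS k) (ht k)) hx,
        sv_conj Y h hc hx.1.2 (ht k) (Y.h_U h k) (X.h_u k _ 0)⟩
    · rintro _ ⟨x, hx, rfl⟩
      have wt := h.toSc.tu X.w_mem
      exact ⟨_, conj_mem (nC2 Y X.w_NS wt) hx,
        sv_conj Y h hc hx.1.2 wt (Y.nrm _ X.w_NS wt) (X.w_u _ 0)⟩
    · intro hb
      obtain ⟨k, hk⟩ := K.exists_unit
      obtain ⟨α, ac, lin⟩ := exists_ac Y h hc hg hz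
      have gU : g ∈ N[Y.U] := (Y.NQ h hc hg).1.2
      have kU := Y.h_U h k
      have kQ := nQ Y (X.h_NS k) (ht k)
      have a1 : Ac Y (g * X.h k) fun a => (k : E) • α a := fun a b => by
        obtain ⟨b', u, hu, e⟩ := ac ((k : E) • a) ((k : E) ^ 2 * b)
        exact ⟨b', u, hu, by beta_reduce; rw [← lin, ← e, ← X.h_u]; group⟩
      have a2 : Ac Y (X.h k * g) fun a => (k : E) • α a := fun a b => by
        obtain ⟨b', u, hu, e⟩ := ac a b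
        exact ⟨_, _, conj_mem kU hu, by rw [← X.h_u, conj_mul, ← e]; group⟩
      have m : (g * X.h k)⁻¹ * (X.h k * g) ∈ C2 Y := by
        refine mem_inf.2 ⟨mem_inf.2 ⟨?_, mul_mem (inv_mem (mul_mem hg kQ)) (mul_mem kQ hg)⟩,
          ac_eq Y a1 a2 (mul_mem gU kU) (mul_mem kU gU)⟩
        have := mul_mem (conj_mem' (N_le_NC _ (X.NS_le_NZ (X.h_NS k))) (inv_mem hz)) hz
        convert this using 1
        group
      have z0 : sv Y ((g * X.h k)⁻¹ * (X.h k * g)) = 0 := by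
        have : sv Y ((g * X.h k)⁻¹ * (X.h k * g)) ∈ I := ⟨_, m, rfl⟩
        rwa [hb] at this
      obtain ⟨b, e1⟩ := zero Y h hc m.1.2 z0
      obtain ⟨u, hu, e2⟩ := sv_spec Y h hc (mul_mem hg kQ)
      have s1 : sv Y (X.h k * g) = sv Y (g * X.h k) := by
        refine sv_eq Y h (mul_mem hu (conj_mem (mul_mem gU kU) (Y.Z_le (X.z_mem_Z b)))) (b := 0) ?_
        rw [← mul_assoc _ u, ← e2, conj_mul, ← e1]; group
      rw [sv_right Y (ht k), sv_left Y h hc hg (ht k) kU (X.h_u k _ 0)] at s1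
      have s2 : ((k : E) - 1) • sv Y g = 0 := by rw [sub_smul, s1, one_smul, sub_self]
      rcases smul_eq_zero.1 s2 with h1 | h1
      · exact hk (Units.ext (sub_eq_zero.1 h1))
      · obtain ⟨b, e⟩ := zero Y h hc hg h1
        exact hm b e
  have : a ∈ I := hI ▸ AddSubgroup.mem_top a
  exact this

end UD2

open UD1 UD2

theorem YD.exists_pz (Y : YD X t D) (h : Lc X G0 t D) (hc : Y.c = 0) (hg : g ∈ N[X.T t ⊔ Y.U])
    (hz : g ∈ C[X.Z]) (hm : ∀ b, g * t * g⁻¹ ≠ t * X.z b) : ∃ P0 s, PZ Y P0 s := by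
  have ht : ∀ k, X.h k * t = t * X.h k := fun k => h.toSc.tu (X.h_mem k)
  obtain ⟨R, piR, RC, RD, two, NR, dec⟩ := h.lift (Q_C2 Y h (t_Q Y)) (D_C2 Y h)
    (fun g hg => ct_T Y h hg) (fun k => nC2 Y (X.h_NS k) (ht k)) (fun g hg => oddD Y h hc hg)
  have QR : X.T t ⊔ Y.U ≤ R := fun x hx => two x (Q_C2 Y h hx) ((pi_Q Y h).piElt hx)
  have tQ : t ∉ X.S ⊔ Y.U := fun m => t_nC Y h (Q0_C Y m)
  have ker : ∀ x ∈ R, sv Y x = 0 → x ∈ X.T t ⊔ Y.U := fun x hx e => by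
    obtain ⟨q, hq, d, hd, e'⟩ := kerC Y h hc (RC hx) e
    have h1 : d ∈ R := by simpa [e'] using mul_mem (inv_mem (QR hq)) hx
    rw [e', (piR.piElt h1).eq_one (h.odd.piElt hd), mul_one]
    exact hq
  have tN0 : t ∈ N[X.S ⊔ Y.U] := N_sup (C_le_N _ (tS h)) (Y.t_N h)
  have sqQ : ∀ x ∈ X.T t ⊔ Y.U, x * x ∈ X.S ⊔ Y.U := fun x hx => by
    rcases mem_Q Y h hx with h1 | h1
    · exact mul_mem h1 h1
    · have := mul_mem (conj_mem' tN0 h1) h1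
      rwa [show t⁻¹ * (t * x) * t * (t * x) = x * (t * t) * x by group, h.tt, mul_one] at this
  have sq : ∀ x ∈ R, x * x ∈ X.S ⊔ Y.U := fun x hx => by
    have xC := RC hx
    rcases mem_Q Y h (ker _ (mul_mem hx hx) (by rw [sv_mul Y h hc xC xC.1.2, K.addF])) with h1 | h1
    · exact h1
    refine sqQ x (ker x hx ?_)
    have h2 : x ∈ CM Y.U (X.S ⊔ Y.U) :=
      CM_sup (A := zpowers x) (zpowers_le.2 xC.2) (zpowers_le.2 (N_le_CM _ xC.2.1))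
        (norm_of_cent (S_CU Y)) (norm_self _) (mem_zpowers x)
    have h4 : t⁻¹ = t := inv_eq_of_mul_eq_one_right h.tt
    refine sv_eq Y h (b := 0) (inv_mem (h2.2 _ h1)) ?_
    rw [X.u_zero, mul_one]
    calc x * t * x⁻¹ = t * t * x * t⁻¹ * x⁻¹ := by rw [h.tt, h4, one_mul]
      _ = _ := by group
  obtain ⟨P0, QP, PR, tP, idx, nrm⟩ := h.split piR (QR (t_Q Y))
    (fun x hx => ct_T Y h (RC hx.1) (mem_C1.1 hx.2) (piR.piElt hx.1)) RD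
    (fun g hg gt => NR (nC2 Y hg gt)) ((Q0_le Y).trans QR) tQ
    (fun g hg gt => N_sup hg (Y.nrm g hg gt)) sq
    (fun x hx s hs => mem_sup_right ((RC hx).2.2 s hs))
  have onto : ∀ a, ∃ g ∈ P0, sv Y g = a := fun a => by
    obtain ⟨x, hx, e⟩ := sv_onto Y h hc hg hz hm a
    obtain ⟨r, hr, d, hd, rfl⟩ := dec x hx
    rw [sv_right Y (mem_C1.1 (h.D_t hd))] at e
    rcases idx r hr with h1 | h1
    · exact ⟨r, h1, e⟩
    · exact ⟨_, h1, by rw [sv_right Y rfl, e]⟩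
  have ker0 : ∀ g ∈ P0, sv Y g = 0 → g ∈ X.S ⊔ Y.U := fun x hx e => by
    rcases mem_Q Y h (ker x (PR hx) e) with h1 | h1
    · exact h1
    · exact (tP (by simpa using mul_mem (QP h1) (inv_mem hx))).elim
  refine ⟨P0, sv Y, hc, le_sup_left.trans QP, le_sup_right.trans QP, fun x hx => ?_,
    fun x hx => sq x (PR hx), fun x hx => (RC (PR hx)).2.2,
    fun x hx => sv_spec Y h hc (RC (PR hx)).1.2, onto, ker0, nrm, PR.trans RD⟩
  have wt := h.toSc.tu X.w_mem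
  have w1 : 1 + K.w ≠ 0 := fun e => K.w1 (by linear_combination e - K.twoF)
  obtain ⟨y, hy, e⟩ := onto (sv Y x / (1 + K.w))
  have yC := RC (PR hy)
  have wy := conj_mem (nrm _ X.w_NS wt) hy
  have wC : X.w ∈ C[Y.U] := mem_C_iff_le_C1.2 Y.U_w
  have m1 : y⁻¹ * (X.w * y * X.w⁻¹) ∈ C[Y.U] := by
    have := mul_mem (conj_mem' (N_le_NC _ yC.2.1) wC) (inv_mem wC)
    convert this using 1
    group
  have m2 : y⁻¹ * (X.w * y * X.w⁻¹) ∈ P0 := mul_mem (inv_mem hy) wy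
  have s1 : sv Y (y⁻¹ * (X.w * y * X.w⁻¹)) = sv Y x := by
    rw [sv_mul Y h hc (inv_mem yC) (RC (PR wy)).1.2, sv_inv Y h hc yC,
      sv_conj Y h hc yC.1.2 wt (Y.nrm _ X.w_NS wt) (X.w_u _ 0), e]
    field_simp
  have m3 := Q0_C Y (ker0 _ (mul_mem m2 hx) (by
    rw [sv_mul Y h hc (RC (PR m2)) (RC (PR hx)).1.2, s1, K.addF]))
  have := mul_mem (inv_mem m1) m3
  rwa [inv_mul_cancel_left] at this

end H2.U3
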