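import Mathlib
import Cfsg.Agent.H2.UDefs
import Cfsg.Agent.H2.UY

set_option autoImplicit false
set_option linter.unusedVariables false
set_option linter.unusedSectionVars false

namespace H2.U3

open Cfsg H24 Subgroup
open H2.SZ (St DD Goal)
open H2.C2 (Cl2)

universe u v

variable {G : Type u} [Group G] [Finite G] {E F : Type*} [Field E] [Fintype E] [Field F] [Fintype F]
  [Algebra E F] {K : UF E F} {L G0 D P P0 Q R A B C H T M W W1 W2 Z1 Z2 : Subgroup G}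
  {t g s f x y i v p : G} {X : UD K L} {a k : F} {b : E} {ρ : F ≃+* F}

local notation "𝐪" => Fintype.card E

/-! ### UD3 -/

namespace UD3x

/-- extension of an additive function over an elementary abelian section -/
theorem ext {A0 : Type*} [AddCommGroup A0] (h1 : A ≤ Q) (h2 : Q ≤ P) (sq : ∀ x ∈ P, x * x ∈ A)
    (f0 : G → A0) (add : ∀ x ∈ Q, ∀ y ∈ Q, f0 (x * y) = f0 x + f0 y) (z : ∀ u ∈ A, f0 u = 0) :
    ∃ f : G → A0, (∀ x ∈ P, ∀ y ∈ P, f (x * y) = f x + f y) ∧ ∀ x ∈ Q, f x = f0 x := by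
  classical
  have cm : ∀ a ∈ P, ∀ b ∈ P, a * b * a⁻¹ * b⁻¹ ∈ A := fun a ha b hb => by
    have := mul_mem (mul_mem (sq a ha) (sq _ (mul_mem (inv_mem ha) hb))) (inv_mem (sq b hb))
    rwa [show a * a * (a⁻¹ * b * (a⁻¹ * b)) * (b * b)⁻¹ = a * b * a⁻¹ * b⁻¹ by group] at this
  obtain ⟨R, -, ⟨r1, r2, f, fa, f1⟩, hm⟩ := Finite.exists_le_maximal
    (p := fun R : Subgroup G => R ≤ P ∧ Q ≤ R ∧ ∃ f : G → A0,
      (∀ x ∈ R, ∀ y ∈ R, f (x * y) = f x + f y) ∧ ∀ x ∈ Q, f x = f0 x) ⟨h2, le_rfl, f0, add, fun _ _ => rfl⟩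
  suffices P ≤ R from ⟨f, fun x hx y hy => fa x (this hx) y (this hy), f1⟩
  intro x hx
  by_contra xR
  have AR : A ≤ R := h1.trans r2
  have fz : ∀ a ∈ R, ∀ u ∈ A, f (a * u) = f a := fun a ha u hu => by
    rw [fa a ha u (AR hu), f1 u (h1 hu), z u hu, add_zero]
  have mP : ∀ y, y * x ∈ R → y ∈ P := fun y hy => (mul_mem_cancel_right hx).1 (r1 hy)
  have e3 : ∀ y y' : G, y * y' * x = y * x * y' * (y'⁻¹ * x⁻¹ * y'⁻¹⁻¹ * x⁻¹⁻¹) := fun y y' => by group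
  have e4 : ∀ y y' : G, y * y' = y * x * (y' * x) * ((x * x)⁻¹ * (x * y'⁻¹ * x⁻¹ * y'⁻¹⁻¹)) :=
    fun y y' => by group
  have m3 : ∀ y' ∈ P, y'⁻¹ * x⁻¹ * y'⁻¹⁻¹ * x⁻¹⁻¹ ∈ A := fun y' h => cm _ (inv_mem h) _ (inv_mem hx)
  have m4 : ∀ y' ∈ P, (x * x)⁻¹ * (x * y'⁻¹ * x⁻¹ * y'⁻¹⁻¹) ∈ A := fun y' h =>
    mul_mem (inv_mem (sq x hx)) (cm _ hx _ (inv_mem h))
  let R' : Subgroup G :=
    { carrier := {y | y ∈ R ∨ y * x ∈ R}
      one_mem' := .inl (one_mem _)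
      mul_mem' := by
        rintro y y' (hy | hy) (hy' | hy')
        · exact .inl (mul_mem hy hy')
        · exact .inr (by rw [mul_assoc]; exact mul_mem hy hy')
        · exact .inr (by rw [e3]; exact mul_mem (mul_mem hy hy') (AR (m3 _ (r1 hy'))))
        · exact .inl (by rw [e4]; exact mul_mem (mul_mem hy hy') (AR (m4 _ (mP _ hy'))))
      inv_mem' := by
        rintro y (hy | hy)
        · exact .inl (inv_mem hy)
        · refine .inr ?_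
          rw [show y⁻¹ * x = (y * y)⁻¹ * (y * x) by group]
          exact mul_mem (AR (inv_mem (sq _ (mP _ hy)))) hy }
  refine xR (hm (y := R') ⟨?_, fun y hy => .inl (r2 hy), fun y => if y ∈ R then f y else f (y * x),
    ?_, fun y hy => by simp only [if_pos (r2 hy), f1 y hy]⟩ (fun y hy => .inl hy) (.inr (AR (sq x hx))))
  · rintro y (hy | hy)
    exacts [r1 hy, mP y hy]
  intro y hy y' hy'
  by_cases c : y ∈ R <;> by_cases c' : y' ∈ R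
  · simp only [if_pos c, if_pos c', if_pos (mul_mem c c'), fa y c y' c']
  · have : y * y' ∉ R := fun e => c' ((mul_mem_cancel_left c).1 e)
    simp only [if_pos c, if_neg c', if_neg this]
    rw [mul_assoc, fa y c _ (hy'.resolve_left c')]
  · have : y * y' ∉ R := fun e => c ((mul_mem_cancel_right c').1 e)
    have d := hy.resolve_left c
    simp only [if_neg c, if_pos c', if_neg this]
    rw [e3, fz _ (mul_mem d c') _ (m3 _ (r1 c')), fa _ d _ c']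
  · have d := hy.resolve_left c
    have d' := hy'.resolve_left c'
    have : y * y' ∈ R := by rw [e4]; exact mul_mem (mul_mem d d') (AR (m4 _ (mP _ d')))
    simp only [if_neg c, if_neg c', if_pos this]
    rw [e4, fz _ (mul_mem d d') _ (m4 _ (mP _ d')), fa _ d _ d']

/-- averaging over a group of odd order -/
theorem avg {Γ A0 : Type*} [Group Γ] [Finite Γ] [Field A0] (odd : Odd (Nat.card Γ))
    (two : (2 : A0) = 0) (c : Γ → G) (hc : ∀ γ, c γ ∈ N[P])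
    (cm : ∀ γ δ, ∀ x ∈ P, c (γ * δ) * x * (c (γ * δ))⁻¹ = c γ * (c δ * x * (c δ)⁻¹) * (c γ)⁻¹)
    (κ : Γ → A0) (k0 : ∀ γ, κ γ ≠ 0) (km : ∀ γ δ, κ (γ * δ) = κ γ * κ δ) (f : G → A0)
    (add : ∀ x ∈ P, ∀ y ∈ P, f (x * y) = f x + f y) : ∃ f' : G → A0,
      (∀ x ∈ P, ∀ y ∈ P, f' (x * y) = f' x + f' y) ∧
      (∀ γ, ∀ x ∈ P, f' (c γ * x * (c γ)⁻¹) = κ γ * f' x) ∧
      (∀ x, (∀ γ, f (c γ * x * (c γ)⁻¹) = κ γ * f x) → f' x = f x) ∧
      ∀ g m, (∀ γ, c γ * g = g * c γ) → (∀ x ∈ P, f (g * x * g⁻¹) = m * f x) →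
        ∀ x ∈ P, f' (g * x * g⁻¹) = m * f' x := by
  classical
  have := Fintype.ofFinite Γ
  refine ⟨fun x => ∑ γ, (κ γ)⁻¹ * f (c γ * x * (c γ)⁻¹), fun x hx y hy => ?_, fun δ x hx => ?_,
    fun x h => ?_, fun g m h1 h2 x hx => ?_⟩
  · rw [← Finset.sum_add_distrib]
    exact Finset.sum_congr rfl fun γ _ => by
      rw [← conj_mul, add _ (conj_mem (hc γ) hx) _ (conj_mem (hc γ) hy), mul_add]
  · rw [Finset.mul_sum, ← Equiv.sum_comp (Equiv.mulRight δ) (fun γ => κ δ * ((κ γ)⁻¹ * f (c γ * x * (c γ)⁻¹)))]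
    refine Finset.sum_congr rfl fun γ _ => ?_
    have := k0 γ
    have := k0 δ
    rw [Equiv.coe_mulRight, cm γ δ x hx, km]
    field_simp
  · have e : ∀ γ, (κ γ)⁻¹ * f (c γ * x * (c γ)⁻¹) = f x := fun γ => by
      rw [h, inv_mul_cancel_left₀ (k0 γ)]
    obtain ⟨j, hj⟩ := odd
    simp only [e, Finset.sum_const, Finset.card_univ, ← Nat.card_eq_fintype_card, hj, nsmul_eq_mul]
    push_cast
    rw [two, zero_mul, zero_add, one_mul]
  · rw [Finset.mul_sum]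
    refine Finset.sum_congr rfl fun γ _ => ?_
    rw [show c γ * (g * x * g⁻¹) * (c γ)⁻¹ = (c γ * g) * x * (c γ * g)⁻¹ by group, h1,
      show g * c γ * x * (g * c γ)⁻¹ = g * (c γ * x * (c γ)⁻¹) * g⁻¹ by group,
      h2 _ (conj_mem (hc γ) hx)]
    ring

variable {Y : YD X t D} {s : G → F} {c : F}

/-- the coordinate of an element of `S U` -/
def Co (Y : YD X t D) (x : G) (a : F) : Prop := ∃ b, ∃ v ∈ Y.U, x = X.u a b * v

theorem uc (Y : YD X t D) (hv : v ∈ Y.U) (a : F) (b : E) : X.u a b * v = v * X.u a b :=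
  mem_C.1 (Y.U_S hv) _ (X.u_mem_S a b)

theorem Co.mul (h1 : Co Y x a) (h2 : Co Y y c) : Co Y (x * y) (a + c) := by
  obtain ⟨b, v, hv, rfl⟩ := h1
  obtain ⟨b', v', hv', rfl⟩ := h2
  exact ⟨b + b' + K.β a c, v * v', mul_mem hv hv', by
    rw [← X.u_mul, mul_assoc, ← mul_assoc v, ← uc Y hv]; simp only [mul_assoc]⟩

theorem Co.uniq (h : Lc X G0 t D) (h1 : Co Y x a) (h2 : Co Y x c) : a = c := by
  obtain ⟨b, v, hv, rfl⟩ := h1
  obtain ⟨b', v', hv', e⟩ := h2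
  have e1 : (X.u c b')⁻¹ * X.u a b = v' * v⁻¹ := by
    rw [inv_mul_eq_iff_eq_mul, ← mul_assoc, ← e, mul_inv_cancel_right]
  obtain ⟨d, e2⟩ := X.mem_Z.1 (Y.U_inf h (mem_inf.2 ⟨by rw [e1]; exact mul_mem hv' (inv_mem hv),
    mul_mem (inv_mem (X.u_mem_S c b')) (X.u_mem_S a b)⟩))
  rw [X.u_inv, X.u_mul] at e2
  have := (X.u_inj e2).1
  linear_combination this - K.addF c

theorem Co.conj (hP : PZ Y P0 s) (hg : g ∈ P0) (h1 : Co Y x a) : Co Y (g * x * g⁻¹) a := by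
  obtain ⟨b, v, hv, rfl⟩ := h1
  have m := hP.triv g hg _ (X.u_mem_S a b)
  refine ⟨b, _, mul_mem m hv, ?_⟩
  rw [← conj_mul, conj_eq_of_mem_C (hP.cen hg) hv, ← mul_assoc (X.u a b), uc Y m]
  group

theorem Co.act (hg : g ∈ N[Y.U]) (e : ∀ b, ∃ b', g * X.u a b * g⁻¹ = X.u c b') (h1 : Co Y x a) :
    Co Y (g * x * g⁻¹) c := by
  obtain ⟨b, v, hv, rfl⟩ := h1
  obtain ⟨b', e'⟩ := e b
  exact ⟨b', _, conj_mem hg hv, by rw [← conj_mul, e']⟩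

theorem spec (h : Lc X G0 t D) (hP : PZ Y P0 s) (hx : x ∈ P0) : Co Y (t⁻¹ * (x * t * x⁻¹)) (s x) := by
  obtain ⟨u, hu, e⟩ := hP.spec x hx
  exact ⟨0, u, hu, by rw [e]; group⟩

theorem wU (Y : YD X t D) : X.w ∈ N[Y.U] :=
  C_le_N _ (mem_C'.2 fun u hu => (mem_C1.1 (Y.U_w hu)).symm)

theorem hP0 (h : Lc X G0 t D) (hP : PZ Y P0 s) (k : Eˣ) : X.h k ∈ N[P0] :=
  hP.nrm _ (X.h_NS k) (h.toSc.tu (X.h_mem k))

theorem wP0 (h : Lc X G0 t D) (hP : PZ Y P0 s) : X.w ∈ N[P0] :=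
  hP.nrm _ X.w_NS (h.toSc.tu X.w_mem)

theorem s_act (h : Lc X G0 t D) (hP : PZ Y P0 s) (hx : x ∈ P0) (h1 : g ∈ N[P0]) (h2 : g ∈ N[Y.U])
    (gt : g * t = t * g) (e : ∀ b, ∃ b', g * X.u (s x) b * g⁻¹ = X.u c b') : s (g * x * g⁻¹) = c := by
  refine (spec h hP (conj_mem h1 hx)).uniq h ?_
  have := (spec h hP hx).act h2 e
  have e1 : g * t * g⁻¹ = t := by rw [gt, mul_inv_cancel_right]
  rwa [← conj_mul, ← conj_mul, ← conj_mul, ← conj_inv, ← conj_inv, e1] at this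

theorem U2 (hP : PZ Y P0 s) (hv : v ∈ Y.U) : v * v = 1 := by
  rw [Y.sq v hv, hP.c0, zero_mul, X.z_zero]

theorem hcm (h : Lc X G0 t D) (hD : P ≤ C[D]) (k l : Eˣ) (hx : x ∈ P) :
    X.h (k * l) * x * (X.h (k * l))⁻¹ = X.h k * (X.h l * x * (X.h l)⁻¹) * (X.h k)⁻¹ := by
  obtain ⟨d, hd, e⟩ := X.h_mul k l
  rw [e, show X.h k * X.h l * d * x * (X.h k * X.h l * d)⁻¹ =
    X.h k * (X.h l * (d * x * d⁻¹) * (X.h l)⁻¹) * (X.h k)⁻¹ by group,
    mem_C.1 (hD hx) d (h.ZL_D hd), mul_inv_cancel_right]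

theorem oddU (K : UF E F) : Odd (Nat.card Eˣ) := by
  rw [Nat.card_units, Nat.card_eq_fintype_card]; exact K.odd_E

end UD3x

section
open UD3x
variable {Y : YD X t D} {s : G → F}
theorem PZ.s_mul (h : Lc X G0 t D) (hP : PZ Y P0 s) (hx : x ∈ P0) (hy : y ∈ P0) :
    s (x * y) = s x + s y := by
  refine (UD3x.spec h hP (mul_mem hx hy)).uniq h ?_
  have := (UD3x.spec h hP hx).mul ((UD3x.spec h hP hy).conj hP hx)
  rwa [show t⁻¹ * (x * t * x⁻¹) * (x * (t⁻¹ * (y * t * y⁻¹)) * x⁻¹) =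
    t⁻¹ * (x * y * t * (x * y)⁻¹) by group] at this
theorem PZ.s_h (h : Lc X G0 t D) (hP : PZ Y P0 s) (hx : x ∈ P0) (k : Eˣ) :
    s (X.h k * x * (X.h k)⁻¹) = (k : E) • s x :=
  s_act h hP hx (hP0 h hP k) (Y.h_U h k) (h.toSc.tu (X.h_mem k)) fun b => ⟨_, X.h_u k _ b⟩
theorem PZ.s_w (h : Lc X G0 t D) (hP : PZ Y P0 s) (hx : x ∈ P0) :
    s (X.w * x * X.w⁻¹) = K.w * s x :=
  s_act h hP hx (wP0 h hP) (wU Y) (h.toSc.tu X.w_mem) fun b => ⟨_, X.w_u _ b⟩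
theorem PZ.cmS (h : Lc X G0 t D) (hP : PZ Y P0 s) (hx : x ∈ P0) (a : F) (b : E) :
    Y.y (x * X.u a b * x⁻¹ * (X.u a b)⁻¹) = K.B (s x) a := by
  have m := hP.triv x hx _ (X.u_mem_S a b)
  have s1 : s 1 = 0 := by
    have := PZ.s_mul h hP (one_mem _) (one_mem _)
    rwa [mul_one, K.addF] at this
  have si : s x⁻¹ = s x := by
    have := PZ.s_mul h hP (inv_mem hx) hx
    rw [inv_mul_cancel, s1] at this
    linear_combination -this - K.addF (s x)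
  obtain ⟨v, hv, e⟩ := hP.spec _ (inv_mem hx)
  rw [si] at e
  have pt := h.toSc.tu (X.u_mem a b)
  have e1 : X.u a b * (x⁻¹ * t * x⁻¹⁻¹) * (X.u a b)⁻¹ = x⁻¹ * t * x⁻¹⁻¹ * X.z (K.B a (s x)) := by
    have zc : ∀ c, X.z c * v = v * X.z c := fun c => uc Y hv 0 c
    rw [e, ← conj_mul, ← conj_mul, pt, mul_inv_cancel_right, uc Y hv, mul_inv_cancel_right, X.u_conj]
    simp only [mul_assoc, zc]
  have e2 := Y.spec _ m
  have e3 : (X.u a b)⁻¹ * t * X.u a b = t := by rw [mul_assoc, ← pt, inv_mul_cancel_left]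
  have zx := conj_eq_of_mem_C (hP.cen hx) (Y.Z_le (X.z_mem_Z (K.B a (s x))))
  refine X.z_inj (mul_left_cancel (a := t) (e2.symm.trans ?_))
  calc _ = x * (X.u a b * (x⁻¹ * ((X.u a b)⁻¹ * t * X.u a b) * x⁻¹⁻¹) * (X.u a b)⁻¹) * x⁻¹ := by group
    _ = t * (x * X.z (K.B a (s x)) * x⁻¹) := by rw [e3, e1]; group
    _ = _ := by rw [zx, K.B_comm]
theorem PZ.sqU (h : Lc X G0 t D) (hP : PZ Y P0 s) (hx : x ∈ P0) : x * x ∈ Y.U := by
  obtain ⟨a, v, hv, e⟩ := (Y.mem_Q0 h).1 (hP.sq0 x hx)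
  by_cases a0 : a = 0
  · rw [e, a0, X.u_zero, one_mul]; exact hv
  exfalso
  obtain ⟨c, hc⟩ := K.B_surj a0 1
  have m := hP.triv x hx _ (X.u_mem_S c 0)
  have e1 : x * x * X.u c 0 * (x * x)⁻¹ = X.u c 0 := by
    generalize hd : x * X.u c 0 * x⁻¹ * (X.u c 0)⁻¹ = d at m
    have e2 : x * X.u c 0 * x⁻¹ = d * X.u c 0 := by rw [← hd, inv_mul_cancel_right]
    rw [show x * x * X.u c 0 * (x * x)⁻¹ = x * (x * X.u c 0 * x⁻¹) * x⁻¹ by group, e2, ← conj_mul, e2,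
      conj_eq_of_mem_C (hP.cen hx) m, ← mul_assoc, U2 hP m, one_mul]
  rw [e, show X.u a 0 * v * X.u c 0 * (X.u a 0 * v)⁻¹ = X.u a 0 * (v * X.u c 0 * v⁻¹) * (X.u a 0)⁻¹ by
    group, ← uc Y hv, mul_inv_cancel_right, X.u_conj, hc, mul_eq_left] at e1
  exact X.z1 e1
/-- `H`- and `w`-equivariant coordinates -/
theorem PZ.exists_co (h : Lc X G0 t D) (hP : PZ Y P0 s) : ∃ (α : G → F) (ζ : G → E),
    (∀ x ∈ P0, ∀ y ∈ P0, α (x * y) = α x + α y) ∧ (∀ a b, α (X.u a b) = a) ∧ (∀ u ∈ Y.U, α u = 0) ∧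
    (∀ x ∈ P0, ∀ k : Eˣ, α (X.h k * x * (X.h k)⁻¹) = (k : E) • α x) ∧
    (∀ x ∈ P0, α (X.w * x * X.w⁻¹) = K.w * α x) ∧
    (∀ x ∈ Y.U, ∀ y ∈ Y.U, ζ (x * y) = ζ x + ζ y) ∧ (∀ b, ζ (X.z b) = b) ∧
    ∀ x ∈ Y.U, ∀ k : Eˣ, ζ (X.h k * x * (X.h k)⁻¹) = (k : E) ^ 2 * ζ x := by
  have : ∀ x, ∃ a, x ∈ X.S ⊔ Y.U → Co Y x a := fun x => by
    by_cases hx : x ∈ X.S ⊔ Y.U
    · obtain ⟨a, v, hv, e⟩ := (Y.mem_Q0 h).1 hx
      exact ⟨a, fun _ => ⟨0, v, hv, e⟩⟩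
    · exact ⟨0, fun e => absurd e hx⟩
  choose f0 hf0 using this
  have cU : ∀ u ∈ Y.U, Co Y u 0 := fun u hu => ⟨0, u, hu, by rw [X.u_zero, one_mul]⟩
  have cS : ∀ a b, Co Y (X.u a b) a := fun a b => ⟨b, 1, one_mem _, (mul_one _).symm⟩
  obtain ⟨f1, a1, e1⟩ := UD3x.ext le_sup_right (sup_le hP.S_le hP.U_le) (fun x hx => PZ.sqU h hP hx) f0
    (fun x hx y hy => (hf0 _ (mul_mem hx hy)).uniq h ((hf0 x hx).mul (hf0 y hy)))
    fun u hu => (hf0 u (mem_sup_right hu)).uniq h (cU u hu)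
  have u1 : ∀ a b, f1 (X.u a b) = a := fun a b => by
    have m : X.u a b ∈ X.S ⊔ Y.U := mem_sup_left (X.u_mem_S a b)
    rw [e1 _ m]; exact (hf0 _ m).uniq h (cS a b)
  have v1 : ∀ u ∈ Y.U, f1 u = 0 := fun u hu => by
    rw [e1 _ (mem_sup_right hu)]; exact (hf0 u (mem_sup_right hu)).uniq h (cU u hu)
  obtain ⟨f2, a2, b2, c2, -⟩ := avg (oddU K) K.twoF X.h (hP0 h hP) (fun k l x hx => hcm h hP.P_D k l hx)
    (fun k => algebraMap E F k) (fun k => by simp) (fun k l => by simp) f1 a1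
  have u2 : ∀ a b, f2 (X.u a b) = a := fun a b =>
    (c2 _ fun k => by rw [X.h_u, u1, u1, Algebra.smul_def]).trans (u1 a b)
  have v2 : ∀ u ∈ Y.U, f2 u = 0 := fun u hu =>
    (c2 _ fun k => by rw [v1 _ (conj_mem (Y.h_U h k) hu), v1 u hu, mul_zero]).trans (v1 u hu)
  have : ∀ γ : zpowers X.w, ∃ κ : F, ∀ a b, γ * X.u a b * (γ : G)⁻¹ = X.u (κ * a) b := fun γ => by
    obtain ⟨n, hn⟩ := (mem_powers_iff_mem_zpowers).2 γ.2
    refine ⟨K.w ^ n, ?_⟩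
    rw [← hn]
    clear hn
    induction n with
    | zero => simp
    | succ n ih =>
      intro a b
      have := ih (K.w * a) b
      simp only at this ⊢
      rw [pow_succ, pow_succ, mul_assoc (K.w ^ n), ← this, ← X.w_u]; group
  choose κ hκ using this
  have κw : κ ⟨X.w, mem_zpowers _⟩ = K.w := by
    have := (X.u_inj ((hκ ⟨X.w, mem_zpowers _⟩ 1 0).symm.trans (X.w_u 1 0))).1
    simpa using this
  obtain ⟨f3, a3, b3, c3, d3⟩ := avg (Γ := zpowers X.w) (P := P0)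
    (by rw [Nat.card_zpowers]
        exact Nat.coprime_two_left.1 ((piNat_compl_iff_coprime Nat.prime_two).1 X.w_odd))
    K.twoF (fun γ => γ) (fun γ => zpowers_le.2 (wP0 h hP) γ.2)
    (fun γ δ x _ => by simp only [coe_mul]; group) κ
    (fun γ e => by
      have := hκ γ 1 0
      rw [e, zero_mul, X.u_zero, conj_eq_one_iff, ← X.u_zero] at this
      exact one_ne_zero (X.u_inj this).1)
    (fun γ δ => by
      have := hκ (γ * δ) 1 0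
      rw [coe_mul, show (γ : G) * δ * X.u 1 0 * ((γ : G) * δ)⁻¹ = γ * (δ * X.u 1 0 * (δ : G)⁻¹) * (γ : G)⁻¹ by
        group, hκ, hκ] at this
      simpa using (X.u_inj this).1.symm) f2 a2
  have : ∀ x, ∃ b, x ∈ X.Z → x = X.z b := fun x => by
    by_cases hx : x ∈ X.Z
    · exact (X.mem_Z.1 hx).imp fun b e _ => e
    · exact ⟨0, fun e => absurd e hx⟩
  choose g0 hg0 using this
  obtain ⟨g1, p1, q1⟩ := UD3x.ext (A := ⊥) bot_le Y.Z_le (fun x hx => mem_bot.2 (U2 hP hx)) g0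
    (fun x hx y hy => X.z_inj (by rw [← hg0 _ (mul_mem hx hy), ← X.z_mul, ← hg0 x hx, ← hg0 y hy]))
    fun u hu => X.z_eq_one.1 ((hg0 u (bot_le (a := X.Z) hu)).symm.trans (mem_bot.1 hu))
  have z1 : ∀ b, g1 (X.z b) = b := fun b => by
    rw [q1 _ (X.z_mem_Z b)]; exact (X.z_inj (hg0 _ (X.z_mem_Z b))).symm
  obtain ⟨g2, p2, q2, r2, -⟩ := avg (oddU K) K.two X.h (Y.h_U h) (fun k l x hx => hcm h Y.U_D k l hx)
    (fun k => (k : E) ^ 2) (fun k => pow_ne_zero _ k.ne_zero) (fun k l => by simp [mul_pow]) g1 p1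
  refine ⟨f3, g2, a3, fun a b => (c3 _ fun γ => by rw [hκ, u2, u2]).trans (u2 a b),
    fun u hu => (c3 _ fun γ => by
      rw [v2 _ (conj_mem (zpowers_le.2 (wU Y) γ.2) hu), v2 u hu, mul_zero]).trans (v2 u hu),
    fun x hx k => ?_, fun x hx => κw ▸ b3 ⟨X.w, mem_zpowers _⟩ x hx, p2,
    fun b => (r2 _ fun k => by rw [X.h_z, z1, z1]).trans (z1 b), fun x hx k => q2 k x hx⟩
  rw [Algebra.smul_def]
  refine d3 _ _ (fun γ => ?_) (b2 k) x hx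
  exact mem_C1.1 (zpowers_le.2 (mem_C1.2 (X.h_w k).symm) γ.2)
end

end H2.U3
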