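import Mathlib
import Cfsg.Agent.H2.UDefs
import Cfsg.Agent.H2.UD3

set_option autoImplicit false
set_option linter.unusedVariables false
set_option linter.unusedSectionVars false

namespace H2.U3

open Cfsg H24 Subgroup
open H2.SZ (St DD Goal)
open H2.C2 (Cl2)

universe u v

variable {G : Type u} [Group G] [Finite G] {E F : Type*} [Field E] [Fintype E] [Field F] [Fintype F]
  [Algebra E F] {K : UF E F} {L G0 D P P0 Q R A B C H T M W W1 W2 Z1 Z2 : Subgroup G}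
  {t g s f x y i v p : G} {X : UD K L} {a k : F} {b : E} {ρ : F ≃+* F}

local notation "𝐪" => Fintype.card E

/-! ### UD4 -/

/-- squares and commutators in a group of class two -/
theorem UD4_qb {V : Type*} [AddCommGroup V] {U : Subgroup G} (π : G → V) (le : U ≤ P0) (cen : P0 ≤ C[U])
    (el : ∀ u ∈ U, u * u = 1) (mul : ∀ x ∈ P0, ∀ y ∈ P0, π (x * y) = π x + π y)
    (ker : ∀ x ∈ P0, π x = 0 → x ∈ U) (su : ∀ v, ∃ x ∈ P0, π x = v) (sq : ∀ x ∈ P0, x * x ∈ U)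
    (φ : G → E) (hφ : ∀ x ∈ U, ∀ y ∈ U, φ (x * y) = φ x + φ y) :
    ∃ (r : V → E) (β : V → V → E), (∀ x ∈ P0, φ (x * x) = r (π x)) ∧
      (∀ x ∈ P0, ∀ y ∈ P0, φ (x * y * x⁻¹ * y⁻¹) = β (π x) (π y)) ∧
      (∀ v v', r (v + v') = r v + r v' + β v' v) ∧ (∀ v v' w, β (v + v') w = β v w + β v' w) ∧
      ∀ v w w', β v (w + w') = β v w + β v w' := by
  have p1 : π 1 = 0 := by
    have := mul 1 (one_mem _) 1 (one_mem _)
    rwa [mul_one, left_eq_add] at this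
  have pi : ∀ x ∈ P0, π x⁻¹ = -π x := fun x hx => by
    rw [eq_neg_iff_add_eq_zero, ← mul _ (inv_mem hx) _ hx, inv_mul_cancel, p1]
  have cm : ∀ x ∈ P0, ∀ y ∈ P0, x * y * x⁻¹ * y⁻¹ ∈ U := fun x hx y hy =>
    ker _ (mul_mem (mul_mem (mul_mem hx hy) (inv_mem hx)) (inv_mem hy)) (by
      rw [mul _ (mul_mem (mul_mem hx hy) (inv_mem hx)) _ (inv_mem hy), mul _ (mul_mem hx hy) _ (inv_mem hx),
        mul _ hx _ hy, pi x hx, pi y hy]; abel)
  have c : ∀ u ∈ U, ∀ x ∈ P0, u * x = x * u := fun u hu x hx => mem_C.1 (cen hx) u hu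
  have key : ∀ x ∈ P0, ∀ y ∈ P0, π x = π y → ∃ u ∈ U, x = y * u := fun x hx y hy e =>
    ⟨y⁻¹ * x, ker _ (mul_mem (inv_mem hy) hx) (by rw [mul _ (inv_mem hy) _ hx, pi y hy, e, neg_add_cancel]),
      by group⟩
  choose g gP gπ using su
  have h1 : ∀ x ∈ P0, φ (x * x) = φ (g (π x) * g (π x)) := fun x hx => by
    obtain ⟨u, hu, e⟩ := key x hx _ (gP _) (gπ _).symm
    set y := g (π x)
    rw [e, mul_assoc, ← mul_assoc u, c u hu y (gP _), mul_assoc, el u hu, mul_one]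
  have h2 : ∀ x ∈ P0, ∀ y ∈ P0, φ (x * y * x⁻¹ * y⁻¹) =
      φ (g (π x) * g (π y) * (g (π x))⁻¹ * (g (π y))⁻¹) := fun x hx y hy => by
    obtain ⟨u, hu, e⟩ := key x hx _ (gP _) (gπ _).symm
    obtain ⟨u', hu', e'⟩ := key y hy _ (gP _) (gπ _).symm
    set a := g (π x)
    set b := g (π y)
    rw [e, show a * u * y * (a * u)⁻¹ = a * (u * y) * u⁻¹ * a⁻¹ by group, c u hu y hy, e',
      show a * (b * u' * u) * u⁻¹ * a⁻¹ * (b * u')⁻¹ = a * b * (u' * a⁻¹) * u'⁻¹ * b⁻¹ by group,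
      c u' hu' a⁻¹ (inv_mem (gP _))]
    congr 1
    group
  refine ⟨fun v => φ (g v * g v), fun v w => φ (g v * g w * (g v)⁻¹ * (g w)⁻¹), h1, h2, fun v w => ?_,
    fun v v' w => ?_, fun v w w' => ?_⟩
  · have := h1 _ (mul_mem (gP v) (gP w))
    rw [mul _ (gP v) _ (gP w), gπ, gπ] at this
    beta_reduce
    rw [← this, ← hφ _ (sq _ (gP v)) _ (sq _ (gP w)), ← hφ _ (mul_mem (sq _ (gP v)) (sq _ (gP w))) _
      (cm _ (gP w) _ (gP v)), ← c _ (cm _ (gP w) _ (gP v)) _ (le (mul_mem (sq _ (gP v)) (sq _ (gP w)))),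
      mul_assoc (g v) (g v), ← mul_assoc (_ * (g v)⁻¹) (g v), c _ (cm _ (gP w) _ (gP v)) _ (gP v)]
    congr 1
    group
  · have := h2 _ (mul_mem (gP v) (gP v')) _ (gP w)
    rw [mul _ (gP v) _ (gP v'), gπ, gπ, gπ] at this
    beta_reduce
    rw [← this, add_comm, ← hφ _ (cm _ (gP v') _ (gP w)) _ (cm _ (gP v) _ (gP w)), ← mul_assoc,
      ← mul_assoc, ← mul_assoc, c _ (cm _ (gP v') _ (gP w)) _ (gP v)]
    congr 1
    group
  · have := h2 _ (gP v) _ (mul_mem (gP w) (gP w'))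
    rw [mul _ (gP w) _ (gP w'), gπ, gπ, gπ] at this
    beta_reduce
    rw [← this, ← hφ _ (cm _ (gP v) _ (gP w)) _ (cm _ (gP v) _ (gP w')),
      ← mul_inv_cancel_right (g v * g w' * (g v)⁻¹ * (g w')⁻¹) (g w), c _ (cm _ (gP v) _ (gP w')) _ (gP w)]
    congr 1
    group

section
variable {Y : YD X t D} {s : G → F}

theorem UD4_uU (h : Lc X G0 t D) (e : X.u a 0 ∈ Y.U) : a = 0 := by
  obtain ⟨b, hb⟩ := X.mem_Z.1 (Y.U_inf h ⟨e, X.u_mem_S _ _⟩)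
  exact (X.u_inj hb).1

theorem PZ.UD4_sS (h : Lc X G0 t D) (hP : PZ Y P0 s) (a : F) (b : E) : s (X.u a b) = 0 := by
  obtain ⟨u, hu, e⟩ := hP.spec _ (hP.S_le (X.u_mem_S a b))
  rw [h.toSc.tu (X.u_mem a b), mul_inv_cancel_right, mul_assoc, left_eq_mul, mul_eq_one_iff_eq_inv] at e
  exact UD4_uU h (e ▸ inv_mem hu)

theorem PZ.UD4_sU (h : Lc X G0 t D) (hP : PZ Y P0 s) (hg : g ∈ Y.U) : s g = 0 := by
  obtain ⟨u, hu, e⟩ := hP.spec _ (hP.U_le hg)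
  rw [Y.spec g hg, mul_assoc, mul_right_inj, ← mul_inv_eq_iff_eq_mul] at e
  exact UD4_uU h (e ▸ mul_mem (Y.Z_le (X.z_mem_Z _)) (inv_mem hu))

theorem PZ.UD4_el (hP : PZ Y P0 s) (hg : g ∈ Y.U) : g * g = 1 := by
  rw [Y.sq g hg, hP.c0, zero_mul, X.z_zero]

theorem PZ.UD4_t (h : Lc X G0 t D) (hP : PZ Y P0 s) (hg : g ∈ P0) :
    ∃ u ∈ Y.U, t * g * t⁻¹ = X.u (s g) 0 * u * g := by
  obtain ⟨u, hu, e⟩ := hP.spec _ hg
  refine ⟨u, hu, mul_left_cancel (a := t) ?_⟩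
  rw [← mul_assoc, ← mul_assoc, h.tt, one_mul, ← mul_assoc, ← mul_assoc, ← e, inv_mul_cancel_right,
    inv_eq_of_mul_eq_one_right h.tt]

/-- additive coordinates on `P0 / U` -/
structure UD4_Co (Y : YD X t D) (P0 : Subgroup G) (α : G → F) : Prop where
  mul : ∀ x ∈ P0, ∀ y ∈ P0, α (x * y) = α x + α y
  u : ∀ a b, α (X.u a b) = a
  U : ∀ u ∈ Y.U, α u = 0
  h : ∀ x ∈ P0, ∀ k : Eˣ, α (X.h k * x * (X.h k)⁻¹) = (k : E) • α x

variable {α : G → F}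

theorem UD4_Co.ker (h : Lc X G0 t D) (hP : PZ Y P0 s) (c : UD4_Co Y P0 α) (hx : x ∈ P0) (e1 : α x = 0)
    (e2 : s x = 0) : x ∈ Y.U := by
  obtain ⟨a, u, hu, rfl⟩ := (Y.mem_Q0 h).1 (hP.ker x hx e2)
  rw [c.mul _ (hP.S_le (X.u_mem_S _ _)) _ (hP.U_le hu), c.u, c.U u hu, add_zero] at e1
  rwa [e1, X.u_zero, one_mul]

theorem UD4_Co.su (h : Lc X G0 t D) (hP : PZ Y P0 s) (c : UD4_Co Y P0 α) (v : F × F) :
    ∃ x ∈ P0, (α x, s x) = v := by
  obtain ⟨g, hg, e⟩ := hP.onto v.2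
  have m := hP.S_le (X.u_mem_S (v.1 - α g) 0)
  exact ⟨_, mul_mem m hg, by
    rw [c.mul _ m _ hg, hP.s_mul h m hg, c.u, hP.UD4_sS h, e, zero_add, sub_add_cancel]⟩

theorem UD4_Co.tc (h : Lc X G0 t D) (hP : PZ Y P0 s) (c : UD4_Co Y P0 α) (hx : x ∈ P0) :
    t * x * t⁻¹ ∈ P0 ∧ α (t * x * t⁻¹) = α x + s x ∧ s (t * x * t⁻¹) = s x := by
  obtain ⟨u, hu, e⟩ := hP.UD4_t h hx
  have m := hP.S_le (X.u_mem_S (s x) 0)
  have m' := hP.U_le hu
  rw [e, c.mul _ (mul_mem m m') _ hx, c.mul _ m _ m', hP.s_mul h (mul_mem m m') hx, hP.s_mul h m m', c.u,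
    c.U u hu, hP.UD4_sS h, hP.UD4_sU h hu]
  exact ⟨mul_mem (mul_mem m m') hx, by ring, by ring⟩

theorem UD4_Co.form (h : Lc X G0 t D) (hP : PZ Y P0 s) (c : UD4_Co Y P0 α)
    (cw : ∀ x ∈ P0, α (X.w * x * X.w⁻¹) = K.w * α x) (φ : G → E)
    (h1 : ∀ x ∈ Y.U, ∀ y ∈ Y.U, φ (x * y) = φ x + φ y)
    (h2 : ∀ x ∈ Y.U, ∀ k : Eˣ, φ (X.h k * x * (X.h k)⁻¹) = (k : E) ^ 2 * φ x) :
    ∃ A b, (∀ x ∈ P0, φ (x * x) = φ (X.z (K.nm (α x))) + K.tr (A * α x * K.σ (s x)) + b * K.nm (s x)) ∧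
      ∀ x ∈ P0, α x = 0 → ∀ a, φ (x * X.u a 0 * x⁻¹ * (X.u a 0)⁻¹) = K.tr (A * a * K.σ (s x)) := by
  have su := c.su h hP
  have mul : ∀ x ∈ P0, ∀ y ∈ P0, (α (x * y), s (x * y)) = (α x, s x) + (α y, s y) := fun x hx y hy => by
    rw [c.mul x hx y hy, hP.s_mul h hx hy]; rfl
  have ker : ∀ x ∈ P0, (α x, s x) = 0 → x ∈ Y.U := fun x hx e =>
    c.ker h hP hx (congrArg Prod.fst e) (congrArg Prod.snd e)
  obtain ⟨r, β, r1, b1, r2, b2, b3⟩ := UD4_qb (fun x => (α x, s x)) hP.U_le hP.cen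
    (fun u hu => hP.UD4_el hu) mul ker su (fun x hx => hP.sqU h hx) φ h1
  have hN : ∀ k, X.h k ∈ N[P0] := fun k => hP.nrm _ (X.h_NS k) (h.toSc.tu (X.h_mem k))
  have wN : X.w ∈ N[P0] := hP.nrm _ X.w_NS (h.toSc.tu X.w_mem)
  have wU : ∀ u ∈ Y.U, X.w * u * X.w⁻¹ = u := fun u hu => by
    rw [← mem_C1.1 (Y.U_w hu), mul_inv_cancel_right]
  have rh : ∀ (k : Eˣ) v, r ((k : E) • v) = (k : E) ^ 2 * r v := fun k v => by
    obtain ⟨x, hx, rfl⟩ := su v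
    have := r1 _ (conj_mem (hN k) hx)
    rw [c.h x hx, hP.s_h h hx, conj_mul, h2 _ (hP.sqU h hx), r1 x hx] at this
    exact this.symm
  have rw' : ∀ a b, r (K.w * a, K.w * b) = r (a, b) := fun a b => by
    obtain ⟨x, hx, e⟩ := su (a, b)
    obtain ⟨rfl, rfl⟩ := Prod.ext_iff.1 e
    have := r1 _ (conj_mem wN hx)
    rw [cw x hx, hP.s_w h hx, conj_mul, wU _ (hP.sqU h hx), r1 x hx] at this
    exact this.symm
  have bv : ∀ v v', β v' v = r (v + v') + r v + r v' := fun v v' => by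
    rw [r2]; linear_combination -(r v + r v') * K.two
  obtain ⟨b, hb⟩ := K.quadE (fun x => r (0, x)) (fun x y => β (0, y) (0, x))
    (fun x y => by rw [← r2]; simp) (fun x x' y => by rw [← b3]; simp)
    (fun k x => by rw [← rh]; simp) fun x => by rw [← rw' 0 x, mul_zero]
  obtain ⟨A, hA⟩ := K.bilE (fun x y => β (0, y) (x, 0)) (fun x x' y => by rw [← b3]; simp)
    (fun x y y' => by rw [← b2]; simp)
    (fun k x y => by
      have e1 := rh k (x, y)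
      have e2 := rh k (x, 0)
      have e3 := rh k (0, y)
      simp only [Prod.smul_mk, smul_zero] at e1 e2 e3
      simp only [bv, Prod.mk_add_mk, add_zero, zero_add, e1, e2, e3]; ring)
    fun x y => by
      have e2 := rw' x 0
      have e3 := rw' 0 y
      rw [mul_zero] at e2 e3
      simp only [bv, Prod.mk_add_mk, add_zero, zero_add, rw', e2, e3]
  refine ⟨A, b, fun x hx => ?_, fun x hx e a => ?_⟩
  · have := r1 _ (hP.S_le (X.u_mem_S (α x) 0))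
    rw [X.u_sq, c.u, hP.UD4_sS h] at this
    rw [r1 x hx, this, ← hA, ← hb, add_right_comm, ← r2]
    simp
  · rw [b1 x hx _ (hP.S_le (X.u_mem_S a 0)), c.u, hP.UD4_sS h, e, hA]

/-- the normal form -/
theorem PZ.UD4_nf (h : Lc X G0 t D) (hP : PZ Y P0 s) : ∃ (α : G → F) (ζ : G → E) (b : E),
    UD4_Co Y P0 α ∧ (∀ x ∈ Y.U, ∀ y ∈ Y.U, ζ (x * y) = ζ x + ζ y) ∧ (∀ b, ζ (X.z b) = b) ∧
    (b = 0 ∨ b = K.nm K.ω) ∧ (∀ x ∈ P0, Y.y (x * x) = K.B (α x) (s x)) ∧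
    ∀ x ∈ P0, ζ (x * x) = K.nm (α x) + K.tr (K.ω * α x * K.σ (s x)) + b * K.nm (s x) := by
  obtain ⟨α, ζ, a1, a2, a3, a4, a5, z1, z2, z3⟩ := hP.exists_co h
  have c : UD4_Co Y P0 α := ⟨a1, a2, a3, a4⟩
  obtain ⟨A, b1, f1, -⟩ := c.form h hP a5 ζ z1 z3
  obtain ⟨A', b2, f2, f3⟩ := c.form h hP a5 Y.y (fun x hx y hy => Y.y_mul h hx hy)
    fun x hx k => Y.y_h h k hx
  replace f2 : ∀ x ∈ P0, Y.y (x * x) = K.B (α x) (s x) + b2 * K.nm (s x) := fun x hx => by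
    obtain ⟨y, hy, e⟩ := c.su h hP (0, s x)
    obtain ⟨e1, e2⟩ := Prod.ext_iff.1 e
    have := f3 y hy e1 (α x)
    rw [hP.cmS h hy, show s y = s x from e2] at this
    rw [f2 x hx, Y.y_z h, zero_add, ← this, K.B_comm]
  simp only [z2] at f1
  have e0 : b2 = 1 + K.tr A := by
    obtain ⟨x, hx, e⟩ := c.su h hP (0, 1)
    obtain ⟨e1, e2⟩ := Prod.ext_iff.1 e
    change α x = 0 at e1
    change s x = 1 at e2
    obtain ⟨t1, t2, t3⟩ := c.tc h hP hx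
    have k := f1 _ t1
    rw [conj_mul, Y.t_u h (hP.sqU h hx), z1 _ (hP.sqU h hx) _ (Y.Z_le (X.z_mem_Z _)), z2, f1 x hx,
      f2 x hx, t2, t3, e1, e2] at k
    simp only [zero_add, mul_zero, mul_one, map_one, K.nm_zero, K.nm_one, K.tr_zero,
      K.B_zero_left] at k
    linear_combination k
  obtain ⟨l, l1, l2⟩ : ∃ l, K.tr l = b2 ∧ (K.nm l + K.tr (A * l) + b1 = 0 ∨
      K.nm l + K.tr (A * l) + b1 = K.nm K.ω) := by
    have k : ∀ e : E, K.tr (b2 • K.ω + e • (1 : F)) = b2 ∧ K.nm (b2 • K.ω + e • (1 : F)) +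
        K.tr (A * (b2 • K.ω + e • (1 : F))) + b1 =
        K.nm (b2 • K.ω) + K.tr (A * b2 • K.ω) + b1 + (e ^ 2 + e) := fun e => by
      constructor
      · rw [K.tr_add, K.tr_smul, K.tr_ω, ← Algebra.algebraMap_eq_smul_one, K.tr_alg, mul_one, add_zero]
      · rw [K.nm_add, K.nm_smul e, K.nm_one, K.B_smul_right, UF.B, map_one, mul_one, mul_one, K.tr_smul,
          K.tr_ω, mul_add, K.tr_add, mul_smul_comm e, mul_one A, K.tr_smul]
        linear_combination e * e0 + e * K.tr A * K.two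
    rcases K.dich (K.nm (b2 • K.ω) + K.tr (A * b2 • K.ω) + b1) with ⟨e, he⟩ | ⟨e, he⟩
    · exact ⟨_, (k e).1, .inl (by rw [(k e).2, he, K.addE])⟩
    · exact ⟨_, (k e).1, .inr (by rw [(k e).2, he, ← add_assoc, K.addE, zero_add])⟩
  obtain ⟨μ, hμ⟩ := (K.tr_eq_zero (x := A + K.σ l + K.ω)).1 (by
    rw [K.tr_add, K.tr_add, K.tr_σ, l1, e0, K.tr_ω]; linear_combination (1 + K.tr A) * K.two)
  have f4 : ∀ x ∈ P0, Y.y (x * x) = K.B (α x + l * s x) (s x) := fun x hx => by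
    rw [f2 x hx, K.B_add_left, UF.B.eq_1 K (l * _), mul_assoc, ← K.nm_eq, mul_comm l, ← Algebra.smul_def,
      K.tr_smul, l1, mul_comm]
  refine ⟨fun x => α x + l * s x, fun x => ζ x + μ * Y.y x, _, ⟨fun x hx y hy => ?_, fun a b => ?_,
    fun u hu => ?_, fun x hx k => ?_⟩, fun x hx y hy => ?_, fun b => ?_, l2, f4, fun x hx => ?_⟩
  · rw [a1 x hx y hy, hP.s_mul h hx hy]; ring
  · rw [a2, hP.UD4_sS h, mul_zero, add_zero]
  · rw [a3 u hu, hP.UD4_sU h hu, mul_zero, add_zero]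
  · rw [a4 x hx, hP.s_h h hx, smul_add, mul_smul_comm]
  · beta_reduce; rw [z1 x hx y hy, Y.y_mul h hx hy]; ring
  · beta_reduce; rw [z2, Y.y_z h, mul_zero, add_zero]
  · beta_reduce
    rw [f4 x hx, f1 x hx]
    have e1 := congrArg K.σ hμ
    rw [K.σ_alg] at e1
    refine (algebraMap E F).injective ?_
    simp only [UF.B, map_add, map_mul, K.nm_eq, K.tr_eq, K.σσ] at e1 ⊢
    linear_combination -(α x + l * s x) * K.σ (s x) * hμ - (K.σ (α x) + K.σ l * K.σ (s x)) * s x * e1 +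
      (A * α x * K.σ (s x) + K.σ A * K.σ (α x) * s x) * K.twoF

theorem PZ.UD4_mk (h : Lc X G0 t D) (hP : PZ Y P0 s) (c : UD4_Co Y P0 α) {ζ : G → E}
    (z1 : ∀ x ∈ Y.U, ∀ y ∈ Y.U, ζ (x * y) = ζ x + ζ y) (z2 : ∀ b, ζ (X.z b) = b)
    {A0 : Type*} [AddCommGroup A0] {q : F × F → A0} {ι : E → A0} {τ : A0 → A0}
    (two : ∀ x : A0, x + x = 0) (fixτ : ∀ x, τ x = x ↔ ∃ b, x = ι b) (trτ : ∀ b, ∃ y, τ y + y = ι b)
    (e : E × E → A0) (eb : Function.Bijective e) (ea : ∀ v w, e (v + w) = e v + e w)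
    (eι : ∀ b, e (b, 0) = ι b) (eτ : ∀ b c, e (b + c, c) = τ (e (b, c)))
    (p : F × F → F × F) (pi : ∀ v, p v = 0 → v = 0) (pa : ∀ v w, p (v + w) = p v + p w)
    (ps : ∀ (k : E) v, p (k • v) = k • p v) (pu : ∀ a, p (a, 0) = (a, a))
    (pt : ∀ a b, p (a + b, b) = (p (a, b)).swap)
    (pq : ∀ x ∈ P0, e (ζ (x * x), Y.y (x * x)) = q (p (α x, s x))) : Nonempty (PB X t A0 q ι τ) := by
  have un : ∀ u ∈ Y.U, ∀ u' ∈ Y.U, e (ζ u, Y.y u) = e (ζ u', Y.y u') → u = u' := fun u hu u' hu' k => by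
    obtain ⟨k1, k2⟩ := Prod.ext_iff.1 (eb.1 k)
    obtain ⟨b, rfl⟩ := Y.eqz h hu hu' k2
    change ζ _ = ζ _ at k1
    rw [z1 _ hu' _ (Y.Z_le (X.z_mem_Z b)), z2, add_eq_left] at k1
    rw [k1, X.z_zero, mul_one]
  have ex : ∀ x : A0, ∃ u ∈ Y.U, e (ζ u, Y.y u) = x := fun x => by
    obtain ⟨v, rfl⟩ := eb.2 x
    obtain ⟨u, hu, k⟩ := Y.onto v.2
    have m := Y.Z_le (X.z_mem_Z (v.1 - ζ u))
    exact ⟨_, mul_mem hu m, by
      rw [z1 _ hu _ m, Y.y_mul h hu m, z2, Y.y_z h, k, add_zero, add_sub_cancel]⟩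
  choose m mU me using ex
  have p0 : p 0 = 0 := by simpa using pa 0 0
  have pj : Function.Injective p := fun v w k => sub_eq_zero.1 (pi _ (by
    have := pa (v - w) w
    rwa [sub_add_cancel, k, right_eq_add] at this))
  refine ⟨⟨P0, fun x => p (α x, s x), m, two, fixτ, trτ, fun x y => ?_, fun {x y} k => ?_,
    fun x => hP.U_le (mU x), fun x => cents_symm hP.cen (mU x), fun x hx y hy => ?_, fun x hx => ?_,
    fun v => ?_, fun x hx => ?_, fun b => ?_, hP.S_le, fun a b => ?_, fun x hx => ?_, fun x => ?_, hP.nrm,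
    fun k x hx => ?_⟩⟩
  · refine un _ (mU _) _ (mul_mem (mU x) (mU y)) ?_
    rw [me, z1 _ (mU x) _ (mU y), Y.y_mul h (mU x) (mU y), ← Prod.mk_add_mk, ea, me, me]
  · rw [← me x, k, me]
  · rw [c.mul x hx y hy, hP.s_mul h hx hy, ← pa]; rfl
  · refine ⟨fun k => ?_, ?_⟩
    · obtain ⟨k1, k2⟩ := Prod.ext_iff.1 (pi _ k)
      have hu := c.ker h hP hx k1 k2
      exact ⟨_, un _ hu _ (mU _) (me _).symm⟩
    · rintro ⟨y, rfl⟩
      rw [c.U _ (mU y), hP.UD4_sU h (mU y)]; exact p0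
  · obtain ⟨w, rfl⟩ := Finite.injective_iff_surjective.1 pj v
    obtain ⟨x, hx, rfl⟩ := c.su h hP w
    exact ⟨x, hx, rfl⟩
  · exact un _ (hP.sqU h hx) _ (mU _) (by rw [me, pq x hx])
  · exact un _ (Y.Z_le (X.z_mem_Z b)) _ (mU _) (by rw [me, z2, Y.y_z h, eι])
  · rw [c.u, hP.UD4_sS h, pu]
  · obtain ⟨-, t2, t3⟩ := c.tc h hP hx
    rw [t2, t3, pt]
  · have m1 := Y.Z_le (X.z_mem_Z (Y.y (m x)))
    rw [Y.t_u h (mU x)]
    refine un _ (mul_mem (mU x) m1) _ (mU _) ?_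
    rw [me, z1 _ (mU x) _ m1, Y.y_mul h (mU x) m1, z2, Y.y_z h, add_zero, eτ, me]
  · rw [c.h x hx, hP.s_h h hx, ← ps]; rfl

end

theorem PZ.coord {Y : YD X t D} {s : G → F} (h : Lc X G0 t D) (hP : PZ Y P0 s) :
    Nonempty (NS X t) ∨ Nonempty (SP X t) := by
  obtain ⟨α, ζ, b, c, z1, z2, hb, f1, f2⟩ := hP.UD4_nf h
  have ew := K.tr_eq K.ω
  rw [K.tr_ω, map_one] at ew
  rcases hb with rfl | rfl
  · refine .inl (hP.UD4_mk h c z1 z2 K.addF (fun x => (K.fix x).trans (by simp only [eq_comm]))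
      (fun b => ⟨b • K.ω, by rw [add_comm, ← K.tr_eq, K.tr_smul, K.tr_ω, mul_one]⟩)
      (fun v => algebraMap E F v.1 + v.2 • K.σ K.ω) ?_ (fun v w => ?_) (fun b => by simp) (fun b c => ?_)
      (fun v => (v.1, v.1 + v.2)) (fun v k => ?_) (fun v w => ?_) (fun k v => ?_) (fun a => by simp)
      (fun a b => ?_) fun x hx => ?_)
    · refine (Fintype.bijective_iff_surjective_and_card _).2 ⟨fun x => ?_, by
        rw [Fintype.card_prod, K.card, sq]⟩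
      obtain ⟨e, he⟩ := K.coord (K.σ x)
      have := congrArg K.σ he
      rw [K.σσ, map_add, K.σ_alg, K.σ_smul] at this
      exact ⟨(e, K.tr (K.σ x)), this.symm⟩
    · simp only [Prod.fst_add, Prod.snd_add, map_add, add_smul]; ring
    · simp only [map_add, Algebra.smul_def, map_mul, K.σ_alg, K.σσ]
      linear_combination algebraMap E F c * ew + algebraMap E F c * K.σ K.ω * K.twoF
    · obtain ⟨k1, k2⟩ := Prod.ext_iff.1 k
      change v.1 = 0 at k1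
      change v.1 + v.2 = 0 at k2
      exact Prod.ext k1 (by rwa [k1, zero_add] at k2)
    · simp only [Prod.fst_add, Prod.snd_add, Prod.mk_add_mk, add_add_add_comm]
    · simp only [Prod.smul_fst, Prod.smul_snd, Prod.smul_mk, smul_add]
    · simp only [Prod.swap_prod_mk, add_assoc, K.addF, add_zero]
    · rw [f1 x hx, f2 x hx]
      simp only [UF.B, Algebra.smul_def, map_add, map_mul, K.nm_eq, K.tr_eq, K.σσ, map_zero]
      linear_combination -(α x * K.σ (s x)) * ew + K.σ K.ω * K.σ (α x) * s x * K.twoF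
  · refine .inr (hP.UD4_mk h c z1 z2 (fun x => Prod.ext (K.addE _) (K.addE _))
      (fun x => ⟨fun k => ⟨x.1, Prod.ext rfl (congrArg Prod.fst k)⟩, by rintro ⟨b, rfl⟩; rfl⟩)
      (fun b => ⟨(b, 0), by simp⟩) (fun v => (v.1, v.1 + v.2)) ?_ (fun v w => ?_) (fun b => by simp)
      (fun b c => ?_) (fun v => (v.1 + K.σ K.ω * v.2, v.1 + K.ω * v.2)) (fun v k => ?_) (fun v w => ?_)
      (fun k v => ?_) (fun a => by simp) (fun a b => ?_) fun x hx => ?_)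
    · exact Finite.surjective_iff_bijective.1 fun v => ⟨(v.1, v.2 - v.1), by simp⟩
    · simp only [Prod.fst_add, Prod.snd_add, Prod.mk_add_mk, add_add_add_comm]
    · simp only [Prod.swap_prod_mk, add_assoc, K.addE, add_zero]
    · obtain ⟨k1, k2⟩ := Prod.ext_iff.1 k
      change v.1 + _ = 0 at k1
      change v.1 + _ = 0 at k2
      have k3 : v.2 = 0 := by linear_combination k1 + k2 + v.2 * ew - v.1 * K.twoF
      exact Prod.ext (by rwa [k3, mul_zero, add_zero] at k1) k3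
    · simp only [Prod.fst_add, Prod.snd_add, Prod.mk_add_mk, mul_add, add_add_add_comm]
    · simp only [Prod.smul_fst, Prod.smul_snd, Prod.smul_mk, smul_add, mul_smul_comm]
    · refine Prod.ext ?_ ?_ <;> simp only [Prod.swap_prod_mk]
      · linear_combination b * ew + K.σ K.ω * b * K.twoF
      · linear_combination b * ew + K.ω * b * K.twoF
    · rw [f1 x hx, f2 x hx]
      refine Prod.ext ((algebraMap E F).injective ?_) ((algebraMap E F).injective ?_) <;>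
        simp only [UF.B, map_add, map_mul, K.nm_eq, K.tr_eq, K.σσ]
      · ring
      · linear_combination (α x * K.σ (s x) + K.σ (α x) * s x) * ew +
          (K.ω * α x * K.σ (s x) + K.σ K.ω * K.σ (α x) * s x) * K.twoF



end H2.U3
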