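import Mathlib
import Cfsg.Agent.H2.UDefs
import Cfsg.Agent.H2.UL

set_option autoImplicit false
set_option linter.unusedVariables false
set_option linter.unusedSectionVars false

namespace H2.U3

open Cfsg H24 Subgroup
open H2.SZ (St DD Goal)
open H2.C2 (Cl2)

universe u v

variable {G : Type u} [Group G] [Finite G] {E F : Type*} [Field E] [Fintype E] [Field F] [Fintype F]
  [Algebra E F] {K : UF E F} {L G0 D P P0 Q R A B C H T M W W1 W2 Z1 Z2 : Subgroup G}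
  {t g s f x y i v p : G} {X : UD K L} {a k : F} {b : E} {ρ : F ≃+* F}

local notation "𝐪" => Fintype.card E

/-! ### UL2 -/

open H2.SZ (mem_zp_inv piElt_of_sq)

theorem Lc.exists_env (h : Lc X G0 t D) (pi : IsPi {2} B) (h1 : X.S ≤ B) (hT : Syl 2 C{t} T)
    (h2 : T ≤ N[X.S]) (h3 : T ≤ N[B]) (ct : B ⊓ C{t} ≤ X.S)
    (inv : ∀ p ∈ B, t * p * (t * p) = 1 → ∃ b ∈ B, t * p = b * t * b⁻¹) : ∃ P, Env X G0 t D B P := by
  obtain ⟨P, hP, hTP⟩ := Sylow_superset Nat.prime_two hT.pi h3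
  have e : P ⊓ C{t} = T := hT.eq_of_le (hP.pi.inf_left _) (le_inf hTP hT.le) inf_le_right
  exact ⟨P, h, pi, h1, hP, hTP (h.toSc.T_le X hT h2 (UL_tT X t)), e ▸ hT, e ▸ h2, ct, inv⟩

theorem Env.piP (h : Env X G0 t D B P) : IsPi {2} P := h.syl.pi
theorem Env.B_le (h : Env X G0 t D B P) : B ≤ P := h.syl.nml_le h.pi ⟨norm_self B, le_rfl⟩
theorem Env.P_N (h : Env X G0 t D B P) : P ≤ N[B] := h.syl.le
theorem Env.t_B (h : Env X G0 t D B P) : t ∉ B := fun e =>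
  h.toSc.t_L X (X.S_le (h.ct ⟨e, self_mem_C1 t⟩))

theorem Env.ddB (h : Env X G0 t D B P) (h1 : x * t ∈ B) (xx : x * x = 1) :
    ∃ b ∈ B, x = b * t * b⁻¹ := by
  have e : t * (t * (x * t) * t⁻¹) = x := by
    rw [← mul_assoc, ← mul_assoc, h.tt]; group
  have := h.inv _ (conj_mem (h.P_N h.t_mem) h1) (by rw [e, xx])
  rwa [e] at this

theorem Env.fix (h : Env X G0 t D B P) (hx : x ∈ P) (e : x * t * x⁻¹ * t ∈ B) :
    ∃ b ∈ B, b * x ∈ P ⊓ C{t} := by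
  obtain ⟨b, hb, e1⟩ := h.ddB e (by rw [conj_mul, h.tt]; group)
  refine ⟨b⁻¹, inv_mem hb, mul_mem (h.B_le (inv_mem hb)) hx, mem_C1.2 ?_⟩
  calc b⁻¹ * x * t = b⁻¹ * (x * t * x⁻¹) * x := by group
    _ = _ := by rw [e1]; group

theorem Env.UL2_dec (h : Env X G0 t D B P) :
    x ∈ B ⊔ P ⊓ C{t} ↔ ∃ b ∈ B, ∃ c ∈ P ⊓ C{t}, x = b * c :=
  mem_sup_of_norm (inf_le_left.trans h.P_N)

theorem Env.mem_CT (h : Env X G0 t D B P) :
    x ∈ B ⊔ P ⊓ C{t} ↔ x ∈ P ∧ x * t * x⁻¹ * t ∈ B := by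
  constructor
  · intro hx
    obtain ⟨b, hb, c, hc, rfl⟩ := h.UL2_dec.1 hx
    refine ⟨mul_mem (h.B_le hb) hc.1, ?_⟩
    have := mul_mem hb (conj_mem (h.P_N h.t_mem) (inv_mem hb))
    convert this using 1
    calc b * c * t * (b * c)⁻¹ * t = b * (c * t) * c⁻¹ * b⁻¹ * t := by group
      _ = _ := by rw [mem_C1.1 hc.2, h.ti]; group
  · rintro ⟨h1, h2⟩
    obtain ⟨b, hb, e⟩ := h.fix h1 h2
    exact (mul_mem_cancel_left (mem_sup_left hb)).1 (mem_sup_right e)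

theorem Env.ker (h : Env X G0 t D B P) (h1 : B ≤ R) (h2 : R ≤ P) (h3 : t ∈ N[R]) (h4 : R ⊓ C{t} ≤ B) :
    R ≤ B := by
  have tB : zpowers t ≤ N[B] := zpowers_le.2 (h.P_N h.t_mem)
  have mem : ∀ {M : Subgroup G}, t ∈ N[M] → ∀ y ∈ M ⊔ zpowers t, y ∈ M ∨ y * t ∈ M := fun hM y hy => by
    obtain ⟨a, ha, c, hc, rfl⟩ := (mem_sup_of_norm (zpowers_le.2 hM)).1 hy
    rcases (mem_zp_inv h.tt).1 hc with rfl | rfl
    · exact .inl (by rwa [mul_one])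
    · exact .inr (by rwa [mul_assoc, h.tt, mul_one])
  have tM : t ∈ B ⊔ zpowers t := mem_sup_right (mem_zpowers t)
  have key : ∀ y ∈ R, y ∈ N[B ⊔ zpowers t] → y ∈ B := fun y hy hn => by
    rcases mem (h.P_N h.t_mem) _ (conj_mem hn tM) with e | e
    · exact absurd ((conj_mem_iff (h.P_N (h2 hy))).1 e) h.t_B
    · obtain ⟨b, hb, e1⟩ := h.fix (h2 hy) e
      exact (mul_mem_cancel_left hb).1 (h4 ⟨mul_mem (h1 hb) hy, e1.2⟩)
  have e : B ⊔ zpowers t = R ⊔ zpowers t :=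
    ((h.piP.of_le (sup_le h2 (zpowers_le.2 h.t_mem))).nil Nat.prime_two).eq_of_norm_le
      (sup_le_sup_right h1 _) fun y hy => by
      rcases mem h3 y hy.1 with e | e
      · exact mem_sup_left (key y e hy.2)
      · exact (mul_mem_cancel_right tM).1
          (mem_sup_left (key _ e (mul_mem hy.2 (norm_self _ tM))))
  intro y hy
  exact key y hy (norm_self _ (e ▸ mem_sup_left hy))

theorem Env.UL2_χ (h : Env X G0 t D B P) {b b' c c' : G} (hb : b ∈ B) (hb' : b' ∈ B)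
    (hc : c ∈ P ⊓ C{t}) (hc' : c' ∈ P ⊓ C{t}) (e : b * c = b' * c') : X.χ c = X.χ c' := by
  have e1 : c = b⁻¹ * b' * c' := by rw [mul_assoc, ← e]; group
  have m : b⁻¹ * b' ∈ X.S := h.ct (mem_inf.2 ⟨mul_mem (inv_mem hb) hb', by
    rw [show b⁻¹ * b' = c * c'⁻¹ by rw [e1]; group]
    exact mul_mem (mem_inf.1 hc).2 (inv_mem (mem_inf.1 hc').2)⟩)
  rw [e1, X.χ_mul (norm_self _ m) (h.T_S hc'), X.χ_L (X.S_le m) (norm_self _ m), one_mul]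

theorem Env.UL2_one (h : Env X G0 t D B P) {c : G} (hc : c ∈ P ⊓ C{t}) (e : X.χ c = 1) :
    c ∈ B ∨ c * t ∈ B := by
  rcases (h.toSc.mem_T X).1 (h.toLc.two_T (h.T_S hc) (mem_C1.1 hc.2) (h.piP.piElt hc.1) e) with m | m
  · exact .inl (h.S_le m)
  · exact .inr (by rw [mem_C1.1 hc.2]; exact h.S_le m)

theorem Env.exists_χ (h : Env X G0 t D B P) : ∃ φ : ↥(B ⊔ P ⊓ C{t}) →* (F ≃+* F),
    (∀ x, φ x = 1 ↔ (x : G) ∈ B ∨ (x : G) * t ∈ B) ∧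
    ∀ x : ↥(B ⊔ P ⊓ C{t}), (x : G) ∈ P ⊓ C{t} → φ x = X.χ x := by
  have ex : ∀ x : ↥(B ⊔ P ⊓ C{t}), ∃ b ∈ B, ∃ c ∈ P ⊓ C{t}, (x : G) = b * c := fun x =>
    h.UL2_dec.1 x.2
  choose β hβ γ hγ e using ex
  have χ1 : X.χ (1 : G) = 1 := X.χ_C (one_mem _)
  refine ⟨MonoidHom.mk' (fun x => X.χ (γ x)) fun x y => ?_, fun x => ⟨fun h1 => ?_, fun h1 => ?_⟩,
    fun x hx => ?_⟩
  · rw [← X.χ_mul (h.T_S (hγ x)) (h.T_S (hγ y))]
    refine h.UL2_χ (hβ (x * y)) (mul_mem (hβ x) (conj_mem (h.P_N (hγ x).1) (hβ y))) (hγ _)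
      (mul_mem (hγ x) (hγ y)) ?_
    rw [← e, coe_mul, e x, e y]; group
  · rw [e x, mul_assoc]
    exact (h.UL2_one (hγ x) h1).imp (mul_mem (hβ x)) (mul_mem (hβ x))
  · show X.χ (γ x) = 1
    rcases h1 with h1 | h1
    · rw [← χ1]
      exact h.UL2_χ (hβ x) h1 (hγ x) (one_mem _) (by rw [← e, mul_one])
    · rw [← X.χ_C (C_anti X.S_le h.tC)]
      exact h.UL2_χ (hβ x) h1 (hγ x) ⟨h.t_mem, self_mem_C1 t⟩
        (by rw [← e, mul_assoc, h.tt, mul_one])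
  · exact h.UL2_χ (hβ x) (one_mem _) (hγ x) hx (by rw [← e, one_mul])

theorem Env.out (h : Env X G0 t D B P) (hx : x ∈ B ⊔ P ⊓ C{t}) (xx : x * x ∈ B) (h1 : x ∉ B)
    (h2 : x * t ∉ B) : ∃ b ∈ B, ∃ f ∈ P ⊓ C{t}, x = f * b ∧ f * f = 1 ∧ X.χ f = K.σ ∧
      ∀ k, f * X.h k * f⁻¹ * (X.h k)⁻¹ ∈ D := by
  obtain ⟨b, hb, c, hc, rfl⟩ := h.UL2_dec.1 hx
  have cS := h.T_S hc
  have cc : c * c ∈ X.S := h.ct ⟨by
    have := mul_mem (inv_mem (mul_mem hb (conj_mem (h.P_N hc.1) hb))) xx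
    rwa [show (b * (c * b * c⁻¹))⁻¹ * (b * c * (b * c)) = c * c by group] at this, mul_mem hc.2 hc.2⟩
  have e : X.χ c = K.σ := (K.aut_sq (by
    rw [← X.χ_mul cS cS, X.χ_L (X.S_le cc) (norm_self _ cc)])).resolve_left fun e => by
      rcases h.UL2_one hc e with m | m
      · exact h1 (mul_mem hb m)
      · exact h2 (by rw [mul_assoc]; exact mul_mem hb m)
  obtain ⟨s, hs, e1, e2⟩ := h.toLc.AJ cS (mem_C1.1 hc.2) cc e
  refine ⟨s⁻¹ * (c⁻¹ * b * c), mul_mem (inv_mem (h.S_le hs)) (conj_mem' (h.P_N hc.1) hb), c * s,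
    mul_mem hc ⟨h.B_le (h.S_le hs), mem_C1.2 (h.toSc.tu (X.S_le hs))⟩, by group, e1, ?_, e2⟩
  rw [X.χ_mul cS (norm_self _ hs), X.χ_L (X.S_le hs) (norm_self _ hs), mul_one, e]

theorem Env.syl_of (h : Env X G0 t D B P) (wc : ∀ g ∈ N[P], g ∈ N[B]) : Syl 2 ⊤ P :=
  Syl.of_norm_le' Nat.prime_two h.syl le_top fun g hg => wc g hg.2

end H2.U3
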