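import Mathlib
import Cfsg.Agent.H2.UDefs
import Cfsg.Agent.H14.UM3

/-! # Standard subgroup `U₃(q)`: coordinates in a quasisimple group over `PSU₃(q)` -/

set_option autoImplicit false
set_option linter.unusedVariables false
set_option linter.unusedSectionVars false

namespace H2.U3

open Cfsg H24 Subgroup H12.U3 H14.UM

universe v

namespace UM

variable {F : Type v} [Field F] [Fintype F] [CharP F 2] {q : ℕ} (hF : Fintype.card F = q ^ 2)

local notation "𝔰" => H15.frob hF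

/-- the fixed field -/
def EE : Subfield F := RingHom.eqLocusField 𝔰 (RingHom.id F)

noncomputable instance : Fintype (EE hF) := Fintype.ofFinite _

theorem card_EE : Fintype.card (EE hF) = q := by
  rw [← Nat.card_eq_fintype_card]; exact H15.card_fixed hF

variable {hF}

theorem fx (b : EE hF) : 𝔰 b = b := b.2

variable {c : F} (hc : H15.frob hF c = c + 1)

/-- the field data -/
noncomputable def KK (hq : 4 ≤ q) {μ : Fˣ} (m1 : (μ : F) * 𝔰 μ = 1) (m2 : lam hF μ ≠ 1) : UF (EE hF) F where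
  two := Subtype.ext CharTwo.two_eq_zero
  four := (card_EE hF).symm ▸ hq
  card := by rw [card_EE, hF]
  σ := RingEquiv.ofBijective 𝔰 (Function.Involutive.bijective (ss hF))
  σσ := ss hF
  fix := fun x => ⟨fun h => ⟨⟨x, h⟩, rfl⟩, fun ⟨b, e⟩ => e ▸ b.2⟩
  nm := fun x => ⟨x * 𝔰 x, show 𝔰 _ = _ by rw [map_mul, ss, mul_comm]; rfl⟩
  tr := fun x => ⟨x + 𝔰 x, show 𝔰 _ = _ by rw [map_add, ss, add_comm]; rfl⟩
  nm_eq := fun _ => rfl
  tr_eq := fun _ => rfl
  ω := c
  tr_ω := Subtype.ext (show c + 𝔰 c = 1 by rw [hc]; grind)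
  w := lam hF μ
  nm_w := Subtype.ext ((lam_nm μ).trans m1)
  w1 := fun e => m2 (Units.ext e)

/-- the coordinates -/
def ub (a : F) (b : EE hF) : Uq hF := ⟨a, b + c * (a * 𝔰 a), by
  simp only [map_add, map_mul, fx, hc, ss]; grind⟩

theorem exists_ub (d : Uq hF) : ∃ b, d = ub hc d.x b := by
  have := d.rel
  refine ⟨⟨d.y + c * (d.x * 𝔰 d.x), show 𝔰 _ = d.y + _ by
    simp only [map_add, map_mul, hc, ss]; grind⟩, ?_⟩
  ext
  · rfl
  · simp only [ub]; grind

theorem ub_ze (b : EE hF) : ub hc 0 b = ze hF (b * c) := by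
  ext <;> simp [ub, hc, fx]
  grind

theorem ze_ub (y : F) : ∃ b, ze hF y = ub hc 0 b := exists_ub hc _

/-- the units of the fixed field -/
def io : (EE hF)ˣ →* Fˣ := Units.map (algebraMap (EE hF) F).toMonoidHom

theorem io_fix (k : (EE hF)ˣ) : 𝔰 (io k) = io k := fx k.1

theorem aut_ub (k : (EE hF)ˣ) (a : F) (b : EE hF) :
    aut (lam hF (io k)) (ub hc a b) = ub hc (k.1 • a) (k.1 ^ 2 * b) := by
  rw [lam_fix (io_fix k)]
  ext
  · rfl
  · rw [aut_y, io_fix]
    change (k.1 : F) * k.1 * (b + _) = k.1 ^ 2 * b + c * (k.1 * a * 𝔰 (k.1 * a))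
    rw [map_mul, fx]
    ring

theorem exists_ne_one (hq : 4 ≤ q) : ∃ k : (EE hF)ˣ, io k ≠ 1 := by
  obtain ⟨k, hk⟩ := exists_k0 (hF := hF) hq
  exact ⟨Units.mk0 ⟨k * 𝔰 k, show 𝔰 _ = _ by rw [map_mul, ss, mul_comm]; rfl⟩ fun e =>
    mul_ne_zero k.ne_zero (σ_ne k) (congrArg Subtype.val e), fun e => hk (congrArg Units.val e)⟩

theorem odd_τ {M : Type*} [Group M] (τ : Fˣ →* M) (k : Fˣ) : PiElt {2}ᶜ (τ k) := by
  refine PiElt.map (piElt_of_pow_eq_one ((piNat_compl_singleton Nat.prime_two).2 ?_) pow_card_eq_one') τ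
  have ev := FiniteField.even_card_of_char_two (F := F) (ringChar.eq F 2)
  have := Fintype.card_pos (α := F)
  rw [Nat.card_units, Nat.card_eq_fintype_card]
  omega

end UM

open UM in
theorem exists_ud {H : Type*} [Group H] [Finite H] (L : Subgroup H) (hq : IsQuasisimple L) {F : Type v}
    [Field F] [Fintype F] {a : ℕ} (ha : 2 ≤ a) (hF : Fintype.card F = 4 ^ a)
    (e : Nonempty (L ⧸ center L ≃* PSU 3 F (2 ^ a))) :
    ∃ (E : Type v) (_ : Field E) (_ : Fintype E) (_ : Algebra E F) (K : UF E F), Nonempty (UD K L) := by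
  obtain ⟨e⟩ := e
  replace hF : Fintype.card F = (2 ^ a) ^ 2 := by rw [hF, ← pow_mul, mul_comm, pow_mul]; rfl
  have h4 : 4 ≤ 2 ^ a := Nat.pow_le_pow_right (n := 2) two_pos ha
  have : CharP F 2 := by
    obtain ⟨p, k, hp, c, k0, e⟩ := H15.exists_char_pow hF
    obtain rfl : p = 2 := (Nat.prime_dvd_prime_iff_eq hp Nat.prime_two).1
      (hp.dvd_of_dvd_pow (e ▸ dvd_pow_self p k0.ne'))
    exact c
  generalize 2 ^ a = q at e hF h4
  obtain ⟨X⟩ := exists_R1 hF h4 hq.1 e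
  obtain ⟨c, hc⟩ := exists_c (hF := hF)
  obtain ⟨μ, m1, m2⟩ := exists_mu (hF := hF) h4
  have ap : ∀ (g : N[L]) (x : L), ((L.normalizerMonoidHom g x : L) : H) = g * x * (g : H)⁻¹ :=
    fun _ _ => rfl
  have z1 : ub hc 0 1 ≠ 1 := fun e => by simpa [ub] using congrArg Uq.y e
  have nS : ∀ l : L, (l * X.u (ub hc 0 1) * (l : H)⁻¹ ∉
      Set.range fun p : F × EE hF => (X.u (ub hc p.1 p.2) : H)) ↔ l ∉ N[X.u.range] := fun l =>
    not_congr ⟨fun ⟨p, e⟩ => X.B_of z1 ⟨_, Subtype.ext e⟩, fun h => by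
      obtain ⟨d, e⟩ := conj_mem h ⟨ub hc 0 1, rfl⟩
      obtain ⟨b, e'⟩ := exists_ub hc d
      exact ⟨(_, b), (congrArg _ (congrArg _ e'.symm)).trans (congrArg Subtype.val e)⟩⟩
  have cL : ∀ x : L, x ∈ center L ↔ (x : H) ∈ C[L] := fun x => by
    rw [mem_center_iff, mem_C]
    exact ⟨fun h y hy => congrArg Subtype.val (h ⟨y, hy⟩), fun h y => Subtype.ext (h y y.2)⟩
  have cm : ∀ k l, (X.τ k : H) * X.τ l = X.τ l * X.τ k := fun k l => by
    rw [← coe_mul, ← map_mul, mul_comm, map_mul, coe_mul]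
  refine ⟨EE hF, inferInstance, inferInstance, inferInstance, KK hc h4 m1 m2, ⟨{
    u := fun a b => X.u (ub hc a b)
    h := fun k => X.τ (io k)
    w := X.τ μ
    n := X.n
    u_mem := fun a b => (X.u _).2
    h_mem := fun k => (X.τ _).2
    w_mem := (X.τ _).2
    n_mem := X.n.2
    u_mul := fun a b a' b' => ?_
    u_inj := fun {a b a' b'} h => ?_
    h_u := fun k a b => congrArg Subtype.val ((X.hu _ _).trans (congrArg _ (aut_ub hc k a b)))
    w_u := fun a b => congrArg Subtype.val ((X.hu _ _).trans (congrArg _ ?_))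
    h_odd := fun k => odd_τ (L.subtype.comp X.τ) _
    w_odd := odd_τ (L.subtype.comp X.τ) _
    h_comm := fun k l => cm _ _
    h_w := fun k => cm _ _
    n_w := ?_
    n_S := (nS _).2 X.nN
    n_h := fun k b => ?_
    card := (card_EE hF).symm ▸ X.card
    cL := isPi_iff_piElt.2 fun g hg => ?_
    ti := fun g hg a b a' b' h1 h2 => ?_
    autS := fun g hg h => ?_
    cK := fun g hg h1 h2 b => ?_
    gen := fun M a a0 l hl h1 h2 h3 a' b' => ?_ }⟩⟩
  · rw [← coe_mul, ← map_mul]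
    congr 2
    ext
    · rfl
    · change (b : F) + _ + (b' + _) + a * H15.frob hF a' = b + b' + (H15.frob hF c * a * H15.frob hF a' +
        H15.frob hF (H15.frob hF c * a * H15.frob hF a')) + c * ((a + a') * H15.frob hF (a + a'))
      simp only [map_add, map_mul, hc, ss, map_one]
      grind
  · have := X.ui (Subtype.ext h)
    obtain rfl : a = a' := congrArg Uq.x this
    exact ⟨rfl, Subtype.ext (add_right_cancel (congrArg Uq.y this))⟩
  · ext
    · rfl
    · rw [aut_y, lam_nm, m1, one_mul]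
      change (b : F) + _ = b + c * (lam hF μ * a * H15.frob hF (lam hF μ * a))
      rw [map_mul, mul_mul_mul_comm, lam_nm, m1, one_mul]
  · have := X.nτ μ
    rw [show (Units.map (H15.frob hF : F →* F) μ)⁻¹ = μ from
      inv_eq_of_mul_eq_one_left (Units.ext m1), ← eq_mul_inv_iff_mul_eq, X.ni] at this
    exact congrArg Subtype.val this
  · have := X.nτ (io k)⁻¹
    rw [show (Units.map (H15.frob hF : F →* F) (io k)⁻¹)⁻¹ = io k from
      Units.ext (by simpa using io_fix k)] at this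
    refine congrArg Subtype.val (?_ : X.τ (io k) * (X.n * X.u _ * X.n⁻¹) * (X.τ (io k))⁻¹ = X.n * _ * X.n⁻¹)
    have e := aut_ub hc k 0 b
    rw [smul_zero] at e
    have e1 : X.τ (io k) * X.n = X.n * (X.τ (io k))⁻¹ := by
      rw [← map_inv, ← this, mul_assoc, X.nn, mul_one]
    rw [← e, ← X.hu, show ∀ t n u : L, t * (n * (t * u * t⁻¹) * n⁻¹) * t⁻¹ =
      t * n * t * u * (t * n * t)⁻¹ from fun _ _ _ => by group, e1, inv_mul_cancel_right]
  · obtain ⟨k, e⟩ := X.cen ⟨g, hg.1⟩ ((cL _).2 hg.2)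
    rw [show g = X.τ k from congrArg Subtype.val e]
    exact odd_τ (L.subtype.comp X.τ) k
  · obtain ⟨d, k, e⟩ := X.ti (g := ⟨g, hg⟩) (a := ub hc a b) (b := ub hc a' b')
      (fun e => h1 (by rw [e, map_one]; rfl)) (Subtype.ext h2)
    obtain rfl : g = X.u d * X.τ k := congrArg Subtype.val e
    refine ⟨lam hF k, fun a b => ?_⟩
    obtain ⟨b', e'⟩ := exists_ub hc (d * aut (lam hF k) (ub hc a b) * d⁻¹)
    rw [show (d * aut (lam hF k) (ub hc a b) * d⁻¹).x = lam hF k * a by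
      simp only [mul_x, inv_x, aut_x, ub]; grind] at e'
    refine ⟨b', ?_⟩
    rw [← e', map_mul, map_mul, map_inv, ← X.hu]
    simp [mul_assoc]
  · obtain ⟨d, e⟩ := X.autS (α := L.normalizerMonoidHom ⟨g, hg⟩) fun d => by
      obtain ⟨b, e⟩ := exists_ub hc d
      obtain ⟨b', e'⟩ := h d.x b
      exact ⟨ub hc d.x b', Subtype.ext (by rw [ap, e]; exact e'), rfl⟩
    obtain ⟨b, e'⟩ := exists_ub hc d
    refine ⟨d.x, b, (X.u d : H)⁻¹ * g, mem_C'.2 fun x hx => ?_, by rw [← e']; group⟩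
    have := congrArg Subtype.val (e ⟨x, hx⟩)
    rw [ap] at this
    simp only [coe_mul, InvMemClass.coe_inv] at this
    rw [mul_assoc, eq_mul_of_mul_inv_eq this]
    group
  · obtain ⟨k, hk⟩ := exists_ne_one (hF := hF) h4
    have := congrArg Subtype.val (X.cK (α := L.normalizerMonoidHom ⟨g, hg⟩) (fun y => by
      obtain ⟨b, e⟩ := ze_ub hc y
      exact Subtype.ext (by rw [ap, e, mul_inv_eq_iff_eq_mul]; exact h1 b)) (io_fix k) hk
      ((cL _).2 (h2 k)) (b * c))
    rwa [ap, ← ub_ze hc, mul_inv_eq_iff_eq_mul] at this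
  · refine X.gen (Y := M.subgroupOf L) a0 ((nS ⟨l, hl⟩).1 h1) (fun d e e1 e2 => ?_) (fun y => ?_) _
    · obtain ⟨b, e'⟩ := exists_ub hc d
      rw [e', e2]
      exact h2 ⟨e, e1⟩ b
    · obtain ⟨b, e⟩ := ze_ub hc y
      rw [e]
      exact h3 b

end H2.U3
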