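import Mathlib
import Cfsg.Agent.H2.UDefs
import Cfsg.Agent.H2.UL2

set_option autoImplicit false
set_option linter.unusedVariables false
set_option linter.unusedSectionVars false

namespace H2.U3

open Cfsg H24 Subgroup
open H2.SZ (St DD Goal)
open H2.C2 (Cl2)

universe u v

variable {G : Type u} [Group G] [Finite G] {E F : Type*} [Field E] [Fintype E] [Field F] [Fintype F]
  [Algebra E F] {K : UF E F} {L G0 D P P0 Q R A B C H T M W W1 W2 Z1 Z2 : Subgroup G}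
  {t g s f x y i v p : G} {X : UD K L} {a k : F} {b : E} {ρ : F ≃+* F}

local notation "𝐪" => Fintype.card E

/-! ### UP0 -/

section
variable {A0 : Type*} [AddCommGroup A0] {q0 : F × F → A0} {ι : E → A0} {τ : A0 → A0}
  (Y : PB X t A0 q0 ι τ)

theorem PB.up0_m (x : A0) : Y.π (Y.m x) = 0 := (Y.π_ker _ (Y.m_mem x)).2 ⟨x, rfl⟩
theorem PB.up0_sq (x : A0) : Y.m x * Y.m x = 1 := by rw [← Y.m_add, Y.two, Y.m_zero]
theorem PB.up0_inv (x : A0) : (Y.m x)⁻¹ = Y.m x := inv_eq_of_mul_eq_one_right (Y.up0_sq x)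
theorem PB.up0_c (x : A0) (hg : g ∈ Y.P) : Y.m x * g = g * Y.m x := (mem_C.1 (Y.m_cen x) g hg).symm
theorem up0_two (K : UF E F) (v : F × F) : v + v = 0 := Prod.ext (K.addF _) (K.addF _)

theorem PB.cm (hg : g ∈ Y.P) (hp : p ∈ Y.P) :
    g * p * g⁻¹ = p * Y.m (q0 (Y.π g + Y.π p) + q0 (Y.π g) + q0 (Y.π p)) := by
  have e : g * p * g⁻¹ = g * p * (g * p) * (p * (p * p)⁻¹) * (g * g)⁻¹ := by group
  rw [e, ← Y.π_mul g hg p hp, Y.sq _ (mul_mem hg hp), Y.sq g hg, Y.sq p hp, Y.up0_inv, Y.up0_inv, ← mul_assoc,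
    Y.up0_c _ hp, mul_assoc, mul_assoc, ← Y.m_add, ← Y.m_add, add_comm (q0 (Y.π p)), add_assoc]

theorem PB.eqm (hg : g ∈ Y.P) (hp : p ∈ Y.P) (e : Y.π g = Y.π p) : ∃ x, g = p * Y.m x := by
  obtain ⟨x, hx⟩ := (Y.π_ker _ (mul_mem (inv_mem hp) hg)).1 (by
    rw [Y.π_mul _ (inv_mem hp) _ hg, Y.π_inv hp, e, up0_two K])
  exact ⟨x, by rw [← hx, mul_inv_cancel_left]⟩

theorem PB.four (hg : g ∈ Y.P) : g * g * (g * g) = 1 := by rw [Y.sq g hg, Y.up0_sq]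

theorem PB.pi : IsPi {2} Y.P :=
  (isPi_iff_isPGroup Nat.prime_two).2 fun g => ⟨2, Subtype.ext (by
    have := Y.four g.2
    simpa [pow_succ, mul_assoc] using this)⟩

theorem PB.cl2 : Cl2 Y.P := commutator_le.2 fun g hg p hp => by
  rw [commutatorElement_def, Y.cm hg hp, ← Y.up0_c _ hp, mul_inv_cancel_right]
  exact Y.m_cen _

theorem PB.U_le : Y.U ≤ Y.A1 ⊓ Y.A2 := fun g hg => by
  obtain ⟨x, rfl⟩ := Y.mem_U.1 hg
  exact ⟨Y.mem_A1.2 ⟨Y.m_mem x, by rw [Y.up0_m]; rfl⟩, Y.mem_A2.2 ⟨Y.m_mem x, by rw [Y.up0_m]; rfl⟩⟩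

theorem PB.inf : Y.A1 ⊓ Y.A2 = Y.U := le_antisymm (fun g hg => Y.mem_U.2 ((Y.π_ker g (Y.mem_A1.1 hg.1).1).1
  (Prod.ext (Y.mem_A2.1 hg.2).2 (Y.mem_A1.1 hg.1).2))) Y.U_le

theorem PB.sup : Y.A1 ⊔ Y.A2 = Y.P := by
  refine le_antisymm (sup_le (fun g hg => (Y.mem_A1.1 hg).1) fun g hg => (Y.mem_A2.1 hg).1) fun g hg => ?_
  obtain ⟨p, hp, e⟩ := Y.π_surj ((Y.π g).1, 0)
  rw [← mul_inv_cancel_left p g]
  refine mul_mem_sup (Y.mem_A1.2 ⟨hp, by rw [e]⟩) (Y.mem_A2.2 ⟨mul_mem (inv_mem hp) hg, ?_⟩)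
  rw [Y.π_mul _ (inv_mem hp) _ hg, Y.π_inv hp, e]
  exact K.addF _

theorem PB.card_U : ♯Y.U = Nat.card A0 :=
  (Nat.card_congr (Equiv.ofBijective (fun x => (⟨Y.m x, Y.mem_U.2 ⟨x, rfl⟩⟩ : Y.U))
    ⟨fun x y h => Y.m_inj (congrArg Subtype.val h), fun g =>
      (Y.mem_U.1 g.2).imp fun x e => Subtype.ext e.symm⟩)).symm

theorem PB.up0_idx {V : Type*} [AddCommGroup V] (hB : B ≤ Y.P) (f : F × F →+ V)
    (h1 : ∀ p ∈ B, f (Y.π p) = 0 → Y.π p = 0) (h2 : ∀ v, ∃ p ∈ B, f (Y.π p) = v) :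
    Y.U.relIndex B = Nat.card V := by
  let φ : B →* Multiplicative V := MonoidHom.mk' (fun p => Multiplicative.ofAdd (f (Y.π p))) fun x y => by
    rw [coe_mul, Y.π_mul _ (hB x.2) _ (hB y.2), map_add, ofAdd_add]
  have e : Y.U.subgroupOf B = φ.ker := by
    ext p
    rw [mem_subgroupOf, Y.mem_U, ← Y.π_ker _ (hB p.2)]
    exact ⟨fun e => congrArg Multiplicative.ofAdd (by rw [e, map_zero]),
      fun e => h1 _ p.2 (congrArg Multiplicative.toAdd e)⟩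
  rw [relIndex, e, index_ker, MonoidHom.range_eq_top.2 fun v => by
    obtain ⟨p, hp, e⟩ := h2 v.toAdd
    exact ⟨⟨p, hp⟩, congrArg Multiplicative.ofAdd e⟩, card_top]
  rfl

theorem PB.idx_U : Y.U.relIndex Y.P = 𝐪 ^ 4 ∧ Y.U.relIndex Y.A1 = 𝐪 ^ 2 ∧ Y.U.relIndex Y.A2 = 𝐪 ^ 2 := by
  refine ⟨?_, ?_, ?_⟩
  · rw [Y.up0_idx le_rfl (AddMonoidHom.id _) (fun _ _ e => e) Y.π_surj, Nat.card_prod,
      Nat.card_eq_fintype_card, K.card]
    ring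
  · rw [Y.up0_idx (fun g hg => (Y.mem_A1.1 hg).1) (AddMonoidHom.fst F F)
      (fun p hp e => Prod.ext e (Y.mem_A1.1 hp).2) fun a => by
        obtain ⟨p, hp, e⟩ := Y.π_surj (a, 0)
        exact ⟨p, Y.mem_A1.2 ⟨hp, by rw [e]⟩, by rw [e]; rfl⟩, Nat.card_eq_fintype_card, K.card]
  · rw [Y.up0_idx (fun g hg => (Y.mem_A2.1 hg).1) (AddMonoidHom.snd F F)
      (fun p hp e => Prod.ext (Y.mem_A2.1 hp).2 e) fun a => by
        obtain ⟨p, hp, e⟩ := Y.π_surj (0, a)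
        exact ⟨p, Y.mem_A2.2 ⟨hp, by rw [e]⟩, by rw [e]; rfl⟩, Nat.card_eq_fintype_card, K.card]

theorem PB.up0_t (h : Sc L G0 t) : t ∈ N[Y.P] :=
  Y.nrm t (norm_of_cent (le_rfl : C[X.S] ≤ _) (cents_of_le le_rfl X.S_le h.tC)) rfl

theorem PB.t_sw (h : Sc L G0 t) : cj t Y.A1 = Y.A2 ∧ cj t Y.A2 = Y.A1 := by
  have e1 : cj t Y.A1 ≤ Y.A2 := fun x hx => by
    obtain ⟨p, hp, rfl⟩ := mem_cj'.1 hx
    rw [Y.mem_A1] at hp
    exact Y.mem_A2.2 ⟨conj_mem (Y.up0_t h) hp.1, by rw [Y.π_t p hp.1]; exact hp.2⟩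
  have e2 : cj t Y.A2 ≤ Y.A1 := fun x hx => by
    obtain ⟨p, hp, rfl⟩ := mem_cj'.1 hx
    rw [Y.mem_A2] at hp
    exact Y.mem_A1.2 ⟨conj_mem (Y.up0_t h) hp.1, by rw [Y.π_t p hp.1]; exact hp.2⟩
  have c1 := card_le e1
  have c2 := card_le e2
  rw [card_cj] at c1 c2
  exact ⟨eq_of_card_ge e1 (by rwa [card_cj]), eq_of_card_ge e2 (by rwa [card_cj])⟩

theorem PB.exists_env (h : Lc X G0 t D) : ∃ P, Env X G0 t D Y.P P := by
  obtain ⟨T, h1, -, h2⟩ := h.toSc.exists_T X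
  have tN := Y.up0_t h.toSc
  have ti : t⁻¹ = t := inv_eq_of_mul_eq_one_right h.tt
  refine h.exists_env Y.pi Y.S_le h1 h2 (fun g hg => Y.nrm g (h2 hg) (mem_C1.1 (h1.le hg))) (fun p hp => ?_)
    fun p hp e => ?_
  · have e : t * p * t⁻¹ = p := by rw [← mem_C1.1 hp.2, mul_inv_cancel_right]
    have e1 := Y.π_t p hp.1
    rw [e] at e1
    obtain ⟨a, e2⟩ : ∃ a, Y.π p = (a, a) := ⟨(Y.π p).1, Prod.ext rfl (congrArg Prod.fst e1).symm⟩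
    obtain ⟨x, rfl⟩ := Y.eqm hp.1 (Y.S_le (X.u_mem_S a 0)) (by rw [Y.π_u, e2])
    rw [← conj_mul, Y.t_m, ← h.toSc.tu (X.u_mem _ _), mul_inv_cancel_right, mul_right_inj] at e
    obtain ⟨b, e⟩ := (Y.fixτ x).1 (Y.m_inj e)
    rw [e, ← Y.z_eq]
    exact mul_mem (X.u_mem_S _ _) (X.Z_le_S (X.z_mem_Z b))
  · have e0 : t * p * t⁻¹ * p = 1 := by rw [ti, mul_assoc, e]
    have e1 := congrArg Y.π e0
    rw [Y.π_mul _ (conj_mem tN hp) _ hp, Y.π_t p hp, Y.π_one] at e1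
    obtain ⟨g, hg, e2⟩ := Y.π_surj ((Y.π p).1, 0)
    have m := conj_mem tN hg
    obtain ⟨y, e3⟩ := Y.eqm (mul_mem m (inv_mem hg)) hp (by
      rw [Y.π_mul _ m _ (inv_mem hg), Y.π_inv hg, Y.π_t g hg, e2]
      have := congrArg Prod.fst e1
      simp only [Prod.fst_add, Prod.fst_swap, Prod.fst_zero] at this
      ext
      · simp
      · simp only [Prod.snd_add, Prod.snd_swap, add_zero]
        linear_combination this - K.addF (Y.π p).2)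
    have e4 : t * (p * Y.m y) * t⁻¹ * (p * Y.m y) = 1 := by
      rw [← e3, ti]
      calc _ = t * t * g * t * g⁻¹ * (t * t) * g * t * g⁻¹ := by group
        _ = g * (t * t) * g⁻¹ := by rw [h.tt]; simp [mul_assoc, h.tt]
        _ = 1 := by rw [h.tt]; group
    rw [← conj_mul, Y.t_m, mul_assoc, ← mul_assoc (Y.m _), Y.up0_c _ hp, mul_assoc p, ← Y.m_add, ← mul_assoc, e0,
      one_mul, ← Y.m_zero] at e4
    obtain ⟨c, rfl⟩ := (Y.fixτ y).1 (by rw [← add_left_inj y, Y.m_inj e4, Y.two])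
    obtain ⟨w, e5⟩ := Y.trτ c
    refine ⟨g * Y.m w, mul_mem hg (Y.m_mem w), ?_⟩
    have e6 : t * (g * Y.m w) * t⁻¹ * (g * Y.m w)⁻¹ = p := by
      rw [← conj_mul, Y.t_m, mul_inv_rev, Y.up0_inv, mul_assoc, ← mul_assoc (Y.m _), ← Y.m_add, e5,
        Y.up0_c _ (inv_mem hg), ← mul_assoc, e3, mul_assoc, Y.up0_sq, mul_one]
    rw [← e6, ti, ← mul_assoc, ← mul_assoc, ← mul_assoc, h.tt, one_mul]

/-- the action of an element normalising `A₁` and `A₂` -/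
theorem PB.exists_act (h1 : g ∈ N[Y.A1]) (h2 : g ∈ N[Y.A2]) : ∃ (α1 α2 : F →+ F) (γ : A0 →+ A0),
    Function.Injective α1 ∧ Function.Injective α2 ∧ Function.Injective γ ∧
    (∀ p ∈ Y.P, Y.π (g * p * g⁻¹) = (α1 (Y.π p).1, α2 (Y.π p).2)) ∧
    (∀ x, g * Y.m x * g⁻¹ = Y.m (γ x)) ∧ ∀ v, γ (q0 v) = q0 (α1 v.1, α2 v.2) := by
  have gP : g ∈ N[Y.P] := Y.sup ▸
    norm_sup (inf_le_left : N[Y.A1] ⊓ N[Y.A2] ≤ _) inf_le_right ⟨h1, h2⟩
  have gU : g ∈ N[Y.U] := Y.inf ▸ norm_inf (inf_le_left : N[Y.A1] ⊓ N[Y.A2] ≤ _) inf_le_right ⟨h1, h2⟩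
  choose γ hγ using fun x => Y.mem_U.1 (conj_mem gU (Y.mem_U.2 ⟨x, rfl⟩))
  choose s hs es using Y.π_surj
  have k : ∀ p ∈ Y.P, Y.π (g * p * g⁻¹) = Y.π (g * s (Y.π p) * g⁻¹) := fun p hp => by
    obtain ⟨x, e⟩ := Y.eqm hp (hs (Y.π p)) (es _).symm
    rw [e, ← conj_mul, hγ, Y.π_mul _ (conj_mem gP (hs _)) _ (Y.m_mem _), Y.up0_m, add_zero, ← e]
  let Φ : F × F →+ F × F := AddMonoidHom.mk' (fun v => Y.π (g * s v * g⁻¹)) fun v w => by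
    rw [← Y.π_mul _ (conj_mem gP (hs v)) _ (conj_mem gP (hs w)), conj_mul, k _ (mul_mem (hs v) (hs w)),
      Y.π_mul _ (hs v) _ (hs w), es, es]
  have i : ∀ v, Φ v = 0 → v = 0 := fun v e => by
    have := conj_mem' gU (Y.mem_U.2 ((Y.π_ker _ (conj_mem gP (hs v))).1 e))
    rw [show g⁻¹ * (g * s v * g⁻¹) * g = s v by group] at this
    rw [← es v]
    exact (Y.π_ker _ (hs v)).2 (Y.mem_U.1 this)
  have z1 : ∀ a, (Φ (a, 0)).2 = 0 := fun a =>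
    (Y.mem_A1.1 (conj_mem h1 (Y.mem_A1.2 ⟨hs (a, 0), by rw [es]⟩))).2
  have z2 : ∀ a, (Φ (0, a)).1 = 0 := fun a =>
    (Y.mem_A2.1 (conj_mem h2 (Y.mem_A2.2 ⟨hs (0, a), by rw [es]⟩))).2
  have d : ∀ v : F × F, Φ v = ((Φ (v.1, 0)).1, (Φ (0, v.2)).2) := fun v => by
    have : Φ v = Φ (v.1, 0) + Φ (0, v.2) := by rw [← map_add]; simp
    rw [this]
    ext <;> simp [z1, z2]
  refine ⟨(AddMonoidHom.fst F F).comp (Φ.comp (AddMonoidHom.inl F F)),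
    (AddMonoidHom.snd F F).comp (Φ.comp (AddMonoidHom.inr F F)),
    AddMonoidHom.mk' γ fun x y => Y.m_inj (by rw [← hγ, Y.m_add, Y.m_add, ← hγ, ← hγ, conj_mul]),
    (injective_iff_map_eq_zero _).2 fun a e => congrArg Prod.fst (i (a, 0) (Prod.ext e (z1 a))),
    (injective_iff_map_eq_zero _).2 fun a e => congrArg Prod.snd (i (0, a) (Prod.ext (z2 a) e)),
    fun x y (e : γ x = γ y) => Y.m_inj (by
      have := (hγ x).trans (e ▸ (hγ y).symm)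
      simpa using this),
    fun p hp => (k p hp).trans (d _), hγ, fun v => Y.m_inj ?_⟩
  have := Y.sq _ (conj_mem gP (hs v))
  rw [conj_mul, Y.sq _ (hs v), es, hγ] at this
  exact this.trans (congrArg (fun w => Y.m (q0 w)) (d v))

variable {Y}
theorem Env.kerB (h : Env X G0 t D Y.P P) (hx : x ∈ P) (h1 : ∀ p ∈ Y.P, Y.π (x * p * x⁻¹) = Y.π p) :
    x ∈ Y.P := by
  let R : Subgroup G :=
    { carrier := {x | x ∈ P ∧ ∀ p ∈ Y.P, Y.π (x * p * x⁻¹) = Y.π p}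
      one_mem' := ⟨one_mem _, fun p _ => by simp⟩
      mul_mem' := fun {x y} hx hy => ⟨mul_mem hx.1 hy.1, fun p hp => by
        rw [show x * y * p * (x * y)⁻¹ = x * (y * p * y⁻¹) * x⁻¹ by group, hx.2 _ (conj_mem (h.P_N hy.1) hp),
          hy.2 p hp]⟩
      inv_mem' := fun {x} hx => ⟨inv_mem hx.1, fun p hp => by
        rw [← hx.2 _ (conj_mem (h.P_N (inv_mem hx.1)) hp)]
        congr 1
        group⟩ }
  have tN := h.P_N h.t_mem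
  have BR : Y.P ≤ R := fun g hg => ⟨h.B_le hg, fun p hp => by
    rw [Y.cm hg hp, Y.π_mul _ hp _ (Y.m_mem _), Y.up0_m, add_zero]⟩
  refine h.ker (R := R) BR (fun _ k => k.1) (mem_N_of_finite fun r hr =>
    ⟨mul_mem (mul_mem h.t_mem hr.1) (inv_mem h.t_mem), fun p hp => ?_⟩) (fun r hr => ?_) ⟨hx, h1⟩
  · have m := conj_mem' tN hp
    have e := Y.π_t _ m
    rw [show t * (t⁻¹ * p * t) * t⁻¹ = p by group] at e
    rw [show t * r * t⁻¹ * p * (t * r * t⁻¹)⁻¹ = t * (r * (t⁻¹ * p * t) * r⁻¹) * t⁻¹ by group,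
      Y.π_t _ (conj_mem (h.P_N hr.1) m), hr.2 _ m, ← e]
  · have n := h.T_S ⟨hr.1.1, hr.2⟩
    have a : X.Act r 1 1 := ⟨one_ne_zero, fun a b => by
      obtain ⟨c, d, e⟩ := X.mem_S.1 (conj_mem n (X.u_mem_S a b))
      have := hr.1.2 _ (Y.S_le (X.u_mem_S a b))
      rw [e, Y.π_u, Y.π_u] at this
      exact ⟨d, by rw [e, show c = a from congrArg Prod.fst this]; simp⟩⟩
    rcases (h.toSc.mem_T X).1 (h.toLc.two_T n (mem_C1.1 hr.2) (h.piP.piElt hr.1.1) a.χ_eq) with e | e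
    · exact Y.S_le e
    · have : t ∈ R := (R.mul_mem_cancel_right hr.1).1 (BR (Y.S_le e))
      obtain ⟨p, hp, e1⟩ := Y.π_surj (1, 0)
      have e2 := this.2 p hp
      rw [Y.π_t p hp, e1] at e2
      simpa using congrArg Prod.snd e2
end

end H2.U3
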