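import Mathlib
import Cfsg.Agent.H2.UDefs
import Cfsg.Agent.H2.UP0

set_option autoImplicit false
set_option linter.unusedVariables false
set_option linter.unusedSectionVars false

namespace H2.U3

open Cfsg H24 Subgroup
open H2.SZ (St DD Goal)
open H2.C2 (Cl2)

universe u v

variable {G : Type u} [Group G] [Finite G] {E F : Type*} [Field E] [Fintype E] [Field F] [Fintype F]
  [Algebra E F] {K : UF E F} {L G0 D P P0 Q R A B C H T M W W1 W2 Z1 Z2 : Subgroup G}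
  {t g s f x y i v p : G} {X : UD K L} {a k : F} {b : E} {ρ : F ≃+* F}

local notation "𝐪" => Fintype.card E

/-! ### UN1 -/

theorem un1_idx {V : Type*} [Finite V] (f : G → V)
    (h : ∀ a ∈ B, ∀ b ∈ B, f a = f b → a⁻¹ * b ∈ A) : A.relIndex B ≤ Nat.card V :=
  Nat.card_le_card_of_injective (fun c : B ⧸ A.subgroupOf B => f (c.out : B)) fun c d e => by
    rw [← c.out_eq', ← d.out_eq', QuotientGroup.eq]
    exact h _ c.out.2 _ d.out.2 e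

theorem un1_two (h : ∀ a ∈ B, ∀ b ∈ B, a ∉ A → b ∉ A → a⁻¹ * b ∈ A) : A.relIndex B ≤ 2 := by
  have := un1_idx (A := A) (B := B) (fun g => g ∈ A) fun a ha b hb e => by
    by_cases k : a ∈ A
    · exact A.mul_mem (A.inv_mem k) (e ▸ k)
    · exact h a ha b hb k (e ▸ k)
  rwa [Nat.card_eq_fintype_card, Fintype.card_prop] at this

theorem un1_zp (h : x * x = 1) (hy : y ∈ zpowers x) : y = 1 ∨ y = x := by
  obtain ⟨n, rfl⟩ := hy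
  have h2 : x ^ (2 : ℤ) = 1 := by rw [zpow_two, h]
  rcases Int.even_or_odd' n with ⟨k, rfl | rfl⟩
  · left; simp only [zpow_mul, h2, one_zpow]
  · right; simp only [zpow_add, zpow_mul, h2, one_zpow, one_mul, zpow_one]

theorem un1_rk (h : Sc L G0 t) (X : UD K L) (hs : DD t s) (ss : s * s = 1) (h1 : B ≤ C{s})
    (el : ∀ a ∈ B, a * a = 1) (hn : s ∉ B) (hc : 𝐪 ^ 2 ≤ ♯B) : False := by
  have n1 : zpowers s ≤ N[B] := norm_of_cent (zpowers_le.2 (mem_C_iff_le_C1.2 h1))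
  have h2 := h.RK X hs (A := B ⊔ zpowers s) (sup_le h1 (zpowers_le_C1 s)) fun a ha => by
    obtain ⟨b, hb, c, hc, rfl⟩ := (mem_sup_of_norm n1).1 ha
    rcases un1_zp ss hc with rfl | rfl
    · rw [mul_one, el b hb]
    · rw [mul_assoc, ← mul_assoc c, ← mem_C1.1 (h1 hb), mul_assoc b, ss, mul_one, el b hb]
  obtain ⟨m, hm⟩ := card_dvd (le_sup_left : B ≤ B ⊔ zpowers s)
  have h3 := card_lt (lt_of_le_of_ne (le_sup_left : B ≤ B ⊔ zpowers s) fun e =>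
    hn (e ▸ mem_sup_right (mem_zpowers s)))
  have h4 := K.four
  have h5 : 2 ≤ m := by
    by_contra k
    have : m ≤ 1 := by omega
    nlinarith
  nlinarith

theorem un1_fix (K : UF E F) (k : F) : Nat.card {c : F // k * K.σ c = c} ≤ 𝐪 := by
  rw [← Nat.card_eq_fintype_card]
  by_cases h : ∃ c0, c0 ≠ 0 ∧ k * K.σ c0 = c0
  · obtain ⟨c0, h0, h1⟩ := h
    have : ∀ c : {c : F // k * K.σ c = c}, ∃ e : E, algebraMap E F e = c / c0 := fun c =>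
      (K.fix _).1 (by
        have s0 : K.σ c0 ≠ 0 := by simpa using h0
        rw [map_div₀, div_eq_div_iff s0 h0]
        linear_combination K.σ c0 * c.2 - K.σ c * h1)
    choose e he using this
    exact Nat.card_le_card_of_injective e fun c d k => Subtype.ext
      ((div_left_inj' h0).1 (by rw [← he, ← he, k]))
  · push Not at h
    exact Nat.card_le_card_of_injective (fun _ => (0 : E)) fun c d _ => Subtype.ext
      ((by_contra fun k => h c k c.2 : (c : F) = 0).trans (by_contra fun k => h d k d.2 : (d : F) = 0).symm)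

section
variable {Y : NS X t}
theorem NS.el (Y : NS X t) : (∀ a ∈ Y.A1, a * a = 1) ∧ (∀ a ∈ Y.A2, a * a = 1) ∧ ♯Y.A1 = 𝐪 ^ 4 ∧
    ♯Y.A2 = 𝐪 ^ 4 ∧ ∀ p ∈ Y.P, p * p = 1 → p ∈ Y.A1 ∨ p ∈ Y.A2 := by
  have c : ♯Y.U = 𝐪 ^ 2 := by rw [Y.card_U, Nat.card_eq_fintype_card, K.card]
  refine ⟨fun a ha => ?_, fun a ha => ?_, ?_, ?_, fun p hp e => ?_⟩
  · rw [Y.sq a (Y.mem_A1.1 ha).1]; simp only [(Y.mem_A1.1 ha).2, map_zero, mul_zero, Y.m_zero]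
  · rw [Y.sq a (Y.mem_A2.1 ha).1]; simp only [(Y.mem_A2.1 ha).2, zero_mul, Y.m_zero]
  · rw [← card_mul_relIndex (Y.U_le.trans inf_le_left), c, Y.idx_U.2.1]; ring
  · rw [← card_mul_relIndex (Y.U_le.trans inf_le_right), c, Y.idx_U.2.2]; ring
  · rcases mul_eq_zero.1 (Y.m_inj ((Y.sq p hp).symm.trans (e.trans Y.m_zero.symm))) with k | k
    · exact .inr (Y.mem_A2.2 ⟨hp, k⟩)
    · exact .inl (Y.mem_A1.2 ⟨hp, by simpa using k⟩)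

theorem NS.un1_le (Y : NS X t) : Y.A1 ≤ Y.P ∧ Y.A2 ≤ Y.P :=
  ⟨fun _ h => (Y.mem_A1.1 h).1, fun _ h => (Y.mem_A2.1 h).1⟩

theorem NS.un1_or (Y : NS X t) (h1 : A ≤ Y.P) (el : ∀ a ∈ A, a * a = 1) : A ≤ Y.A1 ∨ A ≤ Y.A2 := by
  by_contra h
  simp only [not_or, SetLike.le_def, not_forall] at h
  obtain ⟨⟨a, ha, a1⟩, b, hb, b2⟩ := h
  have a2 := (Y.el.2.2.2.2 a (h1 ha) (el a ha)).resolve_left a1
  have b1 := (Y.el.2.2.2.2 b (h1 hb) (el b hb)).resolve_right b2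
  rcases Y.el.2.2.2.2 _ (h1 (A.mul_mem ha hb)) (el _ (A.mul_mem ha hb)) with k | k
  exacts [a1 ((Y.A1.mul_mem_cancel_right b1).1 k), b2 ((Y.A2.mul_mem_cancel_left a2).1 k)]

theorem NS.un1_eq (Y : NS X t) (h1 : A ≤ Y.P) (el : ∀ a ∈ A, a * a = 1) (h2 : 𝐪 ^ 4 ≤ ♯A) :
    A = Y.A1 ∨ A = Y.A2 :=
  (Y.un1_or h1 el).imp (fun h => eq_of_card_ge h (Y.el.2.2.1 ▸ h2))
    fun h => eq_of_card_ge h (Y.el.2.2.2.1 ▸ h2)

theorem NS.un1_ne (Y : NS X t) : Y.A1 ≠ Y.A2 := fun e => by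
  obtain ⟨g, hg, h⟩ := Y.π_surj (1, 0)
  have := (Y.mem_A2.1 (e ▸ Y.mem_A1.2 ⟨hg, by rw [h]⟩)).2
  rw [h] at this
  exact one_ne_zero this

theorem un1_el (el : ∀ a ∈ A, a * a = 1) (g : G) : ∀ a ∈ cj g A, a * a = 1 := fun a ha => by
  obtain ⟨b, hb, rfl⟩ := mem_cj'.1 ha
  rw [conj_mul, el b hb]; group

theorem NS.un1_perm (Y : NS X t) (h1 : cj g Y.A1 = Y.A1 ∨ cj g Y.A1 = Y.A2)
    (h2 : cj g Y.A2 = Y.A1 ∨ cj g Y.A2 = Y.A2) :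
    g ∈ N[Y.A1] ∧ g ∈ N[Y.A2] ∨ cj g Y.A1 = Y.A2 ∧ cj g Y.A2 = Y.A1 := by
  rcases h1 with a | a <;> rcases h2 with b | b
  exacts [(Y.un1_ne (cj_inj.1 (a.trans b.symm))).elim, .inl ⟨mem_N_iff_cj.2 a, mem_N_iff_cj.2 b⟩,
    .inr ⟨a, b⟩, (Y.un1_ne (cj_inj.1 (a.trans b.symm))).elim]

theorem NS.perm (Y : NS X t) (hg : g ∈ N[Y.P]) :
    g ∈ N[Y.A1] ∧ g ∈ N[Y.A2] ∨ cj g Y.A1 = Y.A2 ∧ cj g Y.A2 = Y.A1 :=
  Y.un1_perm
    (Y.un1_eq (cj_le_of_mem_N Y.un1_le.1 hg) (un1_el Y.el.1 g) (by rw [card_cj, Y.el.2.2.1]))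
    (Y.un1_eq (cj_le_of_mem_N Y.un1_le.2 hg) (un1_el Y.el.2.1 g) (by rw [card_cj, Y.el.2.2.2.1]))

theorem NS.un1_sw (Y : NS X t) (hx : x ∈ N[Y.P]) (hy : y ∈ N[Y.P]) (h1 : x ∉ N[Y.A1])
    (h2 : y ∉ N[Y.A1]) : x * y ∈ N[Y.A1] := by
  rw [mem_N_iff_cj, cj_mul, ((Y.perm hy).resolve_left fun k => h2 k.1).1,
    ((Y.perm hx).resolve_left fun k => h1 k.1).2]

theorem NS.un1_t (Y : NS X t) (h : Sc L G0 t) : t ∉ N[Y.A1] := fun k =>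
  Y.un1_ne ((cj_of_mem_N k).symm.trans (Y.t_sw h).1)

theorem NS.un1_PN (Y : NS X t) : Y.P ≤ N[Y.A1] := fun p hp => mem_N_of_finite fun a ha => by
  obtain ⟨a1, a2⟩ := Y.mem_A1.1 ha
  refine Y.mem_A1.2 ⟨Y.P.mul_mem (Y.P.mul_mem hp a1) (Y.P.inv_mem hp), ?_⟩
  rw [Y.π_mul _ (Y.P.mul_mem hp a1) _ (Y.P.inv_mem hp), Y.π_mul _ hp _ a1, Y.π_inv hp]
  simp only [Prod.snd_add, a2, add_zero, K.addF]

/-- `g` acts on `P / U` as `(k₁ ρ, k₂ ρ)`. -/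
def NS.Ak (Y : NS X t) (g : G) (k1 k2 : F) (ρ : F ≃+* F) : Prop :=
  ∀ p ∈ Y.P, Y.π (g * p * g⁻¹) = (k1 * ρ (Y.π p).1, k2 * ρ (Y.π p).2)

theorem NS.un1_ak (Y : NS X t) (hg : g ∈ N[Y.P]) (h1 : g ∈ N[Y.A1]) : ∃ k1 ≠ 0, ∃ k2 ≠ 0, ∃ ρ,
    Y.Ak g k1 k2 ρ ∧ ∀ x, g * Y.m x * g⁻¹ = Y.m (k1 * K.σ k2 * ρ x) := by
  have h2 : g ∈ N[Y.A2] := ((Y.perm hg).resolve_right fun k =>
    Y.un1_ne ((cj_of_mem_N h1).symm.trans k.1)).2
  obtain ⟨α1, α2, γ, i1, i2, -, e1, e2, e3⟩ := Y.exists_act h1 h2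
  obtain ⟨k1, n1, k2, n2, ρ, f1, f2, f3⟩ := K.autotop α1 α2 γ i1 i2 fun x y => e3 (x, y)
  exact ⟨k1, n1, k2, n2, ρ, fun p hp => by rw [e1 p hp, f1, f2], fun x => by rw [e2, f3]⟩

theorem NS.Ak.mul {k1 k2 l1 l2 : F} {ρ' : F ≃+* F} (h : Y.Ak x k1 k2 ρ) (h' : Y.Ak y l1 l2 ρ')
    (hy : y ∈ N[Y.P]) : Y.Ak (x * y) (k1 * ρ l1) (k2 * ρ l2) (ρ * ρ') := fun p hp => by
  rw [show x * y * p * (x * y)⁻¹ = x * (y * p * y⁻¹) * x⁻¹ by group, h _ (conj_mem hy hp), h' p hp]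
  simp only [map_mul, RingAut.mul_apply, mul_assoc]

theorem NS.Ak.triv {k1 k2 : F} (h : Y.Ak x k1 k2 ρ) (e : ∀ p ∈ Y.P, Y.π (x * p * x⁻¹) = Y.π p) :
    k1 = 1 ∧ k2 = 1 ∧ ρ = 1 := by
  have : ∀ c, k1 * ρ c = c ∧ k2 * ρ c = c := fun c => by
    obtain ⟨p, hp, k⟩ := Y.π_surj (c, c)
    have := (h p hp).symm.trans (e p hp)
    rwa [k, Prod.mk.injEq] at this
  have a1 : k1 = 1 := by simpa using (this 1).1
  exact ⟨a1, by simpa using (this 1).2, RingEquiv.ext fun c => by simpa [a1] using (this c).1⟩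

theorem NS.un1_P (Y : NS X t) (hx : x ∈ Y.P) (hp : p ∈ Y.P) : Y.π (x * p * x⁻¹) = Y.π p := by
  rw [Y.π_mul _ (Y.P.mul_mem hx hp) _ (Y.P.inv_mem hx), Y.π_mul _ hx _ hp, Y.π_inv hx]
  ext <;> simp only [Prod.fst_add, Prod.snd_add] <;> linear_combination K.addF _

theorem Env.un1_one (h : Env X G0 t D Y.P P) (hx : x ∈ P) {k1 k2 : F} (a : Y.Ak x k1 k2 1) :
    x ∈ Y.P := by
  have b : ∀ n : ℕ, Y.Ak (x ^ n) (k1 ^ n) (k2 ^ n) 1 := fun n => by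
    induction n with
    | zero => intro p _; simp
    | succ n ih => simpa only [pow_succ, RingAut.one_apply, mul_one] using ih.mul a (h.P_N hx)
  obtain ⟨n, hn⟩ := (h.piP.piElt hx).exists_pow Nat.prime_two
  obtain ⟨c1, c2, -⟩ := (b (2 ^ n)).triv fun p _ => by rw [← hn, pow_orderOf_eq_one]; simp
  refine h.kerB hx fun p hp => ?_
  rw [a p hp, K.two_scal c1, K.two_scal c2]; simp

theorem Env.un1_σ (h : Env X G0 t D Y.P P) (hx : x ∈ P) (xx : x * x ∈ Y.P) (hn : x ∉ Y.P) {k1 k2 : F}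
    (a : Y.Ak x k1 k2 ρ) : ρ = K.σ :=
  (K.aut_sq ((a.mul a (h.P_N hx)).triv fun p hp => Y.un1_P xx hp).2.2).resolve_left fun e =>
    hn (h.un1_one hx (e ▸ a))

theorem Env.un1_tt (h : Env X G0 t D Y.P P) (hx : x ∈ P) (h1 : x ∈ N[Y.A1]) :
    x * t * x⁻¹ * t ∈ Y.P := by
  have xN := h.P_N hx
  have tN := h.P_N h.t_mem
  obtain ⟨k1, n1, k2, n2, ρ, a, -⟩ := Y.un1_ak xN h1
  refine h.un1_one (P.mul_mem (P.mul_mem (P.mul_mem hx h.t_mem) (P.inv_mem hx)) h.t_mem)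
    (k1 := k1 / k2) (k2 := k2 / k1) fun p hp => ?_
  have p1 := conj_mem' xN (conj_mem tN hp)
  have e := a _ p1
  rw [show x * (x⁻¹ * (t * p * t⁻¹) * x) * x⁻¹ = t * p * t⁻¹ by group, Y.π_t p hp] at e
  rw [show x * t * x⁻¹ * t * p * (x * t * x⁻¹ * t)⁻¹ =
    x * (t * (x⁻¹ * (t * p * t⁻¹) * x) * t⁻¹) * x⁻¹ by group, a _ (conj_mem tN p1), Y.π_t _ p1]
  have e1 : (Y.π p).2 = _ := congrArg Prod.fst e
  have e2 : (Y.π p).1 = _ := congrArg Prod.snd e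
  simp only [RingAut.one_apply, Prod.fst_swap, Prod.snd_swap, e1, e2] at *
  ext <;> field_simp

theorem Env.nsP (h : Env X G0 t D Y.P P) : P ≤ Y.P ⊔ P ⊓ C{t} := fun x hx => by
  by_cases h1 : x ∈ N[Y.A1]
  · exact h.mem_CT.2 ⟨hx, h.un1_tt hx h1⟩
  · have := P.mul_mem hx h.t_mem
    exact (Subgroup.mul_mem_cancel_right _ (mem_sup_right (mem_inf.2 ⟨h.t_mem, self_mem_C1 t⟩))).1 (h.mem_CT.2
      ⟨this, h.un1_tt this (Y.un1_sw (h.P_N hx) (h.P_N h.t_mem) h1 (Y.un1_t h.toSc))⟩)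

theorem NS.un1_small (Y : NS X t) {k1 k2 : F} (a : Y.Ak y k1 k2 K.σ)
    (b : ∀ x, y * Y.m x * y⁻¹ = Y.m (k1 * K.σ k2 * K.σ x)) (h1 : A ≤ C{y})
    (h2 : A ≤ Y.A1 ∨ A ≤ Y.A2) : ♯A ≤ 𝐪 ^ 2 := by
  have hP : A ≤ Y.P := h2.elim (·.trans Y.un1_le.1) (·.trans Y.un1_le.2)
  have c : ∀ p ∈ A, y * p * y⁻¹ = p := fun p hp => mem_C1_iff_conj.1 (mem_C1_comm.1 (h1 hp))
  have d : ∀ p ∈ A, k1 * K.σ (Y.π p).1 = (Y.π p).1 ∧ k2 * K.σ (Y.π p).2 = (Y.π p).2 := fun p hp => by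
    have := a p (hP hp)
    rw [c p hp] at this
    exact ⟨(congrArg Prod.fst this).symm, (congrArg Prod.snd this).symm⟩
  have u : ∀ a ∈ A, ∀ b ∈ A, Y.π a = Y.π b → a⁻¹ * b ∈ Y.U := fun a ha b hb e => by
    rw [Y.mem_U, ← Y.π_ker _ (hP (A.mul_mem (A.inv_mem ha) hb)),
      Y.π_mul _ (hP (A.inv_mem ha)) _ (hP hb), Y.π_inv (hP ha), e]
    ext <;> exact K.addF _
  have i1 : Y.U.relIndex A ≤ 𝐪 := by
    classical
    rcases h2 with h2 | h2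
    · refine (un1_idx (fun p => if hp : p ∈ A then (⟨_, (d p hp).1⟩ : {c : F // k1 * K.σ c = c})
        else ⟨0, by simp⟩) fun a ha b hb e => u a ha b hb ?_).trans (un1_fix K k1)
      simp only [dif_pos ha, dif_pos hb, Subtype.mk.injEq] at e
      exact Prod.ext e ((Y.mem_A1.1 (h2 ha)).2.trans (Y.mem_A1.1 (h2 hb)).2.symm)
    · refine (un1_idx (fun p => if hp : p ∈ A then (⟨_, (d p hp).2⟩ : {c : F // k2 * K.σ c = c})
        else ⟨0, by simp⟩) fun a ha b hb e => u a ha b hb ?_).trans (un1_fix K k2)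
      simp only [dif_pos ha, dif_pos hb, Subtype.mk.injEq] at e
      exact Prod.ext ((Y.mem_A2.1 (h2 ha)).2.trans (Y.mem_A2.1 (h2 hb)).2.symm) e
  have i2 : ♯(Y.U ⊓ A) ≤ 𝐪 := by
    have : ∀ p : ↥(Y.U ⊓ A), ∃ x : {c : F // k1 * K.σ k2 * K.σ c = c}, (p : G) = Y.m x := fun p => by
      obtain ⟨x, hx⟩ := Y.mem_U.1 p.2.1
      exact ⟨⟨x, Y.m_inj (by rw [← b, ← hx, c _ p.2.2])⟩, hx⟩
    choose f hf using this
    exact (Nat.card_le_card_of_injective f fun p p' e => Subtype.ext (by rw [hf, hf, e])).trans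
      (un1_fix K _)
  rw [← card_inf_mul_relIndex Y.U A, sq]
  exact Nat.mul_le_mul i2 i1

theorem Env.nsJ (h : Env X G0 t D Y.P P) (h1 : A ≤ P) (el : ∀ a ∈ A, a * a = 1) (h2 : 𝐪 ^ 4 ≤ ♯A) :
    A = Y.A1 ∨ A = Y.A2 := by
  by_cases h3 : A ≤ Y.P
  · exact Y.un1_eq h3 el h2
  exfalso
  obtain ⟨y, hy, h4⟩ := SetLike.not_le_iff_exists.1 h3
  have inv : ∀ a ∈ A, a⁻¹ = a := fun a ha => inv_eq_of_mul_eq_one_right (el a ha)
  have cm : A ≤ C{y} := fun a ha => mem_C1.2 (by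
    rw [← inv _ (A.mul_mem ha hy), mul_inv_rev, inv a ha, inv y hy])
  have o := Y.un1_or (A := Y.P ⊓ (N[Y.A1] ⊓ A)) inf_le_left fun a ha => el a ha.2.2
  have sg : ∀ a ∈ A, a ∉ Y.P → ∀ {k1 k2 ρ}, Y.Ak a k1 k2 ρ → ρ = K.σ := fun a ha k _ _ _ b =>
    h.un1_σ (h1 ha) (el a ha ▸ one_mem _) k b
  have c1 : ♯(Y.P ⊓ (N[Y.A1] ⊓ A)) ≤ 𝐪 ^ 2 := by
    by_cases h5 : y ∈ N[Y.A1]
    · obtain ⟨k1, -, k2, -, ρ, a, b⟩ := Y.un1_ak (h.P_N (h1 hy)) h5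
      obtain rfl := sg y hy h4 a
      exact Y.un1_small a b (fun p hp => cm hp.2.2) o
    · obtain ⟨a, b⟩ := (Y.perm (h.P_N (h1 hy))).resolve_left fun k => h5 k.1
      rw [← K.card, ← Nat.card_eq_fintype_card, ← Y.card_U, ← Y.inf]
      refine card_le fun p hp => ?_
      have e := mem_C1_iff_conj.1 (mem_C1_comm.1 (cm hp.2.2))
      rcases o with o | o
      exacts [⟨o hp, a ▸ e ▸ conj_mem_cj y (o hp)⟩, ⟨b ▸ e ▸ conj_mem_cj y (o hp), o hp⟩]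
  have c2 : Y.P.relIndex (N[Y.A1] ⊓ A) ≤ 2 := un1_two fun a ha b hb a1 b1 => by
    rw [inv a ha.2]
    obtain ⟨k1, -, k2, -, ρ, a2, -⟩ := Y.un1_ak (h.P_N (h1 ha.2)) ha.1
    obtain ⟨l1, -, l2, -, ρ', b2, -⟩ := Y.un1_ak (h.P_N (h1 hb.2)) hb.1
    obtain rfl := sg a ha.2 a1 a2
    obtain rfl := sg b hb.2 b1 b2
    have := a2.mul b2 (h.P_N (h1 hb.2))
    rw [show K.σ * K.σ = 1 from RingEquiv.ext K.σσ] at this
    exact h.un1_one (h1 (A.mul_mem ha.2 hb.2)) this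
  have c3 : N[Y.A1].relIndex A ≤ 2 := un1_two fun a ha b hb a1 b1 => by
    rw [inv a ha]
    exact Y.un1_sw (h.P_N (h1 ha)) (h.P_N (h1 hb)) a1 b1
  rw [← card_inf_mul_relIndex N[Y.A1] A, ← card_inf_mul_relIndex Y.P (N[Y.A1] ⊓ A)] at h2
  have c4 := h2.trans (Nat.mul_le_mul (Nat.mul_le_mul c1 c2) c3)
  have := K.four
  have c5 : 16 ≤ 𝐪 ^ 2 := by nlinarith
  rw [show 𝐪 ^ 4 = 𝐪 ^ 2 * 𝐪 ^ 2 by ring] at c4
  nlinarith

theorem Env.ns_syl (h : Env X G0 t D Y.P P) : Syl 2 ⊤ P := h.syl_of fun g hg => by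
  rcases Y.un1_perm (g := g)
    (h.nsJ (cj_le_of_mem_N (Y.un1_le.1.trans h.B_le) hg) (un1_el Y.el.1 g)
      (by rw [card_cj, Y.el.2.2.1]))
    (h.nsJ (cj_le_of_mem_N (Y.un1_le.2.trans h.B_le) hg) (un1_el Y.el.2.1 g)
      (by rw [card_cj, Y.el.2.2.2.1])) with ⟨a, b⟩ | ⟨a, b⟩ <;>
    rw [mem_N_iff_cj, ← Y.sup, cj_sup]
  · rw [cj_of_mem_N a, cj_of_mem_N b]
  · rw [a, b, sup_comm]

theorem Env.ns_dd (h : Env X G0 t D Y.P P) (hs : s ∈ P) (hd : DD t s) :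
    ∃ p ∈ Y.P, s = p * t * p⁻¹ := by
  have ss : s * s = 1 := by
    obtain ⟨g, rfl⟩ := hd
    rw [conj_mul, h.tt]; group
  have four := K.four
  by_cases h1 : s ∈ N[Y.A1]
  · exfalso
    by_cases h2 : s ∈ Y.A1
    · have := h.toSc.RK X hd (A := Y.A1) (fun a ha => mem_C1.2 (by
        have inv : ∀ a ∈ Y.A1, a⁻¹ = a := fun a ha => inv_eq_of_mul_eq_one_right (Y.el.1 a ha)
        rw [← inv _ (Y.A1.mul_mem ha h2), mul_inv_rev, inv a ha, inv s h2])) Y.el.1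
      rw [Y.el.2.2.1, show 𝐪 ^ 4 = 𝐪 * 𝐪 * 𝐪 * 𝐪 by ring] at this
      have := Nat.le_of_mul_le_mul_right this (by omega)
      nlinarith
    · have := card_fix_sq Y.el.1 h1 ss
      rw [Y.el.2.2.1, show 𝐪 ^ 4 = (𝐪 ^ 2) ^ 2 by ring] at this
      exact un1_rk h.toSc X hd ss inf_le_right (fun a ha => Y.el.1 a ha.1) (fun k => h2 k.1)
        ((Nat.pow_le_pow_iff_left two_ne_zero).1 this)
  by_cases h2 : s * t ∈ Y.P
  · exact h.ddB h2 ss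
  exfalso
  have st := P.mul_mem hs h.t_mem
  have tN := h.P_N h.t_mem
  obtain ⟨k1, n1, k2, n2, ρ, a, b⟩ := Y.un1_ak (h.P_N st)
    (Y.un1_sw (h.P_N hs) tN h1 (Y.un1_t h.toSc))
  have si := inv_eq_of_mul_eq_one_right ss
  obtain rfl := h.un1_σ st (by simpa only [si, mul_assoc] using (h.mem_CT.1 (h.nsP hs)).2) h2 a
  have e : ∀ p, s * p * s⁻¹ = s * t * (t * p * t⁻¹) * (s * t)⁻¹ := fun p => by
    rw [show s * t * (t * p * t⁻¹) * (s * t)⁻¹ = s * (t * t) * p * (s * (t * t))⁻¹ by group, h.tt,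
      mul_one]
  have k : k1 * K.σ k2 = 1 := by
    obtain ⟨p, hp, k⟩ := Y.π_surj (1, 1)
    have e1 : Y.π (s * p * s⁻¹) = (k1, k2) := by
      rw [e, a _ (conj_mem tN hp), Y.π_t p hp, k]; simp
    have p1 := conj_mem (h.P_N hs) hp
    have e2 := a _ (conj_mem tN p1)
    rw [← e, Y.π_t _ p1, e1, show s * (s * p * s⁻¹) * s⁻¹ = s * s * p * (s * s)⁻¹ by group, ss,
      one_mul, inv_one, mul_one, k] at e2
    exact (congrArg Prod.fst e2).symm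
  refine un1_rk h.toSc X hd ss (B := Y.U) (fun u hu => ?_)
    (fun u hu => Y.el.1 u (Y.U_le hu).1) (fun k => h1 (norm_self _ (Y.U_le k).1))
    (by rw [Y.card_U, Nat.card_eq_fintype_card, K.card])
  obtain ⟨x, rfl⟩ := Y.mem_U.1 hu
  rw [mem_C1_comm, mem_C1_iff_conj, e, Y.t_m, b, k, one_mul, K.σσ]

theorem Env.ns_t (h : Env X G0 t D Y.P P) : t ∉ G0 :=
  h.toLc.not_mem (P0 := P ⊓ N[Y.A1]) h.ns_syl h.t_mem (fun p hp => (em _).imp (⟨hp, ·⟩) fun k =>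
    ⟨P.mul_mem hp h.t_mem, Y.un1_sw (h.P_N hp) (h.P_N h.t_mem) k (Y.un1_t h.toSc)⟩) fun s hs hd => by
    obtain ⟨p, hp, rfl⟩ := h.ns_dd hs.1 hd
    have := Y.un1_PN hp
    exact Y.un1_t h.toSc ((Subgroup.mul_mem_cancel_left _ this).1
      ((Subgroup.mul_mem_cancel_right _ (Subgroup.inv_mem _ this)).1 hs.2))
end

end H2.U3
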