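import Mathlib
import Cfsg.Agent.H2.UDefs
import Cfsg.Agent.H2.UN1

set_option autoImplicit false
set_option linter.unusedVariables false
set_option linter.unusedSectionVars false

namespace H2.U3

open Cfsg H24 Subgroup
open H2.SZ (St DD Goal)
open H2.C2 (Cl2)

universe u v

variable {G : Type u} [Group G] [Finite G] {E F : Type*} [Field E] [Fintype E] [Field F] [Fintype F]
  [Algebra E F] {K : UF E F} {L G0 D P P0 Q R A B C H T M W W1 W2 Z1 Z2 : Subgroup G}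
  {t g s f x y i v p : G} {X : UD K L} {a k : F} {b : E} {ρ : F ≃+* F}

local notation "𝐪" => Fintype.card E

/-! ### UN2 -/

theorem un2_root (n : ℕ) : ∀ x : G, x ^ 2 ^ n ∈ A → x ∉ A → ∃ j : ℕ, x ^ j ∉ A ∧ x ^ j * x ^ j ∈ A := by
  induction n with
  | zero => intro x h h'; exact (h' (by simpa using h)).elim
  | succ n ih =>
    intro x h h'
    by_cases h1 : x * x ∈ A
    · exact ⟨1, by simpa using h', by simpa using h1⟩
    · obtain ⟨j, a, b⟩ := ih (x * x) (by rwa [← sq, ← pow_mul, ← pow_succ']) h1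
      rw [← sq x, ← pow_mul] at a b
      exact ⟨_, a, b⟩

theorem Env.un2_le {Y : NS X t} (h : Env X G0 t D Y.P P) : Y.P ≤ G0 := by
  obtain ⟨k, hk⟩ := K.exists_unit
  have := h.nrm
  have hN := Y.nrm _ (X.h_NS k) (h.toSc.tu (X.h_mem k))
  have k1 : (k : E) + 1 ≠ 0 := fun e => hk (Units.ext (by
    rw [Units.val_one]; linear_combination e - K.addE 1))
  refine le_of_fpf hN (fun g hg e => ?_) (norm_of_normal _ _) (h.le (X.h_mem k))
  have e1 : X.h k * g * (X.h k)⁻¹ = g := by rw [← e]; group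
  have e2 := Y.π_h k g hg
  rw [e1] at e2
  have e3 : Y.π g = 0 := (smul_eq_zero.1 (show ((k : E) + 1) • Y.π g = 0 by
    rw [add_smul, ← e2, one_smul]; ext <;> exact K.addF _)).resolve_left k1
  obtain ⟨c, rfl⟩ := (Y.π_ker g hg).1 e3
  obtain ⟨p, hp, e4⟩ := Y.π_surj (c, 1)
  have e5 : p * p = Y.m c := by rw [Y.sq p hp, e4]; simp
  have e6 := Y.sq _ (conj_mem hN hp)
  rw [conj_mul, e5, e1, Y.π_h k p hp, e4] at e6
  have e7 := Y.m_inj e6
  simp only [Prod.smul_mk, K.σ_smul, map_one, smul_mul_smul_comm, mul_one] at e7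
  have e8 : (((k : E) + 1) * ((k : E) + 1)) • c = 0 := by
    rw [show ((k : E) + 1) * ((k : E) + 1) = k * k + 1 by linear_combination K.addE k, add_smul, ← e7,
      one_smul, K.addF]
  rw [(smul_eq_zero.1 e8).resolve_left (mul_ne_zero k1 k1), Y.m_zero]

theorem Env.ns_goal {Y : NS X t} (h : Env X G0 t D Y.P P) : Goal G0 t := by
  have := h.nrm
  have := h.simple
  have t0 := h.ns_t
  have le := h.un2_le
  have s0 : Syl 2 G0 (P ⊓ G0) := h.ns_syl.inf_norm le_top (norm_of_normal _ _)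
  by_cases h1 : P ⊓ G0 ≤ Y.P
  · exact h.toLc.E2' (le_antisymm h1 (le_inf h.B_le le) ▸ s0) Y.cl2 t0
  exfalso
  obtain ⟨x0, a0, a1⟩ := SetLike.not_le_iff_exists.1 h1
  obtain ⟨n, hn⟩ := (h.piP.piElt a0.1).exists_pow Nat.prime_two
  obtain ⟨j, a2, a3⟩ := un2_root n x0 (by rw [← hn, pow_orderOf_eq_one]; exact one_mem _) a1
  have a4 := Subgroup.pow_mem _ a0 j
  generalize x0 ^ j = x at *
  have nt : ∀ x ∈ G0, x * t ∉ Y.P := fun x hx k => t0 ((G0.mul_mem_cancel_left hx).1 (le k))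
  obtain ⟨b, hb, f, hf, rfl, ff, fσ, -⟩ := h.out (h.nsP a4.1) a3 a2 (nt x a4.2)
  have f0 : f ∈ G0 := (G0.mul_mem_cancel_right (le hb)).1 a4.2
  have fP : f ∉ Y.P := fun k => a2 (Y.P.mul_mem k hb)
  obtain ⟨φ, hφ, -⟩ := h.exists_χ
  have := K.cyc_F
  have four := K.four
  obtain ⟨g, hg⟩ := cyc_thompson (H := G0) (P := P.subgroupOf G0) (P0 := Y.P.subgroupOf G0)
    (Hall.mk' le_top (isPi_subgroupOf h.piP _) (by
      rw [relIndex_top_right, ← Subgroup.relIndex, ← inf_relIndex_right]; exact s0.idx))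
    (φ.comp ((G0.subtype.comp (P.subgroupOf G0).subtype).codRestrict _ fun x => h.nsP x.2))
    (fun x => (hφ _).trans (or_iff_left (nt _ x.1.2))) (f := ⟨f, f0⟩) hf.1 fP (Subtype.ext ff) (by
      have := card_le (le_inf (Y.un1_le.1.trans h.B_le) (Y.un1_le.1.trans le))
      rw [Y.el.2.2.1] at this
      rw [card_subgroupOf]
      exact lt_of_lt_of_le (lt_of_lt_of_le (by norm_num) (Nat.pow_le_pow_left four 4)) this)
  have hg' : (g : G) * f * (g : G)⁻¹ ∈ Y.P := hg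
  obtain ⟨B, b1, b2, b3⟩ : ∃ B, B ≤ C{(g : G) * f * (g : G)⁻¹} ∧ (∀ a ∈ B, a * a = 1) ∧ ♯B = 𝐪 ^ 4 := by
    have c : ∀ {B : Subgroup G} {s}, (∀ a ∈ B, a * a = 1) → s ∈ B → B ≤ C{s} := fun {B s} el hs a ha =>
      mem_C1.2 (by
        have inv : ∀ a ∈ B, a⁻¹ = a := fun a ha => inv_eq_of_mul_eq_one_right (el a ha)
        rw [← inv _ (B.mul_mem ha hs), mul_inv_rev, inv a ha, inv s hs])
    rcases Y.el.2.2.2.2 _ hg' (by rw [conj_mul, ff]; group) with k | k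
    exacts [⟨_, c Y.el.1 k, Y.el.1, Y.el.2.2.1⟩, ⟨_, c Y.el.2.1 k, Y.el.2.1, Y.el.2.2.2.1⟩]
  have pe : ∀ {a : G}, a * a = 1 → PiElt {2} a := fun k =>
    piElt_of_pow_eq_one (piNat_self Nat.prime_two) (by rw [sq, k])
  have ft := mem_C1.1 hf.2
  obtain ⟨T, c1, c2⟩ := Sylow_superset Nat.prime_two (pe h.tt).isPi
    (zpowers_le.2 (mem_C1.2 ft.symm) : zpowers t ≤ C{f})
  obtain ⟨c, -, c3⟩ := Sylow_Jsub Nat.prime_two c1 (Q := cj (g : G)⁻¹ B)
    (isPi_iff_piElt.2 fun a ha => pe (un1_el b2 _ a ha)) (by rwa [← le_cj_iff, cj_C1])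
  obtain ⟨y, -, c4⟩ := Sylow_Jsub Nat.prime_two h.ns_syl c1.pi le_top
  have c5 := cj_mono y c3
  obtain ⟨p, hp, e⟩ := h.ns_dd (c4 (conj_mem_cj y (c2 (mem_zpowers t)))) ⟨y, rfl⟩
  have c6 : cj y T ≤ C{y * f * y⁻¹} := cj_C1 y f ▸ cj_mono y c1.le
  have c7 : t * p⁻¹ ∈ N[Y.A1] → False := fun k => Y.un1_t h.toSc
    ((Subgroup.mul_mem_cancel_right _ (Subgroup.inv_mem _ (Y.un1_PN hp))).1 k)
  have c8 := (Y.perm (h.P_N (c4 (conj_mem_cj y (c2 (mem_zpowers t)))))).resolve_left fun k => c7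
    ((Subgroup.mul_mem_cancel_left _ (Y.un1_PN hp)).1 (by simpa only [e, mul_assoc] using k.1))
  have c9 : ∀ B ≤ cj y T, cj (y * t * y⁻¹) B ≤ cj y T := fun B hB =>
    cj_le_of_mem hB (conj_mem_cj y (c2 (mem_zpowers t)))
  have d1 : Y.P ≤ C{y * f * y⁻¹} := by
    rw [← Y.sup]
    rcases h.nsJ (c5.trans c4) (un1_el (un1_el (un1_el b2 _) _) _)
      (by rw [card_cj, card_cj, card_cj, b3]) with k | k <;> rw [k] at c5
    exacts [(sup_le c5 (c8.1 ▸ c9 _ c5)).trans c6, (sup_le (c8.2 ▸ c9 _ c5) c5).trans c6]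
  have d2 := h.toLc.CF (h.T_S hf) ft ff fσ (A := cj (y⁻¹ * p) X.S) (fun a ha => by
    obtain ⟨u, hu, rfl⟩ := mem_cj'.1 ha
    have u1 := mem_C1.1 (d1 (Y.P.mul_mem (Y.P.mul_mem hp (Y.S_le hu)) (Y.P.inv_mem hp)))
    have u2 := h.toSc.tu (X.S_le hu)
    have e' : t = y⁻¹ * (p * t * p⁻¹) * y := by rw [← e]; group
    refine ⟨mem_C1.2 ?_, mem_C1.2 ?_⟩
    · rw [e']
      calc _ = y⁻¹ * p * (u * t) * p⁻¹ * y := by group
        _ = _ := by rw [u2]; group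
    · calc _ = y⁻¹ * (p * u * p⁻¹ * (y * f * y⁻¹)) * y := by group
        _ = _ := by rw [u1]; group) fun a ha => by
    obtain ⟨u, hu, rfl⟩ := mem_cj'.1 ha
    rw [conj_mul, conj_mul, Y.four (Y.S_le hu)]; group
  rw [card_cj, X.card_S, show 𝐪 ^ 3 = 𝐪 * 𝐪 * 𝐪 by ring] at d2
  have := Nat.le_of_mul_le_mul_right d2 (by omega)
  nlinarith

end H2.U3
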