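import Mathlib
import Cfsg.Agent.H2.UDefs
import Cfsg.Agent.H2.UB2
import Cfsg.Agent.H2.ZR

set_option autoImplicit false
set_option linter.unusedVariables false
set_option linter.unusedSectionVars false

namespace H2.U3

open Cfsg H24 Subgroup
open H2.SZ (St DD Goal piElt_of_sq inv_pow' cyc_inv)
open H2.C2 (Cl2)

universe u v

variable {G : Type u} [Group G] [Finite G] {E F : Type*} [Field E] [Fintype E] [Field F] [Fintype F]
  [Algebra E F] {K : UF E F} {L G0 D P P0 Q R A B C H T M W W1 W2 Z1 Z2 : Subgroup G}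
  {t g s f x y i v p : G} {X : UD K L} {a k : F} {b : E} {ρ : F ≃+* F}

local notation "𝐪" => Fintype.card E

/-! ### UR -/

theorem Sc.ur_C (h : Sc L G0 t) (X : UD K L) (hs : s ∈ X.E2 t) :
    s ∈ C{t} ∧ s ∈ C[X.S] ∧ s ∈ C{X.w} ∧ s * s = 1 := by
  have a : ∀ b, X.z b ∈ C{t} ∧ X.z b ∈ C[X.S] ∧ X.z b ∈ C{X.w} := fun b =>
    ⟨mem_C1.2 (h.tu (X.z_mem b)), cents_symm X.S_CZ (X.z_mem_Z b), mem_C1.2 (X.w_z b).symm⟩
  obtain ⟨b, rfl | rfl⟩ := (h.mem_E2 X).1 hs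
  · exact ⟨(a b).1, (a b).2.1, (a b).2.2, X.z_sq b⟩
  · refine ⟨mul_mem (self_mem_C1 t) (a b).1, mul_mem (C_anti X.S_le h.tC) (a b).2.1,
      mul_mem (mem_C1.2 (h.tu X.w_mem).symm) (a b).2.2, ?_⟩
    rw [mul_assoc, ← mul_assoc (X.z b), h.tu (X.z_mem b), mul_assoc, X.z_sq, mul_one, h.tt]

theorem Sc.ur_N (h : Sc L G0 t) (X : UD K L) (hs : s ∈ X.E2 t) (hd : DD t s) :
    ∃ g ∈ N[X.S], s = g * t * g⁻¹ := by
  obtain ⟨g, rfl⟩ := hd
  obtain ⟨-, a, b, -⟩ := h.ur_C X hs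
  obtain ⟨l, hl, e⟩ := X.exists_l (h.S_in X a b)
  exact ⟨g * l, e, by rw [mul_assoc g l, h.tu hl]; group⟩

theorem Sc.ur_E (h : Sc L G0 t) (X : UD K L) : ∃ e ∈ X.E2 t, e ≠ t ∧ DD t e := by
  by_contra hn
  have k : ∀ e ∈ X.E2 t, DD t e → e = t := fun e he d => by_contra fun a => hn ⟨e, he, a, d⟩
  obtain ⟨T, hT, -, TN⟩ := h.exists_T X
  obtain ⟨e, he, e1, e2⟩ := h.zs hT (h.le (X.z_mem 1)) X.z1 (X.z_sq 1)
  have et := mem_C1.1 (hT.le he)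
  have ee := (e2.sq h.toSt).1
  have eσ := (h.inv_E2 X (TN he) et ee).resolve_left fun a => e1 (k e a e2)
  have eZ := (X.out_C (TN he) ee eσ).1
  have mz : ∀ b, X.z b ∈ X.E2 t := fun b => (h.mem_E2 X).2 ⟨b, .inl rfl⟩
  have mt : t ∈ X.E2 t := mem_sup_left (mem_zpowers t)
  have Ee : X.E2 t ≤ C{e} := fun x hx => by
    obtain ⟨b, rfl | rfl⟩ := (h.mem_E2 X).1 hx
    exacts [mem_C1.2 (mem_C.1 eZ _ (X.z_mem_Z b)),
      mul_mem (mem_C1.2 et.symm) (mem_C1.2 (mem_C.1 eZ _ (X.z_mem_Z b)))]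
  obtain ⟨g0, rfl⟩ := e2
  have c0 : cj g0⁻¹ (X.E2 t) ≤ C{t} := fun x hx => by
    have := mem_C1.1 (Ee (mem_cj.1 hx))
    rw [inv_inv] at this
    refine mem_C1.2 ((MulAut.conj g0).injective ?_)
    simpa only [map_mul, MulAut.conj_apply] using this
  obtain ⟨l, hl, hN⟩ := h.toS X (((h.pi_T X).of_le (sup_le_sup_left X.Z_le_S _)).cj g0⁻¹) c0
  rw [← cj_mul] at hN
  have c1 : ∀ v ∈ X.E2 t, l * g0⁻¹ * v * (l * g0⁻¹)⁻¹ * t = t * (l * g0⁻¹ * v * (l * g0⁻¹)⁻¹) :=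
    fun v hv => by
      have := mem_C1.1 (mul_mem (mul_mem (mem_C1.2 (h.tu hl)) (c0 (conj_mem_cj _ hv)))
        (inv_mem (mem_C1.2 (h.tu hl))))
      rwa [show l * (g0⁻¹ * v * g0⁻¹⁻¹) * l⁻¹ = l * g0⁻¹ * v * (l * g0⁻¹)⁻¹ by group] at this
  have ne : l * g0⁻¹ * t * (l * g0⁻¹)⁻¹ ≠ t := fun a => e1 (by
    calc _ = g0 * (l⁻¹ * (l * g0⁻¹ * t * (l * g0⁻¹)⁻¹) * l) * g0⁻¹ := by
          rw [a, mul_assoc l⁻¹, ← h.tu hl, inv_mul_cancel_left]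
      _ = _ := by group)
  generalize l * g0⁻¹ = g at hN c1 ne
  have sq : ∀ v ∈ X.E2 t, g * v * g⁻¹ * (g * v * g⁻¹) = 1 := fun v hv => by
    rw [conj_mul, (h.ur_C X hv).2.2.2, mul_one, mul_inv_cancel]
  have di : ∀ v ∈ X.E2 t, g * v * g⁻¹ ∈ X.E2 t ∨ X.χ (g * v * g⁻¹) = K.σ := fun v hv =>
    h.inv_E2 X (hN (conj_mem_cj g hv)) (c1 v hv) (sq v hv)
  have tσ := (di t mt).resolve_left fun a => ne (k _ a ((DD.refl t).conj g))
  have no : ∀ v ∈ X.E2 t, ∀ c, g * v * g⁻¹ = X.z c → v = 1 := fun v hv c ec => by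
    obtain ⟨a, a0, ha⟩ := X.out_z (hN (conj_mem_cj g mt)) (sq t mt) tσ
    obtain ⟨rt, hrt⟩ := K.exists_rt
    have := ha (rt (c / K.nm a)) 0
    rw [K.nm_smul, hrt, div_mul_cancel₀ _ (fun e => a0 (K.nm_eq_zero.1 e)), ← ec, conj_mul] at this
    exact mul_eq_left.1 (k _ (mul_mem mt hv) (DD.of_conj (g := g) (this ▸ ((DD.refl t).conj g).conj _)))
  have ex : ∀ b, ∃ v, (v = X.z b ∨ v = t * X.z b) ∧ g * v * g⁻¹ ∈ X.E2 t := fun b => by
    rcases di _ (mz b) with a | a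
    · exact ⟨_, .inl rfl, a⟩
    refine ⟨_, .inr rfl, (di _ (mul_mem mt (mz b))).resolve_right fun a' => K.σ_ne ?_⟩
    rw [← conj_mul, X.χ_mul (hN (conj_mem_cj g mt)) (hN (conj_mem_cj g (mz b))), tσ, a] at a'
    exact mul_eq_left.1 a'
  have n1 : ∀ {v b}, b ≠ 0 → (v = X.z b ∨ v = t * X.z b) → v ∈ X.E2 t ∧ v ≠ 1 := by
    rintro v b b0 (rfl | rfl)
    · exact ⟨mz b, fun a => b0 (X.z_eq_one.1 a)⟩
    · exact ⟨mul_mem mt (mz b), fun a => h.t_L X (by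
        rw [eq_inv_of_mul_eq_one_left a]; exact inv_mem (X.z_mem b))⟩
  obtain ⟨c, c0, c1', -⟩ := K.exists_ne 0 1 1
  obtain ⟨v, hv, a1⟩ := ex 1
  obtain ⟨w, hw, a2⟩ := ex c
  have tz : ∀ b c, t * X.z b * (t * X.z c) = X.z (b + c) := fun b c => by
    rw [mul_assoc, ← mul_assoc (X.z b), h.tu (X.z_mem b), mul_assoc, ← mul_assoc t t, h.tt, one_mul,
      X.z_mul]
  have hvw : v * w = X.z (1 + c) ∨ v * w = t * X.z (1 + c) := by
    rcases hv with rfl | rfl <;> rcases hw with rfl | rfl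
    exacts [.inl (X.z_mul _ _), .inr (by rw [← mul_assoc, h.tu (X.z_mem 1), mul_assoc, X.z_mul]),
      .inr (by rw [mul_assoc, X.z_mul]), .inl (tz _ _)]
  have m1 := n1 one_ne_zero hv
  have m2 := n1 c0 hw
  have m3 := n1 (fun a => c1' (by linear_combination a - K.addE 1)) hvw
  obtain ⟨b1, a1 | a1⟩ := (h.mem_E2 X).1 a1
  · exact m1.2 (no _ m1.1 _ a1)
  obtain ⟨b2, a2 | a2⟩ := (h.mem_E2 X).1 a2
  · exact m2.2 (no _ m2.1 _ a2)
  exact m3.2 (no _ m3.1 _ (by rw [← conj_mul, a1, a2, tz]))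

theorem Sc.exists_lc (h : Sc L G0 t) (X : UD K L) : ∃ D, Lc X G0 t D := by
  have zn : ∀ b, ¬ DD t (X.z b) := fun b hb => by
    obtain ⟨g, hg, e⟩ := h.ur_N X ((h.mem_E2 X).2 ⟨b, .inl rfl⟩) hb
    exact h.t_L X (X.S_le ((conj_mem_iff hg).1 (e ▸ X.Z_le_S (X.z_mem_Z b))))
  obtain ⟨e, he, e1, e2⟩ := h.ur_E X
  have dd : ∀ b, DD t (t * X.z b) := fun b => by
    by_cases b0 : b = 0
    · rw [b0, X.z_zero, mul_one]; exact DD.refl _
    obtain ⟨c, rfl | rfl⟩ := (h.mem_E2 X).1 he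
    · exact absurd e2 (zn c)
    · obtain ⟨k, rfl⟩ := K.exists_sq (x := c) (fun c0 => e1 (by rw [c0, X.z_zero, mul_one])) b0
      have := e2.conj (X.h k)
      rwa [← conj_mul, X.h_z, h.tu (X.h_mem k), mul_inv_cancel_right] at this
  obtain ⟨R, hR, tR⟩ := Sylow_superset Nat.prime_two (piElt_of_sq h.tt).isPi (zpowers_le.2 h.tC)
  replace tR := zpowers_le.1 tR
  have cR := h.cyc R hR.le hR.pi
  have aR : Abl R := cR.isMulCommutative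
  have R2 : ∀ r ∈ R, r = 1 ∨ r = t := by
    have invR : ∀ r ∈ R, r * r = 1 → r = 1 ∨ r = t := fun r hr e =>
      or_iff_not_imp_left.2 fun r1 => cyc_inv cR hr tR r1 e h.t1 h.tt
    by_contra hn
    obtain ⟨r, hr, hn⟩ : ∃ r ∈ R, r * r ≠ 1 := by
      by_contra k
      exact hn fun r hr => invR r hr (by_contra fun e => k ⟨r, hr, e⟩)
    obtain ⟨n, n1, n2⟩ := inv_pow' (hR.pi.piElt (mul_mem hr hr)) hn
    have e3 := (invR _ (pow_mem (mul_mem hr hr) n) n2).resolve_left n1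
    rw [(Commute.refl r).mul_pow] at e3
    replace hr := pow_mem hr n
    generalize r ^ n = r at hr e3
    obtain ⟨g, hg, rfl⟩ := h.ur_N X he e2
    have re : r * (g * t * g⁻¹) = g * t * g⁻¹ * r := by
      obtain ⟨c, a | a⟩ := (h.mem_E2 X).1 he <;> rw [a]
      · exact mem_C'.1 (hR.le hr) _ (X.z_mem c)
      · exact mem_C1.1 (mem_C1_comm.1 (mul_mem (mem_C1.2 (aR.comm tR hr))
          (mem_C1.2 (mem_C.1 (hR.le hr) _ (X.z_mem c)))))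
    have rt : g⁻¹ * r * g * t = t * (g⁻¹ * r * g) := by
      calc _ = g⁻¹ * (r * (g * t * g⁻¹)) * g := by group
        _ = _ := by rw [re]; group
    have rS : g⁻¹ * r * g ∈ C[X.S] := conj_mem' (N_le_NC _ hg) (C_anti X.S_le (hR.le hr))
    obtain ⟨a, b, c, hc, e4⟩ := X.autS _ (h.Ct _ rt) fun a b => ⟨b, conj_eq_of_mem_C rS (X.u_mem_S a b)⟩
    obtain ⟨b', e5⟩ := X.mem_Z.1 (X.S_CS ⟨X.u_mem_S a b,
      (mul_mem_cancel_right (C_anti X.S_le hc)).1 (e4 ▸ rS)⟩)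
    have e6 : g⁻¹ * t * g = c * c := by
      calc _ = g⁻¹ * r * g * (g⁻¹ * r * g) := by rw [← e3]; group
        _ = _ := by
          rw [e4, e5, mul_assoc, ← mul_assoc c, mem_C'.1 hc _ (X.z_mem b'), mul_assoc, ← mul_assoc,
            X.z_sq, one_mul]
    have d := ((DD.refl t).conj g⁻¹).sq h.toSt
    rw [inv_inv] at d
    have ct : g⁻¹ * t * g ∈ C{t} := by
      rw [show g⁻¹ * t * g = g⁻¹ * r * g * (g⁻¹ * r * g) by rw [← e3]; group]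
      exact mul_mem (mem_C1.2 rt) (mem_C1.2 rt)
    have := cyc_inv (h.cyc (zpowers t ⊔ zpowers (g⁻¹ * t * g))
      (sup_le (zpowers_le.2 h.tC) (zpowers_le.2 (e6 ▸ mul_mem hc hc)))
      ((piElt_of_sq h.tt).isPi.sup (piElt_of_sq d.1).isPi (zpowers_le.2 (C_le_N _ (by rwa [C_zpowers])))))
      (mem_sup_right (mem_zpowers _)) (mem_sup_left (mem_zpowers _)) d.2 d.1 h.t1 h.tt
    exact e1 (by nth_rw 1 [← this]; group)
  have RC : C[L] ⊓ C{t} ≤ C[R] := fun x hx => mem_C.2 fun r hr => by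
    rcases R2 r hr with rfl | rfl
    exacts [by simp, (mem_C1.1 hx.2).symm]
  obtain ⟨D, D1, D2, D3⟩ := H17.RC.exists_compl (W := C[L] ⊓ C{t})
    (hR.of_le (le_inf hR.le fun r hr => mem_C1.2 (aR.comm hr tR)) inf_le_left) (norm_of_cent RC)
  refine ⟨D, h, D2, D1.trans inf_le_left, D1.trans inf_le_right, fun k hk e => ?_, zn, dd⟩
  obtain ⟨r, hr, d, hd, rfl⟩ := D3 k ⟨hk, mem_C1.2 e⟩
  rcases R2 r hr with rfl | rfl
  · exact .inl (by rwa [one_mul])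
  · exact .inr (by rwa [mul_assoc, mem_C1.1 (D1 hd).2, ← mul_assoc, h.tt, one_mul])


end H2.U3
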