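import Mathlib
import Cfsg.Agent.H2.UDefs
import Cfsg.Agent.H2.UP0

set_option autoImplicit false
set_option linter.unusedVariables false
set_option linter.unusedSectionVars false

namespace H2.U3

open Cfsg H24 Subgroup
open H2.SZ (St DD Goal)
open H2.C2 (Cl2)

universe u v

variable {G : Type u} [Group G] [Finite G] {E F : Type*} [Field E] [Fintype E] [Field F] [Fintype F]
  [Algebra E F] {K : UF E F} {L G0 D P P0 Q R A B C H T M W W1 W2 Z1 Z2 : Subgroup G}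
  {t g s f x y i v p : G} {X : UD K L} {a k : F} {b : E} {ρ : F ≃+* F}

local notation "𝐪" => Fintype.card E

/-! ### US1 -/

theorem card_le_relIndex {ι : Type*} (f : ι → G) (hf : ∀ i, f i ∈ P)
    (inj : ∀ i j, (f i)⁻¹ * f j ∈ R → i = j) : Nat.card ι ≤ R.relIndex P :=
  Nat.card_le_card_of_injective (β := P ⧸ R.subgroupOf P) (fun i => QuotientGroup.mk ⟨f i, hf i⟩)
    fun i j e => inj i j (by simpa [mem_subgroupOf] using (QuotientGroup.eq (s := R.subgroupOf P)).1 e)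

theorem relIndex_le_two (h : ∀ x ∈ A, ∀ y ∈ A, x ∉ R → y ∉ R → x * y ∈ R) : R.relIndex A ≤ 2 := by
  by_cases e : A ≤ R
  · rw [relIndex_eq_one.2 e]; omega
  obtain ⟨a, ha, hn⟩ := SetLike.not_le_iff_exists.1 e
  refine (relIndex_eq_two_iff.2 ⟨a, ha, fun b hb => ?_⟩).le
  by_cases k : b ∈ R
  · exact .inr ⟨k, by rwa [mul_mem_cancel_left k]⟩
  · exact .inl ⟨h b hb a ha k hn, k⟩

/-- a subgroup of small index has the full commutator subgroup -/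
theorem Spc.key {n : ℕ} (h : Spc H A Z1) (h1 : R.relIndex H ≤ n)
    (h2 : ∀ x ∈ H ⊓ R, ∀ y ∈ H ⊓ R, x * y * x⁻¹ * y⁻¹ ∈ Z2) (h3 : n ^ 2 < A.relIndex H) : Z1 ≤ Z2 := by
  by_contra hn
  have le : H ⊓ R ⊔ A ≤ H := sup_le inf_le_left h.A_le
  have nm : A ≤ N[H ⊓ R] := norm_of_cent (cents_of_le h.cen inf_le_left)
  have := h.iso (R := H ⊓ R ⊔ A) le_sup_right le (fun x' hx' y' hy' => by
    obtain ⟨x, hx, a, ha, rfl⟩ := (mem_sup_of_norm nm).1 hx'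
    obtain ⟨y, hy, b, hb, rfl⟩ := (mem_sup_of_norm nm).1 hy'
    have e : x * a * (y * b) * (x * a)⁻¹ * (y * b)⁻¹ = x * (a * (y * b) * a⁻¹) * (x⁻¹ * b⁻¹) * y⁻¹ := by group
    rw [e, conj_eq_of_mem_C (h.cen ha) (mul_mem hy.1 (h.A_le hb)), mem_C.1 (h.cen (inv_mem hb)) _ (inv_mem hx.1)]
    simpa [mul_assoc] using h2 x hx y hy) hn
  have e := relIndex_mul_relIndex A _ H le_sup_right le
  have e2 : (H ⊓ R ⊔ A).relIndex H ≤ n := (relIndex_le_of_le_left le_sup_left (relIndex_ne_zero' _ _)).trans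
    (by rwa [inf_comm, inf_relIndex_right])
  generalize A.relIndex (H ⊓ R ⊔ A) = i at e this
  generalize (H ⊓ R ⊔ A).relIndex H = j at e e2
  have : i * i ≤ i * j := by nlinarith
  have i0 : 0 < i := Nat.pos_of_ne_zero fun k => by simp [k] at e; omega
  have := Nat.le_of_mul_le_mul_left this i0
  nlinarith

section
variable {A0 : Type*} [AddCommGroup A0] {q0 : F × F → A0} {ι : E → A0} {τ : A0 → A0}

theorem PB.A1_le (Y : PB X t A0 q0 ι τ) : Y.A1 ≤ Y.P := fun _ h => (Y.mem_A1.1 h).1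
theorem PB.A2_le (Y : PB X t A0 q0 ι τ) : Y.A2 ≤ Y.P := fun _ h => (Y.mem_A2.1 h).1
theorem PB.π_m (Y : PB X t A0 q0 ι τ) (x : A0) : Y.π (Y.m x) = 0 := (Y.π_ker _ (Y.m_mem x)).2 ⟨x, rfl⟩
theorem PB.m_sq (Y : PB X t A0 q0 ι τ) (x : A0) : Y.m x * Y.m x = 1 := by rw [← Y.m_add, Y.two, Y.m_zero]
theorem PB.π_conj (Y : PB X t A0 q0 ι τ) (hg : g ∈ Y.P) (hp : p ∈ Y.P) : Y.π (g * p * g⁻¹) = Y.π p := by
  rw [Y.cm hg hp, Y.π_mul _ hp _ (Y.m_mem _), Y.π_m, add_zero]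
theorem PB.not_le (Y : PB X t A0 q0 ι τ) : ¬ Y.A1 ≤ Y.A2 ∧ ¬ Y.A2 ≤ Y.A1 := by
  obtain ⟨a, ha, e⟩ := Y.π_surj (1, 0)
  obtain ⟨b, hb, e'⟩ := Y.π_surj (0, 1)
  exact ⟨fun k => by simpa [e] using (Y.mem_A2.1 (k (Y.mem_A1.2 ⟨ha, by rw [e]⟩))).2,
    fun k => by simpa [e'] using (Y.mem_A1.1 (k (Y.mem_A2.2 ⟨hb, by rw [e']⟩))).2⟩

theorem le_or_le_of (h : ∀ x ∈ A, x ∈ B ∨ x ∈ C) : A ≤ B ∨ A ≤ C := by
  by_contra k
  obtain ⟨k1, k2⟩ := not_or.1 k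
  obtain ⟨a, ha, hn⟩ := SetLike.not_le_iff_exists.1 k1
  obtain ⟨b, hb, hm⟩ := SetLike.not_le_iff_exists.1 k2
  rcases h _ (mul_mem ha hb) with e | e
  · exact hn ((mul_mem_cancel_right ((h b hb).resolve_right hm)).1 e)
  · exact hm ((mul_mem_cancel_left ((h a ha).resolve_left hn)).1 e)

theorem PB.perm_of (Y : PB X t A0 q0 ι τ) (hg : g ∈ N[Y.P])
    (h : ∀ p, p ∈ Y.A1 ∨ p ∈ Y.A2 → g * p * g⁻¹ ∈ Y.A1 ∨ g * p * g⁻¹ ∈ Y.A2) :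
    g ∈ N[Y.A1] ∧ g ∈ N[Y.A2] ∨ cj g Y.A1 = Y.A2 ∧ cj g Y.A2 = Y.A1 := by
  have k : ∀ A, (∀ p ∈ A, p ∈ Y.A1 ∨ p ∈ Y.A2) → cj g A ≤ Y.A1 ∨ cj g A ≤ Y.A2 := fun A e =>
    le_or_le_of fun x hx => by
      obtain ⟨p, hp, rfl⟩ := mem_cj'.1 hx
      exact h p (e p hp)
  have s : Y.P ≤ cj g Y.A1 ⊔ cj g Y.A2 := by rw [← cj_sup, Y.sup, cj_of_mem_N hg]
  rcases k _ fun p hp => .inl hp with e1 | e1 <;> rcases k _ fun p hp => .inr hp with e2 | e2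
  · exact absurd (Y.A2_le.trans (s.trans (sup_le e1 e2))) Y.not_le.2
  · exact .inl ⟨mem_N_of_cj_le e1, mem_N_of_cj_le e2⟩
  · have c1 := card_le_of_le e1
    have c2 := card_le_of_le e2
    rw [card_cj] at c1 c2
    exact .inr ⟨eq_of_le_of_card_ge e1 (by rwa [card_cj]), eq_of_le_of_card_ge e2 (by rwa [card_cj])⟩
  · exact absurd (Y.A1_le.trans (s.trans (sup_le e1 e2))) Y.not_le.1

end

section
variable {Y : SP X t}

theorem SP.cm' (Y : SP X t) (hg : g ∈ Y.P) (hp : p ∈ Y.P) :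
    g * p * g⁻¹ = p * Y.m (K.B (Y.π g).1 (Y.π p).1, K.B (Y.π g).2 (Y.π p).2) := by
  rw [Y.cm hg hp]
  congr 2
  ext <;> simp only [Prod.fst_add, Prod.snd_add, K.nm_add]
  · linear_combination K.addE (K.nm (Y.π g).1) + K.addE (K.nm (Y.π p).1)
  · linear_combination K.addE (K.nm (Y.π g).2) + K.addE (K.nm (Y.π p).2)

theorem SP.inv (Y : SP X t) (hp : p ∈ Y.P) (pp : p * p = 1) : p ∈ Y.U := by
  have e := Y.m_inj ((Y.sq p hp).symm.trans (pp.trans Y.m_zero.symm))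
  exact Y.mem_U.2 ((Y.π_ker p hp).1 (Prod.ext (K.nm_eq_zero.1 (congrArg Prod.fst e))
    (K.nm_eq_zero.1 (congrArg Prod.snd e))))

theorem SP.onto (Y : SP X t) (hp : p ∈ Y.P) (b c : E) (h1 : (Y.π p).1 = 0 → b = 0)
    (h2 : (Y.π p).2 = 0 → c = 0) : ∃ y ∈ Y.P, p * y * p⁻¹ * y⁻¹ = Y.m (b, c) ∧
      (c = 0 → (Y.π y).2 = 0) ∧ (b = 0 → (Y.π y).1 = 0) := by
  have k : ∀ (a : F) (b : E), (a = 0 → b = 0) → ∃ x, K.B a x = b ∧ (b = 0 → x = 0) := fun a b e => by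
    by_cases b0 : b = 0
    · exact ⟨0, by rw [K.B_zero_right, b0], fun _ => rfl⟩
    · obtain ⟨x, hx⟩ := K.B_surj (fun k => b0 (e k)) b
      exact ⟨x, hx, fun k => absurd k b0⟩
  obtain ⟨x1, e1, f1⟩ := k _ b h1
  obtain ⟨x2, e2, f2⟩ := k _ c h2
  obtain ⟨y, hy, e⟩ := Y.π_surj (x1, x2)
  refine ⟨y, hy, ?_, by simpa [e] using f2, by simpa [e] using f1⟩
  rw [Y.cm' hp hy, e, e1, e2, mem_C.1 (Y.m_cen _) y hy, mul_inv_cancel_right]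

theorem SP.cen (Y : SP X t) : Y.P ⊓ C[Y.P] = Y.U := by
  refine le_antisymm (fun p hp => Y.mem_U.2 ((Y.π_ker p hp.1).1 ?_)) fun p hp => ?_
  · have k : ∀ b c : E, ((Y.π p).1 = 0 → b = 0) → ((Y.π p).2 = 0 → c = 0) → (b, c) = 0 := fun b c h1 h2 => by
      obtain ⟨y, hy, e, -⟩ := Y.onto hp.1 b c h1 h2
      rw [mem_C'.1 hp.2 y hy, mul_inv_cancel_right, mul_inv_cancel, ← Y.m_zero] at e
      exact (Y.m_inj e).symm
    ext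
    · by_contra e
      simpa using k 1 0 (fun k => absurd k e) fun _ => rfl
    · by_contra e
      simpa using k 0 1 (fun _ => rfl) fun k => absurd k e
  · obtain ⟨x, rfl⟩ := Y.mem_U.1 hp
    exact ⟨Y.m_mem x, Y.m_cen x⟩

theorem SP.U_C (Y : SP X t) : Y.U ≤ C[Y.P] := Y.cen.ge.trans inf_le_right

theorem SP.spc (Y : SP X t) : Y.A1 ≤ C[Y.A2] ∧ ∃ Z1 Z2, Spc Y.A1 Y.U Z1 ∧ Spc Y.A2 Y.U Z2 ∧
    (∀ g, g ∈ Z1 ↔ ∃ b, g = Y.m (b, 0)) ∧ ∀ g, g ∈ Z2 ↔ ∃ b, g = Y.m (0, b) := by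
  have k : ∀ f : E →+ E × E, ∃ Z : Subgroup G, ∀ g, g ∈ Z ↔ ∃ b, g = Y.m (f b) := fun f =>
    ⟨{ carrier := {g | ∃ b, g = Y.m (f b)}
       one_mem' := ⟨0, by rw [map_zero, Y.m_zero]⟩
       mul_mem' := by rintro _ _ ⟨b, rfl⟩ ⟨c, rfl⟩; exact ⟨b + c, by rw [map_add, Y.m_add]⟩
       inv_mem' := by rintro _ ⟨b, rfl⟩; exact ⟨b, inv_eq_of_mul_eq_one_right (Y.m_sq _)⟩ }, fun _ => Iff.rfl⟩
  obtain ⟨Z1, z1⟩ := k (AddMonoidHom.inl E E)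
  obtain ⟨Z2, z2⟩ := k (AddMonoidHom.inr E E)
  have el : ∀ a ∈ Y.U, a * a = 1 := fun a ha => by
    obtain ⟨x, rfl⟩ := Y.mem_U.1 ha
    exact Y.m_sq x
  refine ⟨le_C_iff.2 fun a ha b hb => ?_, Z1, Z2, ⟨fun g hg => ?_, Y.U_le.trans inf_le_left,
    cents_of_le Y.U_C Y.A1_le, el, fun x hx => (z1 _).2 ⟨K.nm (Y.π x).1, ?_⟩, fun x hx hn c hc => ?_⟩,
    ⟨fun g hg => ?_, Y.U_le.trans inf_le_right, cents_of_le Y.U_C Y.A2_le, el,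
      fun x hx => (z2 _).2 ⟨K.nm (Y.π x).2, ?_⟩, fun x hx hn c hc => ?_⟩, z1, z2⟩
  · rw [← mul_inv_eq_iff_eq_mul, Y.cm' (Y.A1_le ha) (Y.A2_le hb), (Y.mem_A1.1 ha).2, (Y.mem_A2.1 hb).2,
      K.B_zero_left, K.B_zero_right]
    exact (congrArg _ Y.m_zero).trans (mul_one _)
  · exact Y.mem_U.2 (((z1 g).1 hg).elim fun b e => ⟨_, e⟩)
  · rw [Y.sq x (Y.A1_le hx), (Y.mem_A1.1 hx).2, K.nm_zero]; rfl
  · obtain ⟨b, rfl⟩ := (z1 c).1 hc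
    obtain ⟨y, hy, e, e1, -⟩ := Y.onto (Y.A1_le hx) b 0
      (fun e => absurd (Y.inf ▸ mem_inf.2 ⟨hx, Y.mem_A2.2 ⟨Y.A1_le hx, e⟩⟩) hn) fun _ => rfl
    exact ⟨y, Y.mem_A1.2 ⟨hy, e1 rfl⟩, e⟩
  · exact Y.mem_U.2 (((z2 g).1 hg).elim fun b e => ⟨_, e⟩)
  · rw [Y.sq x (Y.A2_le hx), (Y.mem_A2.1 hx).2, K.nm_zero]; rfl
  · obtain ⟨b, rfl⟩ := (z2 c).1 hc
    obtain ⟨y, hy, e, -, e1⟩ := Y.onto (Y.A2_le hx) 0 b (fun _ => rfl)
      fun e => absurd (Y.inf ▸ mem_inf.2 ⟨Y.mem_A1.2 ⟨Y.A2_le hx, e⟩, hx⟩) hn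
    exact ⟨y, Y.mem_A2.2 ⟨hy, e1 rfl⟩, e⟩

theorem SP.NU (Y : SP X t) : N[Y.P] ≤ N[Y.U] := Y.cen ▸ norm_inf le_rfl (N_le_NC _)

theorem SP.perm (Y : SP X t) (hg : g ∈ N[Y.P]) :
    g ∈ N[Y.A1] ∧ g ∈ N[Y.A2] ∨ cj g Y.A1 = Y.A2 ∧ cj g Y.A2 = Y.A1 := by
  refine Y.perm_of hg fun p hp => by_contra fun hn => ?_
  have pP : p ∈ Y.P := hp.elim (fun e => Y.A1_le e) fun e => Y.A2_le e
  have m := conj_mem hg pP
  rw [Y.mem_A1, Y.mem_A2] at hn hp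
  obtain ⟨x, e⟩ := Y.mem_U.1 (conj_mem (Y.NU hg) (Y.mem_U.2 ⟨(1, 1), rfl⟩))
  obtain ⟨y, hy, e1, -⟩ := Y.onto m x.1 x.2 (fun k => (hn (.inr ⟨m, k⟩)).elim) fun k => (hn (.inl ⟨m, k⟩)).elim
  have m' := conj_mem' hg hy
  have : p * (g⁻¹ * y * g) * p⁻¹ = Y.m (1, 1) * (g⁻¹ * y * g) := by
    have : g * Y.m (1, 1) * g⁻¹ = _ := e.trans e1.symm
    rw [eq_mul_of_mul_inv_eq this |> eq_inv_mul_of_mul_eq]
    group
  rw [Y.cm' pP m', mem_C.1 (Y.m_cen _) _ m', mul_left_inj] at this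
  have := Y.m_inj this
  rcases hp with ⟨-, k⟩ | ⟨-, k⟩ <;> simp [k, K.B_zero_left] at this

theorem SP.sw_fix (Y : SP X t) (hg : g ∈ N[Y.P]) (hn : g ∉ N[Y.A1]) : ♯(Y.U ⊓ C{g}) ≤ 𝐪 := by
  obtain ⟨-, e⟩ := (Y.perm hg).resolve_left fun k => hn k.1
  have : ∀ u : ↥(Y.U ⊓ C{g}), ∃ x, (u : G) = Y.m x := fun u => Y.mem_U.1 u.2.1
  choose f hf using this
  rw [← Nat.card_eq_fintype_card]
  refine Nat.card_le_card_of_injective (fun u => (f u).1) fun u v (k : (f u).1 = (f v).1) => ?_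
  obtain ⟨c, hc⟩ := K.nm_surj ((f u).2 + (f v).2)
  obtain ⟨p, hp, e1⟩ := Y.π_surj (0, c)
  have m := Y.mem_A1.1 (e ▸ conj_mem_cj g (Y.mem_A2.2 ⟨hp, by rw [e1]⟩))
  have e2 : p * p = u * v := by
    rw [Y.sq p hp, hf, hf, ← Y.m_add, e1]
    congr 1
    exact Prod.ext (by simp [K.nm_zero, k, K.addE]) hc
  have e3 := Y.sq _ m.1
  rw [conj_mul, e2, mem_C1_iff_conj.1 (mem_C1_comm.1 (mul_mem u.2 v.2).2), hf, hf, ← Y.m_add, m.2,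
    K.nm_zero] at e3
  refine Subtype.ext (by
    rw [hf, hf]
    congr 1
    refine Prod.ext k ?_
    have := congrArg Prod.snd (Y.m_inj e3)
    simp only [Prod.snd_add] at this
    linear_combination this - K.addE (f v).2)

theorem SP.N2 (Y : SP X t) (hg : g ∈ N[Y.P]) (h : g ∈ N[Y.A1]) : g ∈ N[Y.A2] :=
  (Y.perm hg).elim (·.2) fun k => absurd ((cj_of_mem_N h).symm.trans k.1).le Y.not_le.1

theorem SP.sw_mul (Y : SP X t) (hx : x ∈ N[Y.P]) (hy : y ∈ N[Y.P]) (h1 : x ∉ N[Y.A1]) (h2 : y ∉ N[Y.A1]) :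
    x * y ∈ N[Y.A1] := by
  rw [mem_N_iff_cj, cj_mul, ((Y.perm hy).resolve_left fun k => h2 k.1).1,
    ((Y.perm hx).resolve_left fun k => h1 k.1).2]

/-- the action on `F × F` -/
def SP.Ak (Y : SP X t) (g : G) (k : F × F) (ρ : (F ≃+* F) × (F ≃+* F)) : Prop :=
  k.1 ≠ 0 ∧ k.2 ≠ 0 ∧ ∀ p ∈ Y.P, Y.π (g * p * g⁻¹) = (k.1 * ρ.1 (Y.π p).1, k.2 * ρ.2 (Y.π p).2)

theorem SP.exists_ak (Y : SP X t) (hg : g ∈ N[Y.P] ⊓ N[Y.A1]) : ∃ ρ k, Y.Ak g k ρ := by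
  obtain ⟨α1, α2, γ, i1, i2, -, e1, -, e2⟩ := Y.exists_act hg.2 (Y.N2 hg.1 hg.2)
  obtain ⟨k1, n1, ρ1, f1⟩ := K.gammaL α1 ((AddMonoidHom.fst E E).comp (γ.comp (AddMonoidHom.inl E E))) i1
    fun x => by simpa [K.nm_zero] using congrArg Prod.fst (e2 (x, 0))
  obtain ⟨k2, n2, ρ2, f2⟩ := K.gammaL α2 ((AddMonoidHom.snd E E).comp (γ.comp (AddMonoidHom.inr E E))) i2
    fun x => by simpa [K.nm_zero] using congrArg Prod.snd (e2 (0, x))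
  exact ⟨(ρ1, ρ2), (k1, k2), n1, n2, fun p hp => by rw [e1 p hp, f1, f2]⟩

theorem SP.Ak.mul {k l : F × F} {ρ μ : (F ≃+* F) × (F ≃+* F)} (h1 : Y.Ak x k ρ) (h2 : Y.Ak y l μ)
    (hy : y ∈ N[Y.P]) : Y.Ak (x * y) (k.1 * ρ.1 l.1, k.2 * ρ.2 l.2) (ρ * μ) :=
  ⟨mul_ne_zero h1.1 (by simpa using h2.1), mul_ne_zero h1.2.1 (by simpa using h2.2.1), fun p hp => by
    rw [show x * y * p * (x * y)⁻¹ = x * (y * p * y⁻¹) * x⁻¹ by group, h1.2.2 _ (conj_mem hy hp), h2.2.2 p hp]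
    simp [mul_assoc]⟩

theorem SP.Ak.uniq {k l : F × F} {ρ μ : (F ≃+* F) × (F ≃+* F)} (h1 : Y.Ak x k ρ) (h2 : Y.Ak x l μ) :
    k = l ∧ ρ = μ := by
  have e : ∀ v : F × F, (k.1 * ρ.1 v.1, k.2 * ρ.2 v.2) = (l.1 * μ.1 v.1, l.2 * μ.2 v.2) := fun v => by
    obtain ⟨p, hp, rfl⟩ := Y.π_surj v
    exact (h1.2.2 p hp).symm.trans (h2.2.2 p hp)
  obtain rfl : k = l := by simpa [Prod.ext_iff] using e (1, 1)
  exact ⟨rfl, Prod.ext (RingEquiv.ext fun c => mul_left_cancel₀ h1.1 (congrArg Prod.fst (e (c, 0))))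
    (RingEquiv.ext fun c => mul_left_cancel₀ h1.2.1 (congrArg Prod.snd (e (0, c))))⟩

theorem SP.ak_P (Y : SP X t) (hx : x ∈ Y.P) : Y.Ak x 1 1 :=
  ⟨one_ne_zero, one_ne_zero, fun p hp => by simp [Y.π_conj hx hp]⟩

theorem Env.sp_ker (h : Env X G0 t D Y.P P) (hx : x ∈ P) {k : F × F} (e : Y.Ak x k 1) : x ∈ Y.P := by
  have p : ∀ n : ℕ, Y.Ak (x ^ n) (k ^ n) 1 := fun n => by
    induction n with
    | zero => simpa using Y.ak_P (one_mem _)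
    | succ n ih => simpa [pow_succ, Prod.mul_def] using ih.mul e (h.P_N hx)
  obtain ⟨n, hn⟩ := (isPi_iff_isPGroup Nat.prime_two).1 h.piP ⟨x, hx⟩
  have e1 := p (2 ^ n)
  rw [show x ^ 2 ^ n = 1 from congrArg Subtype.val hn] at e1
  have e2 := (e1.uniq (Y.ak_P (one_mem _))).1
  obtain rfl : k = 1 := Prod.ext (K.two_scal (congrArg Prod.fst e2)) (K.two_scal (congrArg Prod.snd e2))
  exact h.kerB hx fun p hp => by simpa using e.2.2 p hp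

theorem Env.sp_hom (h : Env X G0 t D Y.P P) : ∃ ψ : ↥(P ⊓ N[Y.A1]) →* (F ≃+* F) × (F ≃+* F),
    (∀ x : ↥(P ⊓ N[Y.A1]), ∃ k, Y.Ak x k (ψ x)) ∧ ∀ x, ψ x = 1 ↔ (x : G) ∈ Y.P := by
  have : ∀ x : ↥(P ⊓ N[Y.A1]), ∃ ρ k, Y.Ak x k ρ := fun x => Y.exists_ak ⟨h.P_N x.2.1, x.2.2⟩
  choose ρ k e using this
  exact ⟨MonoidHom.mk' ρ fun x y => ((e (x * y)).uniq ((e x).mul (e y) (h.P_N y.2.1))).2,
    fun x => ⟨_, e x⟩, fun x => ⟨fun e1 => h.sp_ker x.2.1 ((show ρ x = 1 from e1) ▸ e x), fun e1 => ((e x).uniq (Y.ak_P e1)).2⟩⟩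

theorem Env.sp_comm (h : Env X G0 t D Y.P P) (hx : x ∈ P ⊓ N[Y.A1]) (hy : y ∈ P ⊓ N[Y.A1]) :
    x * y * x⁻¹ * y⁻¹ ∈ Y.P := by
  obtain ⟨ψ, -, e⟩ := h.sp_hom
  have := K.cyc_F
  have c : ∀ a b : F ≃+* F, a * b = b * a := fun a b => (IsCyclic.isMulCommutative (α := F ≃+* F)).1.1 a b
  refine (e (⟨x, hx⟩ * ⟨y, hy⟩ * ⟨x, hx⟩⁻¹ * ⟨y, hy⟩⁻¹)).1 ?_
  rw [map_mul, map_mul, map_mul, map_inv, map_inv, mul_inv_eq_one, mul_inv_eq_iff_eq_mul]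
  exact Prod.ext (c _ _) (c _ _)

theorem UF.two_cases (K : UF E F) (h1 : k * ρ k = 1) (h2 : ρ * ρ = 1) :
    k = 1 ∧ ρ = 1 ∨ K.nm k = 1 ∧ ρ = K.σ := by
  rcases K.aut_sq h2 with rfl | rfl
  · exact .inl ⟨K.two_scal (n := 1) (by simpa [sq] using h1), rfl⟩
  · exact .inr ⟨(algebraMap E F).injective (by rw [K.nm_eq, h1, map_one]), rfl⟩

/-- the elements of order `≤ 2` of `(P ⊓ N(A₁)) / P₀` -/
theorem Env.sp_two (h : Env X G0 t D Y.P P) (hx : x ∈ P ⊓ N[Y.A1]) (xx : x * x ∈ Y.P) :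
    x ∈ C[Y.U] ∧ ∃ α1 α2 : F → F, (∀ p ∈ Y.P, Y.π (x * p * x⁻¹) = (α1 (Y.π p).1, α2 (Y.π p).2)) ∧
      ((∀ c, α1 c = c) ∨ ∃ k, K.nm k = 1 ∧ ∀ c, α1 c = k * K.σ c) ∧
      ((∀ c, α2 c = c) ∨ ∃ k, K.nm k = 1 ∧ ∀ c, α2 c = k * K.σ c) := by
  obtain ⟨ρ, k, e⟩ := Y.exists_ak ⟨h.P_N hx.1, hx.2⟩
  obtain ⟨e1, e2⟩ := (e.mul e (h.P_N hx.1)).uniq (Y.ak_P xx)
  have c1 := K.two_cases (congrArg Prod.fst e1) (congrArg Prod.fst e2)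
  have c2 := K.two_cases (congrArg Prod.snd e1) (congrArg Prod.snd e2)
  have n : ∀ {k : F} {ρ : F ≃+* F}, k = 1 ∧ ρ = 1 ∨ K.nm k = 1 ∧ ρ = K.σ → ∀ c, K.nm (k * ρ c) = K.nm c := by
    rintro k ρ (⟨rfl, rfl⟩ | ⟨e, rfl⟩) c
    · simp
    · rw [K.nm_mul, e, K.nm_σ, one_mul]
  refine ⟨mem_C'.2 fun u hu => ?_, fun c => k.1 * ρ.1 c, fun c => k.2 * ρ.2 c, e.2.2,
    c1.imp (fun k c => by simp [k.1, k.2]) fun l => ⟨_, l.1, fun c => by rw [l.2]⟩,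
    c2.imp (fun k c => by simp [k.1, k.2]) fun l => ⟨_, l.1, fun c => by rw [l.2]⟩⟩
  obtain ⟨⟨b, c⟩, rfl⟩ := Y.mem_U.1 hu
  obtain ⟨b, rfl⟩ := K.nm_surj b
  obtain ⟨c, rfl⟩ := K.nm_surj c
  obtain ⟨p, hp, e3⟩ := Y.π_surj (b, c)
  have := Y.sq _ (conj_mem (h.P_N hx.1) hp)
  rw [conj_mul, Y.sq p hp, e.2.2 p hp, e3, n c1, n c2] at this
  exact eq_mul_of_mul_inv_eq this

/-- `x` moves both factors -/
def SP.Mv (Y : SP X t) (x : G) : Prop :=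
  (∃ p ∈ Y.A1, Y.π (x * p * x⁻¹) ≠ Y.π p) ∧ ∃ p ∈ Y.A2, Y.π (x * p * x⁻¹) ≠ Y.π p

theorem UF.exists_mv (K : UF E F) (k : F) : ∃ c, k * K.σ c ≠ c := by
  by_contra h
  have e : ∀ c, k * K.σ c = c := by simpa using h
  exact K.σ_ne (RingEquiv.ext fun c => by simpa [show k = 1 by simpa using e 1] using e c)

theorem Env.sp_Q4 (h : Env X G0 t D Y.P P) (h1 : A ≤ P ⊓ N[Y.A1]) (h2 : ∀ x ∈ A, x * x ∈ Y.P) :
    Y.P.relIndex A ≤ 2 ∨ Y.P.relIndex A = 4 ∧ ∃ y ∈ A, Y.Mv y := by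
  obtain ⟨ψ, e1, e2⟩ := h.sp_hom
  let f := ψ.comp (inclusion h1)
  have ek : Y.P.relIndex A = Nat.card f.range := by
    rw [← index_ker, relIndex]
    congr 1
    ext x
    exact (e2 (inclusion h1 x)).symm
  have r : ∀ x, f x * f x = 1 := fun x => by rw [← map_mul]; exact (e2 _).2 (h2 x x.2)
  have r' : ∀ x, f x ∈ ({(1, 1), (1, K.σ), (K.σ, 1), (K.σ, K.σ)} : Set _) := fun x => by
    rcases K.aut_sq (congrArg Prod.fst (r x)) with a | a <;> rcases K.aut_sq (congrArg Prod.snd (r x)) with b | b <;>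
      simp [Prod.ext_iff, a, b]
  have n3 : Y.P.relIndex A ≠ 3 := fun e => by
    simpa using (h.piP.of_le (h1.trans inf_le_left)) 3 Nat.prime_three (e ▸ relIndex_dvd_card _ _)
  by_cases hm : ∃ x, f x = (K.σ, K.σ)
  · have : Nat.card f.range ≤ 4 := (Set.ncard_le_ncard (s := (f.range : Set _))
      (t := {(1, 1), (1, K.σ), (K.σ, 1), (K.σ, K.σ)}) (by rintro _ ⟨x, rfl⟩; exact r' x) (Set.toFinite _)).trans (by
        refine (Set.ncard_insert_le _ _).trans (Nat.succ_le_succ ((Set.ncard_insert_le _ _).trans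
          (Nat.succ_le_succ ((Set.ncard_insert_le _ _).trans ?_)))); simp)
    obtain ⟨x, hx⟩ := hm
    obtain ⟨k, e⟩ := e1 (inclusion h1 x)
    rw [show ψ (inclusion h1 x) = _ from hx] at e
    obtain ⟨c, hc⟩ := K.exists_mv k.1
    obtain ⟨d, hd⟩ := K.exists_mv k.2
    obtain ⟨p, hp, ep⟩ := Y.π_surj (c, 0)
    obtain ⟨p', hp', ep'⟩ := Y.π_surj (0, d)
    refine (em _).imp_right fun l => ⟨by omega, x, x.2, ⟨p, Y.mem_A1.2 ⟨hp, by rw [ep]⟩, fun l => hc ?_⟩,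
      p', Y.mem_A2.2 ⟨hp', by rw [ep']⟩, fun l => hd ?_⟩
    · simpa [ep] using congrArg Prod.fst ((e.2.2 p hp).symm.trans l)
    · simpa [ep'] using congrArg Prod.snd ((e.2.2 p' hp').symm.trans l)
  · have : Nat.card f.range ≤ 3 := (Set.ncard_le_ncard (s := (f.range : Set _))
      (t := {(1, 1), (1, K.σ), (K.σ, 1)}) (by
        rintro _ ⟨x, rfl⟩
        rcases r' x with a | a | a | a
        exacts [.inl a, .inr (.inl a), .inr (.inr a), absurd ⟨x, a⟩ hm]) (Set.toFinite _)).trans (by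
        refine (Set.ncard_insert_le _ _).trans (Nat.succ_le_succ ((Set.ncard_insert_le _ _).trans ?_)); simp)
    omega

theorem Env.sp_wc (h : Env X G0 t D Y.P P) (g : G) (h1 : cj g Y.P ≤ P) : cj g Y.P = Y.P := by
  obtain ⟨-, Z1, Z2, s1, s2, z1, z2⟩ := Y.spc
  have q4 := K.four
  have key : ∀ {B Z}, B ≤ Y.P → Spc B Y.U Z → Y.U.relIndex B = 𝐪 ^ 2 → cj g Z ≤ Y.U := fun {B Z} b s e => by
    have m : cj g B ≤ P := (cj_mono g b).trans h1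
    refine (s.cj g).key (R := N[Y.A1]) (n := 2) (relIndex_le_two fun x hx y hy =>
      Y.sw_mul (h.P_N (m hx)) (h.P_N (m hy))) (fun x hx y hy => Y.inv (h.sp_comm ⟨m hx.1, hx.2⟩ ⟨m hy.1, hy.2⟩)
      ((s.cj g).el _ ((s.cj g).Z_le ((s.cj g).comm hx.1 hy.1)))) (by rw [relIndex_cj, e]; nlinarith)
  have gU : g ∈ N[Y.U] := mem_N_of_finite fun u hu => by
    obtain ⟨⟨b, c⟩, rfl⟩ := Y.mem_U.1 hu
    rw [show (b, c) = (b, 0) + (0, c) by simp, Y.m_add, ← conj_mul]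
    exact mul_mem (key Y.A1_le s1 Y.idx_U.2.1 (conj_mem_cj g ((z1 _).2 ⟨b, rfl⟩)))
      (key Y.A2_le s2 Y.idx_U.2.2 (conj_mem_cj g ((z2 _).2 ⟨c, rfl⟩)))
  have cU : cj g Y.P ≤ C[Y.U] := (cent_cj (cents_symm Y.U_C) g).trans (by rw [cj_of_mem_N gU])
  have n1 : cj g Y.P ≤ P ⊓ N[Y.A1] := fun x hx => ⟨h1 hx, by_contra fun e => by
    have := Y.sw_fix (h.P_N (h1 hx)) e
    rw [inf_eq_left.2 (mem_C_iff_le_C1.1 (cU hx)), Y.card_U, Nat.card_prod, Nat.card_eq_fintype_card] at this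
    nlinarith⟩
  have UP : Y.U ≤ Y.P := Y.cen.ge.trans inf_le_left
  have sq : ∀ x ∈ cj g Y.P, x * x ∈ Y.U := fun x hx => by
    obtain ⟨p, hp, rfl⟩ := mem_cj'.1 hx
    rw [conj_mul]
    exact conj_mem gU (Y.mem_U.2 ⟨_, Y.sq p hp⟩)
  have fx : ∀ x ∈ cj g Y.P, ∀ p ∈ Y.P, p ∈ cj g Y.P → Y.π (x * p * x⁻¹) = Y.π p := fun x hx p hp hp' => by
    obtain ⟨a, ha, rfl⟩ := mem_cj'.1 hx
    obtain ⟨b, hb, e⟩ := mem_cj'.1 hp'
    obtain ⟨w, e1⟩ := Y.mem_U.1 (conj_mem gU (Y.mem_U.2 ⟨_, rfl⟩ : Y.m (K.B (Y.π a).1 (Y.π b).1,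
      K.B (Y.π a).2 (Y.π b).2) ∈ Y.U))
    have : g * a * g⁻¹ * p * (g * a * g⁻¹)⁻¹ = p * Y.m w := by
      rw [← e1, e, conj_inv, conj_mul, conj_mul, conj_mul, Y.cm' ha hb]
    rw [this, Y.π_mul _ hp _ (Y.m_mem _), Y.π_m, add_zero]
  have ix : (cj g Y.P).relIndex Y.P = Y.P.relIndex (cj g Y.P) := by
    have e1 := card_mul_relIndex (inf_le_left : Y.P ⊓ cj g Y.P ≤ _)
    have e2 := card_mul_relIndex (inf_le_right : Y.P ⊓ cj g Y.P ≤ _)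
    rw [card_cj, ← e1, inf_relIndex_left, inf_relIndex_right] at e2
    exact (Nat.eq_of_mul_eq_mul_left (card_pos _) e2).symm
  have lin : ∀ {α : F → F}, ((∀ c, α c = c) ∨ ∃ k, K.nm k = 1 ∧ ∀ c, α c = k * K.σ c) → ∀ c, α c ≠ c →
      ∀ e : E, α (e • c) = e • c → e = 0 := by
    rintro α (k | ⟨k, -, l⟩) c hc e l'
    · exact absurd (k c) hc
    · rw [l, K.σ_smul, mul_smul_comm, ← l] at l'
      exact by_contra fun e0 => hc (by simpa [e0] using congrArg (e⁻¹ • ·) l')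
  have cnt : ∀ x ∈ cj g Y.P, ∀ (ι : Type _) [AddCommGroup ι] (v : ι →+ F × F),
      (∀ p ∈ Y.P, ∀ i, Y.π p = v i → Y.π (x * p * x⁻¹) = Y.π p → i = 0) →
      Nat.card ι ≤ Y.P.relIndex (cj g Y.P) := fun x hx ι _ v e => by
    choose f hf ef using fun i => Y.π_surj (v i)
    refine ix ▸ card_le_relIndex f hf fun i j k => ?_
    have m := mul_mem (inv_mem (hf i)) (hf j)
    refine sub_eq_zero.1 (e _ m _ ?_ (fx x hx _ m k))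
    rw [Y.π_mul _ (inv_mem (hf i)) _ (hf j), Y.π_inv (hf i), ef, ef, map_sub, eq_sub_iff_add_eq, add_assoc]
    ext <;> simp [K.addF]
  refine eq_of_le_of_card_ge (fun x hx => by_contra fun hn => ?_) (card_cj ..).ge
  rcases h.sp_Q4 n1 fun x hx => UP (sq x hx) with e | ⟨e, y, hy, ⟨p, hp, mp⟩, p', hp', mp'⟩
  · obtain ⟨-, α1, α2, e1, e2, e3⟩ := h.sp_two (n1 hx) (UP (sq x hx))
    have : (∃ c, α1 c ≠ c) ∨ ∃ c, α2 c ≠ c := by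
      by_contra k
      simp only [not_or, not_exists, not_not] at k
      exact hn (h.kerB (h1 hx) fun p hp => by rw [e1 p hp, k.1, k.2])
    rcases this with ⟨c, hc⟩ | ⟨c, hc⟩
    · have := cnt x hx E ((AddMonoidHom.inl F F).comp (smulAddHom E F |>.flip c)) fun p hp i k l =>
        lin e2 c hc i (by simpa [k] using congrArg Prod.fst ((e1 p hp).symm.trans l))
      rw [Nat.card_eq_fintype_card] at this
      omega
    · have := cnt x hx E ((AddMonoidHom.inr F F).comp (smulAddHom E F |>.flip c)) fun p hp i k l =>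
        lin e3 c hc i (by simpa [k] using congrArg Prod.snd ((e1 p hp).symm.trans l))
      rw [Nat.card_eq_fintype_card] at this
      omega
  · obtain ⟨-, α1, α2, e1, e2, e3⟩ := h.sp_two (n1 hy) (UP (sq y hy))
    have a0 : ∀ {α : F → F}, ((∀ c, α c = c) ∨ ∃ k, K.nm k = 1 ∧ ∀ c, α c = k * K.σ c) → α 0 = 0 := by
      rintro α (k | ⟨k, -, l⟩) <;> simp [*]
    have := cnt y hy (E × E) (((smulAddHom E F).flip (Y.π p).1).prodMap ((smulAddHom E F).flip (Y.π p').2))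
      fun r hr i k l => Prod.ext
        (lin e2 _ (fun k => mp (by rw [e1 p (Y.A1_le hp), k, (Y.mem_A1.1 hp).2, a0 e3, ← (Y.mem_A1.1 hp).2])) _
          (by simpa [k] using congrArg Prod.fst ((e1 r hr).symm.trans l)))
        (lin e3 _ (fun k => mp' (by rw [e1 p' (Y.A2_le hp'), k, (Y.mem_A2.1 hp').2, a0 e2, ← (Y.mem_A2.1 hp').2])) _
          (by simpa [k] using congrArg Prod.snd ((e1 r hr).symm.trans l)))
    rw [Nat.card_prod, Nat.card_eq_fintype_card] at this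
    nlinarith

theorem Env.sp_syl (h : Env X G0 t D Y.P P) : Syl 2 ⊤ P :=
  h.syl_of fun g hg => mem_N_iff_cj.2 (h.sp_wc g (cj_le_of_mem_N h.B_le hg))
end

end H2.U3
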