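import Mathlib
import Cfsg.Agent.H2.UDefs
import Cfsg.Agent.H2.US1

set_option autoImplicit false
set_option linter.unusedVariables false
set_option linter.unusedSectionVars false

namespace H2.U3

open Cfsg H24 Subgroup
open H2.SZ (St DD Goal)
open H2.C2 (Cl2)

universe u v

variable {G : Type u} [Group G] [Finite G] {E F : Type*} [Field E] [Fintype E] [Field F] [Fintype F]
  [Algebra E F] {K : UF E F} {L G0 D P P0 Q R A B C H T M W W1 W2 Z1 Z2 : Subgroup G}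
  {t g s f x y i v p : G} {X : UD K L} {a k : F} {b : E} {ρ : F ≃+* F}

local notation "𝐪" => Fintype.card E

/-! ### US2 -/

theorem us2_idx2 (h : ∀ a ∈ A, ∀ b ∈ A, a ∉ H → b ∉ H → a * b ∈ H) : ♯A ≤ 2 * ♯(H ⊓ A) := by
  have h1 : H.relIndex A ∣ 2 := by
    refine index_dvd_two_iff.2 ?_
    by_cases e : ∃ a ∈ A, a ∉ H
    · obtain ⟨a, ha, hn⟩ := e
      refine ⟨⟨a, ha⟩, fun c => ?_⟩
      by_cases hc : (c : G) ∈ H
      · exact Or.inr hc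
      · exact Or.inl (h c c.2 a ha hc hn)
    · push Not at e
      exact ⟨1, fun c => Or.inr (e c c.2)⟩
  rw [← card_inf_mul_relIndex H A, mul_comm]
  exact Nat.mul_le_mul_right _ (Nat.le_of_dvd two_pos h1)

theorem UF.us2_eq (K : UF E F) {x y : F} (h : x + y = 0) : x = y := by
  rw [← add_zero x, ← K.addF y, ← add_assoc, h, zero_add]

theorem UF.us2_onto (K : UF E F) (hk : K.nm k = 1) (e : E) : ∃ c, K.nm (k * K.σ c + c) = e := by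
  obtain ⟨c, hc⟩ : ∃ c, k * K.σ c + c ≠ 0 := by
    by_contra hh
    push Not at hh
    have h1 : k = 1 := by simpa using K.us2_eq (hh 1)
    refine K.σ_ne (RingEquiv.ext fun c => ?_)
    simpa [h1] using K.us2_eq (hh c)
  obtain ⟨rt, hrt⟩ := K.exists_rt
  have h0 : K.nm (k * K.σ c + c) ≠ 0 := fun e => hc (K.nm_eq_zero.1 e)
  refine ⟨rt (e / K.nm (k * K.σ c + c)) • c, ?_⟩
  rw [K.σ_smul, mul_smul_comm, ← smul_add, K.nm_smul, hrt, div_mul_cancel₀ _ h0]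

theorem UF.us2_fix (K : UF E F) (h : k * K.σ a = a) : ∃ c, a = k * K.σ c + c := by
  have h1 := K.tr_eq K.ω
  rw [K.tr_ω, map_one] at h1
  refine ⟨K.ω * a, ?_⟩
  rw [map_mul, mul_left_comm, h, ← add_mul, add_comm, ← h1, one_mul]

section
variable (Y : SP X t)

theorem SP.us2_UP : Y.U ≤ Y.P := fun g hg => (Y.mem_A1.1 (Y.U_le hg).1).1
theorem SP.us2_A1 : Y.A1 ≤ Y.P := fun g hg => (Y.mem_A1.1 hg).1
theorem SP.us2_A2 : Y.A2 ≤ Y.P := fun g hg => (Y.mem_A2.1 hg).1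
theorem SP.us2_UC : Y.U ≤ C[Y.P] := Y.cen.ge.trans inf_le_right
theorem SP.us2_mm (u : E × E) : Y.m u * Y.m u = 1 := by rw [← Y.m_add, Y.two, Y.m_zero]
theorem SP.us2_el (hg : g ∈ Y.U) : g * g = 1 := by
  obtain ⟨u, rfl⟩ := Y.mem_U.1 hg
  exact Y.us2_mm u
theorem SP.us2_cardU : ♯Y.U = 𝐪 ^ 2 := by
  rw [Y.card_U, Nat.card_prod, Nat.card_eq_fintype_card, sq]
theorem SP.us2_cardA : ♯Y.A1 = 𝐪 ^ 4 := by
  rw [← card_mul_relIndex (Y.U_le.trans inf_le_left), Y.us2_cardU, Y.idx_U.2.1]; ring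
theorem SP.us2_cardP : ♯Y.P = 𝐪 ^ 6 := by
  rw [← card_mul_relIndex Y.us2_UP, Y.us2_cardU, Y.idx_U.1]; ring

theorem SP.us2_πc (hg : g ∈ Y.P) (hp : p ∈ Y.P) : Y.π (g * p * g⁻¹) = Y.π p := by
  rw [Y.π_mul _ (mul_mem hg hp) _ (inv_mem hg), Y.π_mul _ hg _ hp, Y.π_inv hg, add_right_comm,
    show Y.π g + Y.π g = 0 from Prod.ext (K.addF _) (K.addF _), zero_add]

theorem SP.us2_PN : Y.P ≤ N[Y.A1] := le_N_iff.2 fun g hg p hp => by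
  rw [Y.mem_A1] at hp ⊢
  exact ⟨mul_mem (mul_mem hg hp.1) (inv_mem hg), by rw [Y.us2_πc hg hp.1, hp.2]⟩

theorem SP.us2_ne : Y.A1 ≠ Y.A2 := fun e => by
  obtain ⟨g, hg, h⟩ := Y.π_surj (1, 0)
  have := (Y.mem_A2.1 (e.le (Y.mem_A1.2 ⟨hg, by rw [h]⟩))).2
  rw [h] at this
  exact one_ne_zero this

theorem SP.us2_sw (hg : g ∈ N[Y.P]) (hn : g ∉ N[Y.A1]) : cj g Y.A1 = Y.A2 ∧ cj g Y.A2 = Y.A1 :=
  (Y.perm hg).resolve_left fun h => hn h.1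
theorem SP.us2_n2 (hg : g ∈ N[Y.P]) (hn : g ∈ N[Y.A1]) : g ∈ N[Y.A2] :=
  ((Y.perm hg).resolve_right fun h => Y.us2_ne ((cj_of_mem_N hn).symm.trans h.1)).2
theorem SP.us2_mul (hg : g ∈ N[Y.P]) (hx : x ∈ N[Y.P]) (h1 : g ∉ N[Y.A1]) (h2 : x ∉ N[Y.A1]) :
    g * x ∈ N[Y.A1] :=
  mem_N_iff_cj.2 (by rw [cj_mul, (Y.us2_sw hx h2).1, (Y.us2_sw hg h1).2])
theorem SP.us2_conj (hg : g ∈ N[Y.P]) (hx : x ∈ N[Y.P]) : g * x * g⁻¹ ∈ N[Y.A1] ↔ x ∈ N[Y.A1] := by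
  by_cases h1 : g ∈ N[Y.A1]
  · rw [mul_mem_cancel_right (inv_mem h1), mul_mem_cancel_left h1]
  · by_cases h2 : x ∈ N[Y.A1]
    · refine iff_of_true (Y.us2_mul (mul_mem hg hx) (inv_mem hg) ?_ ?_) h2
      · rwa [mul_mem_cancel_right h2]
      · rwa [inv_mem_iff]
    · refine iff_of_false ?_ h2
      rwa [mul_mem_cancel_left (Y.us2_mul hg hx h1 h2), inv_mem_iff]
theorem SP.us2_half (hA : A ≤ N[Y.P]) : ♯A ≤ 2 * ♯(N[Y.A1] ⊓ A) :=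
  us2_idx2 fun a ha c hc h1 h2 => Y.us2_mul (hA ha) (hA hc) h1 h2

theorem SP.us2_diag (hi : i ∈ N[Y.P]) (hn : i ∉ N[Y.A1]) (ii : i * i = 1) :
    𝐪 ^ 4 ≤ ♯(Y.U ⊓ C{i}) * ♯(Y.P ⊓ C{i}) := by
  have h2 : ∀ p ∈ Y.A1, i * p * i⁻¹ ∈ Y.A2 := fun p hp => (Y.us2_sw hi hn).1 ▸ conj_mem_cj i hp
  have cc : ∀ p ∈ Y.A1, ∀ r ∈ Y.A2, p * r = r * p := fun p hp r hr => comm_of_cent Y.spc.1 hp hr
  have ei : i⁻¹ = i := inv_eq_of_mul_eq_one_right ii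
  let ψ : Y.A1 →* G :=
    { toFun := fun p => p * (i * p * i⁻¹)
      map_one' := by simp
      map_mul' := fun p r => by
        have := cc r r.2 _ (h2 p p.2)
        rw [Subgroup.coe_mul]
        calc _ = p * (r * (i * p * i⁻¹)) * (i * r * i⁻¹) := by group
          _ = _ := by rw [this]; group }
  have k1 : ψ.ker.map Y.A1.subtype ≤ Y.U ⊓ C{i} := by
    rintro _ ⟨p, hp, rfl⟩
    have e : (p : G) * (i * p * i⁻¹) = 1 := hp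
    have hU : (p : G) ∈ Y.U := by
      rw [← Y.inf]
      exact mem_inf.2 ⟨p.2, by rw [eq_inv_of_mul_eq_one_left e]; exact inv_mem (h2 p p.2)⟩
    refine ⟨hU, H24.mem_C1_comm.2 (H24.mem_C1_iff_conj.2 ?_)⟩
    exact (eq_inv_of_mul_eq_one_right e).trans (inv_eq_of_mul_eq_one_right (Y.us2_el hU))
  have k2 : ψ.range ≤ Y.P ⊓ C{i} := by
    rintro _ ⟨p, rfl⟩
    refine ⟨mul_mem (Y.us2_A1 p.2) (Y.us2_A2 (h2 p p.2)), H24.mem_C1_comm.2 (H24.mem_C1_iff_conj.2 ?_)⟩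
    show i * (p * (i * p * i⁻¹)) * i⁻¹ = p * (i * p * i⁻¹)
    calc i * (p * (i * p * i⁻¹)) * i⁻¹ = i * p * i * p * (i * i)⁻¹ := by
          simp only [mul_inv_rev, mul_assoc]
      _ = i * p * i⁻¹ * p := by rw [ii, ei]; group
      _ = _ := (cc p p.2 _ (h2 p p.2)).symm
  rw [← Y.us2_cardA, ← ψ.ker.card_mul_index, index_ker]
  refine Nat.mul_le_mul ?_ (card_le k2)
  rw [← card_map_of_injective Y.A1.subtype_injective]
  exact card_le k1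

/-- the elements `f r f⁻¹ r⁻¹` are inverted by the involution `f` -/
theorem SP.us2_inv (hf : f ∈ N[Y.P]) (ff : f * f = 1) (hr : s ∈ Y.P) : ∃ p, p = f * s * f⁻¹ * s⁻¹ ∧
    p ∈ Y.P ∧ Y.π p = Y.π (f * s * f⁻¹) + Y.π s ∧ s * f * s⁻¹ = f * p ∧
      p * f * p⁻¹ = f * Y.m (K.nm (Y.π p).1, K.nm (Y.π p).2) ∧
      p * p = Y.m (K.nm (Y.π p).1, K.nm (Y.π p).2) := by
  have ef : f⁻¹ = f := inv_eq_of_mul_eq_one_right ff
  have h1 := H24.conj_mem hf hr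
  have h2 := mul_mem h1 (inv_mem hr)
  have h3 := Y.sq _ h2
  refine ⟨_, rfl, h2, by rw [Y.π_mul _ h1 _ (inv_mem hr), Y.π_inv hr], ?_, ?_, h3⟩
  · calc s * f * s⁻¹ = (f * f) * s * f * s⁻¹ := by rw [ff, one_mul]
      _ = _ := by rw [ef]; group
  · rw [← inv_eq_of_mul_eq_one_right (Y.us2_mm _), ← h3]
    calc _ = f * s * f⁻¹ * s⁻¹ * (f * f) * f⁻¹ * (f * s * f⁻¹ * s⁻¹)⁻¹ := by group
      _ = f * (s * f * s⁻¹ * f⁻¹) * (f * s * f⁻¹ * s⁻¹)⁻¹ := by rw [ff, ef]; group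
      _ = _ := by group

theorem SP.us2_cj {k1 k2 : F} (h1 : K.nm k1 = 1) (h2 : K.nm k2 = 1) (hf : f ∈ N[Y.P]) (ff : f * f = 1)
    (ac : ∀ p ∈ Y.P, Y.π (f * p * f⁻¹) = (k1 * K.σ (Y.π p).1, k2 * K.σ (Y.π p).2))
    (hs : s ∈ Y.P) (e : f * s * (f * s) = 1) : ∃ p, p * f * p⁻¹ = f * s := by
  have ef : f⁻¹ = f := inv_eq_of_mul_eq_one_right ff
  have e1 : f * s * f⁻¹ = s⁻¹ := by rw [ef, eq_inv_iff_mul_eq_one, ← e, mul_assoc]
  have e2 := ac s hs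
  rw [e1, Y.π_inv hs, Prod.ext_iff] at e2
  obtain ⟨c1, f1⟩ := K.us2_fix e2.1.symm
  obtain ⟨c2, f2⟩ := K.us2_fix e2.2.symm
  obtain ⟨r, hr, er⟩ := Y.π_surj (c1, c2)
  obtain ⟨p, -, hp, e3, e4, -⟩ := Y.us2_inv hf ff hr
  obtain ⟨u, eu⟩ := Y.eqm hs hp (by rw [e3, ac r hr, er]; exact Prod.ext f1 f2)
  obtain ⟨d1, g1⟩ := K.us2_onto h1 u.1
  obtain ⟨d2, g2⟩ := K.us2_onto h2 u.2
  obtain ⟨r', hr', er'⟩ := Y.π_surj (d1, d2)
  obtain ⟨p', -, hp', e5, -, e6, -⟩ := Y.us2_inv hf ff hr'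
  rw [e5, ac r' hr', er'] at e6
  simp only [Prod.mk_add_mk, g1, g2] at e6
  refine ⟨r * p', ?_⟩
  have e7 : r * Y.m u = Y.m u * r := mem_C.1 (Y.m_cen u) r hr
  calc r * p' * f * (r * p')⁻¹ = r * (p' * f * p'⁻¹) * r⁻¹ := by group
    _ = r * f * r⁻¹ * (r * Y.m u) * r⁻¹ := by rw [e6]; group
    _ = f * s := by rw [e4, e7, eu]; group

variable {Y}

theorem Env.us2_mv (h : Env X G0 t D Y.P P) (hx : x ∈ P ⊓ N[Y.A1]) (xx : x * x ∈ Y.P) (hm : Y.Mv x) :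
    ∃ k1 k2, K.nm k1 = 1 ∧ K.nm k2 = 1 ∧
      ∀ p ∈ Y.P, Y.π (x * p * x⁻¹) = (k1 * K.σ (Y.π p).1, k2 * K.σ (Y.π p).2) := by
  obtain ⟨-, α1, α2, ac, h1, h2⟩ := h.sp_two hx xx
  obtain ⟨⟨p, hp, e⟩, p', hp', e'⟩ := hm
  rw [Y.mem_A1] at hp
  rw [Y.mem_A2] at hp'
  have z1 : α1 0 = 0 := by rcases h1 with h1 | ⟨k, -, h1⟩ <;> simp [h1]
  have z2 : α2 0 = 0 := by rcases h2 with h2 | ⟨k, -, h2⟩ <;> simp [h2]
  obtain ⟨k1, n1, a1⟩ := h1.resolve_left fun h1 => e (by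
    rw [ac p hp.1, h1, hp.2, z2, ← hp.2])
  obtain ⟨k2, n2, a2⟩ := h2.resolve_left fun h2 => e' (by
    rw [ac p' hp'.1, h2, hp'.2, z1, ← hp'.2])
  exact ⟨k1, k2, n1, n2, fun p hp => by rw [ac p hp, a1, a2]⟩

theorem Env.us2_move (h : Env X G0 t D Y.P P) (hA : A ≤ P) (h1 : A ≤ N[R]) (h2 : cj g R ≤ Y.U) :
    ∃ y, cj y A ≤ P ∧ cj y R ≤ Y.U := by
  rw [← Y.cen] at h2 ⊢
  exact wc_move h.sp_syl h.B_le h.sp_wc (h.piP.of_le hA) h1 (cj_le_iff.1 h2)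

theorem Env.us2_tN (h : Env X G0 t D Y.P P) : t ∉ N[Y.A1] := fun e =>
  Y.us2_ne ((cj_of_mem_N e).symm.trans (Y.t_sw h.toSc).1)
end

theorem Env.sp_T {Y : SP X t} (h : Env X G0 t D Y.P P) (hx : x ∈ P ⊓ N[Y.A1]) (xx : x * x = 1)
    (hm : Y.Mv x) (g : G) : g * x * g⁻¹ ∉ Y.U := by
  intro hg
  have q4 := K.four
  obtain ⟨k1, k2, n1, n2, ac⟩ := h.us2_mv hx (xx ▸ one_mem _) hm
  have tt : t * t = 1 := h.tt
  have et : t⁻¹ = t := inv_eq_of_mul_eq_one_right tt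
  have ex : x⁻¹ = x := inv_eq_of_mul_eq_one_right xx
  have tN := h.P_N h.t_mem
  have xN := h.P_N hx.1
  have hx' : t * x * t⁻¹ ∈ P ⊓ N[Y.A1] :=
    mem_inf.2 ⟨mul_mem (mul_mem h.t_mem hx.1) (inv_mem h.t_mem), (Y.us2_conj tN xN).2 hx.2⟩
  have yN := mul_mem xN (h.P_N hx'.1)
  have ay : ∀ p ∈ Y.P, Y.π (x * (t * x * t⁻¹) * p * (x * (t * x * t⁻¹))⁻¹) =
      (k1 * K.σ k2 * (Y.π p).1, k2 * K.σ k1 * (Y.π p).2) := by
    intro p hp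
    have p1 := H24.conj_mem tN hp
    have p2 := H24.conj_mem xN p1
    have p3 := H24.conj_mem tN p2
    have : x * (t * x * t⁻¹) * p * (x * (t * x * t⁻¹))⁻¹ =
        x * (t * (x * (t * p * t⁻¹) * x⁻¹) * t⁻¹) * x⁻¹ := by
      calc _ = x * (t * (x * (t⁻¹ * p * t⁻¹⁻¹) * x⁻¹) * t⁻¹) * x⁻¹ := by group
        _ = _ := by rw [et, et]
    rw [this, ac _ p3, Y.π_t _ p2, ac _ p1, Y.π_t _ hp]
    simp [K.σσ, mul_assoc]
  have y2 : x * (t * x * t⁻¹) * (x * (t * x * t⁻¹)) ∈ Y.P := by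
    have := h.sp_comm hx hx'
    rwa [ex, show (t * x * t⁻¹)⁻¹ = t * x⁻¹ * t⁻¹ by group, ex, mul_assoc _ x] at this
  have yP : x * (t * x * t⁻¹) ∈ Y.P := by
    obtain ⟨p, hp, e⟩ := Y.π_surj (1, 1)
    have e1 := Y.us2_πc y2 hp
    rw [show ∀ y : G, y * y * p * (y * y)⁻¹ = y * (y * p * y⁻¹) * y⁻¹ from fun y => by group,
      ay _ (H24.conj_mem yN hp), ay _ hp, e, Prod.ext_iff] at e1
    have l1 : k1 * K.σ k2 = 1 := K.two_scal (n := 1) (by simpa [sq] using e1.1)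
    have l2 : k2 * K.σ k1 = 1 := K.two_scal (n := 1) (by simpa [sq] using e1.2)
    exact h.kerB (mul_mem hx.1 hx'.1) fun p hp => by rw [ay p hp, l1, l2, one_mul, one_mul]
  obtain ⟨s, hs, f, hf, e, ff, hχ, -⟩ := h.out (h.mem_CT.2 ⟨hx.1, by
      convert yP using 1
      rw [ex, et]; group⟩)
    (xx ▸ one_mem _) (fun e => by
      obtain ⟨p, hp, e'⟩ := hm.1
      exact e' (Y.us2_πc e (Y.us2_A1 hp))) (fun e => h.us2_tN (by
        simpa using mul_mem (inv_mem (mem_inf.1 hx).2) (Y.us2_PN e)))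
  have ef : x * s⁻¹ = f := by rw [e, mul_inv_cancel_right]
  obtain ⟨p, hp⟩ := Y.us2_cj n1 n2 xN xx ac (inv_mem hs) (by rw [ef, ff])
  rw [ef] at hp
  have ft : f * t = t * f := H24.mem_C1.1 hf.2
  obtain ⟨y, y1, y2⟩ := h.us2_move (A := zpowers t) (R := zpowers f) (g := g * p⁻¹)
    (zpowers_le.2 h.t_mem) (norm_zpowers_of_cent (zpowers_le.2 (H24.mem_C1.2 ft.symm))) (by
      rw [cj_zpowers, zpowers_le, ← hp]
      convert hg using 1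
      group)
  rw [cj_zpowers, zpowers_le] at y1 y2
  have cf : ♯(Y.P ⊓ C{y * t * y⁻¹}) ≤ 8 * 𝐪 := by
    rw [← card_cj y⁻¹]
    refine h.toLc.CF (h.T_S hf) ft ff hχ (cj_le_iff.2 ?_) fun a ha => ?_
    · rw [inv_inv, cj_inf, cj_C1, cj_C1]
      exact le_inf inf_le_right (inf_le_left.trans (mem_C_iff_le_C1.1 (Y.us2_UC y2)))
    · obtain ⟨c, hc, rfl⟩ := mem_cj'.1 ha
      calc _ = y⁻¹ * (c * c * (c * c)) * y := by group
        _ = 1 := by rw [Y.four hc.1]; group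
  have dd : DD t (y * t * y⁻¹) := ⟨y, rfl⟩
  have ss : y * t * y⁻¹ * (y * t * y⁻¹) = 1 := by
    calc _ = y * (t * t) * y⁻¹ := by group
      _ = 1 := by rw [tt]; group
  generalize y * t * y⁻¹ = s at y1 cf dd ss
  by_cases hn : s ∈ N[Y.A1]
  · have sC := (h.sp_two ⟨y1, hn⟩ (ss ▸ one_mem _)).1
    by_cases sU : s ∈ Y.U
    · rw [inf_eq_left.2 (mem_C_iff_le_C1.1 (Y.us2_UC sU)), Y.us2_cardP] at cf
      have : 𝐪 ^ 5 * 𝐪 ≤ 8 * 𝐪 := by rwa [← pow_succ]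
      have h2 := Nat.le_of_mul_le_mul_right this (by omega)
      have h3 : 4 ^ 5 ≤ 𝐪 ^ 5 := Nat.pow_le_pow_left q4 5
      omega
    · have c1 : zpowers s ≤ C[Y.U] := zpowers_le.2 sC
      have h1 := h.toSc.RK X dd (A := Y.U ⊔ zpowers s)
        (sup_le (mem_C_iff_le_C1.1 sC) (zpowers_le_C1 s)) fun a ha => by
          obtain ⟨u, hu, c, ⟨n, rfl⟩, rfl⟩ := (mem_sup_of_norm (norm_of_cent c1)).1 ha
          have cc : Commute u s := mem_C.1 sC u hu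
          simp only
          rw [(cc.zpow_right n).symm.mul_mul_mul_comm, Y.us2_el hu, one_mul, ← zpow_add, ← two_mul,
            zpow_mul, zpow_two, ss, one_zpow]
      have h2 : Y.U < Y.U ⊔ zpowers s := lt_of_le_of_ne le_sup_left fun e =>
        sU (e.ge (mem_sup_right (mem_zpowers s)))
      obtain ⟨c, hc⟩ := card_dvd h2.le
      have h3 := card_lt h2
      rw [hc, Y.us2_cardU] at h1 h3
      have h4 : 2 ≤ c := by
        by_contra t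
        have : c ≤ 1 := by omega
        nlinarith
      nlinarith
  · have h1 := Y.us2_diag (h.P_N y1) hn ss
    have h2 := Y.sw_fix (h.P_N y1) hn
    have h3 : 𝐪 ^ 4 ≤ 𝐪 * (8 * 𝐪) := h1.trans (Nat.mul_le_mul h2 cf)
    have h4 : 𝐪 ^ 2 * 𝐪 ^ 2 ≤ 8 * 𝐪 ^ 2 := by nlinarith
    have h5 := Nat.le_of_mul_le_mul_right h4 (by positivity)
    nlinarith

end H2.U3
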