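import Mathlib
import Cfsg.Agent.H2.UDefs
import Cfsg.Agent.H2.US2

set_option autoImplicit false
set_option linter.unusedVariables false
set_option linter.unusedSectionVars false

namespace H2.U3

open Cfsg H24 Subgroup
open H2.SZ (St DD Goal)
open H2.C2 (Cl2)

universe u v

variable {G : Type u} [Group G] [Finite G] {E F : Type*} [Field E] [Fintype E] [Field F] [Fintype F]
  [Algebra E F] {K : UF E F} {L G0 D P P0 Q R A B C H T M W W1 W2 Z1 Z2 : Subgroup G}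
  {t g s f x y i v p : G} {X : UD K L} {a k : F} {b : E} {ρ : F ≃+* F}

local notation "𝐪" => Fintype.card E

/-! ### US3 -/

theorem us3_two (h : H.relIndex A ≤ 2) : ∀ a ∈ A, ∀ b ∈ A, a ∉ H → b ∉ H → a * b ∈ H := by
  intro a ha c hc h1 h2
  have h0 := relIndex_pos H A
  have h3 : H.relIndex A ≠ 1 := fun e => h1 (relIndex_eq_one.1 e ha)
  have h4 : (H.subgroupOf A).index = 2 := show H.relIndex A = 2 by omega
  exact (mul_mem_iff_of_index_two h4 (a := ⟨a, ha⟩) (b := ⟨c, hc⟩)).2 (iff_of_false h1 h2)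

theorem us3_sq (h : x * x = 1) (y : G) : y * x * y⁻¹ * (y * x * y⁻¹) = 1 := by
  calc _ = y * (x * x) * y⁻¹ := by group
    _ = 1 := by rw [h]; group

section
variable {Y : SP X t}

theorem Env.us3_nm (h : Env X G0 t D Y.P P) (hx : x ∈ P ⊓ N[Y.A1]) (h1 : x ∈ cj g Y.U) : ¬ Y.Mv x := by
  obtain ⟨u, hu, rfl⟩ := mem_cj'.1 h1
  intro hm
  exact h.sp_T hx (us3_sq (Y.us2_el hu) g) hm g⁻¹ (by simpa [mul_assoc] using hu)

theorem SP.us3_dec (Y : SP X t) (hp : p ∈ Y.P) : ∃ r ∈ Y.A1, ∃ s ∈ Y.A2, p = r * s :=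
  (mem_sup_of_norm (norm_of_cent (centsC.1 Y.spc.1))).1 (Y.sup.ge hp)

theorem SP.us3_π (Y : SP X t) (hp : p ∈ Y.P) (hs : s ∈ Y.P) : Y.π p = Y.π s ↔ p * s⁻¹ ∈ Y.U := by
  rw [Y.mem_U, ← Y.π_ker _ (mul_mem hp (inv_mem hs)), Y.π_mul _ hp _ (inv_mem hs), Y.π_inv hs]
  exact ⟨fun e => e ▸ Prod.ext (K.addF _) (K.addF _),
    fun e => Prod.ext (K.us2_eq (congrArg Prod.fst e)) (K.us2_eq (congrArg Prod.snd e))⟩

theorem SP.us3_NU (Y : SP X t) : N[Y.P] ≤ N[Y.U] := Y.cen ▸ norm_Z le_rfl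

theorem Env.us3_le (h : Env X G0 t D Y.P P) (h1 : cj y Y.U ≤ P) : cj y Y.U ≤ N[Y.A1] := by
  intro τ hτ
  by_contra hn
  have q4 := K.four
  have τN := h.P_N (h1 hτ)
  have ab : ∀ w ∈ cj y Y.U, τ * w = w * τ := fun w hw =>
    comm_of_cent (cent_cj (Y.us2_UC.trans (C_anti Y.us2_UP)) y) hτ hw
  have k : N[Y.A1] ⊓ cj y Y.U ≤ Y.U ⊓ C{τ} := by
    rintro w ⟨w1, w2⟩
    have wP := h1 w2
    have wN := h.P_N wP
    have ww : w * w = 1 := by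
      obtain ⟨u, hu, rfl⟩ := mem_cj'.1 w2
      exact us3_sq (Y.us2_el hu) y
    have tr : ∀ {A B : Subgroup G}, A ≤ Y.P → B ≤ Y.P → cj τ A = B →
        (∀ p ∈ A, Y.π (w * p * w⁻¹) = Y.π p) → ∀ p ∈ B, Y.π (w * p * w⁻¹) = Y.π p := by
      intro A B hA hB e hh p hp
      obtain ⟨r, hr, rfl⟩ := mem_cj'.1 (e.ge hp)
      have := H24.conj_mem (Y.us3_NU τN) ((Y.us3_π (H24.conj_mem wN (hA hr)) (hA hr)).1 (hh r hr))
      rw [Y.us3_π (H24.conj_mem wN (hB hp)) (hB hp)]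
      convert this using 1
      calc _ = (w * τ) * r * (w * τ)⁻¹ * (τ * r * τ⁻¹)⁻¹ := by group
        _ = _ := by rw [← ab w w2]; group
    have both : (∀ p ∈ Y.A1, Y.π (w * p * w⁻¹) = Y.π p) ∧ ∀ p ∈ Y.A2, Y.π (w * p * w⁻¹) = Y.π p := by
      by_cases e1 : ∀ p ∈ Y.A1, Y.π (w * p * w⁻¹) = Y.π p
      · exact ⟨e1, tr Y.us2_A1 Y.us2_A2 (Y.us2_sw τN hn).1 e1⟩
      by_cases e2 : ∀ p ∈ Y.A2, Y.π (w * p * w⁻¹) = Y.π p
      · exact ⟨tr Y.us2_A2 Y.us2_A1 (Y.us2_sw τN hn).2 e2, e2⟩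
      push Not at e1 e2
      exact (h.us3_nm ⟨wP, w1⟩ w2 ⟨e1, e2⟩).elim
    have w0 : w ∈ Y.P := h.kerB wP fun p hp => by
      obtain ⟨r, hr, s, hs, rfl⟩ := Y.us3_dec hp
      rw [show w * (r * s) * w⁻¹ = w * r * w⁻¹ * (w * s * w⁻¹) by group,
        Y.π_mul _ (H24.conj_mem wN (Y.us2_A1 hr)) _ (H24.conj_mem wN (Y.us2_A2 hs)), both.1 r hr,
        both.2 s hs, Y.π_mul _ (Y.us2_A1 hr) _ (Y.us2_A2 hs)]
    exact ⟨Y.inv w0 ww, H24.mem_C1.2 (ab w w2).symm⟩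
  have c1 := Y.us2_half (h1.trans h.P_N)
  have c2 := (card_le k).trans (Y.sw_fix τN hn)
  rw [card_cj, Y.us2_cardU] at c1
  nlinarith

theorem Env.us3_A (h : Env X G0 t D Y.P P) (hi : i ∈ P ⊓ N[Y.A1]) (h0 : i ∉ Y.P)
    (hg : i ∈ cj g Y.U) : False := by
  have q4 := K.four
  have ii : i * i = 1 := by
    obtain ⟨u, hu, rfl⟩ := mem_cj'.1 hg
    exact us3_sq (Y.us2_el hu) g
  obtain ⟨iC, α1, α2, ac, a1, a2⟩ := h.sp_two hi (ii ▸ one_mem _)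
  have iN := h.P_N hi.1
  obtain ⟨μ, μa, μi, hμ⟩ : ∃ μ : E → E × E, (∀ c d, μ (c + d) = μ c + μ d) ∧ (∀ c, μ c = 0 → c = 0) ∧
      ∀ e, ∃ p ∈ Y.P, p * i * p⁻¹ = i * Y.m (μ e) ∧ p * p = Y.m (μ e) := by
    have z1 : α1 0 = 0 := by rcases a1 with h1 | ⟨k, -, h1⟩ <;> simp [h1]
    have z2 : α2 0 = 0 := by rcases a2 with h2 | ⟨k, -, h2⟩ <;> simp [h2]
    rcases a1 with a1 | ⟨k, nk, a1⟩
    · rcases a2 with a2 | ⟨k, nk, a2⟩
      · exact (h0 (h.kerB hi.1 fun p hp => by rw [ac p hp, a1, a2])).elim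
      · refine ⟨fun e => (0, e), by simp, by simp, fun e => ?_⟩
        obtain ⟨c, hc⟩ := K.us2_onto nk e
        obtain ⟨r, hr, er⟩ := Y.π_surj (0, c)
        obtain ⟨p, -, hp, e1, -, e2, e3⟩ := Y.us2_inv iN ii hr
        rw [e1, ac r hr, er] at e2 e3
        simp only [Prod.mk_add_mk, z1, a2, hc, add_zero, K.nm_zero] at e2 e3
        exact ⟨p, hp, e2, e3⟩
    · refine ⟨fun e => (e, 0), by simp, by simp, fun e => ?_⟩
      obtain ⟨c, hc⟩ := K.us2_onto nk e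
      obtain ⟨r, hr, er⟩ := Y.π_surj (c, 0)
      obtain ⟨p, -, hp, e1, -, e2, e3⟩ := Y.us2_inv iN ii hr
      rw [e1, ac r hr, er] at e2 e3
      simp only [Prod.mk_add_mk, z2, a1, hc, add_zero, K.nm_zero] at e2 e3
      exact ⟨p, hp, e2, e3⟩
  obtain ⟨y, y1, y2⟩ := h.us2_move (A := Y.U) (R := zpowers i) (g := g⁻¹) (Y.us2_UP.trans h.B_le)
    (norm_zpowers_of_cent (mem_C_iff_le_C1.1 iC)) (le_cj_iff.1 (zpowers_le.2 hg))
  have y3 := h.us3_le y1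
  have el : ∀ w ∈ cj y Y.U, w * w = 1 := fun w hw => by
    obtain ⟨u, hu, rfl⟩ := mem_cj'.1 hw
    exact us3_sq (Y.us2_el hu) y
  have ix := us3_two ((h.sp_Q4 (le_inf y1 y3) fun w hw => el w hw ▸ one_mem _).resolve_right
    fun ⟨_, w, hw, hm⟩ => h.us3_nm ⟨y1 hw, y3 hw⟩ hw hm)
  have c1 := us2_idx2 ix
  rw [card_cj, Y.us2_cardU, ← card_cj y⁻¹, cj_inf, cj_inv_cj] at c1
  set N0 := cj y⁻¹ Y.P ⊓ Y.U with hN0
  have mN : ∀ u, y * Y.m u * y⁻¹ ∈ Y.P → Y.m u ∈ N0 := fun u hu =>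
    ⟨mem_cj.2 (by simpa using hu), Y.mem_U.2 ⟨u, rfl⟩⟩
  obtain ⟨e, e0, he⟩ : ∃ e, e ≠ 0 ∧ Y.m (μ e) ∈ N0 := by
    obtain ⟨c, c0, c1, -⟩ := K.exists_ne 0 1 1
    by_cases f1 : y * Y.m (μ 1) * y⁻¹ ∈ Y.P
    · exact ⟨1, one_ne_zero, mN _ f1⟩
    by_cases f2 : y * Y.m (μ c) * y⁻¹ ∈ Y.P
    · exact ⟨c, c0, mN _ f2⟩
    refine ⟨1 + c, fun e => c1 ?_, mN _ ?_⟩
    · rw [← zero_add c, ← K.addE 1, add_assoc, e, add_zero]
    · have := ix _ (conj_mem_cj y (Y.mem_U.2 ⟨_, rfl⟩)) _ (conj_mem_cj y (Y.mem_U.2 ⟨_, rfl⟩)) f1 f2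
      rw [μa, Y.m_add]
      convert this using 1
      group
  obtain ⟨p, hp, e1, e2⟩ := hμ e
  have pC : p ∈ C[N0] := C_anti inf_le_right (centsC.1 Y.us2_UC hp)
  obtain ⟨w, w1, w2⟩ := h.us2_move (A := zpowers p) (R := N0 ⊔ zpowers i) (g := y)
    (zpowers_le.2 (h.B_le hp)) (zpowers_le.2 (mem_N_of_cj_le (by
      rw [cj_sup, cj_of_mem_C pC, cj_zpowers, e1]
      exact sup_le le_sup_left (zpowers_le.2 (mul_mem (mem_sup_right (mem_zpowers i)) (mem_sup_left he))))))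
    (by
      rw [cj_sup, hN0, cj_inf, cj_cj_inv]
      exact sup_le (fun a ha => Y.inv ha.1 (el a ha.2)) y2)
  rw [cj_zpowers, zpowers_le] at w1
  have m1 : Y.m (μ e) ≠ 1 := fun t => e0 (μi e (Y.m_inj (t.trans Y.m_zero.symm)))
  by_cases hn : w * p * w⁻¹ ∈ N[Y.A1]
  · have s1 : w * p * w⁻¹ * (w * p * w⁻¹) ∈ Y.P := by
      have := Y.us2_UP (w2 (conj_mem_cj w (mem_sup_left he)))
      rw [← e2] at this
      convert this using 1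
      group
    have s2 := mem_C.1 (h.sp_two ⟨w1, hn⟩ s1).1 _ (w2 (conj_mem_cj w (mem_sup_right (mem_zpowers i))))
    apply m1
    calc Y.m (μ e) = i⁻¹ * (p * i * p⁻¹) := by rw [e1]; group
      _ = i⁻¹ * w⁻¹ * (w * p * w⁻¹ * (w * i * w⁻¹)) * w * p⁻¹ := by group
      _ = 1 := by rw [← s2]; group
  · have s1 := Y.sw_fix (h.P_N w1) hn
    have s2 : cj w N0 ≤ Y.U ⊓ C{w * p * w⁻¹} :=
      le_inf ((cj_mono w le_sup_left).trans w2) (cj_C1 w p ▸ cj_mono w (mem_C_iff_le_C1.1 pC))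
    have s3 := card_le s2
    rw [card_cj] at s3
    nlinarith

theorem SP.us3_spc (Y : SP X t) (hi : i ∈ N[Y.P]) (hn : i ∉ N[Y.A1]) (ii : i * i = 1) :
    Spc (Y.P ⊓ C{i}) (Y.U ⊓ C{i}) (Y.U ⊓ C{i}) := by
  have ei : i⁻¹ = i := inv_eq_of_mul_eq_one_right ii
  have h1 : ∀ p ∈ Y.A1, i * p * i⁻¹ ∈ Y.A2 := fun p hp => (Y.us2_sw hi hn).1 ▸ conj_mem_cj i hp
  have h2 : ∀ p ∈ Y.A2, i * p * i⁻¹ ∈ Y.A1 := fun p hp => (Y.us2_sw hi hn).2 ▸ conj_mem_cj i hp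
  refine ⟨le_rfl, inf_le_inf_right _ Y.us2_UP, inf_le_left.trans (Y.us2_UC.trans (C_anti inf_le_left)),
    fun a ha => Y.us2_el ha.1, fun x hx => ⟨Y.mem_U.2 ⟨_, Y.sq x hx.1⟩, mul_mem (mem_inf.1 hx).2 (mem_inf.1 hx).2⟩,
    fun x hx hx' c hc => ?_⟩
  have xi : i * x * i⁻¹ = x := H24.mem_C1_iff_conj.1 (H24.mem_C1_comm.1 hx.2)
  have x1 : (Y.π x).1 ≠ 0 := fun e => by
    have a2 : x ∈ Y.A2 := Y.mem_A2.2 ⟨hx.1, e⟩
    exact hx' ⟨Y.inf.le ⟨xi ▸ h2 x a2, a2⟩, hx.2⟩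
  obtain ⟨⟨c1, c2⟩, rfl⟩ := Y.mem_U.1 hc.1
  have s1 : ∃ d, i * Y.m (c1, 0) * i⁻¹ = Y.m (0, d) := by
    obtain ⟨a, ha⟩ := K.nm_surj c1
    obtain ⟨r, hr, er⟩ := Y.π_surj (a, 0)
    have e1 := Y.sq r hr
    have m2 := Y.mem_A2.1 (h1 r (Y.mem_A1.2 ⟨hr, by rw [er]⟩))
    have e2 := Y.sq _ m2.1
    simp only [er, ha, K.nm_zero] at e1
    simp only [m2.2, K.nm_zero] at e2
    exact ⟨_, by rw [← e1, ← e2]; group⟩
  have s2 : ∃ d, i * Y.m (0, c2) * i⁻¹ = Y.m (d, 0) := by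
    obtain ⟨a, ha⟩ := K.nm_surj c2
    obtain ⟨r, hr, er⟩ := Y.π_surj (0, a)
    have e1 := Y.sq r hr
    have m2 := Y.mem_A1.1 (h2 r (Y.mem_A2.2 ⟨hr, by rw [er]⟩))
    have e2 := Y.sq _ m2.1
    simp only [er, ha, K.nm_zero] at e1
    simp only [m2.2, K.nm_zero] at e2
    exact ⟨_, by rw [← e1, ← e2]; group⟩
  obtain ⟨d1, s1⟩ := s1
  obtain ⟨d2, s2⟩ := s2
  have em : Y.m (c1, c2) = Y.m (c1, 0) * Y.m (0, c2) := by rw [← Y.m_add]; simp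
  have s3 : d1 = c2 := by
    have : i * Y.m (c1, c2) * i⁻¹ = Y.m (c1, c2) := H24.mem_C1_iff_conj.1 (H24.mem_C1_comm.1 hc.2)
    rw [show i * Y.m (c1, c2) * i⁻¹ = i * Y.m (c1, 0) * i⁻¹ * (i * Y.m (0, c2) * i⁻¹) by rw [em]; group,
      s1, s2, ← Y.m_add] at this
    simpa using congrArg Prod.snd (Y.m_inj this)
  obtain ⟨a, ha⟩ := K.B_surj x1 c1
  obtain ⟨r, hr, er⟩ := Y.π_surj (a, 0)
  have r1 : r ∈ Y.A1 := Y.mem_A1.2 ⟨hr, by rw [er]⟩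
  have e1 : x * r * x⁻¹ = r * Y.m (c1, 0) := by
    rw [Y.cm hx.1 hr, er]
    congr 2
    refine Prod.ext ?_ ?_
    · simp only [Prod.fst_add, K.nm_add, ha]
      linear_combination K.addE (K.nm (Y.π x).1) + K.addE (K.nm a)
    · simp only [Prod.snd_add, add_zero, K.nm_zero, K.addE]
  have cc : r * (i * r * i⁻¹) = i * r * i⁻¹ * r := comm_of_cent Y.spc.1 r1 (h1 r r1)
  have r2 := Y.us2_A2 (h1 r r1)
  refine ⟨r * (i * r * i⁻¹), ⟨mul_mem hr r2, H24.mem_C1_comm.2 (H24.mem_C1_iff_conj.2 ?_)⟩, ?_⟩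
  · calc i * (r * (i * r * i⁻¹)) * i⁻¹ = i * r * i * r * (i * i)⁻¹ := by
          simp only [mul_inv_rev, mul_assoc]
      _ = i * r * i⁻¹ * r := by rw [ii, ei]; group
      _ = _ := cc.symm
  · have e2 : x * (i * r * i⁻¹) * x⁻¹ = i * r * i⁻¹ * Y.m (0, c2) := by
      calc _ = (i * x * i⁻¹) * (i * r * i⁻¹) * (i * x * i⁻¹)⁻¹ := by rw [xi]
        _ = i * (x * r * x⁻¹) * i⁻¹ := by group
        _ = _ := by rw [e1, ← s3, ← s1]; group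
    have e3 := mem_C.1 (Y.m_cen (c1, 0)) _ r2
    have e4 := mem_C.1 (Y.m_cen (c1, c2)) _ (mul_mem hr r2)
    calc _ = x * r * x⁻¹ * (x * (i * r * i⁻¹) * x⁻¹) * (r * (i * r * i⁻¹))⁻¹ := by group
      _ = r * (Y.m (c1, 0) * (i * r * i⁻¹)) * Y.m (0, c2) * (r * (i * r * i⁻¹))⁻¹ := by
        rw [e1, e2]; group
      _ = r * (i * r * i⁻¹) * Y.m (c1, c2) * (r * (i * r * i⁻¹))⁻¹ := by rw [← e3, em]; group
      _ = _ := by rw [e4]; group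

theorem Env.us3_B (h : Env X G0 t D Y.P P) (hi : i ∈ P) (hn : i ∉ N[Y.A1])
    (hg : i ∈ cj g Y.U) : False := by
  have q4 := K.four
  have ii : i * i = 1 := by
    obtain ⟨u, hu, rfl⟩ := mem_cj'.1 hg
    exact us3_sq (Y.us2_el hu) g
  have ei : i⁻¹ = i := inv_eq_of_mul_eq_one_right ii
  have iN := h.P_N hi
  obtain ⟨y, y1, y2⟩ := h.us2_move (A := Y.P ⊓ C{i}) (R := zpowers i) (g := g⁻¹)
    (inf_le_left.trans h.B_le) (norm_zpowers_of_cent inf_le_right) (le_cj_iff.1 (zpowers_le.2 hg))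
  have sp := (Y.us3_spc iN hn ii).cj y
  have c1 := Y.us2_diag iN hn ii
  have c2 := Y.sw_fix iN hn
  have y3 : cj y (Y.U ⊓ C{i}) ≤ Y.U := by
    by_contra hh
    rw [← card_cj y (Y.U ⊓ C{i})] at c1 c2
    rw [← card_cj y (Y.P ⊓ C{i})] at c1
    generalize cj y (Y.U ⊓ C{i}) = Z at sp c1 c2 hh
    generalize cj y (Y.P ⊓ C{i}) = H at sp c1 y1
    have d1 := card_mul_relIndex sp.A_le
    have d0 := card_pos Z
    have d2 : 16 ≤ Z.relIndex H := by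
      by_contra t
      have t1 : ♯H ≤ 𝐪 * 15 := by rw [← d1]; exact Nat.mul_le_mul c2 (by omega)
      have t2 : 𝐪 ^ 4 ≤ 𝐪 * (𝐪 * 15) := c1.trans (Nat.mul_le_mul c2 t1)
      have t3 : 𝐪 ^ 2 * 𝐪 ^ 2 ≤ 15 * 𝐪 ^ 2 := by nlinarith
      have t4 := Nat.le_of_mul_le_mul_right t3 (by positivity)
      nlinarith
    have HN := y1.trans h.P_N
    have ZN : Z ≤ N[Y.A1] ⊓ H := by
      refine le_inf (fun c hc => ?_) sp.A_le
      obtain ⟨x, hx, hx'⟩ : ∃ x ∈ H, x ∉ Z := by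
        by_contra t
        push Not at t
        have := relIndex_eq_one.2 (show H ≤ Z from t)
        omega
      obtain ⟨w, hw, rfl⟩ := sp.onto x hx hx' c hc
      by_cases e : w ∈ N[Y.A1]
      · exact mul_mem ((Y.us2_conj (HN hx) (HN hw)).2 e) (inv_mem e)
      · exact Y.us2_mul (mul_mem (mul_mem (HN hx) (HN hw)) (inv_mem (HN hx))) (inv_mem (HN hw))
          (by rwa [Y.us2_conj (HN hx) (HN hw)]) (by rwa [inv_mem_iff])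
    have d3 := sp.iso ZN inf_le_right (Z2 := Y.U) (fun a ha c hc =>
      Y.inv (h.sp_comm ⟨y1 ha.2, ha.1⟩ ⟨y1 hc.2, hc.1⟩) (sp.el _ (sp.comm ha.2 hc.2))) hh
    have d4 := Y.us2_half HN
    rw [← d1, ← card_mul_relIndex ZN, mul_left_comm] at d4
    have d5 := Nat.le_of_mul_le_mul_left d4 d0
    nlinarith
  obtain ⟨w, w1, w2⟩ := h.us2_move (A := Y.U) (R := (Y.U ⊓ C{i}) ⊔ zpowers i) (g := y)
    (Y.us2_UP.trans h.B_le) (fun u hu => mem_N_of_cj_le (by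
      have uU : ∀ v ∈ Y.U, v * u = u * v := fun v hv => mem_C.1 (Y.us2_UC hu) v (Y.us2_UP hv)
      have u1 := H24.conj_mem (Y.us3_NU iN) hu
      rw [cj_sup, cj_of_mem_C (H := Y.U ⊓ C{i}) (mem_C.2 fun v hv => uU v hv.1), cj_zpowers]
      refine sup_le le_sup_left (zpowers_le.2 ?_)
      have : u * i * u⁻¹ = u * (i * u * i⁻¹) * i := by
        rw [inv_eq_of_mul_eq_one_right (Y.us2_el hu)]; group
      rw [this]
      refine mul_mem (mem_sup_left (mem_inf.2 ⟨mul_mem hu u1,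
        H24.mem_C1_comm.2 (H24.mem_C1_iff_conj.2 ?_)⟩)) (mem_sup_right (mem_zpowers i))
      calc i * (u * (i * u * i⁻¹)) * i⁻¹ = i * u * i * u * (i * i)⁻¹ := by
            simp only [mul_inv_rev, mul_assoc]
        _ = i * u * i⁻¹ * u := by rw [ii, ei]; group
        _ = _ := uU _ u1)) (by rw [cj_sup]; exact sup_le y3 y2)
  have k : N[Y.A1] ⊓ cj w Y.U ≤ cj w (Y.U ⊓ C{i}) := by
    rintro v ⟨v1, v2⟩
    rw [cj_inf, cj_C1]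
    have vv : v * v = 1 := by
      obtain ⟨u, hu, rfl⟩ := mem_cj'.1 v2
      exact us3_sq (Y.us2_el hu) w
    exact ⟨v2, H24.mem_C1.2 (mem_C.1 (h.sp_two ⟨w1 v2, v1⟩ (vv ▸ one_mem _)).1 _
      (w2 (conj_mem_cj w (mem_sup_right (mem_zpowers i))))).symm⟩
  have d1 := Y.us2_half (w1.trans h.P_N)
  have d2 := card_le k
  rw [card_cj] at d1 d2
  rw [Y.us2_cardU] at d1
  nlinarith
end

theorem Env.sp_goal {Y : SP X t} (h : Env X G0 t D Y.P P) : Goal G0 t := by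
  refine h.toLc.E3 h.sp_syl (A := Y.U) (abl_iff.2 (Y.us2_UC.trans (C_anti Y.us2_UP))) (fun z hz => ?_)
    ⟨Y.us2_UP.trans h.B_le, fun u hu g hg => ?_⟩
  · obtain ⟨b, rfl⟩ := X.mem_Z.1 hz
    exact Y.mem_U.2 ⟨_, Y.z_eq b⟩
  · by_cases h0 : g * u * g⁻¹ ∈ Y.P
    · exact Y.inv h0 (us3_sq (Y.us2_el hu) g)
    by_cases hn : g * u * g⁻¹ ∈ N[Y.A1]
    · exact (h.us3_A ⟨hg, hn⟩ h0 (conj_mem_cj g hu)).elim
    · exact (h.us3_B hg hn (conj_mem_cj g hu)).elim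

end H2.U3
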