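import Mathlib
import Cfsg.Agent.H2.UDefs
import Cfsg.Agent.H2.UL2

set_option autoImplicit false
set_option linter.unusedVariables false
set_option linter.unusedSectionVars false

namespace H2.U3

open Cfsg H24 Subgroup
open H2.SZ (St DD Goal)
open H2.C2 (Cl2)

universe u v

variable {G : Type u} [Group G] [Finite G] {E F : Type*} [Field E] [Fintype E] [Field F] [Fintype F]
  [Algebra E F] {K : UF E F} {L G0 D P P0 Q R A B C H T M W W1 W2 Z1 Z2 : Subgroup G}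
  {t g s f x y i v p : G} {X : UD K L} {a k : F} {b : E} {ρ : F ≃+* F}

local notation "𝐪" => Fintype.card E

/-! ### UV0 -/

theorem uv0_B (K : UF E F) (n : E) (v v' : F × E × E) :
    K.Bv v v' = K.Qv n (v + v') - K.Qv n v - K.Qv n v' := by
  rw [K.Qv_add]; ring

theorem uv0_B0 (K : UF E F) (v : F × E × E) : K.Bv 0 v = 0 := by
  have := K.Bv_smul_left 0 v v
  rwa [zero_smul, zero_mul] at this

theorem uv0_line {v : F × E × E} (hv : v ≠ 0) : ∃ I : AddSubgroup (F × E × E),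
    (∀ w, w ∈ I ↔ ∃ e : E, w = e • v) ∧ Nat.card I = 𝐪 := by
  refine ⟨(LinearMap.toSpanSingleton E _ v).toAddMonoidHom.range, fun w => ?_, ?_⟩
  · exact ⟨fun ⟨e, h⟩ => ⟨e, h.symm⟩, fun ⟨e, h⟩ => ⟨e, h.symm⟩⟩
  · rw [← Nat.card_eq_fintype_card]
    exact (Nat.card_congr (AddMonoidHom.ofInjective
      (f := (LinearMap.toSpanSingleton E _ v).toAddMonoidHom) (smul_left_injective E hv)).toEquiv).symm

section
variable (Y : C3D X t) {φ ψ : F × E × E → F × E × E} {r : F × E × E}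
theorem C3D.Z_le : X.Z ≤ Y.P := X.Z_le_S.trans Y.S_le

theorem C3D.uv0_zc (hg : g ∈ Y.P) (b : E) : X.z b * g = g * X.z b :=
  (comm_of_cent Y.zc hg (X.z_mem_Z b)).symm

theorem C3D.cm (hg : g ∈ Y.P) (hp : p ∈ Y.P) : g * p * g⁻¹ = p * X.z (K.Bv (Y.π g) (Y.π p)) := by
  have e := Y.sq _ (mul_mem hg hp)
  rw [Y.π_mul _ hg _ hp, K.Qv_add, ← X.z_mul, ← X.z_mul, ← Y.sq _ hg, ← Y.sq _ hp] at e
  generalize K.Bv (Y.π g) (Y.π p) = c at e ⊢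
  have e1 : p * g = g * p * X.z c :=
    calc p * g = g⁻¹ * (g * p * (g * p)) * p⁻¹ := by group
      _ = g * p * (p * X.z c) * p⁻¹ := by rw [e]; group
      _ = _ := by rw [← Y.uv0_zc hp]; group
  calc g * p * g⁻¹ = g * p * (X.z c * X.z c) * g⁻¹ := by rw [X.z_sq, mul_one]
    _ = g * p * X.z c * (X.z c * g⁻¹) := by group
    _ = _ := by rw [← e1, Y.uv0_zc (inv_mem hg)]; group

theorem C3D.eqz (hg : g ∈ Y.P) (hp : p ∈ Y.P) (e : Y.π g = Y.π p) : ∃ b, g = p * X.z b := by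
  obtain ⟨b, hb⟩ := X.mem_Z.1 (Y.π_ker _ (mul_mem (inv_mem hp) hg) (by
    rw [Y.π_mul _ (inv_mem hp) _ hg, Y.π_inv hp, e, K.addV]))
  exact ⟨b, by rw [← hb, mul_inv_cancel_left]⟩

theorem C3D.π_mz (hg : g ∈ Y.P) (b : E) : Y.π (g * X.z b) = Y.π g := by
  rw [Y.π_mul _ hg _ (Y.Z_le (X.z_mem_Z b)), Y.π_z, add_zero]

theorem C3D.uv0_πZ (hg : g ∈ X.Z) : Y.π g = 0 := by
  obtain ⟨b, rfl⟩ := X.mem_Z.1 hg
  exact Y.π_z b

theorem C3D.pi : IsPi {2} Y.P :=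
  isPi_iff_piElt.2 fun g hg => piElt_of_pow_eq_one (piNat_self_pow Nat.prime_two 2) (by
    rw [show g ^ 2 ^ 2 = g * g * (g * g) by norm_num [pow_succ, mul_assoc], Y.sq g hg, X.z_sq])

theorem C3D.uv0_cm (hg : g ∈ Y.P) (hp : p ∈ Y.P) :
    g * p * g⁻¹ * p⁻¹ = X.z (K.Bv (Y.π g) (Y.π p)) := by
  rw [Y.cm hg hp, ← Y.uv0_zc hp, mul_inv_cancel_right]

theorem C3D.spc : Spc Y.P X.Z X.Z where
  Z_le := le_rfl
  A_le := Y.Z_le
  cen := cents_symm Y.zc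
  el a ha := by
    obtain ⟨b, rfl⟩ := X.mem_Z.1 ha
    exact X.z_sq b
  sq x hx := Y.sq x hx ▸ X.z_mem_Z _
  onto x hx hn c hc := by
    obtain ⟨b, rfl⟩ := X.mem_Z.1 hc
    obtain ⟨w, hw⟩ := K.Bv_surj (fun e => hn (Y.π_ker x hx e)) b
    obtain ⟨y, hy, rfl⟩ := Y.π_surj w
    exact ⟨y, hy, by rw [Y.uv0_cm hx hy, hw]⟩

/-- the order of the preimage of a subgroup of `V` -/
theorem C3D.card_pre (I : AddSubgroup (F × E × E)) (h : ∀ g, g ∈ A ↔ g ∈ Y.P ∧ Y.π g ∈ I) :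
    ♯A = 𝐪 * Nat.card I := by
  choose s hs e using Y.π_surj
  have : Function.Bijective fun x : E × I => (⟨s x.2 * X.z x.1, (h _).2
      ⟨mul_mem (hs _) (Y.Z_le (X.z_mem_Z _)), by rw [Y.π_mz (hs _), e]; exact x.2.2⟩⟩ : A) := by
    constructor
    · rintro ⟨b, v⟩ ⟨b', v'⟩ e'
      have e1 : s v * X.z b = s v' * X.z b' := congrArg Subtype.val e'
      have e2 : v = v' := Subtype.ext (by
        rw [← e v, ← e v', ← Y.π_mz (hs v) b, e1, Y.π_mz (hs _)])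
      subst e2
      exact Prod.ext (X.z_inj (mul_left_cancel e1)) rfl
    · rintro ⟨g, hg⟩
      obtain ⟨h1, h2⟩ := (h g).1 hg
      obtain ⟨b, hb⟩ := Y.eqz h1 (hs (Y.π g)) (e _).symm
      exact ⟨(b, ⟨_, h2⟩), Subtype.ext hb.symm⟩
  rw [← Nat.card_eq_of_bijective _ this, Nat.card_prod, Nat.card_eq_fintype_card]

theorem C3D.uv0_card : ♯Y.P = 𝐪 ^ 5 := by
  rw [Y.card_pre ⊤ fun g => by simp, AddSubgroup.card_top, Nat.card_prod, Nat.card_prod,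
    Nat.card_eq_fintype_card, Nat.card_eq_fintype_card, K.card]
  ring

theorem C3D.idx_Z : X.Z.relIndex Y.P = 𝐪 ^ 4 := by
  have := card_mul_relIndex Y.Z_le
  rw [X.card_Z, Y.uv0_card, pow_succ' _ 4] at this
  exact Nat.eq_of_mul_eq_mul_left Fintype.card_pos this

theorem C3D.cenP : Y.P ⊓ C[Y.P] = X.Z := by
  refine le_antisymm (fun g hg => by_contra fun hn => ?_) (le_inf Y.Z_le (cents_symm Y.zc))
  obtain ⟨y, hy, e⟩ := Y.spc.onto g hg.1 hn _ (X.z_mem_Z 1)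
  rw [conj_eq_of_mem_C hg.2 hy, mul_inv_cancel] at e
  exact X.z1 e.symm

theorem C3D.NP_NZ : N[Y.P] ≤ N[X.Z] := by
  rw [← Y.cenP]
  exact norm_inf le_rfl (N_le_NC _)

theorem C3D.S1_eq : Y.S1 = Y.P ⊓ C[X.S] := by
  ext g
  rw [Y.mem_S1]
  refine and_congr_right fun hg => ⟨fun e => mem_C'.2 fun s hs => ?_, fun e => by_contra fun hn => ?_⟩
  · obtain ⟨a, b, rfl⟩ := X.mem_S.1 hs
    have := Y.cm hg (Y.S_le hs)
    rw [Y.π_u] at this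
    simp only [UF.Bv, e, K.B_zero_left, mul_zero, add_zero, X.z_zero, mul_one] at this
    exact mul_inv_eq_iff_eq_mul.1 this
  · obtain ⟨a, ha⟩ := K.B_surj hn 1
    have := Y.uv0_cm hg (Y.S_le (X.u_mem_S a 0))
    rw [conj_eq_of_mem_C e (X.u_mem_S a 0), mul_inv_cancel, Y.π_u] at this
    simp only [UF.Bv, ha, mul_zero, add_zero] at this
    exact X.z1 this.symm

theorem C3D.dec (hp : p ∈ Y.P) : ∃ s ∈ Y.S1, p = X.u (Y.π p).1 0 * s := by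
  have m := inv_mem (Y.S_le (X.u_mem_S (Y.π p).1 0))
  refine ⟨_, Y.mem_S1.2 ⟨mul_mem m hp, ?_⟩, (mul_inv_cancel_left _ _).symm⟩
  rw [Y.π_mul _ m _ hp, Y.π_inv (Y.S_le (X.u_mem_S _ _)), Y.π_u]
  exact K.addF _

theorem C3D.card_J (ha : K.nm a = 1) : ♯(Y.J a) = 𝐪 ^ 2 ∧ X.Z ≤ Y.J a ∧ ∀ j ∈ Y.J a, j * j = 1 := by
  obtain ⟨I, hI, e⟩ := uv0_line (E := E) (v := (a, 1, 0)) (by simp)
  refine ⟨?_, fun g hg => Y.mem_J.2 ⟨Y.Z_le hg, 0, by rw [Y.uv0_πZ hg, zero_smul]⟩, fun j hj => ?_⟩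
  · rw [Y.card_pre I fun g => by rw [Y.mem_J, hI], e, pow_two]
  · obtain ⟨h1, e, h2⟩ := Y.mem_J.1 hj
    rw [Y.sq j h1, h2, K.Qv_smul, X.z_eq_one]
    simp only [UF.Qv, ha]
    linear_combination e ^ 2 * K.two

theorem C3D.exists_ac (hg : g ∈ N[Y.P]) : ∃ (φ : F × E × E →+ F × E × E) (μ : E ≃+* E) (m : E),
    m ≠ 0 ∧ Function.Bijective φ ∧ Y.Ac g φ ∧ (∀ b, g * X.z b * g⁻¹ = X.z (m * μ b)) ∧
    (∀ (e : E) v, φ (e • v) = μ e • φ v) ∧ (∀ v, K.Qv Y.n (φ v) = m * μ (K.Qv Y.n v)) ∧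
    ∀ v v', K.Bv (φ v) (φ v') = m * μ (K.Bv v v') := by
  choose s hs e using Y.π_surj
  obtain ⟨γ, hγ, eγ⟩ := X.exists_γ (Y.NP_NZ hg)
  have ac : Y.Ac g fun v => Y.π (g * s v * g⁻¹) := fun p hp => by
    obtain ⟨b, hb⟩ := Y.eqz hp (hs (Y.π p)) (e _).symm
    conv_lhs => rw [hb, show g * (s (Y.π p) * X.z b) * g⁻¹ =
      g * s (Y.π p) * g⁻¹ * (g * X.z b * g⁻¹) by group, eγ, Y.π_mz (conj_mem hg (hs _))]
  let φ : F × E × E →+ F × E × E := AddMonoidHom.mk' (fun v => Y.π (g * s v * g⁻¹)) fun v w => by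
    have := ac _ (mul_mem (hs v) (hs w))
    rw [Y.π_mul _ (hs v) _ (hs w), e, e] at this
    refine this.symm.trans ?_
    rw [← Y.π_mul _ (conj_mem hg (hs v)) _ (conj_mem hg (hs w))]
    congr 1
    group
  have inj : Function.Injective φ := (injective_iff_map_eq_zero φ).2 fun v hv => by
    rw [← e v]
    exact Y.uv0_πZ ((conj_mem_iff (Y.NP_NZ hg)).1 (Y.π_ker _ (conj_mem hg (hs v)) hv))
  have hQ : ∀ v, K.Qv Y.n (φ v) = γ (K.Qv Y.n v) := fun v => X.z_inj (by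
    rw [← eγ, ← e v, ← Y.sq _ (hs v), e v]
    exact (Y.sq _ (conj_mem hg (hs v))).symm.trans (by group))
  obtain ⟨μ, h1, h2⟩ := K.semi Y.n φ γ inj hQ
  refine ⟨φ, μ, γ 1, fun e0 => one_ne_zero (hγ (e0.trans γ.map_zero.symm)),
    Finite.injective_iff_bijective.1 inj, ac, fun b => by rw [eγ, ← h2], h1,
    fun v => by rw [hQ, ← h2], fun v v' => ?_⟩
  rw [← h2, uv0_B K Y.n, uv0_B K Y.n, ← map_add, hQ, hQ, hQ, map_sub, map_sub]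

theorem C3D.exists_lin (hg : g ∈ N[Y.P]) (hz : g ∈ C[X.Z]) : ∃ φ : (F × E × E) ≃ₗ[E] F × E × E,
    Y.Ac g φ ∧ (∀ v, K.Qv Y.n (φ v) = K.Qv Y.n v) ∧ ∀ v v', K.Bv (φ v) (φ v') = K.Bv v v' := by
  obtain ⟨φ, μ, m, -, h1, h2, h3, h4, h5, h6⟩ := Y.exists_ac hg
  have e : ∀ b, m * μ b = b := fun b =>
    X.z_inj ((h3 b).symm.trans (conj_eq_of_mem_C hz (X.z_mem_Z b)))
  have m1 : m = 1 := by simpa using e 1
  have e' : ∀ b, μ b = b := fun b => by simpa [m1] using e b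
  exact ⟨LinearEquiv.ofBijective ⟨⟨φ, φ.map_add⟩, fun c v => (h4 c v).trans (by rw [e']; rfl)⟩ h1, h2,
    fun v => (h5 v).trans (e _), fun v v' => (h6 v v').trans (e _)⟩

variable {Y}
theorem C3D.Ac.mul (h1 : Y.Ac x φ) (h2 : Y.Ac y ψ) (hy : y ∈ N[Y.P]) :
    Y.Ac (x * y) (fun v => φ (ψ v)) := fun p hp => by
  rw [show x * y * p * (x * y)⁻¹ = x * (y * p * y⁻¹) * x⁻¹ by group, h1 _ (conj_mem hy hp), h2 p hp]

theorem C3D.Ac.uniq (h1 : Y.Ac x φ) (h2 : Y.Ac x ψ) (v : F × E × E) : φ v = ψ v := by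
  obtain ⟨g, hg, rfl⟩ := Y.π_surj v
  rw [← h1 g hg, h2 g hg]

theorem C3D.ac_P (hp : p ∈ Y.P) : Y.Ac p id := fun g hg => by
  rw [Y.cm hp hg, Y.π_mz hg, id]

theorem C3D.ac_t : Y.Ac t (K.rf Y.n (0, 1, 0)) := Y.π_t

theorem C3D.Ac.zc (h1 : Y.Ac x φ) (hx : x ∈ N[Y.P]) (h2 : ∀ v, K.Qv Y.n (φ v) = K.Qv Y.n v) :
    x ∈ C[X.Z] := mem_C'.2 fun z hz => by
  obtain ⟨b, rfl⟩ := X.mem_Z.1 hz
  obtain ⟨a, rfl⟩ := K.nm_surj b
  have m := Y.S_le (X.u_mem_S a 0)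
  have e := Y.sq _ (conj_mem hx m)
  rw [h1 _ m, h2, ← Y.sq _ m, X.u_sq] at e
  refine mul_inv_eq_iff_eq_mul.1 (Eq.trans ?_ e)
  rw [← X.u_sq a 0]
  group

theorem C3D.Ac.rf_conj (h1 : Y.Ac x (K.rf Y.n r)) (hr : K.Qv Y.n r ≠ 0) (hx : x ∈ N[Y.P])
    (hg : g ∈ N[Y.P]) (h2 : Y.Ac g φ) : Y.Ac (g * x * g⁻¹) (K.rf Y.n (φ r)) := fun p hp => by
  obtain ⟨φ', μ, m, m0, -, a1, -, a2, a3, a4⟩ := Y.exists_ac hg
  have m1 := conj_mem' hg hp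
  have e := a1 _ m1
  rw [show g * (g⁻¹ * p * g) * g⁻¹ = p by group] at e
  rw [show g * x * g⁻¹ * p * (g * x * g⁻¹)⁻¹ = g * (x * (g⁻¹ * p * g) * x⁻¹) * g⁻¹ by group,
    a1 _ (conj_mem hx m1), h1 _ m1, e, h2.uniq a1, UF.rf, UF.rf, map_add, a2, a3, a4, map_div₀,
    mul_div_mul_left _ _ m0]

theorem C3D.Ac.rf_comm (h1 : Y.Ac x (K.rf Y.n r)) (hr : K.Qv Y.n r ≠ 0) (hx : x ∈ N[Y.P])
    (hp : p ∈ Y.P) (e : x * p * x⁻¹ * p⁻¹ * (x * p * x⁻¹ * p⁻¹) = 1) : x * p * x⁻¹ * p⁻¹ ∈ X.Z := by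
  have m := mul_mem (conj_mem hx hp) (inv_mem hp)
  have e1 : Y.π (x * p * x⁻¹ * p⁻¹) = (K.Bv (Y.π p) r / K.Qv Y.n r) • r := by
    rw [Y.π_mul _ (conj_mem hx hp) _ (inv_mem hp), Y.π_inv hp, h1 p hp, UF.rf, add_right_comm, K.addV,
      zero_add]
  rw [Y.sq _ m, e1, K.Qv_smul, X.z_eq_one, mul_eq_zero, sq_eq_zero_iff] at e
  exact Y.π_ker _ m (by rw [e1, e.resolve_right hr, zero_smul])

/-- an involution of `O(V)` inverts the preimage of `[V, x] ⊓ C_V(x)` -/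
theorem C3D.Ac.inv (h1 : Y.Ac x φ) (hx : x ∈ N[Y.P]) (hz : x ∈ C[X.Z]) (xx : x * x ∈ X.Z)
    (hp : p ∈ Y.P) (e : Y.π p = r + φ r) : x * p * x⁻¹ = p⁻¹ := by
  obtain ⟨g, hg, rfl⟩ := Y.π_surj r
  have m := conj_mem hx hg
  rw [← h1 g hg, ← Y.π_mul _ hg _ m] at e
  obtain ⟨b, rfl⟩ := Y.eqz hp (mul_mem hg m) e
  have e1 : x * x * g = g * (x * x) := (comm_of_cent Y.zc hg xx).symm
  have e2 : x * (g * g) * x⁻¹ = g * g := conj_eq_of_mem_C hz (Y.spc.sq g hg)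
  have e3 := conj_eq_of_mem_C hz (X.z_mem_Z b)
  have e4 : g * g * (g * g) = 1 := by rw [Y.sq g hg, X.z_sq]
  refine eq_inv_of_mul_eq_one_right ?_
  calc g * (x * g * x⁻¹) * X.z b * (x * (g * (x * g * x⁻¹) * X.z b) * x⁻¹)
      = g * (x * g * x⁻¹) * (X.z b * (x * g * x⁻¹)) * (x * x * g) * x⁻¹ * x⁻¹ *
        (x * X.z b * x⁻¹) := by group
    _ = g * (x * (g * g) * x⁻¹) * (X.z b * g) * X.z b := by rw [Y.uv0_zc m, e1, e3]; group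
    _ = g * g * (g * g) * (X.z b * X.z b) := by rw [e2, Y.uv0_zc hg]; group
    _ = 1 := by rw [e4, X.z_sq, mul_one]
end

end H2.U3
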