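import Mathlib
import Cfsg.Agent.H2.UDefs
import Cfsg.Agent.H2.UV0

set_option autoImplicit false
set_option linter.unusedVariables false
set_option linter.unusedSectionVars false

namespace H2.U3

open Cfsg H24 Subgroup
open H2.SZ (St DD Goal)
open H2.C2 (Cl2)

universe u v

variable {G : Type u} [Group G] [Finite G] {E F : Type*} [Field E] [Fintype E] [Field F] [Fintype F]
  [Algebra E F] {K : UF E F} {L G0 D P P0 Q R A B C H T M W W1 W2 Z1 Z2 : Subgroup G}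
  {t g s f x y i v p : G} {X : UD K L} {a k : F} {b : E} {ρ : F ≃+* F}

local notation "𝐪" => Fintype.card E

/-! ### UV0b -/

theorem uv0b_two (K : UF E F) {v r : F × E × E} (hr : r ≠ 0) (hv : ∀ e : E, v ≠ e • r) (b : E) :
    ∃ w, K.Bv v w = b ∧ K.Bv r w = 0 := by
  obtain ⟨w0, h0⟩ := K.Bv_surj hr 1
  obtain ⟨w, hw⟩ := K.Bv_surj (v := v + K.Bv v w0 • r) (fun e => hv (K.Bv v w0)
    ((eq_neg_of_add_eq_zero_left e).trans (neg_eq_of_add_eq_zero_left (K.addV _)))) b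
  refine ⟨w + K.Bv r w • w0, ?_, ?_⟩
  · rw [K.Bv_add_right, K.Bv_smul_right, ← hw, K.Bv_add_left, K.Bv_smul_left, mul_comm]
  · rw [K.Bv_add_right, K.Bv_smul_right, h0, mul_one, K.addE]

theorem uv0b_c : p ∈ C{x} ↔ x * p * x⁻¹ * p⁻¹ = 1 := by
  rw [mul_inv_eq_one, mul_inv_eq_iff_eq_mul, mem_C1, eq_comm]

theorem uv0b_cidx (h1 : R ≤ C[Z1]) (h2 : ∀ p ∈ R, x * p * x⁻¹ * p⁻¹ ∈ Z1)
    (h3 : ∀ c ∈ Z1, ∃ p ∈ R, x * p * x⁻¹ * p⁻¹ = c) : ♯(R ⊓ C{x}) * ♯Z1 = ♯R := by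
  let f : R →* G := MonoidHom.mk' (fun p => x * p * x⁻¹ * (p : G)⁻¹) fun p p' => by
    have e := comm_of_cent h1 (inv_mem p.2) (h2 _ p'.2)
    calc x * (p * p' : G) * x⁻¹ * (p * p' : G)⁻¹
        = x * p * x⁻¹ * (x * p' * x⁻¹ * (p' : G)⁻¹ * (p : G)⁻¹) := by group
      _ = _ := by rw [← e]; group
  have e1 : f.ker = C{x}.subgroupOf R := Subgroup.ext fun p => uv0b_c.symm
  have e2 : f.range = Z1 := le_antisymm (by rintro _ ⟨p, rfl⟩; exact h2 _ p.2) fun c hc => by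
    obtain ⟨p, hp, e⟩ := h3 c hc
    exact ⟨⟨p, hp⟩, e⟩
  rw [← e2, ← index_ker, e1, inf_comm]
  exact card_inf_mul_relIndex _ _

theorem C3D.uv0b_C (Y : C3D X t) (hi : i ∈ Y.P) :
    p ∈ Y.P ⊓ C{i} ↔ p ∈ Y.P ∧ K.Bv (Y.π i) (Y.π p) = 0 :=
  and_congr_right fun hp => by
    rw [← X.z_eq_one, ← Y.uv0_cm hi hp]
    exact uv0b_c

theorem C3D.uv0b_card (Y : C3D X t) (hi : i ∈ Y.P) (h1 : i ∉ X.Z) : ♯(Y.P ⊓ C{i}) = 𝐪 ^ 4 := by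
  have := uv0b_cidx Y.zc (fun p hp => Y.spc.comm hi hp) (Y.spc.onto i hi h1)
  rw [X.card_Z, Y.uv0_card, pow_succ _ 4] at this
  exact Nat.eq_of_mul_eq_mul_right Fintype.card_pos this

theorem C3D.uv0b_pre (Y : C3D X t) (I : AddSubgroup (F × E × E)) :
    ∃ A : Subgroup G, ∀ g, g ∈ A ↔ g ∈ Y.P ∧ Y.π g ∈ I :=
  ⟨{ carrier := {g | g ∈ Y.P ∧ Y.π g ∈ I}
     mul_mem' := fun ha hb =>
       ⟨mul_mem ha.1 hb.1, by rw [Y.π_mul _ ha.1 _ hb.1]; exact add_mem ha.2 hb.2⟩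
     one_mem' := ⟨one_mem _, by rw [Y.π_one]; exact zero_mem _⟩
     inv_mem' := fun ha => ⟨inv_mem ha.1, by rw [Y.π_inv ha.1]; exact ha.2⟩ }, fun g => Iff.rfl⟩

section
variable {Y : C3D X t} {r : F × E × E}
theorem C3D.rf_spc (h1 : Y.Ac x (K.rf Y.n r)) (hr : K.Qv Y.n r ≠ 0) (hx : x ∈ N[Y.P])
    (xx : x * x = 1) : Spc (Y.P ⊓ C{x}) X.Z X.Z ∧ X.Z.relIndex (Y.P ⊓ C{x}) = 𝐪 ^ 2 := by
  have r0 : r ≠ 0 := fun e => hr (e ▸ K.Qv_zero _)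
  have hz : x ∈ C[X.Z] := h1.zc hx fun v => by
    rw [UF.rf, K.Qv_add, K.Qv_smul, K.Bv_smul_right]
    field_simp
    linear_combination K.Bv v r ^ 2 * K.two
  have inv : ∀ p ∈ Y.P, ∀ e : E, Y.π p = e • r →
      x * p * x⁻¹ * p⁻¹ = X.z (e ^ 2 * K.Qv Y.n r) := by
    intro p hp e he
    obtain ⟨w, hw⟩ := K.Bv_surj r0 (e * K.Qv Y.n r)
    rw [h1.inv hx hz (xx ▸ one_mem _) hp (r := w) (by
      rw [he, UF.rf, ← add_assoc, K.addV, zero_add, K.Bv_comm, hw, mul_div_cancel_right₀ _ hr]),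
      Y.sq _ (inv_mem hp), Y.π_inv hp, he, K.Qv_smul]
  obtain ⟨i, hi, rfl⟩ := Y.π_surj r
  have iZ : i ∉ X.Z := fun h => r0 (Y.uv0_πZ h)
  have h2 : ∀ p ∈ Y.P ⊓ C{i}, x * p * x⁻¹ * p⁻¹ ∈ X.Z := fun p hp => by
    obtain ⟨h3, h4⟩ := (Y.uv0b_C hi).1 hp
    refine Y.π_ker _ (mul_mem (conj_mem hx h3) (inv_mem h3)) ?_
    rw [Y.π_mul _ (conj_mem hx h3) _ (inv_mem h3), Y.π_inv h3, h1 p h3, UF.rf, K.Bv_comm, h4, zero_div,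
      zero_smul, add_zero, K.addV]
  have h3 : ∀ b, ∃ e : E, ∃ p ∈ Y.P ⊓ C{i}, Y.π p = e • Y.π i ∧ x * p * x⁻¹ * p⁻¹ = X.z b := fun b => by
    obtain ⟨rt, hrt⟩ := K.exists_rt
    obtain ⟨p, hp, e⟩ := Y.π_surj (rt (b / K.Qv Y.n (Y.π i)) • Y.π i)
    exact ⟨_, p, (Y.uv0b_C hi).2 ⟨hp, by rw [e, K.Bv_smul_right, K.Bv_self, mul_zero]⟩, e,
      by rw [inv p hp _ e, hrt, div_mul_cancel₀ _ hr]⟩
  have le : Y.P ⊓ C{x} ≤ Y.P ⊓ C{i} := fun p hp => (Y.uv0b_C hi).2 ⟨hp.1, by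
    have := h1 p hp.1
    rw [mem_C1_iff_conj.1 (mem_C1_comm.1 hp.2), UF.rf, left_eq_add, smul_eq_zero,
      div_eq_zero_iff] at this
    rw [K.Bv_comm]
    tauto⟩
  have ZA : X.Z ≤ Y.P ⊓ C{x} := le_inf Y.Z_le (mem_C_iff_le_C1.1 hz)
  refine ⟨⟨le_rfl, ZA, cents_of_le Y.spc.cen inf_le_left, Y.spc.el, fun p hp => Y.spc.sq p hp.1,
    fun p hp hn c hc => ?_⟩, ?_⟩
  · obtain ⟨b, rfl⟩ := X.mem_Z.1 hc
    obtain ⟨w, e1, e2⟩ := uv0b_two K r0 (v := Y.π p) (fun e he => hn (Y.π_ker p hp.1 (by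
      have := inv p hp.1 e he
      rw [uv0b_c.1 hp.2, eq_comm, X.z_eq_one, mul_eq_zero, sq_eq_zero_iff] at this
      rw [he, this.resolve_right hr, zero_smul]))) b
    obtain ⟨y, hy, rfl⟩ := Y.π_surj w
    obtain ⟨c, hc⟩ := X.mem_Z.1 (h2 y ((Y.uv0b_C hi).2 ⟨hy, e2⟩))
    obtain ⟨e, y', hy', e3, e4⟩ := h3 c
    refine ⟨y * y', ⟨mul_mem hy hy'.1, uv0b_c.2 ?_⟩, ?_⟩
    · calc x * (y * y') * x⁻¹ * (y * y')⁻¹
          = x * y * x⁻¹ * (x * y' * x⁻¹ * y'⁻¹ * y⁻¹) := by group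
        _ = x * y * x⁻¹ * y⁻¹ * X.z c := by rw [e4, Y.uv0_zc (inv_mem hy)]; group
        _ = 1 := by rw [hc, X.z_sq]
    · rw [Y.uv0_cm hp.1 (mul_mem hy hy'.1), Y.π_mul _ hy _ hy'.1, K.Bv_add_right, e1, e3,
        K.Bv_smul_right, K.Bv_comm, ((Y.uv0b_C hi).1 (le hp)).2, mul_zero, add_zero]
  · have e1 := uv0b_cidx (inf_le_left.trans Y.zc) h2 fun c hc => by
      obtain ⟨b, rfl⟩ := X.mem_Z.1 hc
      obtain ⟨e, p, hp, -, e4⟩ := h3 b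
      exact ⟨p, hp, e4⟩
    rw [show Y.P ⊓ C{i} ⊓ C{x} = Y.P ⊓ C{x} from le_antisymm (inf_le_inf_right _ inf_le_left)
      (le_inf le inf_le_right), ← card_mul_relIndex ZA, Y.uv0b_card hi iZ, X.card_Z] at e1
    refine Nat.eq_of_mul_eq_mul_left (pow_pos (Fintype.card_pos (α := E)) 2) ?_
    linear_combination e1

theorem C3D.uv0b_sing (hi : i ∈ Y.P) (ii : i * i = 1) (h1 : i ∉ X.Z) :
    ∃ A, (∀ g, g ∈ A ↔ g ∈ Y.P ∧ ∃ e : E, Y.π g = e • Y.π i) ∧ ♯A = 𝐪 ^ 2 ∧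
      Spc (Y.P ⊓ C{i}) A X.Z := by
  have r0 : Y.π i ≠ 0 := fun e => h1 (Y.π_ker i hi e)
  have Q0 : K.Qv Y.n (Y.π i) = 0 := by rw [← X.z_eq_one, ← Y.sq i hi, ii]
  obtain ⟨I, hI, cI⟩ := uv0_line (E := E) r0
  obtain ⟨A, hA⟩ := Y.uv0b_pre I
  have c := Y.card_pre I hA
  simp only [hI] at hA
  refine ⟨A, hA, by rw [c, cI, pow_two], fun g hg => (hA g).2 ⟨Y.Z_le hg, 0, by
    rw [Y.uv0_πZ hg, zero_smul]⟩, fun g hg => ?_, le_C_iff.2 fun g hg p hp => ?_, fun g hg => ?_,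
    fun p hp => Y.spc.sq p hp.1, fun p hp hn c hc => ?_⟩
  · obtain ⟨h2, e, h3⟩ := (hA g).1 hg
    exact (Y.uv0b_C hi).2 ⟨h2, by rw [h3, K.Bv_smul_right, K.Bv_self, mul_zero]⟩
  · obtain ⟨h2, e, h3⟩ := (hA g).1 hg
    refine (mem_C1.1 ((Y.uv0b_C h2).2 ⟨hp.1, ?_⟩).2).symm
    rw [h3, K.Bv_smul_left, ((Y.uv0b_C hi).1 hp).2, mul_zero]
  · obtain ⟨h2, e, h3⟩ := (hA g).1 hg
    rw [Y.sq g h2, h3, K.Qv_smul, Q0, mul_zero, X.z_zero]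
  · obtain ⟨b, rfl⟩ := X.mem_Z.1 hc
    obtain ⟨w, e1, e2⟩ := uv0b_two K r0 (v := Y.π p) (fun e he => hn ((hA p).2 ⟨hp.1, e, he⟩)) b
    obtain ⟨y, hy, rfl⟩ := Y.π_surj w
    exact ⟨y, (Y.uv0b_C hi).2 ⟨hy, e2⟩, by rw [Y.uv0_cm hp.1 hy, e1]⟩

theorem C3D.sing_spc (hi : i ∈ Y.P) (ii : i * i = 1) (h1 : i ∉ X.Z) :
    ∃ A, i ∈ A ∧ Spc (Y.P ⊓ C{i}) A X.Z ∧ A.relIndex (Y.P ⊓ C{i}) = 𝐪 ^ 2 := by
  obtain ⟨A, hA, cA, sp⟩ := C3D.uv0b_sing hi ii h1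
  refine ⟨A, (hA i).2 ⟨hi, 1, (one_smul _ _).symm⟩, sp, ?_⟩
  have := card_mul_relIndex sp.A_le
  rw [cA, Y.uv0b_card hi h1] at this
  refine Nat.eq_of_mul_eq_mul_left (pow_pos (Fintype.card_pos (α := E)) 2) ?_
  linear_combination this

theorem C3D.sing_hyp (an : ∀ x y : E, x ^ 2 + x * y + Y.n * y ^ 2 = 0 → x = 0 ∧ y = 0) (hi : i ∈ Y.P)
    (ii : i * i = 1) (h1 : i ∉ X.Z) : ∃ A W1 W2, Hyp 𝐪 (Y.P ⊓ C{i}) A X.Z W1 W2 := by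
  obtain ⟨A, hA, cA, sp⟩ := C3D.uv0b_sing hi ii h1
  obtain ⟨ψ, hψ⟩ := K.aniso an
  have hQ : ∀ x y, K.Qv Y.n (x, ψ y) = K.nm x + K.nm y := fun x y => by rw [← hψ y]; rfl
  have hB : ∀ x y x' y', K.Bv (x, ψ y) (x', ψ y') = K.B x x' + K.B y y' := fun x y x' y' => by
    rw [uv0_B K Y.n, Prod.mk_add_mk, ← map_add, hQ, hQ, hQ, K.nm_add, K.nm_add]; ring
  obtain ⟨a, b, e⟩ : ∃ a b, Y.π i = (a, ψ b) := ⟨(Y.π i).1, ψ.symm (Y.π i).2, by simp⟩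
  have Q0 : K.nm a + K.nm b = 0 := by rw [← hQ, ← e, ← X.z_eq_one, ← Y.sq i hi, ii]
  have ab : K.nm b = K.nm a := by linear_combination Q0 - K.addE (K.nm a)
  have a0 : a ≠ 0 := by
    rintro rfl
    rw [K.nm_zero, K.nm_eq_zero] at ab
    exact h1 (Y.π_ker i hi (by rw [e, ab, map_zero]; rfl))
  have na : K.nm a ≠ 0 := fun e => a0 (K.nm_eq_zero.1 e)
  have b0 : b ≠ 0 := fun e => na (by rw [← ab, e, K.nm_zero])
  have hE : ∀ c : E, (algebraMap E F c * a, ψ (algebraMap E F c * b)) = c • Y.π i := fun c => by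
    rw [e, ← Algebra.smul_def, ← Algebra.smul_def, map_smul]; rfl
  have key : ∀ ρ : F ≃+* F, (∀ c, K.nm (ρ c) = K.nm c) →
      (∀ c, ρ (algebraMap E F c) = algebraMap E F c) → ∃ W : Subgroup G,
      (∀ g, g ∈ W ↔ g ∈ Y.P ∧ ∃ c, (c * a, ψ (ρ c * b)) = Y.π g) ∧ ♯W = 𝐪 ^ 3 ∧
      (∀ g ∈ W, g * g = 1) ∧ A ≤ W ∧ W ≤ Y.P ⊓ C{i} := fun ρ h2 h3 => by
    let f : F →+ F × E × E := AddMonoidHom.mk' (fun c => (c * a, ψ (ρ c * b))) fun c d => by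
      simp [add_mul]
    have inj : Function.Injective f := fun c d e => mul_right_cancel₀ a0 (congrArg Prod.fst e)
    obtain ⟨W, hW⟩ := Y.uv0b_pre f.range
    have el : ∀ g ∈ W, g * g = 1 := fun g hg => by
      obtain ⟨h4, c, h5⟩ := (hW g).1 hg
      rw [Y.sq g h4, ← h5, X.z_eq_one]
      refine (hQ _ _).trans ?_
      rw [K.nm_mul, K.nm_mul, h2, ab, K.addE]
    have AW : A ≤ W := fun g hg => by
      obtain ⟨h4, c, h5⟩ := (hA g).1 hg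
      exact (hW g).2 ⟨h4, algebraMap E F c, by
        rw [h5, ← hE]
        exact congrArg (fun y => (algebraMap E F c * a, ψ (y * b))) (h3 c)⟩
    refine ⟨W, hW, ?_, el, AW, fun g hg => ⟨((hW g).1 hg).1, mem_C1.2 ?_⟩⟩
    · rw [Y.card_pre _ hW, ← Nat.card_congr (AddMonoidHom.ofInjective inj).toEquiv,
        Nat.card_eq_fintype_card, K.card]
      ring
    · have iW : i ∈ W := AW ((hA i).2 ⟨hi, 1, (one_smul _ _).symm⟩)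
      rw [eq_inv_of_mul_eq_one_left (el _ (mul_mem hg iW)), _root_.mul_inv_rev,
        ← eq_inv_of_mul_eq_one_left ii, ← eq_inv_of_mul_eq_one_left (el g hg)]
  obtain ⟨W1, m1, c1, el1, A1, le1⟩ := key 1 (fun _ => rfl) fun _ => rfl
  obtain ⟨W2, m2, c2, el2, A2, le2⟩ := key K.σ K.nm_σ K.σ_alg
  have inf : W1 ⊓ W2 = A := le_antisymm (fun g hg => by
    obtain ⟨h2, c, h3⟩ := (m1 g).1 hg.1
    obtain ⟨-, d, h4⟩ := (m2 g).1 hg.2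
    obtain ⟨e1, e2⟩ := Prod.mk.inj (h4.trans h3.symm)
    obtain rfl := mul_right_cancel₀ a0 e1
    obtain ⟨c, rfl⟩ := (K.fix d).1 (mul_right_cancel₀ b0 (ψ.injective e2))
    exact (hA g).2 ⟨h2, c, h3.symm.trans (hE c)⟩) (le_inf A1 A2)
  refine ⟨A, W1, W2, sp, X.card_Z, cA, c1, c2, el1, el2, inf, le1, le2,
    (isProd_of_card le1 le2 ?_).mul, fun g hg p hp e1 => ?_⟩
  · rw [inf, cA, c1, c2, Y.uv0b_card hi h1]
    exact le_of_eq (by ring)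
  · obtain ⟨h2, c, h3⟩ := (m1 g).1 hg
    obtain ⟨h4, d, h5⟩ := (m2 p).1 hp
    have e2 := ((Y.uv0b_C h2).1 ⟨h4, mem_C1.2 e1.symm⟩).2
    rw [← h3, ← h5, hB, mul_comm c, mul_comm d, mul_comm _ b, mul_comm _ b, K.B_mul, K.B_mul, ab,
      ← mul_add, mul_eq_zero, or_iff_right na] at e2
    have e3 : K.B c (d + K.σ d) = 0 := (K.B_add_right _ _ _).trans e2
    rw [← K.tr_eq, UF.B, K.σ_alg, mul_comm, ← Algebra.smul_def, K.tr_smul, mul_eq_zero,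
      K.tr_eq_zero, K.tr_eq_zero] at e3
    rcases e3 with ⟨d, rfl⟩ | ⟨c, rfl⟩
    · exact Or.inr ((hA p).2 ⟨h4, d, by rw [← h5, K.σ_alg, hE]⟩)
    · exact Or.inl ((hA g).2 ⟨h2, c, h3.symm.trans (hE c)⟩)

theorem C3D.exists_env (Y : C3D X t) (h : Lc X G0 t D) : ∃ P, Env X G0 t D Y.P P := by
  obtain ⟨T, hT, h2, h3⟩ := Y.syl
  have ti : t⁻¹ = t := inv_eq_of_mul_eq_one_right h.tt
  have dec : ∀ p ∈ Y.P, Y.π (t * p * t⁻¹) = Y.π p → ∃ a s, s ∈ Y.S1 ∧ p = X.u a 0 * s ∧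
      (Y.π s).2.2 = 0 ∧ t * p * t⁻¹ = X.u a 0 * s⁻¹ := fun p hp e => by
    obtain ⟨s, hs, e1⟩ := Y.dec hp
    obtain ⟨m1, m2⟩ := Y.mem_S1.1 hs
    rw [Y.π_t p hp, K.rf_e] at e
    have e2 : (Y.π p).2.2 = 0 := by simpa using congrArg (fun v => v.2.1) e
    have e3 : (Y.π s).2.2 = 0 := by
      rw [e1, Y.π_mul _ (Y.S_le (X.u_mem_S _ _)) _ m1, Y.π_u] at e2
      simpa using e2
    refine ⟨_, s, hs, e1, e3, ?_⟩
    generalize (Y.π p).1 = a at e1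
    rw [e1, ← Y.t_inv s m1 m2 e3, ← mul_assoc, ← h.toSc.tu (X.u_mem a 0)]
    group
  refine h.exists_env Y.pi Y.S_le hT h2 h3 (fun p hp => ?_) fun p hp e => ?_
  · have e := mem_C1_iff_conj.1 (mem_C1_comm.1 hp.2)
    obtain ⟨a, s, hs, e1, e2, e3⟩ := dec p hp.1 (by rw [e])
    obtain ⟨m1, m2⟩ := Y.mem_S1.1 hs
    rw [e, e1, mul_right_inj] at e3
    have e4 := Y.sq s m1
    rw [mul_eq_one_iff_eq_inv.2 e3, eq_comm, X.z_eq_one] at e4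
    simp only [UF.Qv, m2, e2, K.nm_zero] at e4
    exact e1 ▸ mul_mem (X.u_mem_S _ _) (X.Z_le_S (Y.π_ker s m1
      (Prod.ext m2 (Prod.ext (by simpa using e4) e2))))
  · have e0 : t * p * t⁻¹ = p⁻¹ := by
      rw [ti]
      exact eq_inv_of_mul_eq_one_left (by rw [← e]; group)
    obtain ⟨a, s, hs, e1, e2, e3⟩ := dec p hp (by rw [e0, Y.π_inv hp])
    obtain ⟨m1, m2⟩ := Y.mem_S1.1 hs
    have e4 : s⁻¹ * X.u a 0 = X.u a 0 * s⁻¹ :=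
      mem_C'.1 (inv_mem (Y.S1_eq.le hs).2) _ (X.u_mem_S a 0)
    rw [e0, e1, _root_.mul_inv_rev, ← e4, mul_right_inj, inv_eq_iff_mul_eq_one, X.u_sq, X.z_eq_one,
      K.nm_eq_zero] at e3
    rw [e3, X.u_zero, one_mul] at e1
    subst e1
    obtain ⟨b1, hb, e5⟩ := Y.π_surj (0, 0, (Y.π p).2.1)
    have m := mul_mem (conj_mem Y.t_N hb) (inv_mem hb)
    obtain ⟨c, hc⟩ := Y.eqz hp m (by
      rw [Y.π_mul _ (conj_mem Y.t_N hb) _ (inv_mem hb), Y.π_inv hb, Y.π_t _ hb, K.rf_e, e5]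
      exact Prod.ext (by simpa using m2) (Prod.ext (by simp) (by simp [e2, K.addE])))
    obtain ⟨rt, hrt⟩ := K.exists_rt
    obtain ⟨b2, hb2, e6⟩ := Y.π_surj (0, rt c, 0)
    have e7 : t * b2 * t⁻¹ * b2⁻¹ = X.z c := by
      rw [Y.t_inv b2 hb2 (by rw [e6]) (by rw [e6]), Y.sq _ (inv_mem hb2), Y.π_inv hb2, e6]
      simp [UF.Qv, K.nm_zero, hrt]
    refine ⟨b1 * b2, mul_mem hb hb2, ?_⟩
    calc t * p = t * (t * b1 * t⁻¹) * (b1⁻¹ * X.z c) := by rw [hc]; group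
      _ = t * t * (b1 * b2) * t⁻¹ * (b1 * b2)⁻¹ := by rw [← Y.uv0_zc (inv_mem hb), ← e7]; group
      _ = _ := by rw [h.tt, ti, one_mul]

theorem Env.ker3 (h : Env X G0 t D Y.P P) (hx : x ∈ P) (h1 : Y.Ac x id) : x ∈ Y.P := by
  let R : Subgroup G :=
    { carrier := {x | x ∈ P ∧ Y.Ac x id}
      mul_mem' := fun ha hb => ⟨mul_mem ha.1 hb.1, ha.2.mul hb.2 (h.P_N hb.1)⟩
      one_mem' := ⟨one_mem _, C3D.ac_P (one_mem _)⟩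
      inv_mem' := fun {x} ha => ⟨inv_mem ha.1, fun p hp => by
        have := ha.2 _ (conj_mem (inv_mem (h.P_N ha.1)) hp)
        rw [show x * (x⁻¹ * p * x⁻¹⁻¹) * x⁻¹ = p by group] at this
        exact this.symm⟩ }
  refine h.ker (R := R) (fun p hp => ⟨h.B_le hp, C3D.ac_P hp⟩) (fun _ hy => hy.1)
    (mem_N_of_finite fun y hy => ⟨mul_mem (mul_mem h.t_mem hy.1) (inv_mem h.t_mem), fun p hp => ?_⟩)
    (fun y hy => ?_) ⟨hx, h1⟩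
  · have m := conj_mem' Y.t_N hp
    rw [show t * y * t⁻¹ * p * (t * y * t⁻¹)⁻¹ = t * (y * (t⁻¹ * p * t) * y⁻¹) * t⁻¹ by group,
      Y.π_t _ (conj_mem (h.P_N hy.1) m), hy.2 _ m, id, ← Y.π_t _ m, id]
    congr 1
    group
  · have hS := h.T_S ⟨hy.1.1, hy.2⟩
    have ac : X.Act y 1 1 := ⟨one_ne_zero, fun a b => by
      have m := Y.S_le (X.u_mem_S a b)
      obtain ⟨c, hc⟩ := Y.eqz (conj_mem (h.P_N hy.1.1) m) m (hy.1.2 _ m)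
      exact ⟨b + c, by rw [hc, X.u_z, one_mul]; rfl⟩⟩
    rcases (h.toSc.mem_T X).1 (h.toLc.two_T hS (mem_C1.1 hy.2) (h.piP.piElt hy.1.1) ac.χ_eq) with
      e | e
    · exact Y.S_le e
    · have := (C3D.ac_t.mul hy.1.2 (h.P_N hy.1.1)).uniq (C3D.ac_P (Y.S_le e)) (0, 0, 1)
      simp [K.rf_e] at this

theorem Env.idxZ (h : Env X G0 t D Y.P P) (h1 : A ≤ P) (h2 : ∀ a ∈ A, a * a ∈ C[X.Z]) :
    C[X.Z].relIndex A ≤ 2 := by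
  have sc : ∀ a ∈ A, ∀ m : E, (∀ b, a * X.z b * a⁻¹ = X.z (m * b)) → a ∈ C[X.Z] := fun a ha m e => by
    have e1 := conj_eq_of_mem_C (h2 a ha) (X.z_mem_Z 1)
    rw [show a * a * X.z 1 * (a * a)⁻¹ = a * (a * X.z 1 * a⁻¹) * a⁻¹ by group, e, e] at e1
    have e2 : m = 1 := K.sq_inj (by linear_combination X.z_inj e1)
    refine mem_C'.2 fun z hz => ?_
    obtain ⟨b, rfl⟩ := X.mem_Z.1 hz
    rw [← mul_inv_eq_iff_eq_mul, e, e2, one_mul]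
  have key : ∀ a ∈ A, a ∉ C[X.Z] → ∃ (μ : E ≃+* E) (m : E), μ * μ = 1 ∧ μ ≠ 1 ∧
      ∀ b, a * X.z b * a⁻¹ = X.z (m * μ b) := fun a ha hn => by
    obtain ⟨-, μ, m, -, -, -, e, -⟩ := Y.exists_ac (h.P_N (h1 ha))
    have e1 : ∀ b, m * μ m * μ (μ b) = b := fun b => by
      have e1 := conj_eq_of_mem_C (h2 a ha) (X.z_mem_Z b)
      rw [show a * a * X.z b * (a * a)⁻¹ = a * (a * X.z b * a⁻¹) * a⁻¹ by group, e, e, map_mul,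
        ← mul_assoc] at e1
      exact X.z_inj e1
    have e2 : m * μ m = 1 := by simpa using e1 1
    refine ⟨μ, m, RingEquiv.ext fun b => ?_, fun e3 => hn (sc a ha m (by simpa [e3] using e)), e⟩
    have := e1 b
    rwa [e2, one_mul] at this
  refine Nat.le_of_dvd two_pos (relIndex_dvd_two_iff.2 ?_)
  by_cases hA : A ≤ C[X.Z]
  · exact ⟨1, one_mem _, fun b hb => Or.inr (hA hb)⟩
  obtain ⟨a, ha, hn⟩ := SetLike.not_le_iff_exists.1 hA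
  obtain ⟨μ, m, e1, e2, e3⟩ := key a ha hn
  refine ⟨a, ha, fun b hb => or_iff_not_imp_right.2 fun hn' => ?_⟩
  obtain ⟨μ', m', e4, e5, e6⟩ := key b hb hn'
  have := K.cyc_E
  obtain rfl := UA3_cyc e1 e4 e2 e5
  refine sc _ (mul_mem hb ha) (m' * μ m) fun c => ?_
  rw [show b * a * X.z c * (b * a)⁻¹ = b * (a * X.z c * a⁻¹) * b⁻¹ by group, e3, e6, map_mul,
    show μ (μ c) = c from congrArg (fun f : E ≃+* E => f c) e1, mul_assoc]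
end

end H2.U3
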