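import Mathlib
import Cfsg.Agent.H2.UDefs
import Cfsg.Agent.H2.UV0b

set_option autoImplicit false
set_option linter.unusedVariables false
set_option linter.unusedSectionVars false

namespace H2.U3

open Cfsg H24 Subgroup
open H2.SZ (St DD Goal)
open H2.C2 (Cl2)

universe u v

variable {G : Type u} [Group G] [Finite G] {E F : Type*} [Field E] [Fintype E] [Field F] [Fintype F]
  [Algebra E F] {K : UF E F} {L G0 D P P0 Q R A B C H T M W W1 W2 Z1 Z2 : Subgroup G}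
  {t g s f x y i v p : G} {X : UD K L} {a k : F} {b : E} {ρ : F ≃+* F}

local notation "𝐪" => Fintype.card E

/-! ### UV1 -/

section alg
variable {n : E} {r r' : F × E × E}

theorem UV1.Qe (K : UF E F) (n : E) : K.Qv n (0, 1, 0) = 1 := by simp [UF.Qv, K.nm_zero]

theorem UV1.Qa (K : UF E F) (n : E) (ha : K.nm a = 1) : K.Qv n (a, 0, 0) = 1 := by simp [UF.Qv, ha]

theorem UV1.rf_rf (K : UF E F) (r v : F × E × E) : K.rf n r (K.rf n r v) = v := by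
  simp only [UF.rf]
  rw [K.Bv_add_left, K.Bv_smul_left, K.Bv_self, mul_zero, add_zero, add_assoc, K.addV, add_zero]

theorem UV1.Q_rf (K : UF E F) (hr : K.Qv n r ≠ 0) (v : F × E × E) :
    K.Qv n (K.rf n r v) = K.Qv n v := by
  simp only [UF.rf]
  rw [K.Qv_add, K.Qv_smul, K.Bv_smul_right]
  have e : (K.Bv v r / K.Qv n r) ^ 2 * K.Qv n r = K.Bv v r / K.Qv n r * K.Bv v r := by
    field_simp
  rw [e, add_assoc, K.addE, add_zero]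

theorem UV1.Q_ts (K : UF E F) (ha : K.nm a = 1) (v : F × E × E) :
    K.Qv n (K.ts n a v) = K.Qv n v := by
  rw [UF.ts, UV1.Q_rf K (by rw [UV1.Qe]; exact one_ne_zero),
    UV1.Q_rf K (by rw [UV1.Qa K n ha]; exact one_ne_zero)]

theorem UV1.ex_one (K : UF E F) (hr : K.Qv n r ≠ 0) : ∃ v, K.rf n r v = v + (K.Qv n r)⁻¹ • r := by
  obtain ⟨v, hv⟩ := K.Bv_surj (v := r) (by rintro rfl; exact hr (K.Qv_zero n)) 1
  exact ⟨v, by rw [UF.rf, K.Bv_comm, hv, one_div]⟩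

theorem UV1.rf_ne (K : UF E F) (hr : K.Qv n r ≠ 0) (h : ∀ v, K.rf n r v = v) : False := by
  obtain ⟨v, hv⟩ := UV1.ex_one K hr
  rw [h, left_eq_add, smul_eq_zero] at hv
  rcases hv with e | rfl
  exacts [inv_ne_zero hr e, hr (K.Qv_zero n)]

theorem UV1.rf_inj (K : UF E F) (hr : K.Qv n r ≠ 0) (h : ∀ v, K.rf n r v = K.rf n r' v) :
    ∃ c : E, r = c • r' := by
  obtain ⟨v, hv⟩ := UV1.ex_one K hr
  rw [h, UF.rf, add_right_inj] at hv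
  exact ⟨K.Qv n r * (K.Bv v r' / K.Qv n r'), by
    rw [mul_smul, hv, smul_smul, mul_inv_cancel₀ hr, one_smul]⟩

theorem UV1.a0 (K : UF E F) (ha : K.nm a = 1) : a ≠ 0 := by
  rintro rfl
  rw [K.nm_zero] at ha
  exact zero_ne_one ha

theorem UV1.ex_B (K : UF E F) (ha : K.nm a = 1) (e : E) : ∃ c, K.B c a = e := by
  obtain ⟨c, hc⟩ := K.B_surj (UV1.a0 K ha) e
  exact ⟨c, by rw [K.B_comm, hc]⟩

theorem UV1.ts_rf (K : UF E F) (ha : K.nm a = 1) (h : ∀ v, K.rf n r v = K.ts n a v) : False := by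
  obtain ⟨c, hc⟩ := UV1.ex_B K ha 1
  have e1 := h (0, 0, 1)
  have e2 := h (c, 0, 0)
  rw [K.ts_eq n ha, UF.rf] at e1 e2
  generalize K.Bv (0, 0, 1) r / K.Qv n r = l at e1
  generalize K.Bv (c, 0, 0) r / K.Qv n r = m at e2
  simp only [Prod.ext_iff, Prod.fst_add, Prod.snd_add, Prod.smul_fst, Prod.smul_snd, K.B_zero_left,
    hc, zero_smul, one_smul, zero_add, add_zero, smul_eq_mul, add_right_inj] at e1 e2
  have hl : l ≠ 0 := by rintro rfl; simp at e1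
  have h1 : r.1 = 0 := (smul_eq_zero.1 e1.1).resolve_left hl
  exact UV1.a0 K ha (by rw [← e2.1, h1, smul_zero])

theorem UV1.rfa_e (K : UF E F) (ha : K.nm a = 1) : K.rf n (a, 0, 0) (0, 1, 0) = (0, 1, 0) := by
  rw [K.rf_a n ha]; simp [K.B_zero_left]

theorem UV1.ts_e (K : UF E F) (ha : K.nm a = 1) : K.ts n a (0, 1, 0) = (0, 1, 0) := by
  rw [K.ts_eq n ha]; simp [K.B_zero_left]

theorem UV1.no_swap (K : UF E F) (hr : K.Qv n r ≠ 0)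
    (h : ∀ v, K.rf n (K.rf n r (0, 1, 0)) v = K.rf n (a, 0, 0) v) : False := by
  obtain ⟨c, hc⟩ := UV1.rf_inj K (by rw [UV1.Q_rf K hr, UV1.Qe]; exact one_ne_zero) h
  have e : K.Bv (0, 1, 0) (K.rf n r (0, 1, 0)) = 0 := by
    rw [hc, K.Bv_smul_right]; simp [UF.Bv, K.B_zero_left]
  rw [UF.rf, K.Bv_add_right, K.Bv_self, K.Bv_smul_right, zero_add, div_mul_eq_mul_div,
    div_eq_zero_iff, mul_self_eq_zero, or_iff_left hr] at e
  rw [UF.rf, e, zero_div, zero_smul, add_zero] at hc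
  simpa using congrArg (fun v => v.2.1) hc

theorem UV1.sqrt (K : UF E F) (k : F) : ∃ a, a ^ 2 = k :=
  (Finite.injective_iff_surjective (f := fun a : F => a ^ 2)).1 (fun x y h => by
    have e : (x + y) ^ 2 = 0 := by
      have h' : x ^ 2 = y ^ 2 := h
      linear_combination h' + (x * y + y ^ 2) * K.twoF
    have := pow_eq_zero_iff (two_ne_zero) |>.1 e
    linear_combination this - y * K.twoF) k

theorem UV1.rfa_eq (K : UF E F) (ha : K.nm a = 1) (c : F) : c + K.B c a • a = a ^ 2 * K.σ c := by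
  have e := K.nm_eq a
  rw [ha, map_one] at e
  rw [Algebra.smul_def, UF.B, K.tr_eq, map_mul, K.σσ]
  linear_combination (-c) * e + c * K.twoF

/-- a linear isometry inducing `rf a` on `F` and commuting with `rf e` -/
theorem UV1.cls (K : UF E F) (ha : K.nm a = 1) (φ : (F × E × E) ≃ₗ[E] F × E × E)
    (hQ : ∀ v, K.Qv n (φ v) = K.Qv n v) (hB : ∀ v v', K.Bv (φ v) (φ v') = K.Bv v v')
    (h1 : ∀ c, φ (c, 0, 0) = (a ^ 2 * K.σ c, 0, 0))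
    (h2 : ∀ v, φ (K.rf n (0, 1, 0) v) = K.rf n (0, 1, 0) (φ v)) :
    (∀ v, φ v = K.rf n (a, 0, 0) v) ∨ ∀ v, φ v = K.ts n a v := by
  have a0 := UV1.a0 K ha
  have f1 : (φ (0, 0, 1)).1 = 0 := by
    by_contra hn
    obtain ⟨x, hx⟩ := K.B_surj hn 1
    have e := hB (0, 0, 1) (K.σ (x / a ^ 2), 0, 0)
    rw [h1, K.σσ, mul_div_cancel₀ _ (pow_ne_zero 2 a0)] at e
    simp [UF.Bv, hx, K.B_zero_left] at e
  have e := h2 (0, 0, 1)
  have e0 : K.rf n (0, 1, 0) (0, 0, 1) = (0, 0, 1) + (0, 1, 0) := by rw [K.rf_e]; simp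
  have e' : φ (0, 1, 0) = (0, (φ (0, 0, 1)).2.2, 0) := by
    rw [e0, map_add, K.rf_e] at e
    refine add_left_cancel (a := φ (0, 0, 1)) (e.trans ?_)
    ext <;> simp
  have l1 : (φ (0, 0, 1)).2.2 = 1 := by
    have := hQ (0, 1, 0)
    rw [e', UV1.Qe] at this
    refine K.sq_inj ?_
    simpa [UF.Qv, K.nm_zero] using this
  rw [l1] at e'
  have q := hQ (0, 0, 1)
  generalize hw : φ (0, 0, 1) = w at f1 l1 q
  obtain ⟨w1, η, w3⟩ := w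
  obtain rfl : w1 = 0 := f1
  obtain rfl : w3 = 1 := l1
  have key : ∀ v : F × E × E, φ v = (v.1 + K.B v.1 a • a, v.2.1 + v.2.2 * η, v.2.2) := fun v => by
    have : v = (v.1, 0, 0) + v.2.1 • ((0, 1, 0) : F × E × E) + v.2.2 • ((0, 0, 1) : F × E × E) := by
      ext <;> simp
    rw [UV1.rfa_eq K ha]
    conv_lhs => rw [this, map_add, map_add, map_smul, map_smul, h1, e', hw]
    ext <;> simp
  have q' : η * (η + 1) = 0 := by
    simp only [UF.Qv, K.nm_zero] at q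
    linear_combination q
  rcases mul_eq_zero.1 q' with rfl | e1
  · exact .inl fun v => by rw [key, K.rf_a n ha]; simp
  · obtain rfl : η = 1 := by linear_combination e1 - K.two
    exact .inr fun v => by rw [key, K.ts_eq n ha]; simp

end alg

section
variable {Y : C3D X t} {φ ψ : F × E × E → F × E × E} {r : F × E × E}

theorem UV1.ti (h : Env X G0 t D Y.P P) : t⁻¹ = t := inv_eq_of_mul_eq_one_right h.tt

theorem UV1.congr (h1 : Y.Ac x φ) (e : ∀ v, φ v = ψ v) : Y.Ac x ψ := fun p hp => (h1 p hp).trans (e _)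

theorem UV1.le_P (h : Env X G0 t D Y.P P) (hx : x ∈ Y.CT P) : x ∈ P := (h.mem_CT.1 hx).1

theorem UV1.B_CT (hx : x ∈ Y.P) : x ∈ Y.CT P := mem_sup_left hx

theorem UV1.t_CT (h : Env X G0 t D Y.P P) : t ∈ Y.CT P := mem_sup_right ⟨h.t_mem, self_mem_C1 t⟩

/-- two elements inducing the same involution -/
theorem UV1.ker2 (h : Env X G0 t D Y.P P) (hx : x ∈ P) (hy : y ∈ P) (h1 : Y.Ac x φ) (h2 : Y.Ac y ψ)
    (e : ∀ v, φ (ψ v) = v) : x * y ∈ Y.P :=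
  h.ker3 (mul_mem hx hy) (UV1.congr (h1.mul h2 (h.P_N hy)) e)

theorem UV1.ac_t (h : Env X G0 t D Y.P P) (h1 : x * t ∈ Y.P) : Y.Ac x (K.rf Y.n (0, 1, 0)) := by
  have := (C3D.ac_P h1).mul C3D.ac_t Y.t_N
  rwa [mul_assoc, h.tt, mul_one] at this

theorem UV1.conj_t (hx : x ∈ N[Y.P]) : ∃ r, K.Qv Y.n r ≠ 0 ∧ Y.Ac (x * t * x⁻¹) (K.rf Y.n r) := by
  obtain ⟨φ, μ, m, hm, -, h1, -, -, hQ, -⟩ := Y.exists_ac hx
  refine ⟨_, ?_, C3D.ac_t.rf_conj (by rw [UV1.Qe]; exact one_ne_zero) Y.t_N hx h1⟩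
  rw [hQ, UV1.Qe, map_one, mul_one]
  exact hm

theorem UV1.conj_rf (h1 : Y.Ac y (K.rf Y.n r)) (hr : K.Qv Y.n r ≠ 0) (hy : y ∈ N[Y.P])
    (hx : x ∈ N[Y.P]) :
    ∃ r, K.Qv Y.n r ≠ 0 ∧ Y.Ac (x * y * x⁻¹) (K.rf Y.n r) := by
  obtain ⟨φ, μ, m, hm, -, h2, -, -, hQ, -⟩ := Y.exists_ac hx
  refine ⟨_, ?_, h1.rf_conj hr hy hx h2⟩
  rw [hQ]
  exact mul_ne_zero hm ((map_ne_zero μ).2 hr)

theorem UV1.exists_a (h : Env X G0 t D Y.P P) : ∃ a, K.nm a = 1 ∧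
    ∀ y ∈ P ⊓ C{t}, X.χ y = K.σ → X.Act y (a ^ 2) K.σ := by
  have n1 : ∀ y ∈ P ⊓ C{t}, ∀ k, X.Act y k K.σ → k * K.σ k = 1 := fun y hy k hk => by
    obtain ⟨c, e1, e2⟩ := hk.z 1
    rw [conj_eq_of_mem_C (X.Z_χ hk.mem (h.piP.piElt hy.1) (.inr hk.χ_eq)) (X.z_mem_Z 1)] at e1
    rw [← X.z_inj e1, map_one, map_one, mul_one] at e2
    exact e2.symm
  by_cases hx : ∃ x ∈ P ⊓ C{t}, X.χ x = K.σ
  · obtain ⟨x, hx, e⟩ := hx
    obtain ⟨k, hk⟩ := X.exists_act (h.T_S hx)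
    rw [e] at hk
    obtain ⟨a, rfl⟩ := UV1.sqrt K k
    refine ⟨a, K.sq_inj ((algebraMap E F).injective ?_), fun y hy ey => ?_⟩
    · rw [map_pow, K.nm_eq, one_pow, map_one, ← n1 x hx _ hk, map_pow, mul_pow]
    obtain ⟨k, hk'⟩ := X.exists_act (h.T_S hy)
    rw [ey] at hk'
    have a1 := X.act_two (h.T_S (mul_mem hy hx)) (h.piP.piElt (mul_mem hy.1 hx.1)) (by
      rw [X.χ_mul (h.T_S hy) (h.T_S hx), e, ey]
      exact RingEquiv.ext K.σσ)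
    obtain ⟨b1, e1⟩ := hk.2 1 0
    obtain ⟨b2, e2⟩ := hk'.2 (a ^ 2 * K.σ 1) b1
    obtain ⟨b3, e3⟩ := a1.2 1 0
    have e4 : X.u (k * K.σ (a ^ 2 * K.σ 1)) b2 = X.u (1 * (1 : F ≃+* F) 1) b3 := by
      rw [← e2, ← e1, ← e3]; group
    have e5 := (X.u_inj e4).1
    simp only [map_one, mul_one] at e5
    have e6 := n1 x hx _ hk
    obtain rfl : k = a ^ 2 := by linear_combination a ^ 2 * e5 - k * e6
    exact hk'
  · exact ⟨1, K.nm_one, fun y hy e => (hx ⟨y, hy, e⟩).elim⟩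

theorem UV1.lin (h : Env X G0 t D Y.P P) (ha : K.nm a = 1)
    (h2 : ∀ y ∈ P ⊓ C{t}, X.χ y = K.σ → X.Act y (a ^ 2) K.σ) (hx : x ∈ Y.CT P) (hz : x ∈ C[X.Z]) :
    x ∈ Y.P ∨ x * t ∈ Y.P ∨ Y.Ac x (K.rf Y.n (a, 0, 0)) ∨ Y.Ac x (K.ts Y.n a) := by
  obtain ⟨b, hb, hy⟩ := h.fix (h.mem_CT.1 hx).1 (h.mem_CT.1 hx).2
  have yz : b * x ∈ C[X.Z] := mul_mem (Y.zc hb) hz
  have yt : b * x * t = t * (b * x) := mem_C1.1 hy.2
  rcases X.χ_Z (h.T_S hy) yz with e | e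
  · rcases (h.toSc.mem_T X).1 (h.toLc.two_T (h.T_S hy) yt (h.piP.piElt hy.1) e) with e | e
    · exact .inl ((mul_mem_cancel_left hb).1 (Y.S_le e))
    · rw [← yt, mul_assoc] at e
      exact .inr (.inl ((mul_mem_cancel_left hb).1 (Y.S_le e)))
  · have yN := h.P_N hy.1
    obtain ⟨φ, h1, hQ, hB⟩ := Y.exists_lin yN yz
    have hx1 : Y.Ac x φ := by
      have := (C3D.ac_P (inv_mem hb)).mul h1 yN
      rwa [inv_mul_cancel_left] at this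
    refine .inr (.inr ((UV1.cls K ha φ hQ hB (fun c => ?_) fun v => ?_).imp
      (UV1.congr hx1) (UV1.congr hx1)))
    · obtain ⟨b', e'⟩ := (h2 _ hy e).2 c 0
      rw [← Y.π_u c 0, ← h1 _ (Y.S_le (X.u_mem_S c 0)), e', Y.π_u]
    · have a1 := h1.mul C3D.ac_t Y.t_N
      rw [yt] at a1
      exact a1.uniq (C3D.ac_t.mul h1 yN) v

section sw
variable (h : Env X G0 t D Y.P P) (ha : K.nm a = 1) (lin : ∀ x ∈ Y.CT P, x ∈ C[X.Z] →
    x ∈ Y.P ∨ x * t ∈ Y.P ∨ Y.Ac x (K.rf Y.n (a, 0, 0)) ∨ Y.Ac x (K.ts Y.n a))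
include h ha lin

theorem UV1.R1 (hx : x ∈ Y.CT P) (hr : K.Qv Y.n r ≠ 0) (h1 : Y.Ac x (K.rf Y.n r)) :
    x * t ∈ Y.P ∨ Y.Ac x (K.rf Y.n (a, 0, 0)) := by
  rcases lin x hx (h1.zc (h.P_N (UV1.le_P h hx)) (UV1.Q_rf K hr)) with e | e | e | e
  · exact (UV1.rf_ne K hr (h1.uniq (C3D.ac_P e))).elim
  · exact .inl e
  · exact .inr e
  · exact (UV1.ts_rf K ha (h1.uniq e)).elim

theorem UV1.R2 (hx : x ∈ P) (hn : x ∉ Y.CT P) (h1 : x * t * x⁻¹ ∈ Y.CT P) :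
    Y.Ac (x * t * x⁻¹) (K.rf Y.n (a, 0, 0)) := by
  obtain ⟨r, hr, h2⟩ := UV1.conj_t (h.P_N hx)
  exact (UV1.R1 h ha lin h1 hr h2).resolve_left fun e => hn (h.mem_CT.2 ⟨hx, e⟩)

theorem UV1.R3 (hx : x ∈ P) (h1 : x * t * x⁻¹ ∈ Y.CT P) : x ∈ N[Y.CT P] := by
  by_cases hn : x ∈ Y.CT P
  · exact norm_self _ hn
  have a1 := UV1.R2 h ha lin hx hn h1
  refine mem_N_of_le_cj fun c hc => mem_cj.2 (h.mem_CT.2 ⟨mul_mem (mul_mem (inv_mem hx)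
    (UV1.le_P h hc)) hx, ?_⟩)
  have cP := UV1.le_P h hc
  obtain ⟨r, hr, a2⟩ := UV1.conj_rf a1 (by rw [UV1.Qa K _ ha]; exact one_ne_zero)
    (h.P_N (UV1.le_P h h1)) (h.P_N cP)
  have m := mul_mem (mul_mem hc h1) (inv_mem hc)
  rcases UV1.R1 h ha lin m hr a2 with e | e
  · refine (hn (h.mem_CT.2 ⟨hx, ?_⟩)).elim
    have e1 := conj_mem' (h.P_N cP) e
    have e2 := (h.mem_CT.1 (inv_mem hc)).2
    convert mul_mem e1 e2 using 1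
    rw [show c⁻¹ * (c * (x * t * x⁻¹) * c⁻¹ * t) * c * (c⁻¹ * t * c⁻¹⁻¹ * t) =
      x * t * x⁻¹ * c⁻¹ * (t * t) * c * t by group, h.tt]
    group
  · have := conj_mem' (h.P_N hx) (UV1.ker2 h (UV1.le_P h m) (UV1.le_P h h1) e a1 (UV1.rf_rf K _))
    convert this using 1
    group

theorem UV1.P_N : P ≤ N[Y.CT P] := by
  by_contra hn
  have lt : P ⊓ N[Y.CT P] < P := lt_of_le_of_ne inf_le_left fun e => hn (inf_eq_left.1 e)
  obtain ⟨y, hy, yn⟩ := SetLike.exists_of_lt ((h.piP.nil Nat.prime_two).proper_norm lt)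
  have rN : y * t * y⁻¹ ∈ P ⊓ N[Y.CT P] := conj_mem hy.2 ⟨h.t_mem, norm_self _ (UV1.t_CT h)⟩
  by_cases hr : y * t * y⁻¹ ∈ Y.CT P
  · exact yn ⟨hy.1, UV1.R3 h ha lin hy.1 hr⟩
  obtain ⟨r, r0, a1⟩ := UV1.conj_t (h.P_N hy.1)
  have a2 := UV1.R2 h ha lin rN.1 hr (conj_mem rN.2 (UV1.t_CT h))
  exact UV1.no_swap K r0
    ((C3D.ac_t.rf_conj (by rw [UV1.Qe]; exact one_ne_zero) Y.t_N (h.P_N rN.1) a1).uniq a2)

end sw

theorem Env.exists_pc (h : Env X G0 t D Y.P P) (hD : Y.P ≤ C[D]) : ∃ a, PC Y G0 D P a := by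
  obtain ⟨a, ha, h2⟩ := UV1.exists_a h
  have lin := fun x hx hz => UV1.lin (x := x) h ha h2 hx hz
  exact ⟨a, h, hD, ha, lin, fun x hx hn =>
    UV1.R2 h ha lin hx hn (conj_mem (UV1.P_N h ha lin hx) (UV1.t_CT h))⟩

theorem PC.sqZ (h : PC Y G0 D P a) (hx : x ∈ Y.CT P) (xx : x * x ∈ Y.P) : x ∈ C[X.Z] := by
  obtain ⟨b, hb, hy⟩ := h.toEnv.fix (h.toEnv.mem_CT.1 hx).1 (h.toEnv.mem_CT.1 hx).2
  have y0 : b * x * (b * x) ∈ Y.P := by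
    rw [show b * x * (b * x) = b * (x * b * x⁻¹) * (x * x) by group]
    exact mul_mem (mul_mem hb (conj_mem (h.toEnv.P_N (UV1.le_P h.toEnv hx)) hb)) xx
  have yy : b * x * (b * x) ∈ X.S := h.ct ⟨y0, mul_mem hy.2 hy.2⟩
  have yN := h.T_S hy
  have := X.Z_χ yN (h.toEnv.piP.piElt hy.1) (K.aut_sq (by
    rw [← X.χ_mul yN yN, X.χ_L (X.S_le yy) (mul_mem yN yN)]))
  exact (mul_mem_cancel_left (Y.zc hb)).1 this

theorem PC.sw' (h : PC Y G0 D P a) (hx : x ∈ P) (hn : x ∉ Y.CT P) (hy : y ∈ P)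
    (h1 : Y.Ac y (K.rf Y.n (a, 0, 0))) : x * y * x⁻¹ * t ∈ Y.P := by
  have a1 := h.sw x⁻¹ (inv_mem hx) fun e => hn (inv_mem_iff.1 e)
  have := conj_mem (h.toEnv.P_N hx) (UV1.ker2 h.toEnv hy (mul_mem (mul_mem (inv_mem hx) h.t_mem)
    (inv_mem (inv_mem hx))) h1 a1 (UV1.rf_rf K _))
  convert this using 1
  group

theorem PC.idx (h : PC Y G0 D P a) (hx : x ∈ P) (hy : y ∈ P) (h1 : x ∉ Y.CT P) (h2 : y ∉ Y.CT P) :
    x * y ∈ Y.CT P := by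
  refine h.toEnv.mem_CT.2 ⟨mul_mem hx hy, ?_⟩
  convert h.sw' hx h1 (mul_mem (mul_mem hy h.t_mem) (inv_mem hy)) (h.sw y hy h2) using 1
  group

theorem UV1.fix_e (h : Env X G0 t D Y.P P) (hy : y ∈ P) (h1 : Y.Ac y φ) (e : φ (0, 1, 0) = (0, 1, 0)) :
    y ∈ Y.CT P := by
  have a1 := C3D.ac_t.rf_conj (by rw [UV1.Qe]; exact one_ne_zero) Y.t_N (h.P_N hy) h1
  rw [e] at a1
  exact h.mem_CT.2 ⟨hy, UV1.ker2 h (mul_mem (mul_mem hy h.t_mem) (inv_mem hy)) h.t_mem a1 C3D.ac_t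
    (UV1.rf_rf K _)⟩

theorem PC.rf_CT (h : PC Y G0 D P a) (hy : y ∈ P) (h1 : Y.Ac y (K.rf Y.n (a, 0, 0))) :
    y ∈ Y.CT P := UV1.fix_e h.toEnv hy h1 (UV1.rfa_e K h.na)

theorem PC.ts_CT (h : PC Y G0 D P a) (hy : y ∈ P) (h1 : Y.Ac y (K.ts Y.n a)) : y ∈ Y.CT P :=
  UV1.fix_e h.toEnv hy h1 (UV1.ts_e K h.na)

theorem PC.dd_a (h : PC Y G0 D P a) (hx : x ∈ P) (hn : x ∉ Y.CT P) (hy : y ∈ P)
    (h1 : Y.Ac y (K.rf Y.n (a, 0, 0))) (yy : y * y = 1) : DD t y := by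
  obtain ⟨b, -, e⟩ := h.toEnv.ddB (h.sw' hx hn hy h1) (by
    rw [show x * y * x⁻¹ * (x * y * x⁻¹) = x * (y * y) * x⁻¹ by group, yy]; group)
  exact ⟨x⁻¹ * b, by
    rw [show x⁻¹ * b * t * (x⁻¹ * b)⁻¹ = x⁻¹ * (b * t * b⁻¹) * x by group, ← e]; group⟩
end


end H2.U3
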