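import Mathlib
import Cfsg.Agent.H2.UDefs
import Cfsg.Agent.H2.UV1

set_option autoImplicit false
set_option linter.unusedVariables false
set_option linter.unusedSectionVars false

namespace H2.U3

open Cfsg H24 Subgroup
open H2.SZ (St DD Goal)
open H2.C2 (Cl2)

universe u v

variable {G : Type u} [Group G] [Finite G] {E F : Type*} [Field E] [Fintype E] [Field F] [Fintype F]
  [Algebra E F] {K : UF E F} {L G0 D P P0 Q R A B C H T M W W1 W2 Z1 Z2 : Subgroup G}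
  {t g s f x y i v p : G} {X : UD K L} {a k : F} {b : E} {ρ : F ≃+* F}

local notation "𝐪" => Fintype.card E

/-! ### UV1b -/

theorem UV1b.cnt {ι : Type*} [Fintype ι] (c : ι → G → Prop) (cov : ∀ x ∈ A, ∃ i, c i x)
    (eq : ∀ i, ∀ x ∈ A, ∀ y ∈ A, c i x → c i y → x⁻¹ * y ∈ H) : H.relIndex A ≤ Fintype.card ι := by
  choose f hf using cov
  rw [← Nat.card_eq_fintype_card]
  refine Nat.card_le_card_of_injective (fun q : A ⧸ H.subgroupOf A => f q.out q.out.2) fun q q' e => ?_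
  rw [← q.out_eq, ← q'.out_eq]
  refine QuotientGroup.eq.2 (mem_subgroupOf.2 ?_)
  have e' : f q.out q.out.2 = f q'.out q'.out.2 := e
  exact eq _ _ q.out.2 _ q'.out.2 (hf _ q.out.2) (e' ▸ hf _ q'.out.2)

theorem UV1b.fix_ts (K : UF E F) {n : E} (ha : K.nm a = 1) {v : F × E × E} (h : K.ts n a v = v) :
    (∃ r, v = r + K.ts n a r) ∧ ∃ e η : E, v = (e • a, η, 0) := by
  obtain ⟨c, η, ξ⟩ := v
  rw [K.ts_eq n ha] at h
  simp only [Prod.mk.injEq, add_eq_left, smul_eq_zero, or_iff_left (UV1.a0 K ha), and_true] at h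
  obtain ⟨h1, rfl⟩ := h
  obtain ⟨e, rfl⟩ := (K.B_eq_zero (UV1.a0 K ha)).1 h1
  obtain ⟨c, hc⟩ := UV1.ex_B K ha e
  refine ⟨⟨(c, 0, η), ?_⟩, e, η, rfl⟩
  rw [K.ts_eq n ha]
  simp [hc, ← add_assoc, K.addF, K.addE]

theorem UV1b.ts_ne (K : UF E F) {n : E} (ha : K.nm a = 1) (h : ∀ v, K.ts n a v = v) : False := by
  have := h (0, 0, 1)
  rw [K.ts_eq n ha] at this
  simpa using congrArg (fun v => v.2.1) this

theorem UV1b.ts_ts (K : UF E F) {n : E} (ha : K.nm a = 1) (v : F × E × E) :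
    K.ts n a (K.ts n a v) = v := by
  rw [K.ts_eq n ha, K.ts_eq n ha]
  simp [K.B_add_left, K.B_smul_left, K.B_self, add_assoc, K.addF, K.addE]

theorem UV1b.ae (K : UF E F) {n : E} (ha : K.nm a = 1) (v : F × E × E) :
    K.rf n (a, 0, 0) (K.rf n (0, 1, 0) v) = K.ts n a v := by
  rw [K.ts_eq n ha, K.rf_e, K.rf_a n ha]

section
variable {Y : C3D X t} {φ : F × E × E → F × E × E}

theorem UV1b.same (h : Env X G0 t D Y.P P) (hx : x ∈ P) (hy : y ∈ P) (h1 : Y.Ac x φ) (h2 : Y.Ac y φ) :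
    x⁻¹ * y ∈ Y.P := by
  obtain ⟨ψ, -, -, -, hb, h3, -⟩ := Y.exists_ac (h.P_N hx)
  refine h.ker3 (mul_mem (inv_mem hx) hy) fun p hp => hb.1 ?_
  have m : x⁻¹ * y * p * (x⁻¹ * y)⁻¹ ∈ Y.P := conj_mem (h.P_N (mul_mem (inv_mem hx) hy)) hp
  rw [← h3 _ m, id, ← h1.uniq h3, ← h2 p hp]
  congr 1
  group

theorem UV1b.cntφ {ι : Type*} [Fintype ι] (h : Env X G0 t D Y.P P) (h1 : A ≤ P)
    (c : ι → F × E × E → F × E × E) (cov : ∀ x ∈ A, ∃ i, Y.Ac x (c i)) :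
    Y.P.relIndex A ≤ Fintype.card ι :=
  UV1b.cnt (fun i x => Y.Ac x (c i)) cov fun i x hx y hy => UV1b.same h (h1 hx) (h1 hy)

theorem PC.Q4 (h : PC Y G0 D P a) (h1 : A ≤ P) (h2 : ∀ x ∈ A, x * x ∈ Y.P) :
    Y.P.relIndex A ≤ 2 ∨ Y.P.relIndex A = 4 ∧ ∃ y ∈ A, Y.Ac y (K.ts Y.n a) := by
  have hE := h.toEnv
  have cls : ∀ x ∈ A, x ∈ Y.CT P → Y.Ac x id ∨ (x * t ∈ Y.P ∧ Y.Ac x (K.rf Y.n (0, 1, 0))) ∨
      Y.Ac x (K.rf Y.n (a, 0, 0)) ∨ Y.Ac x (K.ts Y.n a) := fun x hx hc =>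
    (h.lin x hc (h.sqZ hc (h2 x hx))).imp C3D.ac_P (Or.imp_left fun e => ⟨e, UV1.ac_t hE e⟩)
  have fin : (∃ y ∈ A, Y.Ac y (K.ts Y.n a)) → Y.P.relIndex A ≤ 4 →
      Y.P.relIndex A ≤ 2 ∨ Y.P.relIndex A = 4 ∧ ∃ y ∈ A, Y.Ac y (K.ts Y.n a) := fun hy le => by
    have n3 : Y.P.relIndex A ≠ 3 := fun e => by
      have := ((hE.piP.of_le h1).relIndex Y.P) 3 Nat.prime_three (e ▸ dvd_rfl)
      simp at this
    by_cases e : Y.P.relIndex A = 4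
    · exact .inr ⟨e, hy⟩
    · exact .inl (by omega)
  by_cases hC : ∀ x ∈ A, x ∈ Y.CT P
  · by_cases hy : ∃ y ∈ A, Y.Ac y (K.ts Y.n a)
    · refine fin hy (UV1b.cntφ hE h1 ![id, K.rf Y.n (0, 1, 0), K.rf Y.n (a, 0, 0), K.ts Y.n a]
        fun x hx => ?_)
      rcases cls x hx (hC x hx) with e | e | e | e
      exacts [⟨0, e⟩, ⟨1, e.2⟩, ⟨2, e⟩, ⟨3, e⟩]
    left
    by_cases hz : ∃ y ∈ A, Y.Ac y (K.rf Y.n (a, 0, 0))
    · obtain ⟨y, yA, ey⟩ := hz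
      refine UV1b.cntφ hE h1 ![id, K.rf Y.n (a, 0, 0)] fun x hx => ?_
      rcases cls x hx (hC x hx) with e | e | e | e
      exacts [⟨0, e⟩, (hy ⟨_, mul_mem hx yA, e.2.mul ey (hE.P_N (h1 yA))⟩).elim, ⟨1, e⟩,
        (hy ⟨x, hx, e⟩).elim]
    · refine UV1b.cntφ hE h1 ![id, K.rf Y.n (0, 1, 0)] fun x hx => ?_
      rcases cls x hx (hC x hx) with e | e | e | e
      exacts [⟨0, e⟩, ⟨1, e.2⟩, (hz ⟨x, hx, e⟩).elim, (hy ⟨x, hx, e⟩).elim]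
  push Not at hC
  obtain ⟨x0, xA, xn⟩ := hC
  have xP := h1 xA
  have cls' : ∀ y ∈ A, y ∈ Y.CT P → Y.Ac y id ∨ Y.Ac y (K.ts Y.n a) := fun y hy hc => by
    have yP := h1 hy
    have m : x0 * y * x0⁻¹ * y ∈ Y.P := by
      rw [show x0 * y * x0⁻¹ * y = x0 * y * (x0 * y) * (y⁻¹ * (x0 * x0)⁻¹ * y) by group]
      exact mul_mem (h2 _ (mul_mem xA hy)) (conj_mem' (hE.P_N yP) (inv_mem (h2 _ xA)))
    rcases cls y hy hc with e | e | e | e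
    · exact .inl e
    · have a1 := (C3D.ac_P (conj_mem (hE.P_N xP) e.1)).mul (h.sw x0 xP xn)
        (hE.P_N (mul_mem (mul_mem xP h.t_mem) (inv_mem xP)))
      rw [show x0 * (y * t) * x0⁻¹ * (x0 * t * x0⁻¹) = x0 * y * (t * t) * x0⁻¹ by group, h.tt,
        mul_one] at a1
      exact (UV1b.ts_ne K h.na fun v => (UV1b.ae K h.na v).symm.trans
        ((a1.mul e.2 (hE.P_N yP)).uniq (C3D.ac_P m) v)).elim
    · exact (UV1b.ts_ne K h.na (((UV1.ac_t hE (h.sw' xP xn yP e)).mul e (hE.P_N yP)).uniq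
        (C3D.ac_P m))).elim
    · exact .inr e
  obtain ⟨φ, -, -, -, -, a0, -⟩ := Y.exists_ac (hE.P_N xP)
  have out : ∀ x ∈ A, x ∉ Y.CT P → x0⁻¹ * x ∈ Y.CT P := fun x hx hn =>
    h.idx (inv_mem xP) (h1 hx) (fun e => xn (inv_mem_iff.1 e)) hn
  have lift : ∀ x ∈ A, ∀ ψ, Y.Ac (x0⁻¹ * x) ψ → Y.Ac x fun v => φ (ψ v) := fun x hx ψ e => by
    have := a0.mul e (hE.P_N (mul_mem (inv_mem xP) (h1 hx)))
    rwa [mul_inv_cancel_left] at this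
  by_cases hy : ∃ y ∈ A, Y.Ac y (K.ts Y.n a)
  · refine fin hy (UV1b.cntφ hE h1 ![id, K.ts Y.n a, φ, fun v => φ (K.ts Y.n a v)] fun x hx => ?_)
    by_cases hc : x ∈ Y.CT P
    · rcases cls' x hx hc with e | e
      exacts [⟨0, e⟩, ⟨1, e⟩]
    · rcases cls' _ (mul_mem (inv_mem xA) hx) (out x hx hc) with e | e
      exacts [⟨2, lift x hx _ e⟩, ⟨3, lift x hx _ e⟩]
  · refine .inl (UV1b.cntφ hE h1 ![id, φ] fun x hx => ?_)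
    by_cases hc : x ∈ Y.CT P
    · exact ⟨0, (cls' x hx hc).resolve_right fun e => hy ⟨x, hx, e⟩⟩
    · exact ⟨1, lift x hx _ ((cls' _ (mul_mem (inv_mem xA) hx) (out x hx hc)).resolve_right
        fun e => hy ⟨_, mul_mem (inv_mem xA) hx, e⟩)⟩

theorem PC.Q8 (h : PC Y G0 D P a) (h1 : A ≤ P) (h2 : A ⊓ Y.P ≤ H) (h3 : ∀ x ∈ A, x * x ∈ H) :
    H.relIndex A ≤ 8 := by
  have hE := h.toEnv
  obtain ⟨x0, xA, hx0⟩ : ∃ x0 ∈ A, ∀ x ∈ A, x ∈ Y.CT P ∨ x0⁻¹ * x ∈ Y.CT P := by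
    by_cases hC : ∀ x ∈ A, x ∈ Y.CT P
    · exact ⟨1, one_mem _, fun x hx => .inl (hC x hx)⟩
    push Not at hC
    obtain ⟨x0, xA, xn⟩ := hC
    exact ⟨x0, xA, fun x hx => or_iff_not_imp_left.2 fun hn =>
      h.idx (inv_mem (h1 xA)) (h1 hx) (fun e => xn (inv_mem_iff.1 e)) hn⟩
  obtain ⟨y0, yA, hy0⟩ : ∃ y0 ∈ A, ∀ x ∈ A, x * t ∈ Y.P → y0⁻¹ * x ∈ Y.P := by
    by_cases hC : ∃ y ∈ A, y * t ∈ Y.P
    · obtain ⟨y, yA, e⟩ := hC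
      refine ⟨y, yA, fun x hx e' => ?_⟩
      rw [show y⁻¹ * x = t * ((y * t)⁻¹ * (x * t)) * t⁻¹ by group]
      exact conj_mem Y.t_N (mul_mem (inv_mem e) e')
    · exact ⟨1, one_mem _, fun x hx e => (hC ⟨x, hx, e⟩).elim⟩
  obtain ⟨φ, hφ, -⟩ := hE.exists_χ
  haveI := K.cyc_F
  obtain ⟨⟨_, g, gA, rfl⟩, hg⟩ := IsCyclic.exists_generator (α := (A.subgroupOf _).map φ)
  have gA : (g : G) ∈ A := gA
  have s2 : ∀ x ∈ A, x ∈ Y.CT P → ∃ (j k : Fin 2), (y0 ^ (k : ℕ) * (g : G) ^ (j : ℕ))⁻¹ * x ∈ H :=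
    fun x hx hc => by
    obtain ⟨n, hn⟩ := mem_zpowers_iff.1 (hg ⟨φ ⟨x, hc⟩, ⟨x, hc⟩, hx, rfl⟩)
    have e : φ (⟨x, hc⟩ * (g ^ n)⁻¹) = 1 := by
      rw [map_mul, map_inv, map_zpow, mul_inv_eq_one]
      exact (congrArg Subtype.val hn).symm
    have m : x * ((g : G) ^ n)⁻¹ ∈ A := mul_mem hx (inv_mem (zpow_mem gA n))
    obtain ⟨k, hk⟩ : ∃ k : Fin 2, (y0 ^ (k : ℕ))⁻¹ * (x * ((g : G) ^ n)⁻¹) ∈ Y.P := by
      rcases (hφ _).1 e with e | e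
      · exact ⟨0, by simpa using e⟩
      · exact ⟨1, by simpa using hy0 _ m e⟩
    have m2 : ((g : G) ^ n)⁻¹ * ((y0 ^ (k : ℕ))⁻¹ * (x * ((g : G) ^ n)⁻¹)) * (g : G) ^ n ∈ H :=
      h2 (mem_inf.2 ⟨mul_mem (mul_mem (inv_mem (zpow_mem gA n)) (mul_mem (inv_mem (pow_mem yA _)) m))
        (zpow_mem gA n), conj_mem' (hE.P_N (h1 (zpow_mem gA n))) hk⟩)
    obtain ⟨l, rfl | rfl⟩ := Int.even_or_odd' n
    · refine ⟨0, k, ?_⟩
      convert mul_mem (h3 _ (zpow_mem gA l)) m2 using 1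
      simp only [Fin.val_zero, pow_zero]
      group
    · refine ⟨1, k, ?_⟩
      convert mul_mem (h3 _ (zpow_mem gA l)) m2 using 1
      simp only [Fin.val_one, pow_one]
      group
  refine (UV1b.cnt (ι := Fin 2 × Fin 2 × Fin 2) (fun i x =>
    (y0 ^ (i.2.2 : ℕ) * (g : G) ^ (i.2.1 : ℕ))⁻¹ * ((x0 ^ (i.1 : ℕ))⁻¹ * x) ∈ H) (fun x hx => ?_)
    fun i x _ y _ e e' => ?_).trans (by simp)
  · rcases hx0 x hx with e | e
    · obtain ⟨j, k, e⟩ := s2 x hx e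
      exact ⟨(0, j, k), by simpa using e⟩
    · obtain ⟨j, k, e⟩ := s2 _ (mul_mem (inv_mem xA) hx) e
      exact ⟨(1, j, k), by simpa using e⟩
  · convert mul_mem (inv_mem e) e' using 1
    group

theorem UV1b.ts_f (h : PC Y G0 D P a) (hy : y ∈ P) (h1 : Y.Ac y (K.ts Y.n a)) (yy : y * y ∈ X.Z) :
    ∃ b ∈ Y.P, ∃ f ∈ P ⊓ C{t}, y = f * b ∧ f * f = 1 ∧ X.χ f = K.σ ∧ Y.Ac f (K.ts Y.n a) ∧
      ∃ r, Y.π b = r + K.ts Y.n a r := by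
  have hE := h.toEnv
  obtain ⟨b, hb, f, hf, rfl, ff, e, -⟩ := hE.out (h.ts_CT hy h1) (Y.Z_le yy)
    (fun e => UV1b.ts_ne K h.na (h1.uniq (C3D.ac_P e)))
    fun e => UV1.ts_rf K h.na ((UV1.ac_t hE e).uniq h1)
  have a1 : Y.Ac f (K.ts Y.n a) := by
    have := h1.mul (C3D.ac_P (inv_mem hb)) (norm_self _ (inv_mem hb))
    rwa [mul_inv_cancel_right] at this
  refine ⟨b, hb, f, hf, rfl, ff, e, a1, (UV1b.fix_ts K h.na ?_).1⟩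
  obtain ⟨c, hc⟩ := X.mem_Z.1 yy
  have e1 : f * (f * b * f⁻¹ * b) * f⁻¹ = f * f * b * (f * f)⁻¹ * (f * b * f⁻¹) := by group
  have e2 : f * b * f⁻¹ * b = X.z c := by
    rw [← hc, inv_eq_of_mul_eq_one_right ff]; group
  have e3 := Y.π_mul _ (conj_mem (hE.P_N hf.1) hb) b hb
  rw [e2, Y.π_z, a1 b hb] at e3
  rw [← add_zero (K.ts Y.n a (Y.π b)), ← K.addV (Y.π b), ← add_assoc, ← e3, zero_add]

theorem PC.ts_sq (h : PC Y G0 D P a) (hy : y ∈ P) (h1 : Y.Ac y (K.ts Y.n a)) (yy : y * y ∈ X.Z) :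
    y * y = 1 := by
  obtain ⟨b, hb, f, hf, rfl, ff, -, a1, r, hr⟩ := UV1b.ts_f h hy h1 yy
  have fN := h.toEnv.P_N hf.1
  have := a1.inv fN (a1.zc fN (UV1.Q_ts K h.na)) (ff ▸ one_mem _) hb hr
  rw [inv_eq_of_mul_eq_one_right ff] at this
  rw [show f * b * (f * b) = f * b * f * b by group, this, inv_mul_cancel]

theorem PC.ts_C (h : PC Y G0 D P a) (hy : y ∈ P) (h1 : Y.Ac y (K.ts Y.n a)) (yy : y * y = 1) :
    Y.P ⊓ C{y} = Y.J a := by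
  have yN := h.toEnv.P_N hy
  have inv : ∀ p ∈ Y.P, K.ts Y.n a (Y.π p) = Y.π p → y * p * y⁻¹ = p⁻¹ := fun p hp e => by
    obtain ⟨r, hr⟩ := (UV1b.fix_ts K h.na e).1
    exact h1.inv yN (h1.zc yN (UV1.Q_ts K h.na)) (yy ▸ one_mem _) hp hr
  ext p
  constructor
  · rintro ⟨hp, hc⟩
    have e1 : y * p * y⁻¹ = p := mem_C1_iff_conj.1 (mem_C1_comm.1 hc)
    have e2 : K.ts Y.n a (Y.π p) = Y.π p := by rw [← h1 p hp, e1]
    have e3 := Y.sq p hp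
    rw [show p * p = 1 by rw [← mul_inv_cancel p, ← inv p hp e2, e1], eq_comm, X.z_eq_one] at e3
    obtain ⟨e, η, hv⟩ := (UV1b.fix_ts K h.na e2).2
    refine Y.mem_J.2 ⟨hp, e, ?_⟩
    rw [hv] at e3 ⊢
    obtain rfl : η = e := K.sq_inj (by
      simp only [UF.Qv, K.nm_smul, h.na] at e3
      linear_combination e3 - e ^ 2 * K.two)
    simp
  · intro hj
    obtain ⟨hp, e, he⟩ := Y.mem_J.1 hj
    refine ⟨hp, mem_C1_comm.1 (mem_C1_iff_conj.2 ?_)⟩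
    rw [inv p hp, inv_eq_of_mul_eq_one_right ((Y.card_J h.na).2.2 p hj)]
    rw [he, K.ts_eq _ h.na]
    simp [K.B_smul_left, K.B_self]

theorem PC.ts_out (h : PC Y G0 D P a) (hy : y ∈ P) (h1 : Y.Ac y (K.ts Y.n a)) (yy : y * y = 1) :
    ∃ p, p * y * p⁻¹ ∈ N[X.S] ⊓ C{t} ∧ X.χ (p * y * p⁻¹) = K.σ := by
  obtain ⟨b, hb, f, hf, rfl, ff, e, a1, r, hr⟩ := UV1b.ts_f h hy h1 (yy ▸ one_mem _)
  obtain ⟨p, hp, rfl⟩ := Y.π_surj r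
  have m := conj_mem (h.toEnv.P_N hf.1) hp
  have z : f * p * f⁻¹ * b * p⁻¹ ∈ X.Z := Y.π_ker _ (mul_mem (mul_mem m hb) (inv_mem hp)) (by
    rw [Y.π_mul _ (mul_mem m hb) _ (inv_mem hp), Y.π_mul _ m _ hb, Y.π_inv hp, a1 p hp, hr,
      add_comm (Y.π p), ← add_assoc, K.addV, zero_add, K.addV])
  have e1 : p * (f * b) * p⁻¹ = f * (f * p * f⁻¹ * b * p⁻¹) := by
    rw [inv_eq_of_mul_eq_one_right ff, show f * (f * p * f * b * p⁻¹) = f * f * p * f * b * p⁻¹ by group,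
      ff]
    group
  have zS := X.Z_le_S z
  refine ⟨p, ?_, ?_⟩ <;> rw [e1]
  · exact mul_mem ⟨h.T_S hf, hf.2⟩ ⟨norm_self _ zS, mem_C1.2 (h.toSc.tu (X.S_le zS))⟩
  · rw [X.χ_mul (h.T_S hf) (norm_self _ zS), e, X.χ_L (X.S_le zS) (norm_self _ zS), mul_one]
end


end H2.U3
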