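import Mathlib
import Cfsg.Agent.H2.UDefs
import Cfsg.Agent.H2.UV1b

set_option autoImplicit false
set_option linter.unusedVariables false
set_option linter.unusedSectionVars false

namespace H2.U3

open Cfsg H24 Subgroup
open H2.SZ (St DD Goal)
open H2.C2 (Cl2)

universe u v

variable {G : Type u} [Group G] [Finite G] {E F : Type*} [Field E] [Fintype E] [Field F] [Fintype F]
  [Algebra E F] {K : UF E F} {L G0 D P P0 Q R A B C H T M W W1 W2 Z1 Z2 : Subgroup G}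
  {t g s f x y i v p : G} {X : UD K L} {a k : F} {b : E} {ρ : F ≃+* F}

local notation "𝐪" => Fintype.card E

theorem uv1c_fam {ι : Type*} [Finite ι] (f : ι → G) (hf : ∀ i, f i ∈ B)
    (h : ∀ i j, (f i)⁻¹ * f j ∈ A → i = j) : Nat.card ι ≤ A.relIndex B :=
  Nat.card_le_card_of_injective (fun i => ((⟨f i, hf i⟩ : B) : B ⧸ A.subgroupOf B))
    fun i j e => h i j
      ((QuotientGroup.eq (s := A.subgroupOf B) (a := ⟨f i, hf i⟩) (b := ⟨f j, hf j⟩)).1 e)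

theorem uv1c_cyc {A0 : Type*} [Group A0] [hA0 : IsCyclic A0] (φ : M →* A0) (h1 : H ≤ M)
    (h2 : ∀ x (hx : x ∈ H), φ ⟨x, h1 hx⟩ = 1 → x ∈ R) (h3 : ∀ x ∈ H, x * x ∈ R) :
    R.relIndex H ≤ 2 := by
  let ψ : H →* A0 := φ.comp (inclusion h1)
  obtain ⟨⟨_, x0, rfl⟩, h0⟩ := IsCyclic.exists_generator (α := ψ.range)
  refine Nat.le_of_dvd two_pos (relIndex_dvd_two_iff.2 ⟨x0⁻¹, inv_mem x0.2, fun b hb => ?_⟩)
  obtain ⟨n, hn⟩ := h0 ⟨ψ ⟨b, hb⟩, _, rfl⟩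
  have e : ψ (⟨b, hb⟩ * (x0 ^ n)⁻¹) = 1 := by
    rw [map_mul, map_inv, map_zpow, mul_inv_eq_one]
    exact (congrArg Subtype.val hn).symm
  have m : b * ((x0 : G) ^ n)⁻¹ ∈ R := h2 _ (⟨b, hb⟩ * (x0 ^ n)⁻¹ : H).2 e
  have s : ∀ k : ℤ, (x0 : G) ^ (2 * k) ∈ R := fun k => by
    rw [zpow_mul, zpow_two]; exact zpow_mem (h3 _ x0.2) k
  obtain ⟨k, rfl | rfl⟩ := Int.even_or_odd' n
  · right
    simpa using mul_mem m (s k)
  · left
    have := mul_mem m (s k)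
    rwa [show b * ((x0 : G) ^ (2 * k + 1))⁻¹ * (x0 : G) ^ (2 * k) = b * (x0 : G)⁻¹ by group] at this

theorem uv1c_comm {a b : G} (h : A ≤ C[H]) (hx : x ∈ H) (hy : y ∈ H) (ha : a ∈ A) (hb : b ∈ A)
    (hA : A ≤ H) : x * a * (y * b) * (x * a)⁻¹ * (y * b)⁻¹ = x * y * x⁻¹ * y⁻¹ := by
  have e1 : a * (y * b) = y * b * a := comm_of_cent h ha (mul_mem hy (hA hb))
  have e2 : b * x⁻¹ = x⁻¹ * b := comm_of_cent h hb (inv_mem hx)
  calc x * a * (y * b) * (x * a)⁻¹ * (y * b)⁻¹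
      = x * (a * (y * b)) * a⁻¹ * x⁻¹ * (y * b)⁻¹ := by group
    _ = x * y * (b * x⁻¹) * b⁻¹ * y⁻¹ := by rw [e1]; group
    _ = _ := by rw [e2]; group

theorem uv1c_iso (h : Spc H A Z1) (h1 : R ≤ H)
    (h3 : ∀ x ∈ R, ∀ y ∈ R, x * y * x⁻¹ * y⁻¹ ∈ Z2) (h4 : ¬ Z1 ≤ Z2) :
    A.relIndex (R ⊔ A) ^ 2 ≤ A.relIndex H := by
  have hn : A ≤ N[R] := norm_of_cent (cents_of_le h.cen h1)
  refine h.iso le_sup_right (sup_le h1 h.A_le) (fun x hx y hy => ?_) h4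
  obtain ⟨x', hx', a', ha', e1⟩ := (mem_sup_of_norm hn).1 hx
  obtain ⟨y', hy', b', hb', e2⟩ := (mem_sup_of_norm hn).1 hy
  rw [e1, e2, uv1c_comm h.cen (h1 hx') (h1 hy') ha' hb' h.A_le]
  exact h3 x' hx' y' hy'

theorem uv1c_ac {Y : C3D X t} (tt : t * t = 1) (h1 : y * t ∈ Y.P) : Y.Ac y (K.rf Y.n (0, 1, 0)) := by
  have := (C3D.ac_P h1).mul C3D.ac_t Y.t_N
  rwa [mul_assoc, tt, mul_one] at this

/-! ### UV1c -/

section
variable {Y : C3D X t}
theorem PC.keyA (h : PC Y G0 D P a) (h1 : H ≤ Y.CT P) (h2 : Spc H A Z1) (h3 : A.relIndex H = 𝐪 ^ 2) :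
    Z1 ≤ X.Z := by
  by_contra hn
  obtain ⟨φ, hφ, -⟩ := h.toEnv.exists_χ
  have HN : H ≤ N[Y.P] := h1.trans (sup_le (norm_self _) (inf_le_left.trans h.toEnv.P_N))
  have hQ : K.Qv Y.n (0, 1, 0) ≠ 0 := by simp [UF.Qv, K.nm_zero]
  have k1 : ∀ x ∈ H, ∀ p ∈ H, x * t ∈ Y.P → p ∈ Y.P → x * p * x⁻¹ * p⁻¹ ∈ X.Z :=
    fun x hx p hp e1 e2 => (uv1c_ac h.tt e1).rf_comm hQ (HN hx) e2
      (h2.el _ (h2.Z_le (h2.comm hx hp)))
  have mem : ∀ x, x ∈ H ⊓ φ.ker.map (Subgroup.subtype _) → x ∈ Y.P ∨ x * t ∈ Y.P := by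
    rintro _ ⟨-, x, hx, rfl⟩
    exact (hφ x).1 hx
  have i1 := uv1c_iso (R := H ⊓ φ.ker.map (Subgroup.subtype _)) (Z2 := X.Z) h2 inf_le_left
    (fun x hx y hy => by
      rcases mem x hx with e1 | e1 <;> rcases mem y hy with e2 | e2
      · exact Y.spc.comm e1 e2
      · have := inv_mem (k1 y hy.1 x hx.1 e2 e1)
        rwa [show (y * x * y⁻¹ * x⁻¹)⁻¹ = x * y * x⁻¹ * y⁻¹ by group] at this
      · exact k1 x hx.1 y hy.1 e1 e2
      · have := k1 x hx.1 (y * x⁻¹) (mul_mem hy.1 (inv_mem hx.1)) e1 (by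
          have := mul_mem e2 (inv_mem e1)
          rwa [show y * t * (x * t)⁻¹ = y * x⁻¹ by group] at this)
        rwa [show x * (y * x⁻¹) * x⁻¹ * (y * x⁻¹)⁻¹ = x * y * x⁻¹ * y⁻¹ by group] at this) hn
  have i2 := uv1c_cyc (A0 := F ≃+* F) (R := H ⊓ φ.ker.map (Subgroup.subtype _) ⊔ A)
    (hA0 := K.cyc_F) φ h1 (fun x hx e => mem_sup_left ⟨hx, _, e, rfl⟩)
    fun x hx => mem_sup_right (h2.Z_le (h2.sq x hx))
  have i3 := relIndex_mul_relIndex A _ H (le_sup_right : A ≤ H ⊓ φ.ker.map (Subgroup.subtype _) ⊔ A)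
    (sup_le inf_le_left h2.A_le)
  rw [h3] at i1 i3
  have i4 := (pow_le_pow_iff_left₀ (Nat.zero_le _) (Nat.zero_le _) two_ne_zero).1 i1
  have := K.four
  have := Nat.mul_le_mul i4 i2
  nlinarith

theorem PC.wc (h : PC Y G0 D P a) (g : G) (h1 : cj g Y.P ≤ P) : cj g Y.P = Y.P := by
  have sp := Y.spc.cj g
  have four := K.four
  have hZ : cj g X.Z = X.Z := by
    refine eq_of_le_of_card_ge (by_contra fun hn => ?_) (card_cj g _).ge
    have i1 := uv1c_iso (R := cj g Y.P ⊓ Y.P) (Z2 := X.Z) sp inf_le_left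
      (fun x hx y hy => Y.spc.comm hx.2 hy.2) hn
    have i2 := h.Q8 (H := cj g Y.P ⊓ Y.P ⊔ cj g X.Z) h1 le_sup_left
      fun x hx => mem_sup_right (sp.sq x hx)
    have i3 := relIndex_mul_relIndex (cj g X.Z) _ (cj g Y.P)
      (le_sup_right : _ ≤ cj g Y.P ⊓ Y.P ⊔ cj g X.Z) (sup_le inf_le_left sp.A_le)
    rw [relIndex_cj, Y.idx_Z] at i1 i3
    rw [show 𝐪 ^ 4 = (𝐪 ^ 2) ^ 2 by ring] at i1 i3
    have i4 := (pow_le_pow_iff_left₀ (Nat.zero_le _) (Nat.zero_le _) two_ne_zero).1 i1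
    have := Nat.mul_le_mul i4 i2
    have : 16 ≤ 𝐪 ^ 2 := by nlinarith
    nlinarith
  rw [hZ] at sp
  have hc : ♯(cj g Y.P) = ♯Y.P := card_cj g _
  generalize cj g Y.P = W at h1 sp hc
  refine eq_of_le_of_card_ge (by_contra fun hn => ?_) hc.ge
  have ir : W.relIndex Y.P = Y.P.relIndex W := by
    have e1 := card_inf_mul_relIndex W Y.P
    have e2 := card_inf_mul_relIndex Y.P W
    rw [inf_comm, hc, ← e1] at e2
    exact (Nat.eq_of_mul_eq_mul_left Nat.card_pos e2).symm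
  have fam : ∀ {ι : Type _} [Finite ι] (v : ι → F × E × E) {y : G} {φ : F × E × E → F × E × E},
      y ∈ W → Y.Ac y φ → (∀ i j, φ (v i + v j) = v i + v j → i = j) →
      Nat.card ι ≤ Y.P.relIndex W := by
    intro ι _ v y φ hy ac hv
    choose f hf e using fun i => Y.π_surj (v i)
    rw [← ir]
    refine uv1c_fam f hf fun i j hm => hv i j ?_
    have m := mul_mem (inv_mem (hf i)) (hf j)
    have e1 : Y.π ((f i)⁻¹ * f j) = v i + v j := by
      rw [Y.π_mul _ (inv_mem (hf i)) _ (hf j), Y.π_inv (hf i), e, e]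
    obtain ⟨b, hb⟩ := X.mem_Z.1 (sp.comm hy hm)
    rw [← e1, ← ac _ m, mul_inv_eq_iff_eq_mul.1 hb, Y.π_mul _ (Y.Z_le (X.z_mem_Z b)) _ m, Y.π_z,
      zero_add]
  rcases h.Q4 h1 fun x hx => Y.Z_le (sp.sq x hx) with i1 | ⟨i1, y, hy, ac⟩
  · obtain ⟨y, hy, yn⟩ := SetLike.not_le_iff_exists.1 hn
    obtain ⟨φ, ac, -⟩ := Y.exists_lin (h.toEnv.P_N (h1 hy)) (cents_symm sp.cen hy)
    obtain ⟨v0, h0⟩ : ∃ v, φ v ≠ v := by
      by_contra hv
      push Not at hv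
      exact yn (h.toEnv.ker3 (h1 hy) fun p hp => (ac p hp).trans (hv _))
    have := fam (fun e : E => e • v0) hy ac fun i j e => by
      rw [← add_smul, map_smul] at e
      by_contra hij
      exact h0 (smul_right_injective _ (fun e0 => hij (by linear_combination e0 - K.addE j)) e)
    rw [Nat.card_eq_fintype_card] at this
    omega
  · have a0 : a ≠ 0 := fun e => by
      have := h.na
      rw [e, K.nm_zero] at this
      exact zero_ne_one this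
    obtain ⟨c, hc⟩ := K.B_surj a0 1
    have := fam (fun e : E × E => (e.1 • c, 0, e.2)) hy ac fun i j e => by
      rw [K.ts_eq _ h.na] at e
      have e1 := congrArg Prod.fst e
      have e2 := congrArg (fun v => v.2.1) e
      simp only [Prod.fst_add, Prod.snd_add, add_eq_left, smul_eq_zero, a0, or_false] at e1 e2
      rw [← add_smul, K.B_smul_left, K.B_comm, hc, mul_one] at e1
      exact Prod.ext (by linear_combination e1 - K.addE j.1) (by linear_combination e2 - K.addE j.2)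
    rw [Nat.card_prod, Nat.card_eq_fintype_card, i1] at this
    nlinarith

theorem PC.sylow (h : PC Y G0 D P a) : Syl 2 ⊤ P :=
  h.toEnv.syl_of fun g hg => mem_N_iff_cj.2 (h.wc g (cj_le_of_mem_N h.toEnv.B_le hg))
end

end H2.U3
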