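import Mathlib
import Cfsg.Agent.H2.UDefs
import Cfsg.Agent.H2.UV1

set_option autoImplicit false
set_option linter.unusedVariables false
set_option linter.unusedSectionVars false

namespace H2.U3

open Cfsg H24 Subgroup
open H2.SZ (St DD Goal)
open H2.C2 (Cl2)

universe u v

variable {G : Type u} [Group G] [Finite G] {E F : Type*} [Field E] [Fintype E] [Field F] [Fintype F]
  [Algebra E F] {K : UF E F} {L G0 D P P0 Q R A B C H T M W W1 W2 Z1 Z2 : Subgroup G}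
  {t g s f x y i v p : G} {X : UD K L} {a k : F} {b : E} {ρ : F ≃+* F}

local notation "𝐪" => Fintype.card E

/-! ### UV2 -/

theorem UV2.half (h : PiElt {2}ᶜ g) : ∃ m : ℕ, g ^ m * g ^ m = g := by
  obtain ⟨m, hm⟩ : Odd (orderOf g) := Nat.not_even_iff_odd.1 fun e => h 2 Nat.prime_two e.two_dvd rfl
  exact ⟨m + 1, by rw [← pow_add, show m + 1 + (m + 1) = orderOf g + 1 by omega, pow_succ,
    pow_orderOf_eq_one, one_mul]⟩

/-- `Zⁿ` is conjugated into `L` -/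
theorem UV2.zn (h : Lc X G0 t D) (ft : f * t = t * f) (ff : f * f = 1) (fz : f ∈ C[X.Z])
    (hD : ∀ k, f * X.h k * f⁻¹ * (X.h k)⁻¹ ∈ D) (e : f = g * t * g⁻¹) : cj g⁻¹ (cj X.n X.Z) ≤ L := by
  obtain ⟨k, hk⟩ := K.exists_unit
  obtain ⟨m, hm⟩ := UV2.half (h.odd.piElt (hD k))
  have fi : f⁻¹ = f := inv_eq_of_mul_eq_one_right ff
  generalize hd : f * X.h k * f⁻¹ * (X.h k)⁻¹ = d at hm
  have dD : d ∈ D := hd ▸ hD k
  have e1 : f * X.h k * f⁻¹ = d * X.h k := by rw [← hd]; group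
  have e2 : f * d * f⁻¹ = d⁻¹ := by
    rw [← hd, show f * (f * X.h k * f⁻¹ * (X.h k)⁻¹) * f⁻¹ = f * f * X.h k * f⁻¹ * (X.h k)⁻¹ * f⁻¹ by
      group, ff, fi]
    simp only [mul_inv_rev, inv_inv, fi, one_mul, mul_assoc]
  have cL : d ^ m ∈ C[L] := pow_mem (h.D_L dD) m
  have AL : cj X.n X.Z ≤ L := cj_le_of_mem (X.Z_le_S.trans X.S_le) X.n_mem
  have hn : ∀ b, X.h k * (X.n * X.z ((k : E) ^ 2 * b) * X.n⁻¹) * (X.h k)⁻¹ = X.n * X.z b * X.n⁻¹ :=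
    X.n_h k
  have k2 : (k : E) ^ 2 ≠ 0 := pow_ne_zero 2 k.ne_zero
  refine h.toSc.IN' X (v := d ^ m * X.h k) ((X.pi_S.of_le X.Z_le_S).cj _) ?_ ?_ ?_ ?_ ?_
  · intro y hy
    obtain ⟨y', hy', rfl⟩ := mem_cj'.1 hy
    obtain ⟨b, rfl⟩ := X.mem_Z.1 hy'
    rw [← e]
    exact mem_C1.2 (X.cK f (h.Ct f ft) (fun b => mem_C'.1 fz _ (X.z_mem_Z b))
      (fun k => h.D_L (hD k)) b).symm
  · rw [← e, mem_C1_comm, mem_C1_iff_conj, show f * (d ^ m * X.h k) * f⁻¹ =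
      f * d ^ m * f⁻¹ * (f * X.h k * f⁻¹) by group, ← conj_pow, e1, e2, ← mul_assoc, inv_pow]
    congr 1
    rw [inv_mul_eq_iff_eq_mul, hm]
  · refine mul_mem (C_le_N _ (C_anti AL cL)) (mem_N_of_finite fun y hy => ?_)
    obtain ⟨y', hy', rfl⟩ := mem_cj'.1 hy
    obtain ⟨b, rfl⟩ := X.mem_Z.1 hy'
    rw [← mul_div_cancel₀ b k2, hn]
    exact conj_mem_cj _ (X.z_mem_Z _)
  · exact ((h.odd.piElt dD).pow m).mul (X.h_odd k) (mem_C'.1 cL _ (X.h_mem k))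
  · intro y hy e3
    have yL := AL hy
    obtain ⟨y', hy', rfl⟩ := mem_cj'.1 hy
    obtain ⟨b, rfl⟩ := X.mem_Z.1 hy'
    obtain ⟨b, rfl⟩ : ∃ c, b = (k : E) ^ 2 * c := ⟨b / (k : E) ^ 2, (mul_div_cancel₀ b k2).symm⟩
    rw [← mul_assoc, ← mem_C'.1 cL _ yL, mul_assoc, mul_assoc (d ^ m), mul_right_inj] at e3
    have e4 := hn b
    rw [← e3, mul_inv_cancel_right, mul_left_inj, mul_right_inj] at e4
    have e5 := X.z_inj e4
    by_cases b0 : b = 0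
    · rw [b0, mul_zero, X.z_zero]; group
    · exact (hk (Units.ext (K.sq_inj (by
        rw [Units.val_one, one_pow]
        exact mul_right_cancel₀ b0 (e5.trans (one_mul b).symm))))).elim

section
variable {Y : C3D X t}

theorem UV2.card_S1 (Y : C3D X t) : ♯Y.S1 = 𝐪 ^ 3 := by
  rw [Y.card_pre ((⊥ : AddSubgroup F).prod ⊤) fun g => by
    rw [Y.mem_S1, AddSubgroup.mem_prod, AddSubgroup.mem_bot, and_iff_left (AddSubgroup.mem_top _)],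
    Nat.card_congr (AddSubgroup.prodEquiv _ _).toEquiv, Nat.card_prod, AddSubgroup.card_bot,
    AddSubgroup.card_top, Nat.card_prod, Nat.card_eq_fintype_card]
  ring

theorem UV2.Cw (hp : p ∈ Y.P) (e : p ∈ C{X.w}) : p ∈ Y.S1 := by
  obtain ⟨s, hs, e1⟩ := Y.dec hp
  obtain ⟨sP, s1⟩ := Y.mem_S1.1 hs
  have m : X.u (Y.π p).1 0 ∈ C{X.w} := by
    rw [eq_mul_inv_of_mul_eq e1.symm]
    exact mul_mem e (inv_mem (mem_C1.2 (Y.w_c s sP s1).symm))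
  obtain ⟨b, hb⟩ := X.mem_Z.1 (X.fix_w (X.u_mem_S _ _) (mem_C1.1 m))
  exact Y.mem_S1.2 ⟨hp, (X.u_inj hb).1⟩

theorem UV2.B_N (Y : C3D X t) : Y.P ≤ N[X.S] := fun g hg => mem_N_of_finite fun p hp => by
  rw [Y.cm hg (Y.S_le hp)]
  exact mul_mem hp (X.Z_le_S (X.z_mem_Z _))

theorem UV2.main (h : PC Y G0 D P a) (hx : x ∈ P) (hn : x ∉ Y.CT P) : cj x X.S = Y.S1 := by
  have hE := h.toEnv
  have Q1 : K.Qv Y.n (a, 0, 0) ≠ 0 := by rw [UV1.Qa K _ h.na]; exact one_ne_zero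
  have a0 := h.sw x hx hn
  have sP := mul_mem (mul_mem hx h.t_mem) (inv_mem hx)
  obtain ⟨b, hb, f, hf, e, ff, -, hD⟩ := hE.out (h.rf_CT sP a0)
    (by rw [show x * t * x⁻¹ * (x * t * x⁻¹) = x * (t * t) * x⁻¹ by group, h.tt]; simp)
    (fun e => UV1.rf_ne K Q1 (a0.uniq (C3D.ac_P e))) fun e => hn (hE.mem_CT.2 ⟨hx, e⟩)
  have a1 : Y.Ac f (K.rf Y.n (a, 0, 0)) := by
    have := a0.mul (C3D.ac_P (inv_mem hb)) (norm_self _ (inv_mem hb))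
    rwa [e, mul_inv_cancel_right] at this
  have fN := hE.P_N hf.1
  obtain ⟨b', hb', e'⟩ := hE.ddB (h.sw' (inv_mem hx) (fun e => hn (inv_mem_iff.1 e)) hf.1 a1) (by
    rw [show x⁻¹ * f * x⁻¹⁻¹ * (x⁻¹ * f * x⁻¹⁻¹) = x⁻¹ * (f * f) * x by group, ff]; group)
  have ef : f = x * b' * t * (x * b')⁻¹ := by
    rw [show x * b' * t * (x * b')⁻¹ = x * (b' * t * b'⁻¹) * x⁻¹ by group, ← e']; group
  rw [← cj_of_mem_N (UV2.B_N Y hb'), ← cj_mul]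
  have gP : x * b' ∈ P := mul_mem hx (hE.B_le hb')
  have gn : x * b' ∉ Y.CT P := fun e => hn ((mul_mem_cancel_right (UV1.B_CT hb')).1 e)
  generalize x * b' = g at ef gP gn
  have gN := hE.P_N gP
  have le := UV2.zn h.toLc (mem_C1.1 hf.2) ff (a1.zc fN (UV1.Q_rf K Q1)) hD ef
  obtain ⟨l, hl, h1⟩ := Sylow_subJ Nat.prime_two X.syl_S (((X.pi_S.of_le X.Z_le_S).cj _).cj _) le
  have h2 : cj g⁻¹ (cj X.n X.Z) = cj l X.Z := by
    refine eq_of_card_eq (fun y hy => mem_cj.2 (X.mem_Z_of_sq (mem_cj.1 (h1 hy)) ?_)) (by simp)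
    obtain ⟨c, hc⟩ := X.mem_Z.1 (mem_cj.1 (mem_cj.1 hy))
    have := X.z_sq c
    rw [← hc] at this
    rw [show l⁻¹ * y * l * (l⁻¹ * y * l) = (l⁻¹ * g⁻¹ * X.n) * (X.n⁻¹ * (g⁻¹⁻¹ * y * g⁻¹) * X.n *
      (X.n⁻¹ * (g⁻¹⁻¹ * y * g⁻¹) * X.n)) * (l⁻¹ * g⁻¹ * X.n)⁻¹ by group, this]
    group
  have h3 : ∀ b, ∃ c, g * (l * X.z b * l⁻¹) * g⁻¹ = X.n * X.z c * X.n⁻¹ := fun b => by
    have m := conj_mem_cj l (X.z_mem_Z b)
    rw [← h2] at m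
    obtain ⟨y, hy, e⟩ := mem_cj'.1 (mem_cj.1 m)
    obtain ⟨c, rfl⟩ := X.mem_Z.1 hy
    exact ⟨c, by rw [← e, inv_inv]⟩
  obtain ⟨φ, μ, m, m0, -, a2, -, hs, hQ, -⟩ := Y.exists_ac gN
  obtain ⟨c, hc⟩ := UV1.rf_inj K (r := φ (a, 0, 0)) (r' := (0, 1, 0)) (by
    rw [hQ]; exact mul_ne_zero m0 ((map_ne_zero μ).2 Q1))
    ((a1.rf_conj Q1 fN gN a2).uniq (UV1.ac_t hE (h.sw' gP gn hf.1 a1)))
  have key := X.gen (cj g⁻¹ C{X.w}) a (UV1.a0 K h.na) l hl ?_ (fun e b => ?_) fun b => ?_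
  · refine eq_of_card_eq (fun y hy => ?_) (by rw [card_cj, X.card_S, UV2.card_S1])
    obtain ⟨y', hy', rfl⟩ := mem_cj'.1 hy
    refine UV2.Cw (conj_mem gN (Y.S_le hy')) ?_
    obtain ⟨c, d, rfl⟩ := X.mem_S.1 hy'
    simpa using mem_cj.1 (key c d)
  · rintro ⟨⟨c, d⟩, e1⟩
    obtain ⟨b1, e2⟩ := h3 1
    have m1 : X.n * X.z b1 * X.n⁻¹ ∈ Y.P := by
      rw [← e2]
      exact conj_mem gN (Y.S_le (X.mem_S.2 ⟨c, d, e1.symm⟩))
    refine X.n_NS (X.norm_S (norm_self _ X.n_mem) (b := b1) (fun e => X.z1 ?_) (h.ct ⟨m1, mem_C1.2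
      (h.toSc.tu (mul_mem (mul_mem X.n_mem (X.z_mem _)) (inv_mem X.n_mem)))⟩))
    rw [e, X.z_zero, mul_one, mul_inv_cancel] at e2
    exact conj_eq_one_iff'.1 (conj_eq_one_iff'.1 e2)
  · have m1 := Y.S_le (X.u_mem_S (e • a) b)
    refine mem_cj.2 (mem_C1.2 (Y.w_c _ (by simpa using conj_mem gN m1) ?_).symm)
    rw [inv_inv, a2 _ m1, Y.π_u, show ((e • a, 0, 0) : F × E × E) = e • (a, 0, 0) by simp, hs, hc]
    simp
  · obtain ⟨c, e2⟩ := h3 b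
    refine mem_cj.2 ?_
    rw [inv_inv, show X.u 0 b = X.z b from rfl, e2]
    exact mul_mem (mul_mem (mem_C1.2 X.n_w) (mem_C1.2 (X.w_z c).symm)) (inv_mem (mem_C1.2 X.n_w))

theorem PC.swS (h : PC Y G0 D P a) (hx : x ∈ P) (hn : x ∉ Y.CT P) :
    cj x X.S = Y.S1 ∧ cj x Y.S1 = X.S :=
  ⟨UV2.main h hx hn, by
    rw [← UV2.main h (inv_mem hx) fun e => hn (inv_mem_iff.1 e), ← cj_mul, mul_inv_cancel, cj_one]⟩

theorem PC.an (h : PC Y G0 D P a) (hx : x ∈ P) (hn : x ∉ Y.CT P) (η ξ : E)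
    (e : η ^ 2 + η * ξ + Y.n * ξ ^ 2 = 0) : η = 0 ∧ ξ = 0 := by
  obtain ⟨p, hp, e1⟩ := Y.π_surj (0, η, ξ)
  have m : p ∈ cj x X.S := by
    rw [UV2.main h hx hn]
    exact Y.mem_S1.2 ⟨hp, by rw [e1]⟩
  have pp : p * p = 1 := by
    rw [Y.sq p hp, e1, X.z_eq_one]
    simpa [UF.Qv, K.nm_zero] using e
  have z := X.mem_Z_of_sq (mem_cj.1 m) (by
    rw [show x⁻¹ * p * x * (x⁻¹ * p * x) = x⁻¹ * (p * p) * x by group, pp]; group)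
  obtain ⟨b, rfl⟩ := X.mem_Z.1 ((conj_mem_iff' (Y.NP_NZ (h.toEnv.P_N hx))).1 z)
  rw [Y.π_z] at e1
  exact ⟨(congrArg (fun v => v.2.1) e1).symm, (congrArg (fun v => v.2.2) e1).symm⟩
end


end H2.U3
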