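import Mathlib
import Cfsg.Agent.H2.UDefs
import Cfsg.Agent.H2.UV1c
import Cfsg.Agent.H2.UV2

set_option autoImplicit false
set_option linter.unusedVariables false
set_option linter.unusedSectionVars false

namespace H2.U3

open Cfsg H24 Subgroup
open H2.SZ (St DD Goal)
open H2.C2 (Cl2)

universe u v

variable {G : Type u} [Group G] [Finite G] {E F : Type*} [Field E] [Fintype E] [Field F] [Fintype F]
  [Algebra E F] {K : UF E F} {L G0 D P P0 Q R A B C H T M W W1 W2 Z1 Z2 : Subgroup G}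
  {t g s f x y i v p : G} {X : UD K L} {a k : F} {b : E} {ρ : F ≃+* F}

local notation "𝐪" => Fintype.card E

/-! ### UV3 -/

section
variable {Y : C3D X t}
theorem uv3_two (h1 : A ≤ B) (h2 : ¬ B ≤ A) : 2 * ♯A ≤ ♯B := by
  have e := card_mul_relIndex h1
  have : A.relIndex B ≠ 1 := fun k => h2 (relIndex_eq_one.1 k)
  have : A.relIndex B ≠ 0 := relIndex_ne_zero' _ _
  rw [← e, mul_comm]
  exact Nat.mul_le_mul_left _ (by omega)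

theorem uv3_sup (xx : x * x = 1) (h1 : B ≤ C{x}) (hg : g ∈ B ⊔ zpowers x) :
    g ∈ C{x} ∧ ∃ b ∈ B, g * g = b * b := by
  refine ⟨(sup_le h1 (zpowers_le_C1 x)) hg, ?_⟩
  obtain ⟨b, hb, _, ⟨n, rfl⟩, rfl⟩ := (mem_sup_of_norm (norm_of_cent (zpowers_le.2
    (mem_C.2 fun b hb => mem_C1.1 (h1 hb))))).1 hg
  have c : Commute b x := mem_C1.1 (h1 hb)
  refine ⟨b, hb, ?_⟩
  beta_reduce
  rw [← sq, (c.zpow_right n).mul_pow, sq, sq, ← (Commute.refl x).mul_zpow, xx, one_zpow, mul_one]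

theorem uv3_conj (xx : x * x = 1) (g : G) : x * (x * g * x⁻¹) * x⁻¹ = g := by
  rw [show x * (x * g * x⁻¹) * x⁻¹ = x * x * g * (x * x)⁻¹ by group, xx, one_mul, inv_one, mul_one]

theorem PC.uv3_S1 (h : PC Y G0 D P a) (hx : x ∈ P) (hn : x ∉ Y.CT P) (hs : s ∈ X.S) :
    x * s * x⁻¹ ∈ Y.S1 := (h.swS hx hn).1 ▸ conj_mem_cj x hs

theorem PC.uv3_cm (h : PC Y G0 D P a) (hx : x ∈ P) (hn : x ∉ Y.CT P) (hs : s ∈ X.S) (hg : g ∈ X.S) :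
    g * (x * s * x⁻¹) = x * s * x⁻¹ * g := mem_C.1 (Y.S1_eq ▸ h.uv3_S1 hx hn hs).2 g hg

theorem PC.uv3_mem (h : PC Y G0 D P a) (hx : x ∈ P) (hn : x ∉ Y.CT P) (xx : x * x = 1) (hs : s ∈ X.S) :
    s * (x * s * x⁻¹) ∈ Y.P ⊓ C{x} :=
  ⟨mul_mem (Y.S_le hs) (Y.mem_S1.1 (h.uv3_S1 hx hn hs)).1, mem_C1_comm.1 <| mem_C1_iff_conj.2 (by
    rw [← conj_mul, uv3_conj xx, h.uv3_cm hx hn hs hs])⟩

theorem PC.uv3_π (h : PC Y G0 D P a) (hx : x ∈ P) (hn : x ∉ Y.CT P) (c : F) (b : E) (hs : s ∈ X.S) :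
    (Y.π (X.u c b * (x * s * x⁻¹))).1 = c := by
  obtain ⟨k1, k2⟩ := Y.mem_S1.1 (h.uv3_S1 hx hn hs)
  rw [Y.π_mul _ (Y.S_le (X.u_mem_S c b)) _ k1, Prod.fst_add, k2, Y.π_u, add_zero]

theorem PC.uv3_NZ (h : PC Y G0 D P a) (hx : x ∈ P) : x ∈ N[X.Z] := Y.NP_NZ (h.toEnv.P_N hx)

theorem PC.sw_C (h : PC Y G0 D P a) (hx : x ∈ P) (hn : x ∉ Y.CT P) (xx : x * x = 1) :
    g ∈ Y.P ⊓ C{x} ↔ ∃ s ∈ X.S, ∃ z ∈ X.Z ⊓ C{x}, g = s * (x * s * x⁻¹) * z := by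
  refine ⟨fun hg => ?_, ?_⟩
  · obtain ⟨s0, hs0, e⟩ := Y.dec hg.1
    rw [← (h.swS hx hn).1] at hs0
    obtain ⟨s, hs, rfl⟩ := mem_cj'.1 hs0
    obtain ⟨c, b, rfl⟩ := X.mem_S.1 hs
    have e1 := mem_C1_iff_conj.1 (mem_C1_comm.1 hg.2)
    generalize (Y.π g).1 = c' at e
    rw [e, ← conj_mul, uv3_conj xx, ← h.uv3_cm hx hn (X.u_mem_S _ _) hs] at e1
    have e2 := congrArg (fun g => (Y.π g).1) e1
    simp only [h.uv3_π hx hn _ _ (X.u_mem_S _ _)] at e2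
    subst e2
    have m := h.uv3_mem hx hn xx (X.u_mem_S c 0)
    rw [X.u_eq c b, ← conj_mul, ← mul_assoc] at e
    refine ⟨_, X.u_mem_S c 0, _, ⟨conj_mem (h.uv3_NZ hx) (X.z_mem_Z b), ?_⟩, e⟩
    exact (mul_mem_cancel_left (H := C{x}) m.2).1 (e ▸ hg.2)
  · rintro ⟨s, hs, z, hz, rfl⟩
    exact mul_mem (h.uv3_mem hx hn xx hs) ⟨Y.Z_le hz.1, hz.2⟩

theorem PC.uv3_ker (h : PC Y G0 D P a) (hx : x ∈ P) (hn : x ∉ Y.CT P) (xx : x * x = 1)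
    (hg : g ∈ Y.P ⊓ C{x}) (e : (Y.π g).1 = 0) : g ∈ X.Z := by
  obtain ⟨s, hs, z, hz, rfl⟩ := (h.sw_C hx hn xx).1 hg
  obtain ⟨c, b, rfl⟩ := X.mem_S.1 hs
  obtain ⟨d, rfl⟩ := X.mem_Z.1 hz.1
  rw [Y.π_mz (h.uv3_mem hx hn xx hs).1, h.uv3_π hx hn _ _ hs] at e
  subst e
  exact mul_mem (mul_mem (X.z_mem_Z b) (conj_mem (h.uv3_NZ hx) (X.z_mem_Z b))) hz.1

theorem PC.sw_idx (h : PC Y G0 D P a) (hx : x ∈ P) (hn : x ∉ Y.CT P) (xx : x * x = 1) :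
    (X.Z ⊓ C{x}).relIndex (Y.P ⊓ C{x}) = 𝐪 ^ 2 := by
  let f : ↥(Y.P ⊓ C{x}) →* Multiplicative F := MonoidHom.mk' (fun g => Multiplicative.ofAdd (Y.π g).1)
    fun g k => by rw [coe_mul, Y.π_mul _ g.2.1 _ k.2.1]; rfl
  have e1 : (X.Z ⊓ C{x}).subgroupOf (Y.P ⊓ C{x}) = f.ker := by
    ext g
    exact ⟨fun k => congrArg (fun v : F × E × E => Multiplicative.ofAdd v.1) (Y.uv0_πZ k.1),
      fun k => ⟨h.uv3_ker hx hn xx g.2 k, g.2.2⟩⟩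
  have e2 : f.range = ⊤ := MonoidHom.range_eq_top.2 fun c =>
    ⟨⟨_, h.uv3_mem hx hn xx (X.u_mem_S c.toAdd 0)⟩,
      congrArg Multiplicative.ofAdd (h.uv3_π hx hn _ _ (X.u_mem_S _ _))⟩
  rw [relIndex, e1, index_ker, e2, card_top, ← K.card, ← Nat.card_eq_fintype_card]
  rfl

theorem PC.uv3_sq (h : PC Y G0 D P a) (hx : x ∈ P) (hn : x ∉ Y.CT P) (xx : x * x = 1)
    (hg : g ∈ Y.P ⊓ C{x}) : ∃ b, g * g = X.z b * (x * X.z b * x⁻¹) := by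
  obtain ⟨s, hs, z, hz, rfl⟩ := (h.sw_C hx hn xx).1 hg
  obtain ⟨d, rfl⟩ := X.mem_Z.1 hz.1
  obtain ⟨c, b, rfl⟩ := X.mem_S.1 hs
  refine ⟨K.nm c, ?_⟩
  rw [mul_assoc, ← mul_assoc (X.z d), Y.uv0_zc (h.uv3_mem hx hn xx hs).1, mul_assoc _ (X.z d), X.z_sq,
    mul_one, mul_assoc, ← mul_assoc (x * _ * x⁻¹), ← h.uv3_cm hx hn hs hs, mul_assoc (X.u c b), conj_mul,
    ← mul_assoc (X.u c b), X.u_sq]

theorem PC.sw_lin (h : PC Y G0 D P a) (hx : x ∈ P) (hn : x ∉ Y.CT P) (xx : x * x = 1)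
    (hz : x ∈ C[X.Z]) : ♯(Y.P ⊓ C{x}) = 𝐪 ^ 3 ∧ ∀ g ∈ Y.P ⊓ C{x}, g * g = 1 := by
  have e : X.Z ⊓ C{x} = X.Z := inf_eq_left.2 fun z hz' => mem_C1.2 (mem_C.1 hz z hz')
  refine ⟨?_, fun g hg => ?_⟩
  · rw [← card_mul_relIndex (inf_le_inf_right C{x} Y.Z_le), h.sw_idx hx hn xx, e, X.card_Z]
    ring
  · obtain ⟨b, hb⟩ := h.uv3_sq hx hn xx hg
    rw [hb, ← mem_C.1 hz _ (X.z_mem_Z b), mul_inv_cancel_right, X.z_sq]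

theorem PC.sw_spc (h : PC Y G0 D P a) (hx : x ∈ P) (hn : x ∉ Y.CT P) (xx : x * x = 1)
    (hz : x ∉ C[X.Z]) : ∃ Z1, Spc (Y.P ⊓ C{x}) (X.Z ⊓ C{x}) Z1 ∧ Z1 ≠ ⊥ ∧
      ∀ g, g ∈ Z1 ↔ ∃ z ∈ X.Z, g = z * (x * z * x⁻¹) := by
  have xN := h.uv3_NZ hx
  have cz : ∀ {a b}, a ∈ X.Z → b ∈ X.Z → a * b = b * a := X.abl_Z.comm
  let Z1 : Subgroup G := ⟨⟨⟨{g | ∃ z ∈ X.Z, g = z * (x * z * x⁻¹)}, by
    rintro _ _ ⟨a, ha, rfl⟩ ⟨b, hb, rfl⟩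
    refine ⟨_, mul_mem ha hb, ?_⟩
    rw [← conj_mul, mul_assoc, mul_assoc a, ← mul_assoc _ b, ← mul_assoc b, cz hb (conj_mem xN ha)]⟩,
    1, one_mem _, by simp⟩, by
    rintro _ ⟨a, ha, rfl⟩
    refine ⟨_, inv_mem ha, ?_⟩
    rw [cz ha (conj_mem xN ha)]
    group⟩
  refine ⟨Z1, ⟨?_, inf_le_inf_right _ Y.Z_le, fun z hz => mem_C.2 fun g hg => ?_, fun z hz => ?_,
    fun g hg => ?_, fun g hg hn' c hc => ?_⟩, fun e => hz (mem_C.2 fun z hz => ?_), fun g => Iff.rfl⟩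
  · rintro _ ⟨z, hz, rfl⟩
    exact ⟨mul_mem hz (conj_mem xN hz), (h.uv3_mem hx hn xx (X.Z_le_S hz)).2⟩
  · exact (mem_C.1 (Y.zc hg.1) z hz.1).symm
  · obtain ⟨b, rfl⟩ := X.mem_Z.1 hz.1
    exact X.z_sq b
  · obtain ⟨b, hb⟩ := h.uv3_sq hx hn xx hg
    exact ⟨_, X.z_mem_Z b, hb⟩
  · obtain ⟨z, hz, rfl⟩ := hc
    obtain ⟨b, rfl⟩ := X.mem_Z.1 hz
    have c0 : (Y.π g).1 ≠ 0 := fun e => hn' ⟨h.uv3_ker hx hn xx hg e, hg.2⟩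
    obtain ⟨s, hs, z, hz', rfl⟩ := (h.sw_C hx hn xx).1 hg
    obtain ⟨d, rfl⟩ := X.mem_Z.1 hz'.1
    obtain ⟨c, e, rfl⟩ := X.mem_S.1 hs
    rw [Y.π_mz (h.uv3_mem hx hn xx hs).1, h.uv3_π hx hn _ _ hs] at c0
    obtain ⟨c', hc⟩ := K.B_surj c0 b
    have hs' := X.u_mem_S c' 0
    have m := h.uv3_mem hx hn xx hs'
    refine ⟨_, m, ?_⟩
    have k := X.u_conj c c' e 0
    rw [hc, ← X.z_u, mul_inv_eq_iff_eq_mul] at k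
    rw [mul_inv_eq_iff_eq_mul, mul_inv_eq_iff_eq_mul, mul_assoc _ (X.z d), Y.uv0_zc m.1, ← mul_assoc,
      ← mul_assoc _ _ (X.z d), mul_left_inj, mul_assoc (X.u c e), ← mul_assoc _ (X.u c' 0),
      ← h.uv3_cm hx hn hs hs', mul_assoc (X.u c' 0), conj_mul, ← mul_assoc (X.u c e), k, ← conj_mul,
      ← conj_mul]
    generalize hA : x * X.z b * x⁻¹ = A
    generalize hB : x * X.u c' 0 * x⁻¹ = B
    generalize x * X.u c e * x⁻¹ = C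
    have k1 : X.u c' 0 * A = A * X.u c' 0 := hA ▸ h.uv3_cm hx hn (X.Z_le_S hz) hs'
    have k2 : X.u c e * A = A * X.u c e := hA ▸ h.uv3_cm hx hn (X.Z_le_S hz) hs
    have k3 : X.u c e * B = B * X.u c e := hB ▸ h.uv3_cm hx hn hs' hs
    simp only [← mul_assoc]
    rw [mul_left_inj, mul_assoc _ (X.u c e) A, k2, mul_assoc _ B, ← k3, ← mul_assoc, ← mul_assoc,
      mul_assoc _ _ A, k1, ← mul_assoc]
  · have : z * (x * z * x⁻¹) ∈ Z1 := ⟨z, hz, rfl⟩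
    obtain ⟨b, rfl⟩ := X.mem_Z.1 hz
    rw [e, mem_bot, mul_eq_one_iff_inv_eq, X.z_inv, eq_mul_inv_iff_mul_eq] at this
    exact this

theorem PC.uv3_CT (h : PC Y G0 D P a) (hx : x ∈ Y.CT P) (xx : x * x = 1) :
    x ∈ Y.P ∨ x * t ∈ Y.P ∨ Y.Ac x (K.rf Y.n (a, 0, 0)) ∨ Y.Ac x (K.ts Y.n a) :=
  h.lin x hx (h.sqZ hx (xx ▸ one_mem _))

theorem PC.big (h : PC Y G0 D P a) (hx : x ∈ P) (xx : x * x = 1) (hn : x ∉ Y.P) :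
    4 * 𝐪 < ♯(Y.P ⊓ C{x}) ∨ Y.Ac x (K.ts Y.n a) := by
  have four := K.four
  have k : ∀ r, K.Qv Y.n r ≠ 0 → Y.Ac x (K.rf Y.n r) → 4 * 𝐪 < ♯(Y.P ⊓ C{x}) := fun r hr ac => by
    obtain ⟨sp, e⟩ := C3D.rf_spc ac hr (h.toEnv.P_N hx) xx
    rw [← card_mul_relIndex sp.A_le, e, X.card_Z]
    nlinarith
  by_cases hc : x ∈ Y.CT P
  · rcases h.uv3_CT hc xx with e | e | e | e
    · exact absurd e hn
    · exact .inl (k _ (by rw [UV1.Qe]; exact one_ne_zero) (uv1c_ac h.tt e))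
    · exact .inl (k _ (by rw [UV1.Qa K _ h.na]; exact one_ne_zero) e)
    · exact .inr e
  · left
    have : 2 * ♯(⊥ : Subgroup G) ≤ ♯(X.Z ⊓ C{x}) := uv3_two bot_le fun e => by
      have m := X.Z_le_S (X.z_mem_Z 1)
      have e1 := mem_bot.1 (e ⟨mul_mem (X.z_mem_Z 1) (conj_mem (h.uv3_NZ hx) (X.z_mem_Z 1)),
        (h.uv3_mem hx hc xx m).2⟩)
      rw [mul_eq_one_iff_inv_eq, X.z_inv, eq_mul_inv_iff_mul_eq] at e1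
      exact X.z1 (mem_bot.1 (e ⟨X.z_mem_Z 1, mem_C1.2 e1⟩))
    rw [card_bot] at this
    rw [← card_mul_relIndex (inf_le_inf_right C{x} Y.Z_le), h.sw_idx hx hc xx]
    nlinarith

theorem PC.el3 (h : PC Y G0 D P a) (hx : x ∈ P) (hn : x ∉ Y.CT P) (h1 : W ≤ P)
    (el : ∀ w ∈ W, w * w = 1) (big : 𝐪 ^ 3 ≤ ♯W) (hy : y ∈ W) :
    y ∈ Y.P ∨ Y.Ac y (K.ts Y.n a) ∨ y ∉ Y.CT P ∧ y ∈ C[X.Z] := by
  have four := K.four
  have yy := el y hy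
  have Wy : W ≤ C{y} := fun w hw => mem_C1.2 (by
    have := el _ (mul_mem hw hy)
    rwa [mul_eq_one_iff_eq_inv, mul_inv_rev, inv_eq_of_mul_eq_one_right yy,
      inv_eq_of_mul_eq_one_right (el w hw)] at this)
  have nd : ¬ DD t y := fun d => by
    have := big.trans (h.toSc.RK X d Wy el)
    have : 𝐪 * 16 ≤ 𝐪 * 𝐪 ^ 2 := Nat.mul_le_mul_left _ (by nlinarith)
    have : 𝐪 ^ 3 = 𝐪 * 𝐪 ^ 2 := by ring
    omega
  by_cases hc : y ∈ Y.CT P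
  · rcases h.uv3_CT hc yy with e | e | e | e
    · exact .inl e
    · obtain ⟨b, -, e⟩ := h.toEnv.ddB e yy
      exact absurd ⟨b, e⟩ nd
    · exact absurd (h.dd_a hx hn (h1 hy) e yy) nd
    · exact .inr (.inl e)
  refine .inr (.inr ⟨hc, by_contra fun hz => ?_⟩)
  obtain ⟨Z1, sp, n1, -⟩ := h.sw_spc (h1 hy) hc yy hz
  have i1 := uv1c_iso (R := Y.P ⊓ W) (Z2 := ⊥) sp (inf_le_inf_left _ Wy) (fun v hv w hw => by
    have := el _ (mul_mem hv.2 hw.2)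
    rwa [inv_eq_of_mul_eq_one_right (el v hv.2), inv_eq_of_mul_eq_one_right (el w hw.2), mul_assoc,
      mem_bot]) fun e => n1 (le_bot_iff.1 e)
  rw [h.sw_idx (h1 hy) hc yy] at i1
  replace i1 := (pow_le_pow_iff_left₀ (Nat.zero_le _) (Nat.zero_le _) two_ne_zero).1 i1
  have i2 : 2 * ♯(X.Z ⊓ C{y}) ≤ ♯X.Z := uv3_two inf_le_left fun e =>
    hz (mem_C.2 fun z hz => mem_C1.1 (e hz).2)
  have i3 := card_mul_relIndex (le_sup_right : X.Z ⊓ C{y} ≤ Y.P ⊓ W ⊔ X.Z ⊓ C{y})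
  have i4 : ♯(Y.P ⊓ W) ≤ ♯(Y.P ⊓ W ⊔ X.Z ⊓ C{y}) := card_le_of_le le_sup_left
  have i5 := card_inf_mul_relIndex Y.P W
  have i6 : Y.P.relIndex W ≤ 4 := by
    rcases h.Q4 h1 (fun w hw => el w hw ▸ one_mem _) with e | e
    exacts [e.trans (by norm_num), e.1.le]
  rw [X.card_Z] at i2
  have j1 := Nat.mul_le_mul_left ♯(X.Z ⊓ C{y}) i1
  have j2 := Nat.mul_le_mul_left ♯(Y.P ⊓ W) i6
  have j3 := Nat.mul_le_mul_right 𝐪 i2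
  rw [i3] at j1
  rw [i5] at j2
  rw [mul_assoc] at j3
  have j4 : 𝐪 ^ 2 * 4 ≤ 𝐪 ^ 2 * 𝐪 := Nat.mul_le_mul_left _ four
  have j5 : 0 < 𝐪 ^ 2 := by positivity
  rw [show 𝐪 ^ 2 * 𝐪 = 𝐪 ^ 3 by ring] at j4
  rw [← sq] at j3
  omega

theorem PC.lemT (h : PC Y G0 D P a) (hy : y ∈ P) (h1 : Y.Ac y (K.ts Y.n a)) : ¬ X.ZZ y := fun hz => by
  have four := K.four
  obtain ⟨p, ⟨fN, ft⟩, fχ⟩ := h.ts_out hy h1 hz.sq.1
  replace hz := hz.conj p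
  generalize p * y * p⁻¹ = f at fN ft fχ hz
  have ff := hz.sq.1
  obtain ⟨g, b, hb, e⟩ := hz
  have c : zpowers f ≤ C[zpowers t] := by rw [C_zpowers]; exact zpowers_le.2 ft
  obtain ⟨v, v1, v2⟩ := wc_move (A := zpowers t ⊔ zpowers f) (R := zpowers f) (g := g) h.sylow
    h.toEnv.B_le h.wc (IsPi.sup (H2.SZ.piElt_of_sq h.tt).isPi (H2.SZ.piElt_of_sq ff).isPi (norm_of_cent c))
    (sup_le (norm_of_cent (cents_symm c)) (norm_self _))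
    (by rw [Y.cenP]; exact zpowers_le.2 (e ▸ conj_mem_cj g (X.z_mem_Z b)))
  rw [Y.cenP] at v2
  have xP : v * t * v⁻¹ ∈ P := v1 (conj_mem_cj v (mem_sup_left (mem_zpowers t)))
  have jZ : v * f * v⁻¹ ∈ X.Z := v2 (conj_mem_cj v (mem_zpowers f))
  have d : DD t (v * t * v⁻¹) := ⟨v, rfl⟩
  have xx : v * t * v⁻¹ * (v * t * v⁻¹) = 1 := by rw [conj_mul, h.tt, mul_one, mul_inv_cancel]
  have cf : ∀ A : Subgroup G, A ≤ C{v * t * v⁻¹} ⊓ C{v * f * v⁻¹} → (∀ a ∈ A, a * a * (a * a) = 1) →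
      ♯A ≤ 8 * 𝐪 := fun A k1 k2 => by
    rw [← card_cj v⁻¹]
    refine h.toLc.CF fN (mem_C1.1 ft) ff fχ ?_ fun a ha => ?_
    · rwa [cj_le_iff, inv_inv, cj_inf, cj_C1, cj_C1]
    · obtain ⟨a', ha', rfl⟩ := mem_cj'.1 ha
      rw [conj_mul, conj_mul, k2 a' ha', mul_one, mul_inv_cancel]
  have xj : v * t * v⁻¹ ∈ C{v * f * v⁻¹} := mem_C1.2 (by rw [conj_mul, conj_mul, mem_C1.1 ft])
  generalize v * t * v⁻¹ = x at xP d xx cf xj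
  generalize v * f * v⁻¹ = j at jZ cf xj
  have Pj : Y.P ≤ C{j} := fun g hg => mem_C1.2 (mem_C.1 (Y.zc hg) j jZ).symm
  have e4 : ∀ g ∈ Y.P, g * g * (g * g) = 1 := fun g hg => by rw [Y.sq g hg, X.z_sq]
  by_cases hx : x ∈ Y.P
  · obtain ⟨A, -, sp, e⟩ := C3D.sing_spc hx xx fun k => by
      obtain ⟨b, rfl⟩ := X.mem_Z.1 k
      exact h.zn b d
    have i1 := cf (Y.P ⊓ C{x}) (le_inf inf_le_right (inf_le_left.trans Pj)) fun g hg => e4 g hg.1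
    have i2 : ♯X.Z ≤ ♯A := card_le_of_le sp.Z_le
    rw [← card_mul_relIndex sp.A_le, e] at i1
    rw [X.card_Z] at i2
    have := Nat.mul_le_mul_right (𝐪 ^ 2) i2
    have : 𝐪 * 16 ≤ 𝐪 * 𝐪 ^ 2 := Nat.mul_le_mul_left _ (by nlinarith)
    omega
  have i1 : 2 * ♯(Y.P ⊓ C{x}) ≤ ♯(Y.P ⊓ C{x} ⊔ zpowers x) := uv3_two le_sup_left fun k =>
    hx (k (mem_sup_right (mem_zpowers x))).1
  rcases h.big xP xx hx with k | k
  · have := cf (Y.P ⊓ C{x} ⊔ zpowers x) (le_inf (fun g hg => (uv3_sup xx inf_le_right hg).1)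
      (sup_le (inf_le_left.trans Pj) (zpowers_le.2 xj))) fun g hg => by
        obtain ⟨-, b, hb, e⟩ := uv3_sup xx inf_le_right hg
        rw [e, e4 b hb.1]
    omega
  · have e := h.ts_C xP k xx
    obtain ⟨c1, -, c3⟩ := Y.card_J h.na
    have := h.toSc.RK X d (A := Y.P ⊓ C{x} ⊔ zpowers x) (fun g hg => (uv3_sup xx inf_le_right hg).1)
      fun g hg => by
        obtain ⟨-, b, hb, k⟩ := uv3_sup xx inf_le_right hg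
        rw [k, c3 b (e ▸ hb)]
    rw [← e] at c1
    nlinarith

end


end H2.U3
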