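import Mathlib
import Cfsg.Agent.H2.UDefs
import Cfsg.Agent.H2.UV3

set_option autoImplicit false
set_option linter.unusedVariables false
set_option linter.unusedSectionVars false

namespace H2.U3

open Cfsg H24 Subgroup
open H2.SZ (St DD Goal)
open H2.C2 (Cl2)

universe u v

variable {G : Type u} [Group G] [Finite G] {E F : Type*} [Field E] [Fintype E] [Field F] [Fintype F]
  [Algebra E F] {K : UF E F} {L G0 D P P0 Q R A B C H T M W W1 W2 Z1 Z2 : Subgroup G}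
  {t g s f x y i v p : G} {X : UD K L} {a k : F} {b : E} {ρ : F ≃+* F}

local notation "𝐪" => Fintype.card E

namespace UV4x

theorem el_comm (el : ∀ a ∈ A, a * a = 1) (hx : x ∈ A) (hy : y ∈ A) : x * y = y * x := by
  have h1 := el x hx
  have h2 := el y hy
  have h3 := el _ (mul_mem hx hy)
  calc x * y = x * (x * y * (x * y)) * y := by rw [h3, mul_one]
    _ = (x * x) * (y * x) * (y * y) := by group
    _ = y * x := by rw [h1, h2, one_mul, mul_one]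

theorem two_out (h : B.relIndex A ≤ 2) (hx : x ∈ A) (hy : y ∈ A) (h1 : x ∉ B) (h2 : y ∉ B) :
    x * y ∈ B := by
  have h0 := relIndex_pos B A
  have h3 : B.relIndex A ≠ 1 := fun e => h1 (relIndex_eq_one.1 e hx)
  exact (mul_mem_iff_of_index_two (H := B.subgroupOf A) (a := ⟨x, hx⟩) (b := ⟨y, hy⟩)
    (by change B.relIndex A = 2; omega)).2 (iff_of_false h1 h2)

theorem hsymm {n : ℕ} (h : Hyp n H A Z1 W1 W2) : Hyp n H A Z1 W2 W1 :=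
  ⟨h.toSpc, h.cZ, h.cA, h.c2, h.c1, h.el2, h.el1, inf_comm W1 W2 ▸ h.inf, h.le2, h.le1,
    fun x hx => by
      obtain ⟨a, ha, b, hb, e⟩ := h.dec _ (inv_mem hx)
      exact ⟨b⁻¹, inv_mem hb, a⁻¹, inv_mem ha, by rw [← mul_inv_rev, ← e, inv_inv]⟩,
    fun a ha b hb e => (h.cm b hb a ha e.symm).symm⟩

theorem ts_ts (K : UF E F) (n : E) (ha : K.nm a = 1) (v : F × E × E) : K.ts n a (K.ts n a v) = v := by
  rw [K.ts_eq n ha, K.ts_eq n ha]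
  simp only [K.B_add_left, K.B_smul_left, K.B_self, mul_zero, add_zero, add_assoc, K.addF, K.addE]

theorem ts_Q (K : UF E F) (n : E) (ha : K.nm a = 1) (v : F × E × E) :
    K.Qv n (K.ts n a v) = K.Qv n v := by
  rw [K.ts_eq n ha]
  simp only [UF.Qv, K.nm_add, K.nm_smul, ha, K.B_smul_right]
  linear_combination (K.B v.1 a ^ 2 + v.2.1 * v.2.2 + v.2.2 ^ 2) * K.two

section
variable {Y : C3D X t} {φ : F × E × E → F × E × E} {r r' c d : G}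

theorem ac_r (h1 : Y.Ac x φ) (hp : p ∈ Y.P) : Y.Ac (x * p) φ := h1.mul (C3D.ac_P hp) (norm_self _ hp)
theorem ac_l (h1 : Y.Ac x φ) (hx : x ∈ N[Y.P]) (hp : p ∈ Y.P) : Y.Ac (p * x) φ := (C3D.ac_P hp).mul h1 hx

theorem ts_P (h : PC Y G0 D P a) (h1 : Y.Ac y (K.ts Y.n a)) : y ∉ Y.P := fun hy => by
  have := congrArg (fun v => v.2.1) (h1.uniq (C3D.ac_P hy) (0, 0, 1))
  rw [K.ts_eq _ h.na] at this
  simp at this

theorem ts_mul (h : PC Y G0 D P a) (hx : x ∈ P) (hy : y ∈ P) (h1 : Y.Ac x (K.ts Y.n a))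
    (h2 : Y.Ac y (K.ts Y.n a)) : x * y ∈ Y.P :=
  h.toEnv.ker3 (mul_mem hx hy) (by
    have := h1.mul h2 (h.toEnv.P_N hy)
    simp only [ts_ts K _ h.na] at this
    exact this)

theorem ts_Z (h : PC Y G0 D P a) (hy : y ∈ P) (h1 : Y.Ac y (K.ts Y.n a)) : y ∈ C[X.Z] :=
  h1.zc (h.toEnv.P_N hy) (ts_Q K _ h.na)

theorem sw_t (h : PC Y G0 D P a) (hr : r ∈ P) (rr : r * r = 1) (rr' : r' * r' = 1)
    (e : r * r' * t ∈ Y.P) : r ∈ Y.CT P := by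
  refine h.toEnv.mem_CT.2 ⟨hr, ?_⟩
  have e1 : r * t * r⁻¹ * t = r * r' * t * (t⁻¹ * r * (r * r' * t) * (t⁻¹ * r)⁻¹) := by
    calc r * t * r⁻¹ * t = r * (r' * r') * t * r⁻¹ * t := by rw [rr']; group
      _ = r * r' * (r * r) * r' * t * r⁻¹ * t := by rw [rr]; group
      _ = _ := by group
  rw [e1]
  exact mul_mem e (conj_mem (h.toEnv.P_N (mul_mem (inv_mem h.t_mem) hr)) e)

theorem sw_sw (h : PC Y G0 D P a) (hr : r ∈ P) (hr' : r' ∈ P) (rr : r * r = 1) (rr' : r' * r' = 1)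
    (h1 : r ∉ Y.CT P) (h2 : r' ∉ Y.CT P) (z1 : r ∈ C[X.Z]) (z2 : r' ∈ C[X.Z]) :
    r * r' ∈ Y.P ∨ Y.Ac (r * r') (K.ts Y.n a) := by
  rcases h.lin _ (h.idx hr hr' h1 h2) (mul_mem z1 z2) with e | e | e | e
  · exact .inl e
  · exact absurd (sw_t h hr rr rr' e) h1
  · have := h.sw' hr h1 (mul_mem hr hr') e
    rw [← mul_assoc r r, rr, one_mul, inv_eq_of_mul_eq_one_right rr] at this
    exact absurd (sw_t h hr' rr' rr this) h2
  · exact .inr e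

theorem sw_ts (h : PC Y G0 D P a) (hr : r ∈ P) (h1 : r ∉ Y.CT P) (hy : y ∈ P)
    (h2 : Y.Ac y (K.ts Y.n a)) : r * y * r⁻¹ * y ∈ Y.P := by
  have hp : r * t * r⁻¹ ∈ P := mul_mem (mul_mem hr h.t_mem) (inv_mem hr)
  have e0 := h.sw r hr h1
  have e1 : y * (t * (r * t * r⁻¹)) ∈ Y.P :=
    ts_mul h hy (mul_mem h.t_mem hp) h2 (C3D.ac_t.mul e0 (h.toEnv.P_N hp))
  have e2 := h.sw' hr h1 hp e0
  have tt := h.tt
  have e3 : r * y * r⁻¹ * y = r * (y * (t * (r * t * r⁻¹))) * r⁻¹ * (r * (r * t * r⁻¹) * r⁻¹ * t) *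
      (y⁻¹ * (y * (t * (r * t * r⁻¹))) * y⁻¹⁻¹) := by
    calc r * y * r⁻¹ * y = r * y * (t * t) * r⁻¹ * y := by rw [tt]; group
      _ = r * y * t * (r * 1 * r⁻¹) * r⁻¹ * 1 * (r * t * r⁻¹) * y := by group
      _ = r * y * t * (r * (t * t) * r⁻¹) * r⁻¹ * (t * t) * (r * t * r⁻¹) * y := by rw [tt]
      _ = _ := by group
  rw [e3]
  exact mul_mem (mul_mem (conj_mem (h.toEnv.P_N hr) e1) e2) (conj_mem (h.toEnv.P_N (inv_mem hy)) e1)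

theorem sq_mem (h : PC Y G0 D P a) (hc : c ∈ P) (hd : d ∈ P) (cc : c * c = 1) (dd : d * d = 1)
    (h1 : c ∈ Y.P ∨ Y.Ac c (K.ts Y.n a) ∨ c ∉ Y.CT P ∧ c ∈ C[X.Z])
    (h2 : d ∈ Y.P ∨ Y.Ac d (K.ts Y.n a) ∨ d ∉ Y.CT P ∧ d ∈ C[X.Z]) : c * d * (c * d) ∈ Y.P := by
  have ci := inv_eq_of_mul_eq_one_right cc
  have di := inv_eq_of_mul_eq_one_right dd
  rcases h1 with h1 | h1
  · have := mul_mem h1 (conj_mem (h.toEnv.P_N hd) h1)
    rwa [di, ← mul_assoc, ← mul_assoc, mul_assoc _ c d] at this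
  rcases h2 with h2 | h2
  · have := mul_mem (conj_mem (h.toEnv.P_N hc) h2) h2
    rwa [ci, mul_assoc _ c d] at this
  rcases h1 with h1 | h1 <;> rcases h2 with h2 | h2
  · exact mul_mem (ts_mul h hc hd h1 h2) (ts_mul h hc hd h1 h2)
  · have := inv_mem (sw_ts h hd h2.1 hc h1)
    simp only [mul_inv_rev, ci, di] at this
    simpa only [mul_assoc] using this
  · have := sw_ts h hc h1.1 hd h2
    rwa [ci, mul_assoc _ c d] at this
  · rcases sw_sw h hc hd cc dd h1.1 h2.1 h1.2 h2.2 with e | e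
    · exact mul_mem e e
    · exact ts_mul h (mul_mem hc hd) (mul_mem hc hd) e e

theorem nums (h : PC Y G0 D P a) (hx : x ∈ P) (hn : x ∉ Y.CT P) (h1 : H ≤ P)
    (h2 : Hyp 𝐪 H A Z1 W1 W2) (hZ : ¬ Z1 ≤ X.Z) : 𝐪 = 4 ∧ A ≤ Y.P ∧ ♯(Y.P ⊓ H) = 64 ∧ ♯H = 256 ∧
      ∃ y ∈ H, Y.Ac y (K.ts Y.n a) := by
  have q4 := K.four
  have cH : ♯H = 𝐪 ^ 4 := by
    have := (⟨h2.le1, h2.le2, h2.dec⟩ : IsProd W1 W2 H).card
    rw [h2.inf, h2.cA, h2.c1, h2.c2] at this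
    exact Nat.eq_of_mul_eq_mul_right (by positivity : 0 < 𝐪 ^ 2) (this.trans (by ring))
  have iH : A.relIndex H = 𝐪 ^ 2 := by
    have := card_mul_relIndex h2.A_le
    rw [h2.cA, cH] at this
    exact Nat.eq_of_mul_eq_mul_left (by positivity : 0 < 𝐪 ^ 2) (this.trans (by ring))
  have hN : A ≤ N[Y.P ⊓ H] := norm_of_cent (cents_of_le h2.cen inf_le_right)
  have i1 := h2.toSpc.iso (R := (Y.P ⊓ H) ⊔ A) (Z2 := X.Z) le_sup_right (sup_le inf_le_right h2.A_le)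
    (fun g hg g' hg' => by
      obtain ⟨p, hp, c, hc, rfl⟩ := (mem_sup_of_norm hN).1 hg
      obtain ⟨p', hp', c', hc', rfl⟩ := (mem_sup_of_norm hN).1 hg'
      have e1 := conj_eq_of_mem_C (h2.cen hc) (mul_mem hp'.2 (h2.A_le hc'))
      have e2 := conj_eq_of_mem_C (h2.cen hc') (inv_mem hp.2)
      have e3 : p * c * (p' * c') * (p * c)⁻¹ * (p' * c')⁻¹ = p * p' * p⁻¹ * p'⁻¹ := by
        calc _ = p * (c * (p' * c') * c⁻¹) * p⁻¹ * (p' * c')⁻¹ := by group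
          _ = p * p' * (c' * p⁻¹ * c'⁻¹) * p'⁻¹ := by rw [e1]; group
          _ = _ := by rw [e2]
      rw [e3]
      exact Y.spc.comm hp.1 hp'.1) hZ
  rw [iH] at i1
  have i2 := Nat.pow_le_pow_iff_left two_ne_zero |>.1 i1
  have i3 := card_mul_relIndex (le_sup_right : A ≤ (Y.P ⊓ H) ⊔ A)
  have i4 : ♯((Y.P ⊓ H) ⊔ A) ≤ 𝐪 ^ 3 := by
    rw [← i3, h2.cA, pow_succ _ 2]
    exact Nat.mul_le_mul_left _ i2
  have i5 := card_le (le_sup_left : Y.P ⊓ H ≤ (Y.P ⊓ H) ⊔ A)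
  have i6 := card_inf_mul_relIndex Y.P H
  have hq := h.Q4 h1 (fun g hg => by
    obtain ⟨c, hc, d, hd, rfl⟩ := h2.dec g hg
    exact sq_mem h (h1 (h2.le1 hc)) (h1 (h2.le2 hd)) (h2.el1 c hc) (h2.el2 d hd)
      (h.el3 hx hn (h2.le1.trans h1) h2.el1 h2.c1.ge hc) (h.el3 hx hn (h2.le2.trans h1) h2.el2 h2.c2.ge hd))
  have i7 : Y.P.relIndex H ≤ 4 := by rcases hq with e | e <;> omega
  have e4 : 𝐪 = 4 := by
    have : 𝐪 ^ 3 * 𝐪 ≤ 𝐪 ^ 3 * 4 := by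
      rw [← pow_succ, ← cH, ← i6]
      exact Nat.mul_le_mul (i5.trans i4) i7
    have := Nat.le_of_mul_le_mul_left this (by positivity)
    omega
  rw [e4] at cH i4
  rw [cH] at i6
  have i8 : ♯(Y.P ⊓ H) = 64 := by
    generalize Y.P.relIndex H = m at i6 i7
    generalize ♯(Y.P ⊓ H) = N at i5 i6
    interval_cases m <;> omega
  refine ⟨e4, le_sup_right.trans ((eq_of_card_ge le_sup_left (by omega)).ge.trans
    (inf_le_left : Y.P ⊓ H ≤ _)), i8, cH, ?_⟩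
  rcases hq with e | e
  · rw [i8] at i6
    omega
  · exact e.2

theorem caseA (h : PC Y G0 D P a) (h1 : H ≤ P) (h2 : Hyp 4 H A Z1 W1 W2) (AP : A ≤ Y.P)
    (hy : y ∈ H) (ty : Y.Ac y (K.ts Y.n a)) (n1 : ∀ w ∈ W1, ¬ Y.Ac w (K.ts Y.n a))
    (n2 : ∀ w ∈ W2, ¬ Y.Ac w (K.ts Y.n a)) : False := by
  have key : ∀ W, W ≤ H → ♯W = 4 ^ 3 → (∀ w ∈ W, w * w = 1) → (∀ w ∈ W, ¬ Y.Ac w (K.ts Y.n a)) →
      Y.P.relIndex W ≤ 2 ∧ ∃ c ∈ Y.P ⊓ W, c ∉ A := fun W l c el n => by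
    have i : Y.P.relIndex W ≤ 2 := (h.Q4 (l.trans h1) fun w hw => by
      rw [el w hw]; exact one_mem _).resolve_right fun ⟨_, w, hw, e⟩ => n w hw e
    refine ⟨i, by_contra fun e => ?_⟩
    have i1 := card_le (show Y.P ⊓ W ≤ A from fun p hp => by_contra fun e' => e ⟨p, hp, e'⟩)
    have i2 := card_inf_mul_relIndex Y.P W
    rw [h2.cA] at i1
    rw [c] at i2
    nlinarith
  obtain ⟨i1, a1, ha1, na1⟩ := key W1 h2.le1 h2.c1 h2.el1 n1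
  obtain ⟨i2, a2, ha2, na2⟩ := key W2 h2.le2 h2.c2 h2.el2 n2
  obtain ⟨c, hc, d, hd, rfl⟩ := h2.dec y hy
  have cP : c ∉ Y.P := fun e => n2 d hd (by
    simpa using ac_l ty (h.toEnv.P_N (h1 hy)) (inv_mem e))
  have dP : d ∉ Y.P := fun e => n1 c hc (by simpa using ac_r ty (inv_mem e))
  have z1 := h2.toSpc.comm (h2.le1 ha1.2) (h2.le2 ha2.2)
  have z2 := Y.spc.comm ha1.1 ha2.1
  have z3 : a1 * a2 * a1⁻¹ * a2⁻¹ ≠ 1 := fun e =>
    (h2.cm _ ha1.2 _ ha2.2 (by rwa [mul_inv_eq_one, mul_inv_eq_iff_eq_mul] at e)).elim na1 na2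
  obtain ⟨y', hy', e⟩ := h2.onto c (h2.le1 hc) (fun e => cP (AP e)) _ z1
  obtain ⟨c', hc', d', hd', rfl⟩ := h2.dec y' hy'
  have e1 : c * d' * c⁻¹ * d'⁻¹ = a1 * a2 * a1⁻¹ * a2⁻¹ := by
    have e2 := mem_C'.1 (h2.cen (h2.Z_le z1)) c' (h2.le1 hc')
    have e3 := el_comm h2.el1 hc hc'
    calc _ = c'⁻¹ * (c' * c * d' * c⁻¹ * (c' * d')⁻¹ * c') := by group
      _ = c'⁻¹ * (c * (c' * d') * c⁻¹ * (c' * d')⁻¹ * c') := by rw [← e3]; group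
      _ = _ := by rw [e, e2]; group
  have dP' : d' ∉ Y.P := fun e2 => by
    have dA : d' ∉ A := fun e3 => z3 (by
      rw [← e1, ← mem_C'.1 (h2.cen e3) c (h2.le1 hc)]; group)
    have j1 := card_inf_mul_relIndex Y.P W2
    have j2 := card_mul_relIndex (le_inf AP (h2.inf.ge.trans inf_le_right) : A ≤ Y.P ⊓ W2)
    have j3 : Y.P.relIndex W2 ≠ 1 := fun e => dP (relIndex_eq_one.1 e hd)
    have j4 := relIndex_pos Y.P W2
    rw [h2.c2, show Y.P.relIndex W2 = 2 by omega] at j1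
    rw [h2.cA] at j2
    have k := two_out (B := A) (A := Y.P ⊓ W2) (by omega) ⟨e2, hd'⟩ (inv_mem ha2) dA
      (fun e => na2 (inv_mem_iff.1 e))
    have cH := h2.le1 hc
    have aH := h2.le2 ha2.2
    have k1 := conj_eq_of_mem_C (h2.cen k) (mul_mem (mul_mem (mul_mem cH aH) (inv_mem cH)) (inv_mem aH))
    have k2 := mem_C'.1 (h2.cen k) _ cH
    have k3 : a1⁻¹ * c * a2 = a2 * (a1⁻¹ * c) := by
      have k4 : c * a2 * c⁻¹ = a1 * a2 * a1⁻¹ := by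
        refine mul_right_cancel (b := a2⁻¹) ?_
        rw [← e1, ← k1]
        calc _ = d' * a2⁻¹ * c * a2 * c⁻¹ * d'⁻¹ := by group
          _ = _ := by rw [k2]; group
      calc a1⁻¹ * c * a2 = a1⁻¹ * (c * a2 * c⁻¹) * c := by group
        _ = _ := by rw [k4]; group
    rcases h2.cm _ (mul_mem (inv_mem (mem_inf.1 ha1).2) hc) _ ha2.2 k3 with e | e
    · exact cP ((mul_mem_cancel_left (inv_mem (mem_inf.1 ha1).1)).1 (AP e))
    · exact na2 e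
  have k := two_out i2 (inv_mem hd) hd' (fun e => dP (inv_mem_iff.1 e)) dP'
  have k1 : Y.Ac (c * d') (K.ts Y.n a) := by simpa [mul_assoc] using ac_r ty k
  have k2 : c * d' * (c * d') = a1 * a2 * a1⁻¹ * a2⁻¹ := by
    rw [← e1, inv_eq_of_mul_eq_one_right (h2.el1 c hc), inv_eq_of_mul_eq_one_right (h2.el2 d' hd')]
    group
  exact z3 (k2 ▸ h.ts_sq (h1 (mul_mem (h2.le1 hc) (h2.le2 hd'))) k1 (k2 ▸ z2))

theorem sw_dec (h : PC Y G0 D P a) (hr : r ∈ P) (h1 : r ∉ Y.CT P) (hp : p ∈ Y.P) :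
    ∃ c b, p = X.u (Y.π p).1 0 * (r * X.u c b * r⁻¹) := by
  obtain ⟨s, hs, e⟩ := Y.dec hp
  rw [← (h.swS hr h1).1] at hs
  obtain ⟨s', hs', rfl⟩ := mem_cj'.1 hs
  obtain ⟨c, b, rfl⟩ := X.mem_S.1 hs'
  exact ⟨c, b, e⟩

theorem sw_S1 (h : PC Y G0 D P a) (hr : r ∈ P) (h1 : r ∉ Y.CT P) (c : F) (b : E) :
    r * X.u c b * r⁻¹ ∈ Y.P ∧ (Y.π (r * X.u c b * r⁻¹)).1 = 0 :=
  Y.mem_S1.1 ((h.swS hr h1).1 ▸ conj_mem_cj r (X.u_mem_S c b))

theorem sw_mem (h : PC Y G0 D P a) (hr : r ∈ P) (h1 : r ∉ Y.CT P) (rr : r * r = 1) (hz : r ∈ C[X.Z])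
    (c : F) (b : E) : X.u c 0 * (r * X.u c b * r⁻¹) ∈ C{r} := by
  have e := conj_eq_of_mem_C hz (X.z_mem_Z b)
  refine ((h.sw_C hr h1 rr).2 ⟨_, X.u_mem_S c 0, X.z b, ⟨X.z_mem_Z b, mem_C1_comm.1
    (mem_C1_iff_conj.2 e)⟩, ?_⟩).2
  rw [X.u_eq c b]
  calc _ = X.u c 0 * (r * X.u c 0 * r⁻¹) * (r * X.z b * r⁻¹) := by group
    _ = _ := by rw [e]

theorem caseB (h : PC Y G0 D P a) (hx : x ∈ P) (hn : x ∉ Y.CT P) (h1 : H ≤ P)
    (h2 : Hyp 𝐪 H A Z1 W1 W2) (e4 : 𝐪 = 4) (AP : A ≤ Y.P) (cX : ♯(Y.P ⊓ H) = 64) (cH : ♯H = 256)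
    (hy : y ∈ W1) (ty : Y.Ac y (K.ts Y.n a)) : False := by
  have WP := h2.le1.trans h1
  have AW : A ≤ W1 := h2.inf.ge.trans inf_le_left
  have l1 : Y.P ⊓ W1 ≤ Y.J a := by
    rw [← h.ts_C (WP hy) ty (h2.el1 y hy)]
    exact fun c hc => ⟨hc.1, mem_C1.2 (el_comm h2.el1 hc.2 hy)⟩
  have eJ : A = Y.J a := eq_of_card_eq ((le_inf AP AW).trans l1) (by rw [h2.cA, (Y.card_J h.na).1])
  rw [← eJ] at l1
  have cA := h2.cA
  have cW := h2.c1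
  rw [e4] at cA cW
  obtain ⟨r, hr, nr, zr⟩ : ∃ r ∈ W1, r ∉ Y.CT P ∧ r ∈ C[X.Z] := by
    by_contra hc
    have i : Y.P.relIndex W1 = 2 := relIndex_eq_two_iff.2 ⟨y, hy, fun w hw => by
      rcases h.el3 hx hn WP h2.el1 h2.c1.ge hw with e | e | e
      · exact .inr ⟨e, fun e' => ts_P h ty ((mul_mem_cancel_left e).1 e')⟩
      · exact .inl ⟨ts_mul h (WP hw) (WP hy) e ty, ts_P h e⟩
      · exact absurd ⟨w, hw, e⟩ hc⟩
    have i1 := card_inf_mul_relIndex Y.P W1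
    have i2 := card_le l1
    rw [i] at i1
    omega
  have pr : IsProd (Y.P ⊓ H) W1 H := isProd_of_card inf_le_right h2.le1 (by
    have := card_le ((inf_le_inf_right W1 inf_le_left).trans l1 : Y.P ⊓ H ⊓ W1 ≤ A)
    rw [cH, cX, cW]
    omega)
  have key : ∀ r ∈ W1, r ∉ Y.CT P → ∀ p ∈ Y.P ⊓ H, p ∈ C{r} → p ∈ A := fun r hr nr p hp e => by
    obtain ⟨c, hc, d, hd, rfl⟩ := h2.dec p hp.2
    rcases h2.cm r hr d hd (mul_left_cancel (a := c) (by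
      rw [← mul_assoc, el_comm h2.el1 hc hr, mul_assoc, ← mem_C1.1 e, mul_assoc])) with e | e
    · exact absurd (mem_sup_left (AP e)) nr
    · exact l1 ⟨hp.1, mul_mem hc (AW e)⟩
  have rr := h2.el1 r hr
  have zz : ∀ c ∈ Z1, c ∈ X.Z → c = 1 := fun c hc hc' => by
    obtain ⟨y', hy', e⟩ := h2.onto r (h2.le1 hr) (fun e => nr (mem_sup_left (AP e))) c hc
    obtain ⟨p, hp, w, hw, rfl⟩ := pr.mul y' hy'
    have e1 : r * p * r⁻¹ = c * p := by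
      rw [← e, ← mul_assoc r, mul_assoc _ w, ← inv_inv w, ← mul_inv_rev,
        el_comm h2.el1 hr (inv_mem hw)]
      group
    obtain ⟨c1, b, e2⟩ := sw_dec h (WP hr) nr hp.1
    have e3 : r * p * r⁻¹ = r * X.u (Y.π p).1 0 * r⁻¹ * X.u c1 b := by
      calc r * p * r⁻¹ = r * (X.u (Y.π p).1 0 * (r * X.u c1 b * r⁻¹)) * r⁻¹ := by rw [← e2]
        _ = r * X.u (Y.π p).1 0 * r⁻¹ * ((r * r) * X.u c1 b * (r * r)⁻¹) := by group
        _ = _ := by rw [rr]; group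
    have e5 := congrArg (fun g => (Y.π g).1) (e1.symm.trans e3)
    obtain ⟨b', rfl⟩ := X.mem_Z.1 hc'
    simp only [Y.π_mul _ (Y.Z_le hc') _ hp.1, Y.π_z, zero_add, Y.π_mul _ (sw_S1 h (WP hr) nr _ _).1 _
      (Y.S_le (X.u_mem_S c1 b)), Prod.fst_add, (sw_S1 h (WP hr) nr _ _).2, Y.π_u] at e5
    have e6 := sw_mem h (WP hr) nr rr zr c1 b
    rw [← e5] at e2
    rw [← e5, ← e2] at e6
    rw [mem_C1_iff_conj.1 (mem_C1_comm.1 e6)] at e1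
    exact right_eq_mul.1 e1
  obtain ⟨p, hp, np⟩ : ∃ p ∈ Y.P ⊓ H, p ∉ A := by
    by_contra hc
    have := card_le (show Y.P ⊓ H ≤ A from fun p hp => by_contra fun e => hc ⟨p, hp, e⟩)
    omega
  have pp := zz _ (h2.sq p hp.2) (Y.spc.sq p hp.1)
  rw [Y.sq p hp.1, X.z_eq_one] at pp
  obtain ⟨c1, b, e2⟩ := sw_dec h (WP hr) nr hp.1
  generalize (Y.π p).1 = a1 at e2
  obtain ⟨φ, f1, f2, f3⟩ := Y.exists_lin (h.toEnv.P_N (WP hr)) zr
  obtain ⟨m1, m2⟩ := sw_S1 h (WP hr) nr c1 b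
  have m3 := f1 _ (Y.S_le (X.u_mem_S c1 b))
  rw [Y.π_u] at m3
  have m4 : Y.π p = (a1, 0, 0) + φ (c1, 0, 0) := by
    rw [e2, Y.π_mul _ (Y.S_le (X.u_mem_S a1 0)) _ m1, Y.π_u, m3]
  rw [m3] at m2
  obtain ⟨j, hj, ej⟩ := Y.π_surj (a, 1, 0)
  have jA : j ∈ A := eJ.ge (Y.mem_J.2 ⟨hj, 1, by rw [ej, one_smul]⟩)
  have m5 := f1 j hj
  rw [← mem_C'.1 (h2.cen jA) r (h2.le1 hr), mul_inv_cancel_right, ej] at m5
  have m6 := Y.cm hp.1 hj
  rw [← mem_C'.1 (h2.cen jA) p hp.2, mul_inv_cancel_right, left_eq_mul, X.z_eq_one, ej, m4,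
    K.Bv_add_left] at m6
  nth_rewrite 2 [m5] at m6
  rw [f3] at m6
  rw [m4, K.Qv_add, f2] at pp
  simp only [UF.Bv, UF.Qv, m2, K.B_zero_right, mul_zero, zero_mul, add_zero, ne_eq, OfNat.ofNat_ne_zero,
    not_false_eq_true, zero_pow] at m6 pp
  have a0 : a ≠ 0 := fun e => by
    have := h.na
    rw [e, K.nm_zero] at this
    exact zero_ne_one this
  obtain ⟨l, hl⟩ := (K.B_eq_zero a0).1 ((K.B_add_left a1 c1 a).trans m6)
  obtain rfl : c1 = a1 + l • a := by rw [← hl, ← add_assoc, K.addF, zero_add]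
  rw [K.nm_add, K.nm_smul, h.na, K.B_smul_right] at pp
  have m7 : l * (l + K.B a1 a) = 0 := by linear_combination pp - K.nm a1 * K.two
  refine np ?_
  rcases mul_eq_zero.1 m7 with rfl | e
  · rw [zero_smul, add_zero] at e2
    exact key r hr nr p hp (e2 ▸ sw_mem h (WP hr) nr rr zr a1 b)
  · obtain rfl : l = K.B a1 a := by linear_combination e - K.B a1 a * K.two
    have zy := ts_Z h (WP hy) ty
    have hu := Y.S_le (X.u_mem_S a1 0)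
    obtain ⟨b', e3⟩ := Y.eqz (Y.S_le (X.u_mem_S (a1 + K.B a1 a • a) b))
      (conj_mem (h.toEnv.P_N (WP hy)) hu) (by rw [ty _ hu, Y.π_u, Y.π_u, K.ts_eq _ h.na, add_zero])
    have nr' : r * y ∉ Y.CT P := fun e => nr ((mul_mem_cancel_right (h.ts_CT (WP hy) ty)).1 e)
    refine key _ (mul_mem hr hy) nr' p hp ?_
    have e5 := sw_mem h (WP (mul_mem hr hy)) nr' (h2.el1 _ (mul_mem hr hy)) (mul_mem zr zy) a1 b'
    have e6 := conj_eq_of_mem_C zy (X.z_mem_Z b')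
    rwa [X.u_eq a1 b', show r * y * (X.u a1 0 * X.z b') * (r * y)⁻¹ =
      r * (y * X.u a1 0 * y⁻¹ * (y * X.z b' * y⁻¹)) * r⁻¹ by group, e6, ← e3, ← e2] at e5

end

end UV4x

open UV4x

/-! ### UV4 -/

theorem PC.exc {Y : C3D X t} (h : PC Y G0 D P a) (hx : x ∈ P) (hn : x ∉ Y.CT P) (h1 : H ≤ P)
    (h2 : Hyp 𝐪 H A Z1 W1 W2) : Z1 ≤ X.Z := by
  by_contra hZ
  obtain ⟨e4, AP, cX, cH, y, hy, ty⟩ := nums h hx hn h1 h2 hZ
  exact caseA h h1 (e4 ▸ h2) AP hy ty (fun w hw e => caseB h hx hn h1 h2 e4 AP cX cH hw e)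
    (fun w hw e => caseB h hx hn h1 (hsymm h2) e4 AP cX cH hw e)

end H2.U3
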