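import Mathlib
import Cfsg.Agent.H2.UDefs
import Cfsg.Agent.H2.UV3

set_option autoImplicit false
set_option linter.unusedVariables false
set_option linter.unusedSectionVars false

namespace H2.U3

open Cfsg H24 Subgroup
open H2.SZ (St DD Goal)
open H2.C2 (Cl2)

universe u v

variable {G : Type u} [Group G] [Finite G] {E F : Type*} [Field E] [Fintype E] [Field F] [Fintype F]
  [Algebra E F] {K : UF E F} {L G0 D P P0 Q R A B C H T M W W1 W2 Z1 Z2 : Subgroup G}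
  {t g s f x y i v p : G} {X : UD K L} {a k : F} {b : E} {ρ : F ≃+* F}

local notation "𝐪" => Fintype.card E

namespace UV5x

theorem zp2 (xx : x * x = 1) (hg : g ∈ zpowers x) : g = 1 ∨ g = x := by
  obtain ⟨n, rfl⟩ := hg
  have h2 : x ^ (2 : ℤ) = 1 := by rw [zpow_two, xx]
  rcases Int.even_or_odd' n with ⟨m, rfl | rfl⟩
  · exact .inl (by simp only [zpow_mul, h2, one_zpow])
  · exact .inr (by simp only [zpow_add, zpow_mul, h2, one_zpow, one_mul, zpow_one])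

theorem el_comm (el : ∀ a ∈ A, a * a = 1) (hx : x ∈ A) (hy : y ∈ A) : x * y = y * x := by
  have h1 := el x hx
  have h2 := el y hy
  have h3 := el _ (mul_mem hx hy)
  calc x * y = x * (x * y * (x * y)) * y := by rw [h3, mul_one]
    _ = (x * x) * (y * x) * (y * y) := by group
    _ = y * x := by rw [h1, h2, one_mul, mul_one]

/-- the commutators `s (s^x)⁻¹` along a line of `S / Z` -/
theorem line {Y : C3D X t} (h : PC Y G0 D P a) (hx : x ∈ P) (hn : x ∉ Y.CT P) (hz : x ∈ C[X.Z])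
    (xx : x * x = 1) (c : F) : ∃ ψ : Multiplicative E →* G, ∀ e : E,
      ψ (.ofAdd e) ∈ Y.P ⊓ C{x} ∧ (Y.π (ψ (.ofAdd e))).1 = e • c ∧
      ∃ s, ψ (.ofAdd e) * x = s * x * s⁻¹ := by
  have hS : ∀ s ∈ X.S, x * s * x⁻¹ ∈ Y.S1 := fun s hs => (h.swS hx hn).1 ▸ conj_mem_cj x hs
  have cm : ∀ s ∈ X.S, ∀ s' ∈ X.S, x * s * x⁻¹ * s' = s' * (x * s * x⁻¹) := fun s hs s' hs' =>
    mem_C'.1 (Y.S1_eq.le (hS s hs)).2 s' hs'
  have xz : ∀ b, x * X.z b * x⁻¹ = X.z b := fun b => conj_eq_of_mem_C hz (X.z_mem_Z b)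
  have xi : x⁻¹ = x := inv_eq_of_mul_eq_one_right xx
  let τ : E → G := fun e => X.u (e • c) 0 * (x * (X.u (e • c) 0)⁻¹ * x⁻¹)
  have hτ : ∀ e e', τ (e + e') = τ e * τ e' := fun e e' => by
    have e1 : X.u ((e + e') • c) 0 = X.u (e • c) 0 * X.u (e' • c) 0 * X.z (K.β (e • c) (e' • c)) := by
      rw [X.u_mul, X.u_z, add_smul, zero_add, zero_add, K.addE]
    have e2 : X.u (e • c) 0 * X.u (e' • c) 0 = X.u (e' • c) 0 * X.u (e • c) 0 := by
      have := X.u_conj (e • c) (e' • c) 0 0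
      rw [K.B_smul_left, K.B_smul_right, K.B_self, mul_zero, mul_zero, X.z_zero, mul_one] at this
      exact mul_inv_eq_iff_eq_mul.1 this
    have e3 := cm _ (inv_mem (X.u_mem_S (e • c) 0)) _ (X.u_mem_S (e' • c) 0)
    simp only [τ]
    rw [e1]
    generalize K.β (e • c) (e' • c) = b
    have e4 := xz b
    have e5 := X.z_sq b
    generalize X.u (e • c) 0 = s at e2 e3
    generalize X.u (e' • c) 0 = s' at e2 e3
    generalize X.z b = z at e4 e5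
    calc s * s' * z * (x * (s * s' * z)⁻¹ * x⁻¹)
        = s * s' * (z * (x * z * x⁻¹)⁻¹) * (x * (s * s')⁻¹ * x⁻¹) := by group
      _ = s * s' * (x * (s' * s)⁻¹ * x⁻¹) := by rw [e4, e2]; group
      _ = s * (s' * (x * s⁻¹ * x⁻¹)) * (x * s'⁻¹ * x⁻¹) := by group
      _ = _ := by rw [← e3]; group
  refine ⟨MonoidHom.mk' (fun e => τ e.toAdd) (fun e e' => hτ _ _), fun e => ?_⟩
  change τ e ∈ _ ∧ (Y.π (τ e)).1 = _ ∧ ∃ s, τ e * x = _
  have hs := X.u_mem_S (e • c) 0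
  have h1 := Y.mem_S1.1 (hS _ (inv_mem hs))
  refine ⟨mem_inf.2 ⟨mul_mem (Y.S_le hs) h1.1, mem_C1_comm.1 (mem_C1_iff_conj.2 ?_)⟩, ?_, X.u (e • c) 0, ?_⟩
  · have e3 := cm _ hs _ (inv_mem hs)
    have e4 := xz (K.nm (e • c))
    rw [← X.u_sq _ 0] at e4
    simp only [τ]
    generalize X.u (e • c) 0 = s at e3 e4
    calc x * (s * (x * s⁻¹ * x⁻¹)) * x⁻¹ = x * s * (x * s⁻¹ * (x * x)⁻¹) := by group
      _ = x * s * x⁻¹ * (x * x) * s⁻¹ := by rw [xx]; rw [xi]; group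
      _ = s⁻¹ * (x * (s * s) * x⁻¹) * (x * s⁻¹ * x⁻¹) := by rw [xx, mul_one, e3]; group
      _ = _ := by rw [e4]; group
  · simp only [τ]
    rw [Y.π_mul _ (Y.S_le hs) _ h1.1, Y.π_u, Prod.fst_add, h1.2, add_zero]
  · simp only [τ]
    group

end UV5x

open UV5x

/-! ### UV5 -/

theorem PC.case4 {Y : C3D X t} (h : PC Y G0 D P a) (c1 : ∀ i ∈ Y.P, X.ZZ i → i ∈ X.Z) (hx : x ∈ P)
    (hn : x ∉ Y.CT P) (hz : x ∈ C[X.Z]) : ¬ X.ZZ x := by
  intro hZ
  obtain ⟨xx, x1⟩ := hZ.sq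
  obtain ⟨cX, elX⟩ := h.sw_lin hx hn xx hz
  have BP : Y.P ≤ P := h.toEnv.B_le
  have xP : x ∉ Y.P := fun e => hn (mem_sup_left e)
  have q4 := K.four
  have hN : zpowers x ≤ N[Y.P ⊓ C{x}] := norm_of_cent (zpowers_le.2 (mem_C_iff_le_C1.2 inf_le_right))
  have el : ∀ g ∈ (Y.P ⊓ C{x}) ⊔ zpowers x, g * g = 1 := fun g hg => by
    obtain ⟨c, hc, z, hz, rfl⟩ := (mem_sup_of_norm hN).1 hg
    rcases zp2 xx hz with rfl | rfl
    · rw [mul_one]; exact elX c hc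
    · calc c * z * (c * z) = c * (z * c) * z := by group
        _ = (c * c) * (z * z) := by rw [← mem_C1.1 hc.2]; group
        _ = 1 := by rw [elX c hc, xx, mul_one]
  have lt : Y.P ⊓ C{x} < (Y.P ⊓ C{x}) ⊔ zpowers x :=
    lt_of_le_of_ne le_sup_left fun e => xP (e.ge (mem_sup_right (mem_zpowers x))).1
  have cE := card_lt lt
  have E0P : (Y.P ⊓ C{x}) ⊔ zpowers x ≤ P := sup_le (inf_le_left.trans BP) (zpowers_le.2 hx)
  have xE : x ∈ (Y.P ⊓ C{x}) ⊔ zpowers x := mem_sup_right (mem_zpowers x)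
  have XE : Y.P ⊓ C{x} ≤ (Y.P ⊓ C{x}) ⊔ zpowers x := le_sup_left
  generalize (Y.P ⊓ C{x}) ⊔ zpowers x = E0 at el cE E0P xE XE
  obtain ⟨g, b, hb, e0⟩ := id hZ
  obtain ⟨y, hy1, hy2⟩ := wc_move (g := g) (R := zpowers x) h.sylow BP h.wc (h.toEnv.piP.of_le E0P)
    (norm_of_cent (by rw [C_zpowers]; exact fun c hc => mem_C1.2 (el_comm el hc xE)))
    (zpowers_le.2 (by rw [Y.cenP, e0]; exact conj_mem_cj g (X.z_mem_Z b)))
  rw [Y.cenP] at hy2
  have xy : y * x * y⁻¹ ∈ X.Z := hy2 (conj_mem_cj y (mem_zpowers x))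
  have elW : ∀ g ∈ cj y E0, g * g = 1 := fun g hg => by
    obtain ⟨c, hc, rfl⟩ := mem_cj'.1 hg
    calc y * c * y⁻¹ * (y * c * y⁻¹) = y * (c * c) * y⁻¹ := by group
      _ = 1 := by rw [el c hc]; group
  have idx : Y.P.relIndex (cj y E0) ≤ 2 := by
    rcases h.Q4 hy1 (fun g hg => by rw [elW g hg]; exact one_mem _) with e | ⟨e, w, hw, e1⟩
    · exact e
    · exfalso
      have h1 : Y.P ⊓ cj y E0 ≤ Y.J a := by
        rw [← h.ts_C (hy1 hw) e1 (elW w hw)]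
        exact fun c hc => ⟨hc.1, mem_C1.2 (el_comm elW hc.2 hw)⟩
      have h2 := card_le h1
      have h3 := card_inf_mul_relIndex Y.P (cj y E0)
      rw [(Y.card_J h.na).1] at h2
      rw [e, card_cj] at h3
      rw [cX] at cE
      have : 𝐪 ^ 2 * 4 ≤ 𝐪 ^ 3 := by rw [pow_succ _ 2]; exact Nat.mul_le_mul_left _ q4
      omega
  have idx' : (cj y⁻¹ Y.P).relIndex E0 ≤ 2 := by
    rwa [← relIndex_cj y, cj_cj_inv]
  have key : ∀ c : F, c ≠ 0 → ∃ M : Subgroup G, M ≤ Y.P ⊓ cj y⁻¹ X.Z ∧ 𝐪 ≤ 2 * ♯M ∧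
      ∀ m ∈ M, ∃ e : E, (Y.π m).1 = e • c ∧ (e = 0 → m = 1) := fun c hc => by
    obtain ⟨ψ, hψ⟩ := line h hx hn hz xx c
    have inj : Function.Injective ψ := (injective_iff_map_eq_one ψ).2 fun e he => by
      have := (hψ e.toAdd).2.1
      rw [ofAdd_toAdd, he, Y.π_one] at this
      exact toAdd_eq_zero.1 ((smul_eq_zero.1 this.symm).resolve_right hc)
    refine ⟨((cj y⁻¹ Y.P).comap ψ).map ψ, ?_, ?_, ?_⟩
    · rintro _ ⟨e, he, rfl⟩
      obtain ⟨h1, -, s, h3⟩ := hψ e.toAdd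
      rw [ofAdd_toAdd] at h1 h3
      have h4 : y * ψ e * y⁻¹ ∈ Y.P := by simpa using mem_cj.1 he
      have h5 : y * (ψ e * x) * y⁻¹ = y * ψ e * y⁻¹ * (y * x * y⁻¹) := by group
      have h6 := c1 (y * (ψ e * x) * y⁻¹) (by rw [h5]; exact mul_mem h4 (Y.Z_le xy))
        (by rw [h3]; exact (hZ.conj s).conj y)
      rw [h5] at h6
      exact ⟨h1.1, mem_cj.2 (by simpa using (mul_mem_cancel_right xy).1 h6)⟩
    · rw [card_map_of_injective inj]
      have h1 := ((cj y⁻¹ Y.P).comap ψ).card_mul_index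
      rw [index_comap, Nat.card_congr Multiplicative.toAdd, Nat.card_eq_fintype_card (α := E)] at h1
      have h2 : (cj y⁻¹ Y.P).relIndex ψ.range ≤ 2 := (relIndex_le_of_le_right (by
        rintro _ ⟨e, rfl⟩
        exact XE (hψ e.toAdd).1) (relIndex_ne_zero' _ _)).trans idx'
      rw [← h1, mul_comm 2]
      exact Nat.mul_le_mul_left _ h2
    · rintro _ ⟨e, he, rfl⟩
      exact ⟨e.toAdd, (hψ e.toAdd).2.1, fun e0 => by rw [toAdd_eq_zero.1 e0, map_one]⟩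
  have ω0 : K.ω ≠ 0 := fun e => by
    have := K.tr_ω
    rw [e, K.tr_zero] at this
    exact zero_ne_one this
  obtain ⟨M1, l1, k1, p1⟩ := key 1 one_ne_zero
  obtain ⟨M2, l2, k2, p2⟩ := key K.ω ω0
  obtain ⟨m, hm, m1⟩ := M2.bot_or_exists_ne_one.resolve_left fun e => by
    rw [e, card_bot] at k2
    omega
  have lt1 : M1 < Y.P ⊓ cj y⁻¹ X.Z := lt_of_le_of_ne l1 fun e => by
    obtain ⟨e1, h1, -⟩ := p1 m (e.ge (l2 hm))
    obtain ⟨e2, h2, h3⟩ := p2 m hm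
    have := congrArg K.tr (h1.symm.trans h2)
    rw [K.tr_smul, K.tr_smul, K.tr_ω, ← map_one (algebraMap E F), K.tr_alg, mul_zero, mul_one] at this
    exact m1 (h3 this.symm)
  have lt2 : Y.P ⊓ cj y⁻¹ X.Z < cj y⁻¹ X.Z :=
    lt_of_le_of_ne inf_le_right fun e => xP (e.ge (mem_cj.2 (by simpa using xy))).1
  have n1 := card_lt lt1
  have n2 := card_lt lt2
  have n3 := card_mul_relIndex lt2.le
  rw [card_cj, X.card_Z] at n2 n3
  generalize (Y.P ⊓ cj y⁻¹ X.Z).relIndex (cj y⁻¹ X.Z) = r at n3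
  generalize ♯(Y.P ⊓ cj y⁻¹ X.Z) = N at n1 n2 n3
  have : 2 ≤ r := by
    by_contra hr
    have : r = 0 ∨ r = 1 := by omega
    rcases this with rfl | rfl <;> omega
  nlinarith

end H2.U3
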