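import Mathlib
import Cfsg.Agent.H2.UDefs
import Cfsg.Agent.H2.UV3

set_option autoImplicit false
set_option linter.unusedVariables false
set_option linter.unusedSectionVars false

namespace H2.U3

open Cfsg H24 Subgroup
open H2.SZ (St DD Goal)
open H2.C2 (Cl2)

universe u v

variable {G : Type u} [Group G] [Finite G] {E F : Type*} [Field E] [Fintype E] [Field F] [Fintype F]
  [Algebra E F] {K : UF E F} {L G0 D P P0 Q R A B C H T M W W1 W2 Z1 Z2 : Subgroup G}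
  {t g s f x y i v p : G} {X : UD K L} {a k : F} {b : E} {ρ : F ≃+* F}

local notation "𝐪" => Fintype.card E

theorem uv5b_zp (h : x * x = 1) (hy : y ∈ zpowers x) : y = 1 ∨ y = x := by
  obtain ⟨n, rfl⟩ := hy
  have h2 : x ^ (2 : ℤ) = 1 := by rw [zpow_two, h]
  rcases Int.even_or_odd' n with ⟨k, rfl | rfl⟩
  · left; simp only [zpow_mul, h2, one_zpow]
  · right; simp only [zpow_add, zpow_mul, h2, one_zpow, one_mul, zpow_one]

theorem uv5b_A {Y : C3D X t} (hx : x ∈ N[Y.P]) (xx : x * x = 1) (hz : x ∉ C[X.Z])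
    (hg : g ∈ X.Z ⊓ C{x}) : ∃ z ∈ X.Z, g = z * (x * z * x⁻¹) := by
  obtain ⟨φ, μ, m, m0, -, -, hμ, -⟩ := Y.exists_ac hx
  have e1 : ∀ b, m * μ (m * μ b) = b := fun b => X.z_inj (by
    rw [← hμ, ← hμ]
    calc x * (x * X.z b * x⁻¹) * x⁻¹ = x * x * X.z b * (x * x)⁻¹ := by group
      _ = X.z b := by rw [xx]; group)
  have e2 : m * μ m = 1 := by simpa using e1 1
  have e3 : ∀ b, μ (μ b) = b := fun b => by
    have := e1 b
    rwa [map_mul, ← mul_assoc, e2, one_mul] at this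
  obtain ⟨θ, hθ⟩ : ∃ θ, θ + μ θ ≠ 0 := by
    by_contra hn
    push Not at hn
    have e4 : ∀ b, μ b = b := fun b => by linear_combination hn b - K.addE b
    have e5 : m = 1 := K.sq_inj (by rw [one_pow, sq, ← e2, e4])
    refine hz (mem_C'.2 fun z hz => ?_)
    obtain ⟨b, rfl⟩ := X.mem_Z.1 hz
    rw [← mul_inv_eq_iff_eq_mul, hμ, e5, one_mul, e4]
  obtain ⟨b, rfl⟩ := X.mem_Z.1 hg.1
  have e6 : m * μ b = b := X.z_inj (by rw [← hμ]; exact mem_C1_iff_conj.1 (mem_C1_comm.1 hg.2))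
  refine ⟨X.z (θ * b / (θ + μ θ)), X.z_mem_Z _, ?_⟩
  rw [hμ, X.z_mul, map_div₀, map_mul, map_add, e3, add_comm (μ θ)]
  congr 1
  field_simp
  linear_combination (-μ θ) * e6

theorem uv5b_t {Y : C3D X t} (h : PC Y G0 D P a) (hx : x ∈ P) (hn : x ∉ Y.CT P) (hy : y ∈ P)
    (e : x * y = y * x) : y * t ∉ Y.P := fun h1 => by
  have tN := Y.t_N
  have xN := h.toEnv.P_N hx
  have tt : t * t = 1 := h.tt
  have a1 : Y.Ac y (K.rf Y.n (0, 1, 0)) := by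
    have := (C3D.ac_P h1).mul C3D.ac_t tN
    rwa [mul_assoc, tt, mul_one] at this
  have a2 : Y.Ac y (K.rf Y.n (a, 0, 0)) := by
    have := (C3D.ac_P (conj_mem xN h1)).mul (h.sw x hx hn) (mul_mem (mul_mem xN tN) (inv_mem xN))
    rwa [show x * (y * t) * x⁻¹ * (x * t * x⁻¹) = y by
      rw [conj_mul, mul_assoc y, tt, mul_one, e, mul_inv_cancel_right]] at this
  have := a1.uniq a2 (0, 0, 1)
  rw [K.rf_e, K.rf_a _ h.na] at this
  simpa using congrArg (fun v => v.2.1) this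

/-! ### UV5b -/

theorem PC.case5 {Y : C3D X t} (h : PC Y G0 D P a) (c1 : ∀ i ∈ Y.P, X.ZZ i → i ∈ X.Z) (hx : x ∈ P)
    (hn : x ∉ Y.CT P) (hz : x ∉ C[X.Z]) : ¬ X.ZZ x := fun hZ => by
  have xx := hZ.sq.1
  have BP : Y.P ≤ P := h.toEnv.B_le
  have PN : P ≤ N[Y.P] := h.toEnv.P_N
  have ZP : X.Z ≤ Y.P := Y.Z_le
  have piP := h.toEnv.piP
  have xP : x ∉ Y.P := fun e => hn (mem_sup_left e)
  obtain ⟨Z1, sp, Z1ne, hZ1⟩ := h.sw_spc hx hn xx hz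
  have idx := h.sw_idx hx hn xx
  have AZ : X.Z ⊓ C{x} = Z1 := le_antisymm (fun g hg => (hZ1 g).2 (uv5b_A (PN hx) xx hz hg)) sp.Z_le
  rw [AZ] at sp idx
  have Z1Z : Z1 ≤ X.Z := AZ ▸ inf_le_left
  have Z1x : Z1 ≤ C{x} := AZ ▸ inf_le_right
  have zz : ∀ g, ∀ z ∈ X.Z, z ≠ 1 → X.ZZ (g * z * g⁻¹) := fun g z hz z1 => by
    obtain ⟨b, rfl⟩ := X.mem_Z.1 hz
    exact ⟨g, b, fun e => z1 (X.z_eq_one.2 e), rfl⟩
  have four := K.four
  -- step 1
  obtain ⟨y1, hy1, hy1'⟩ : ∃ y, cj y ((Y.P ⊓ C{x}) ⊔ zpowers x) ≤ P ∧ cj y (zpowers x) ≤ X.Z := by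
    obtain ⟨g, b, -, e⟩ := hZ
    rw [← Y.cenP]
    refine wc_move (g := g) h.sylow BP h.wc
      (piP.of_le (sup_le (inf_le_left.trans BP) (zpowers_le.2 hx)))
      (norm_zpowers_of_cent (sup_le inf_le_right (zpowers_le_C1 x))) ?_
    rw [Y.cenP, zpowers_le, e]
    exact conj_mem_cj g (X.z_mem_Z b)
  have s1 : cj y1 Z1 ≤ X.Z := by
    have H1 : cj y1 (Y.P ⊓ C{x}) ≤ P := (cj_mono y1 le_sup_left).trans hy1
    have sp1 := sp.cj y1
    intro z' hz'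
    by_contra hn'
    have z'P : z' ∉ Y.P := fun e => by
      obtain ⟨z, hz, rfl⟩ := mem_cj'.1 hz'
      exact hn' (c1 _ e (zz y1 z (Z1Z hz) fun e1 => hn' (by rw [e1]; simp)))
    have := h.Q8 (H := cj y1 Z1) H1 (fun p hp => by
      by_contra hp'
      obtain ⟨w, hw, e⟩ := sp1.onto p hp.1 hp' z' hz'
      refine z'P ?_
      rw [← e, mul_assoc, mul_assoc, ← mul_assoc w]
      exact mul_mem hp.2 (conj_mem (PN (H1 hw)) (inv_mem hp.2))) sp1.sq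
    rw [relIndex_cj, idx] at this
    nlinarith
  -- step 2
  have RC : Z1 ⊔ zpowers x ≤ C{x} := sup_le Z1x (zpowers_le_C1 x)
  have ablR : Z1 ⊔ zpowers x ≤ C[Z1 ⊔ zpowers x] :=
    cents_sup (sup_le (Z1Z.trans (cents_of_le X.abl_Z.le_C Z1Z))
      (zpowers_le.2 (mem_C_iff_le_C1.2 Z1x))) (by rwa [C_zpowers])
  have HC : Y.P ⊓ C{x} ≤ C[Z1 ⊔ zpowers x] :=
    cents_sup (inf_le_left.trans (cents_of_le Y.zc Z1Z)) (by rw [C_zpowers]; exact inf_le_right)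
  obtain ⟨y, hy, hy'⟩ : ∃ y, cj y ((Y.P ⊓ C{x}) ⊔ X.Z ⊔ zpowers x) ≤ P ∧
      cj y (Z1 ⊔ zpowers x) ≤ X.Z := by
    rw [← Y.cenP]
    refine wc_move (g := y1⁻¹) h.sylow BP h.wc
      (piP.of_le (sup_le (sup_le (inf_le_left.trans BP) (inf_le_left.trans BP)) (zpowers_le.2 hx)))
      (sup_le (sup_le (norm_of_cent HC) ?_) (norm_of_le le_sup_right)) ?_
    · rw [Y.cenP]
      intro z hz
      refine mem_N_of_cj_le ?_
      rw [cj_sup, cj_of_mem_C (cents_of_le X.abl_Z.le_C Z1Z hz), cj_zpowers]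
      refine sup_le le_sup_left (zpowers_le.2 ?_)
      obtain ⟨b, rfl⟩ := X.mem_Z.1 hz
      rw [X.z_inv, show X.z b * x * X.z b = X.z b * (x * X.z b * x⁻¹) * x by group]
      exact mul_mem (mem_sup_left ((hZ1 _).2 ⟨_, hz, rfl⟩)) (mem_sup_right (mem_zpowers x))
    · rw [Y.cenP, ← cj_le_iff, cj_sup]
      exact sup_le s1 hy1'
  have H2 : cj y (Y.P ⊓ C{x}) ≤ P := (cj_mono y (le_sup_left.trans le_sup_left)).trans hy
  have H3 : cj y X.Z ≤ P := (cj_mono y (le_sup_right.trans le_sup_left)).trans hy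
  have xy : y * x * y⁻¹ ∈ X.Z := hy' (conj_mem_cj y (mem_sup_right (mem_zpowers x)))
  have back : ∀ z ∈ X.Z, y * z * y⁻¹ ∈ C[X.Z] → z ∈ Z1 := fun z hz e => by
    rw [← AZ]
    refine ⟨hz, mem_C1.2 ?_⟩
    have := mem_C'.1 e _ xy
    rwa [conj_mul, conj_mul, mul_left_inj, mul_right_inj] at this
  have el : ∀ b ∈ cj y X.Z, b * b = 1 := fun b hb => by
    obtain ⟨z, hz, rfl⟩ := mem_cj'.1 hb
    obtain ⟨c, rfl⟩ := X.mem_Z.1 hz
    rw [conj_mul, X.z_sq]; group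
  have eqZ : cj y (Z1 ⊔ zpowers x) = X.Z := by
    have i1 := h.toEnv.idxZ H3 fun b hb => by rw [el b hb]; exact one_mem _
    have i2 : (cj y Z1).relIndex (cj y X.Z) ≤ 2 := by
      rw [← inf_relIndex_right] at i1
      refine le_trans (relIndex_le_of_le_left (fun g hg => ?_) (relIndex_ne_zero' _ _)) i1
      obtain ⟨z, hz, rfl⟩ := mem_cj'.1 hg.2
      exact conj_mem_cj y (back z hz hg.1)
    rw [relIndex_cj] at i2
    have i3 := card_mul_relIndex Z1Z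
    have i4 := card_mul_relIndex (le_sup_left : Z1 ≤ Z1 ⊔ zpowers x)
    have i5 : 2 ≤ Z1.relIndex (Z1 ⊔ zpowers x) := by
      have n0 : Z1.relIndex (Z1 ⊔ zpowers x) ≠ 0 := relIndex_ne_zero' _ _
      have n1 : Z1.relIndex (Z1 ⊔ zpowers x) ≠ 1 := fun e =>
        xP (ZP (Z1Z (relIndex_eq_one.1 e (mem_sup_right (mem_zpowers x)))))
      omega
    refine eq_of_le_of_card_ge hy' ?_
    rw [card_cj, ← i3, ← i4]
    exact Nat.mul_le_mul_left _ (i2.trans i5)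
  obtain ⟨z, hz', zx⟩ : ∃ z ∈ X.Z, z ∉ Z1 := by
    by_contra hn
    push Not at hn
    exact hz (mem_C_iff_le_C1.2 fun z hz => Z1x (hn z hz))
  have bP := H3 (conj_mem_cj y hz')
  have bb := el _ (conj_mem_cj y hz')
  have bZ : y * z * y⁻¹ ∉ C[X.Z] := fun e => zx (back z hz' e)
  have bC : y * z * y⁻¹ ∉ Y.CT P := fun e => bZ (h.sqZ e (by rw [bb]; exact one_mem _))
  have key : ∀ g ∈ Y.P ⊓ C{x}, y * g * y⁻¹ ∈ Y.P ∨ Y.Ac (y * g * y⁻¹) (K.ts Y.n a) := by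
    intro g hg
    have gP := H2 (conj_mem_cj y hg)
    have gZ : y * g * y⁻¹ ∈ C[X.Z] := by
      rw [← eqZ, ← cj_C]; exact conj_mem_cj y (HC hg)
    have e : y * z * y⁻¹ * (y * g * y⁻¹) = y * g * y⁻¹ * (y * z * y⁻¹) := by
      rw [conj_mul, conj_mul, mem_C.1 (Y.zc hg.1) z hz']
    have gg : y * g * y⁻¹ * (y * g * y⁻¹) ∈ Y.P := by
      rw [conj_mul]; exact ZP (hy' (conj_mem_cj y (mem_sup_left (sp.sq g hg))))
    generalize y * g * y⁻¹ = g' at gP gZ e gg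
    generalize y * z * y⁻¹ = b at bP bb bZ bC e
    have gC : g' ∈ Y.CT P := by
      by_contra gC
      have := h.sqZ (h.idx gP bP gC bC) (by
        rwa [mul_assoc, ← mul_assoc b, e, mul_assoc, bb, mul_one])
      exact bZ ((mul_mem_cancel_left gZ).1 this)
    rcases h.lin g' gC gZ with e1 | e1 | e1 | e1
    · exact .inl e1
    · exact (uv5b_t h bP bC gP e e1).elim
    · have := h.sw' bP bC gP e1
      rw [e, mul_inv_cancel_right] at this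
      exact (uv5b_t h bP bC gP e this).elim
    · exact .inr e1
  obtain ⟨⟨z0, hz0⟩, z01⟩ := (Subgroup.ne_bot_iff_exists_ne_one).1 Z1ne
  obtain ⟨b0, rfl⟩ := X.mem_Z.1 (Z1Z hz0)
  obtain ⟨c, rfl⟩ := K.nm_surj b0
  have c0 : c ≠ 0 := fun e => z01 (Subtype.ext (X.z_eq_one.2 (K.nm_eq_zero.2 e)))
  have hg0 := (h.sw_C hx hn xx).2 ⟨X.u c 0, X.u_mem_S c 0, _, ⟨Z1Z hz0, Z1x hz0⟩, rfl⟩
  have e0 : X.u c 0 * x * (X.u c 0)⁻¹ = X.u c 0 * (x * X.u c 0 * x⁻¹) * X.z (K.nm c) * x := by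
    rw [X.u_inv, zero_add, X.u_eq c (K.nm c), mul_assoc _ (X.z _), mem_C1.1 (Z1x hz0)]; group
  have hZ' := (hZ.conj (X.u c 0)).conj y
  rw [e0, ← conj_mul] at hZ'
  have sP : X.u c 0 ∈ Y.P := Y.S_le (X.u_mem_S c 0)
  have s1' : x * X.u c 0 * x⁻¹ ∈ Y.S1 := (h.swS hx hn).1 ▸ conj_mem_cj x (X.u_mem_S c 0)
  have π0 : (Y.π (X.u c 0 * (x * X.u c 0 * x⁻¹) * X.z (K.nm c))).1 = c := by
    rw [Y.π_mz (mul_mem sP (Y.mem_S1.1 s1').1), Y.π_mul _ sP _ (Y.mem_S1.1 s1').1, Prod.fst_add,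
      Y.π_u, (Y.mem_S1.1 s1').2, add_zero]
  generalize X.u c 0 * (x * X.u c 0 * x⁻¹) * X.z (K.nm c) = g0 at hg0 hZ' π0
  rcases key g0 hg0 with e | e
  · have m1 := (mul_mem_cancel_right xy).1 (c1 _ (mul_mem e (ZP xy)) hZ')
    rw [← eqZ, conj_mem_cj_iff, mem_sup_of_norm (zpowers_le.2 (C_le_N _ (mem_C_iff_le_C1.2 Z1x)))] at m1
    obtain ⟨z1, hz1, x1, hx1, rfl⟩ := m1
    rcases uv5b_zp xx hx1 with rfl | rfl
    · obtain ⟨b1, rfl⟩ := X.mem_Z.1 (Z1Z hz1)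
      rw [mul_one, Y.π_z] at π0
      exact c0 π0.symm
    · exact xP ((mul_mem_cancel_left (ZP (Z1Z hz1))).1 hg0.1)
  · exact h.lemT (mul_mem (H2 (conj_mem_cj y hg0)) (BP (ZP xy)))
      (e.mul (C3D.ac_P (ZP xy)) (norm_self _ (ZP xy))) hZ'

end H2.U3
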