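import Mathlib
import Cfsg.Agent.H2.UDefs
import Cfsg.Agent.H2.UV4
import Cfsg.Agent.H2.UV5
import Cfsg.Agent.H2.UV5b

set_option autoImplicit false
set_option linter.unusedVariables false
set_option linter.unusedSectionVars false

namespace H2.U3

open Cfsg H24 Subgroup
open H2.SZ (St DD Goal)
open H2.C2 (Cl2)

universe u v

variable {G : Type u} [Group G] [Finite G] {E F : Type*} [Field E] [Fintype E] [Field F] [Fintype F]
  [Algebra E F] {K : UF E F} {L G0 D P P0 Q R A B C H T M W W1 W2 Z1 Z2 : Subgroup G}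
  {t g s f x y i v p : G} {X : UD K L} {a k : F} {b : E} {ρ : F ≃+* F}

local notation "𝐪" => Fintype.card E

/-! ### UV6 -/

theorem PC.v6 {Y : C3D X t} (h : PC Y G0 D P a) (hz : X.ZZ i) (h1 : H ≤ Y.P ⊓ C{i})
    (k : ∀ y, cj y H ≤ P → cj y X.Z ≤ X.Z) : i ∈ X.Z := by
  obtain ⟨g, b, -, e⟩ := hz
  obtain ⟨y, y1, y2⟩ := wc_move (g := g) (R := zpowers i) h.sylow h.B_le h.wc (h.pi.of_le (h1.trans inf_le_left))
    (fun x hx => C_le_N _ (mem_C.2 fun w hw => by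
      obtain ⟨n, rfl⟩ := mem_zpowers_iff.1 hw
      exact ((Commute.zpow_right (mem_C1.1 (h1 hx).2) n).eq).symm))
    (by rw [Y.cenP, zpowers_le, e]; exact conj_mem_cj g (X.z_mem_Z b))
  rw [Y.cenP] at y2
  exact (mem_N.1 (mem_N_of_cj_le (k y y1)) i).2 (y2 (conj_mem_cj y (mem_zpowers i)))

theorem PC.case1 {Y : C3D X t} (h : PC Y G0 D P a) (hi : i ∈ Y.P) (hz : X.ZZ i) : i ∈ X.Z := by
  by_contra hn
  by_cases hB : ∀ x ∈ P, x ∈ Y.CT P
  · obtain ⟨A, -, s, e⟩ := C3D.sing_spc hi hz.sq.1 hn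
    exact hn (h.v6 hz le_rfl fun y k => h.keyA (fun x hx => hB x (k hx)) (s.cj y) (by rwa [relIndex_cj]))
  · obtain ⟨x, hx, xn⟩ : ∃ x ∈ P, x ∉ Y.CT P := by simpa using hB
    obtain ⟨A, W1, W2, s⟩ := C3D.sing_hyp (h.an hx xn) hi hz.sq.1 hn
    exact hn (h.v6 hz le_rfl fun y k => h.exc hx xn k (s.cj y))

theorem PC.goal {Y : C3D X t} (h : PC Y G0 D P a) : Goal G0 t := by
  refine h.E3 h.sylow X.abl_Z le_rfl ⟨Y.Z_le.trans h.B_le, fun v hv g hg => ?_⟩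
  obtain ⟨b, rfl⟩ := X.mem_Z.1 hv
  by_cases b0 : b = 0
  · simp [b0, X.z_zero]
  have hz : X.ZZ (g * X.z b * g⁻¹) := ⟨g, b, b0, rfl⟩
  have nd : ¬ DD t (g * X.z b * g⁻¹) := fun k => h.zn b k.of_conj
  generalize g * X.z b * g⁻¹ = i at hg hz nd
  have ii := hz.sq.1
  by_cases hc : i ∈ Y.CT P
  · rcases h.lin i hc (h.sqZ hc (ii ▸ one_mem _)) with e | e | e | e
    · exact h.case1 e hz
    · obtain ⟨c, -, e⟩ := h.ddB e ii
      exact absurd ⟨c, e⟩ nd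
    · by_cases hB : ∀ x ∈ P, x ∈ Y.CT P
      · obtain ⟨s, e⟩ := C3D.rf_spc e (by simp [UF.Qv, h.na]) (h.P_N hg) ii
        exact h.v6 hz le_rfl fun y k => h.keyA (fun x hx => hB x (k hx)) (s.cj y) (by rwa [relIndex_cj])
      · obtain ⟨x, hx, xn⟩ : ∃ x ∈ P, x ∉ Y.CT P := by simpa using hB
        exact absurd (h.dd_a hx xn hg e ii) nd
    · exact absurd hz (h.lemT hg e)
  · by_cases hZ : i ∈ C[X.Z]
    · exact absurd hz (h.case4 (fun _ => h.case1) hg hc hZ)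
    · exact absurd hz (h.case5 (fun _ => h.case1) hg hc hZ)

end H2.U3
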