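import Mathlib
import Cfsg.Agent.H2.ZDefs
import Cfsg.Agent.H2.ZA1
import Cfsg.Agent.H2.ZS

set_option autoImplicit false
set_option linter.unusedVariables false
set_option linter.unusedSectionVars false

namespace H2.SZ

open Cfsg H24 Subgroup
open H2.C2 (Cl2)

universe u

variable {G : Type u} [Group G] [Finite G] {F : Type*} [Field F] [Fintype F] {K : FD F}
  {L G0 D P P0 Q R A C T E : Subgroup G} {t g s φ : G} {X : SzD K L} {c : F}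

/-! ### Z0 -/

theorem odd_mem {H : Subgroup G} (h : PiElt {2}ᶜ g) (m : g * g ∈ H) : g ∈ H :=
  zpowers_le.2 (by rwa [sq] : g ^ 2 ∈ H) (mem_zpowers_pow_iff.2 ((piNat_compl_iff_coprime Nat.prime_two).1 h))

theorem cl2_of_sq' {U : Subgroup G} (h1 : P ≤ C[U]) (h2 : ∀ p ∈ P, p * p ∈ U) : Cl2 P := by
  refine le_trans (commutator_le.2 fun a ha b hb => ?_) (cents_symm h1)
  have := mul_mem (mul_mem (h2 a ha) (h2 _ (mul_mem (inv_mem ha) hb))) (inv_mem (h2 b hb))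
  rwa [show a * a * (a⁻¹ * b * (a⁻¹ * b)) * (b * b)⁻¹ = a * b * a⁻¹ * b⁻¹ by group] at this

theorem QD.qf_conj (Y : QD X t D) {p a : G} (hp : p ∈ N[Y.Q] ⊓ C[X.Z]) (ha : a ∈ Y.Q) :
    K.qf Y.c1 Y.c2 (Y.π (p * a * p⁻¹)) = K.qf Y.c1 Y.c2 (Y.π a) := X.z_inj (by
  rw [← Y.sq _ (conj_mem hp.1 ha), conj_mul, Y.sq a ha, conj_eq_of_mem_C hp.2 (X.z_mem_Z _)])

theorem QD.bf_conj (Y : QD X t D) {p a b : G} (hp : p ∈ N[Y.Q] ⊓ C[X.Z]) (ha : a ∈ Y.Q) (hb : b ∈ Y.Q) :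
    K.bf Y.c2 (Y.π (p * a * p⁻¹)) (Y.π (p * b * p⁻¹)) = K.bf Y.c2 (Y.π a) (Y.π b) := by
  have := Y.qf_conj hp (mul_mem ha hb)
  rw [← conj_mul, Y.π_mul _ (conj_mem hp.1 ha) _ (conj_mem hp.1 hb), Y.π_mul a ha b hb, K.qf_add, K.qf_add,
    Y.qf_conj hp ha, Y.qf_conj hp hb] at this
  exact add_left_cancel this

namespace Z0

variable {Y : QD X t D} (h : Cs Y G0 0)
include h

theorem q0 (r : F × F × F) : K.qf Y.c1 Y.c2 r = K.nm r.2.1 + r.1 * r.2.2 := by rw [h.qf_eq, zero_add]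

theorem sqU {u : G} (hu : u ∈ Y.U0) : u * u = 1 :=
  (Y.sq_iff hu.1).2 (by rw [q0 h, hu.2.1, hu.2.2, K.nm_zero, zero_mul, add_zero])

theorem no_dd (h1 : s ∈ C[X.Z]) (h2 : s ∈ C[Y.U0]) (hs : DD t s) : False := by
  obtain ⟨g, hg, rfl⟩ := h.F2 hs h1
  obtain ⟨u, hu, e⟩ := Y.exists_U0 1
  have := h.inZ (conj_mem (N_le_NC _ (inv_mem hg)) (Y.zc hu.1)) (by rw [conj_mul, sqU h hu]; simp) (by
    calc _ = g⁻¹ * (u * (g * t * g⁻¹)) * g := by group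
      _ = _ := by rw [mem_C.1 h2 _ hu]; group)
    fun hd => zero_ne_one (hu.2.1.symm.trans (h.dd_Q Y hd.of_conj hu.1))
  obtain ⟨b, e1⟩ := (mem_N.1 (inv_mem hg) u).2 this
  rw [e1, Y.π_z] at e
  exact zero_ne_one (congrArg (·.2.2) e)

variable {p : G} (hp : p ∈ N[Y.Q] ⊓ C[X.Z])
include hp

theorem πt : Y.π (p * t * p⁻¹) = (1, (Y.π (p * t * p⁻¹)).2.1, K.nm (Y.π (p * t * p⁻¹)).2.1) := by
  have m := conj_mem hp.1 Y.t_mem
  have e1 := h.dd_Q Y ((DD.refl t).conj p) m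
  have e2 := (Y.sq_iff m).1 (DD.sq h.toSt ((DD.refl t).conj p)).1
  rw [q0 h, e1, one_mul] at e2
  exact Prod.ext e1 (Prod.ext rfl (K.eq_of_add e2).symm)

theorem actQ {q : G} (hq : q ∈ Y.Q0) : Y.π (p * q * p⁻¹) =
    (0, (Y.π q).2.1, (Y.π q).2.2 + K.B (Y.π (p * t * p⁻¹)).2.1 (Y.π q).2.1) := by
  have m := conj_mem (h.NQ_Q0 hp.1) hq
  have e1 := Y.qf_conj hp hq.1
  have e2 := Y.bf_conj hp Y.t_mem hq.1
  rw [q0 h, q0 h, m.2, hq.2, zero_mul, zero_mul, add_zero, add_zero] at e1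
  replace e1 := K.nm_inj e1
  rw [h.bf_eq, h.bf_eq, Y.π_t, πt h hp, m.2, hq.2, e1, K.B_zero_left] at e2
  refine Prod.ext m.2 (Prod.ext e1 ?_)
  linear_combination e2 - K.add_self (K.B (Y.π (p * t * p⁻¹)).2.1 (Y.π q).2.1)

theorem s_mul {p' : G} (hp' : p' ∈ N[Y.Q] ⊓ C[X.Z]) : (Y.π (p * p' * t * (p * p')⁻¹)).2.1 =
    (Y.π (p * t * p⁻¹)).2.1 + (Y.π (p' * t * p'⁻¹)).2.1 := by
  have m := conj_mem hp'.1 Y.t_mem
  have e := Y.π_mul _ Y.t_mem _ m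
  rw [Y.π_t, πt h hp'] at e
  have m' : t * (p' * t * p'⁻¹) ∈ Y.Q0 := ⟨mul_mem Y.t_mem m, by rw [e]; exact K.add_self 1⟩
  rw [show p * p' * t * (p * p')⁻¹ = p * t * p⁻¹ * (p * (t * (p' * t * p'⁻¹)) * p⁻¹) by
    rw [conj_mul, ← mul_assoc t, h.tt]; group, Y.π_mul _ (conj_mem hp.1 Y.t_mem) _
    (conj_mem hp.1 m'.1), actQ h hp m', e]
  simp

theorem s_zero (e : (Y.π (p * t * p⁻¹)).2.1 = 0) : ∃ b, p * t * p⁻¹ = t * X.z b :=
  Y.eqz (conj_mem hp.1 Y.t_mem) Y.t_mem (by rw [πt h hp, e, Y.π_t, K.nm_zero])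

theorem s_Q (h2 : PiElt {2} p) (e : (Y.π (p * t * p⁻¹)).2.1 = 0) : p ∈ Y.Q :=
  let ⟨_, e1⟩ := s_zero h hp e
  h.CQ2 Y hp.2 h2 e1

theorem sq_Q (h2 : PiElt {2} p) : p * p ∈ Y.Q :=
  s_Q h (mul_mem hp hp) (h2.mul h2 rfl) (by rw [s_mul h hp hp, K.add_self])

theorem oddD (h2 : PiElt {2}ᶜ p) : p ∈ D := by
  obtain ⟨b, e⟩ := s_zero h (mul_mem hp hp) (by rw [s_mul h hp hp, K.add_self])
  refine h.odd_D hp.2 (mem_C1.1 (odd_mem h2 (odd_mem (h2.mul h2 rfl) (mem_C1.2 ?_)))) h2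
  have m := (mul_mem hp hp).2
  generalize p * p = r at e m
  rw [← mul_inv_eq_iff_eq_mul, show r * r * t * (r * r)⁻¹ = r * (r * t * r⁻¹) * r⁻¹ by group, e, ← conj_mul, e,
    conj_eq_of_mem_C m (X.z_mem_Z _), mul_assoc, X.z_sq, mul_one]

theorem s_h (k : Fˣ) : X.h k * p * (X.h k)⁻¹ ∈ N[Y.Q] ⊓ C[X.Z] ∧
    (Y.π (X.h k * p * (X.h k)⁻¹ * t * (X.h k * p * (X.h k)⁻¹)⁻¹)).2.1 = k * (Y.π (p * t * p⁻¹)).2.1 := by
  refine ⟨⟨conj_mem (norm_self _ (Y.h_N k)) hp.1, conj_mem (N_le_NC _ (X.h_NZ k)) hp.2⟩, ?_⟩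
  rw [show X.h k * p * (X.h k)⁻¹ * t * (X.h k * p * (X.h k)⁻¹)⁻¹ = X.h k * (p * t * p⁻¹) * (X.h k)⁻¹ by
    conv_lhs => rw [← h.ht X k]
    rw [conj_inv, conj_mul, conj_mul], Y.π_h k _ (conj_mem hp.1 Y.t_mem)]

theorem exists_l : ∃ l : F →+ F, ∀ u ∈ Y.U0, p * u * p⁻¹ = u * X.z (l (Y.π u).2.2) :=
  h.exists_l hp.2 fun u hu => Y.eqz (conj_mem hp.1 hu.1) hu.1 (by
    rw [actQ h hp (Y.U0_Q0 hu), hu.2.2, K.B_zero_right, add_zero, ← Y.π_U0 hu])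

theorem HH (h2 : PiElt {2} p) {l : F → F} (hl : ∀ u ∈ Y.U0, p * u * p⁻¹ = u * X.z (l (Y.π u).2.2)) (x : F) :
    l (K.B (Y.π (p * t * p⁻¹)).2.1 x) = K.B (Y.π (p * p)).2.1 x := by
  have m := conj_mem hp.1 (Y.u_mem x 0)
  have e := Y.π_mul _ (inv_mem (Y.u_mem x 0)) _ m
  rw [Y.π_inv (Y.u_mem x 0), actQ h hp (Y.u_Q0 x 0), Y.π_u] at e
  simp only [Prod.mk_add_mk, K.add_self, zero_add] at e
  have m' : (X.u x 0)⁻¹ * (p * X.u x 0 * p⁻¹) ∈ Y.U0 :=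
    ⟨mul_mem (inv_mem (Y.u_mem x 0)) m, by rw [e], by rw [e]⟩
  have e1 := Y.cm (sq_Q h hp h2) (Y.u_mem x 0)
  have e2 := hl _ m'
  rw [e] at e2
  rw [Y.π_u, h.bf_eq, show p * p * X.u x 0 * (p * p)⁻¹ = X.u x 0 * ((X.u x 0)⁻¹ * (p * X.u x 0 * p⁻¹) *
    (p * ((X.u x 0)⁻¹ * (p * X.u x 0 * p⁻¹)) * p⁻¹)) by group, e2, ← mul_assoc _ _ (X.z _), sqU h m', one_mul,
    mul_right_inj] at e1
  simpa using X.z_inj e1

omit hp in
theorem dich (h1 : P ≤ N[Y.Q] ⊓ C[X.Z]) (h2 : IsPi {2} P) (h3 : ∀ k, X.h k ∈ N[P]) (hp : p ∈ P) :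
    p ∈ C[Y.U0] ∨ p * t ∈ C[Y.U0] ∧ (p * p = 1 → p ∈ Y.Q) := by
  have : ∀ p, ∃ l : F →+ F, p ∈ P → ∀ u ∈ Y.U0, p * u * p⁻¹ = u * X.z (l (Y.π u).2.2) := fun p => by
    by_cases hp : p ∈ P
    · exact (exists_l h (h1 hp)).imp fun l k _ => k
    · exact ⟨0, fun k => absurd k hp⟩
  choose l hl using this
  obtain ⟨σ, hσ⟩ : ∃ σ : G → F, ∀ p, σ p = (Y.π (p * t * p⁻¹)).2.1 := ⟨_, fun _ => rfl⟩
  have σm : ∀ a ∈ P, ∀ b ∈ P, σ (a * b) = σ a + σ b := fun a ha b hb => by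
    rw [hσ, hσ, hσ, s_mul h (h1 ha) (h1 hb)]
  have σh : ∀ k, ∀ a ∈ P, σ (X.h k * a * (X.h k)⁻¹) = k * σ a := fun k a ha => by
    rw [hσ, hσ, (s_h h (h1 ha) k).2]
  have hm : ∀ k, ∀ a ∈ P, X.h k * a * (X.h k)⁻¹ ∈ P := fun k a ha => conj_mem (h3 k) ha
  have lm : ∀ a ∈ P, ∀ b ∈ P, ∀ y, l (a * b) y = l a y + l b y := fun a ha b hb y => by
    obtain ⟨u, hu, e⟩ := Y.exists_U0 y
    have := hl _ (mul_mem ha hb) u hu
    rw [show a * b * u * (a * b)⁻¹ = a * (b * u * b⁻¹) * a⁻¹ by group, hl b hb u hu, ← conj_mul, hl a ha u hu,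
      conj_eq_of_mem_C (h1 ha).2 (X.z_mem_Z _), mul_assoc, X.z_mul, mul_right_inj, e] at this
    exact (X.z_inj this).symm
  have lh : ∀ k, ∀ a ∈ P, ∀ y, l (X.h k * a * (X.h k)⁻¹) (K.nm k * y) = K.nm k * l a y := fun k a ha y => by
    obtain ⟨u, hu, e⟩ := Y.exists_U0 y
    have := hl _ (hm k a ha) _ (conj_mem (Y.h_U0 k) hu)
    rw [conj_inv, conj_mul, conj_mul, hl a ha u hu, ← conj_mul, X.h_z, mul_right_inj, Y.π_h k u hu.1, e] at this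
    exact (X.z_inj this).symm
  have lq : ∀ a ∈ P, σ a = 0 → ∃ ε, (ε = 0 ∨ ε = 1) ∧ ∀ y, l a y = ε * y := fun a ha e => by
    have m := s_Q h (h1 ha) (h2.piElt ha) (hσ a ▸ e)
    refine ⟨_, Y.π_wd a m, fun y => ?_⟩
    obtain ⟨u, hu, e⟩ := Y.exists_U0 y
    have := (hl a ha u hu).symm.trans (h.cU m hu)
    rw [mul_right_inj, e] at this
    exact X.z_inj this
  have H : ∀ a ∈ P, ∀ x, l a (K.B (σ a) x) = K.B (Y.π (a * a)).2.1 x := fun a ha x =>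
    hσ a ▸ HH h (h1 ha) (h2.piElt ha) (hl a ha) x
  have nms : ∀ (k : Fˣ) y, ∃ y', y = K.nm k * y' := fun k y => ⟨y / K.nm k, (mul_div_cancel₀ _ K.nm_ne).symm⟩
  obtain ⟨ε, hε, e⟩ : ∃ ε, (ε = 0 ∨ ε = 1) ∧ ∀ y, l p y = ε * y := by
    by_cases s0 : σ p = 0
    · exact lq p hp s0
    have : ∀ a, ∃ w ∈ P, σ w = a := fun a => by
      by_cases a0 : a = 0
      · exact ⟨p * p, mul_mem hp hp, by rw [σm p hp p hp, K.add_self, a0]⟩
      · exact ⟨_, hm (Units.mk0 _ (div_ne_zero a0 s0)) p hp, by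
          rw [σh _ p hp, Units.val_mk0, div_mul_cancel₀ _ s0]⟩
    choose w hw σw using this
    have inv : ∀ (k : Fˣ) y, l (X.h k * p * (X.h k)⁻¹) y = l p y := fun k y => by
      by_cases hk : k = 1
      · simp [hk]
      have n1 : 1 + (k : F) ≠ 0 := fun e => hk (Units.ext (K.eq_of_add e).symm)
      obtain ⟨β, hβ⟩ : ∃ β : F → F → F, ∀ a ∈ P, ∀ y, β (σ a) y = l a y + l (X.h k * a * (X.h k)⁻¹) y :=
        ⟨fun a y => l (w a) y + l (X.h k * w a * (X.h k)⁻¹) y, fun a ha y => by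
          obtain ⟨ε, -, e⟩ := lq _ (mul_mem (hw (σ a)) ha) (by rw [σm _ (hw _) a ha, σw, K.add_self])
          obtain ⟨y', rfl⟩ := nms k y
          have e1 := e (K.nm k * y')
          have e2 := e y'
          rw [lm _ (hw _) a ha] at e1 e2
          change l _ _ + l _ _ = _
          rw [lh k _ (hw _), lh k a ha]
          linear_combination e1 + K.nm k * e2 - K.add_self (l a (K.nm k * y')) - K.add_self (K.nm k * l a y') +
            K.add_self (ε * K.nm k * y')⟩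
      obtain ⟨c, hc⟩ := K.blem β (fun a b y => by
        rw [← σw a, ← σw b, ← σm _ (hw a) _ (hw b), hβ _ (hw a), hβ _ (hw b), hβ _ (mul_mem (hw a) (hw b)),
          ← conj_mul, lm _ (hw a) _ (hw b), lm _ (hm k _ (hw a)) _ (hm k _ (hw b))]
        ring) (fun a y y' => by
        rw [← σw a, hβ _ (hw a), hβ _ (hw a), hβ _ (hw a), map_add, map_add]; ring) fun j a y => by
        rw [← σw a, ← σh j _ (hw a), hβ _ (hw a), hβ _ (hm j _ (hw a)), lh j _ (hw a), mul_add,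
          ← lh j _ (hm k _ (hw a)), ← mul_assoc, ← mul_assoc, X.h_comm k, mul_assoc _ _ (X.h k)⁻¹, ← mul_inv_rev,
          X.h_comm k]
        simp only [mul_assoc, mul_inv_rev]
      have c0 : c = 0 := by
        have m := mul_mem (hw 1) (hm k _ (hw 1))
        have e1 := H _ m
        generalize (Y.π (_ * _)).2.1 = e at e1
        refine (mul_eq_zero.1 (K.indep3 (a := c * (1 + k)) (b := c * K.τ (1 + k) + K.σ e) (c := e)
          fun x => ?_).1).resolve_right n1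
        have e2 := e1 x
        rw [lm _ (hw 1) _ (hm k _ (hw 1)), ← hβ _ (hw 1), hc, σm _ (hw 1) _ (hm k _ (hw 1)), σh k _ (hw 1), σw,
          one_mul, mul_one, FD.B, FD.B, map_add, map_mul, map_mul, K.τ_σ, K.τ_σ] at e2
        linear_combination e2 + K.add_self (K.σ e * x + e * K.σ x)
      have := hβ p hp y
      rw [hc, c0, zero_mul] at this
      exact (K.eq_of_add this.symm).symm
    have sc : ∀ y, l p y = l p 1 * y := fun y => by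
      by_cases y0 : y = 0
      · simp [y0]
      obtain ⟨k, e⟩ := K.exists_nm one_ne_zero y0
      rw [← e, ← inv k, lh k p hp]; ring
    refine ⟨_, ?_, sc⟩
    obtain ⟨-, e1, e2⟩ := K.indep3 (a := 0) (b := l p 1 * K.σ (σ p) + K.σ (Y.π (p * p)).2.1)
      (c := l p 1 * σ p + (Y.π (p * p)).2.1) fun x => by
        have := H p hp x
        rw [sc, FD.B, FD.B] at this
        linear_combination this + K.add_self (K.σ (Y.π (p * p)).2.1 * x + (Y.π (p * p)).2.1 * K.σ x)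
    rw [← K.eq_of_add e2, map_mul] at e1
    exact K.σ_fix (mul_right_cancel₀ (by simpa using s0) (K.eq_of_add e1).symm)
  rcases hε with rfl | rfl
  · exact .inl (mem_C'.2 fun u hu => by
      rw [← mul_inv_eq_iff_eq_mul, hl p hp u hu, e, zero_mul, X.z_zero, mul_one])
  · refine .inr ⟨mem_C'.2 fun u hu => ?_, fun e1 => s_Q h (h1 hp) (h2.piElt hp) (K.B_left fun x => ?_)⟩
    · rw [← mul_inv_eq_iff_eq_mul, show p * t * u * (p * t)⁻¹ = p * (t * u * t⁻¹) * p⁻¹ by group,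
        h.cU Y.t_mem hu, ← conj_mul, hl p hp u hu, e, conj_eq_of_mem_C (h1 hp).2 (X.z_mem_Z _), Y.π_t, one_mul,
        mul_assoc, X.z_sq, mul_one]
    · have := H p hp x
      rwa [e, one_mul, e1, Y.π_one, hσ, Prod.snd_zero, Prod.fst_zero, K.B_zero_left] at this

end Z0

theorem Cs.goal0 {Y : QD X t D} (h : Cs Y G0 0) : Goal G0 t := by
  have QC : Y.Q ≤ N[Y.Q] ⊓ C[X.Z] := le_inf (norm_self _) Y.zc
  have hC : ∀ k, X.h k ∈ N[N[Y.Q] ⊓ C[X.Z]] := fun k => mem_N_of_finite fun p hp => (Z0.s_h h hp k).1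
  obtain ⟨P, p1, p2, -, p4, p5, -⟩ := h.lift (C := N[Y.Q] ⊓ C[X.Z]) (QC Y.t_mem)
    (le_inf ((cents_symm Y.Q_D).trans (C_le_N _)) (h.D_L.trans (C_anti (X.Z_le_S.trans X.S_le)))) inf_le_right hC
    fun g hg k => Z0.oddD h hg k
  have QP : Y.Q ≤ P := fun q hq => p4 q (QC hq) (Y.pi_Q.piElt hq)
  have hP : ∀ k, X.h k ∈ N[P] := fun k => p5 (hC k)
  refine h.E2 (P0 := P ⊓ C[Y.U0]) (syl_of_two p1 fun R r1 r2 g g1 g2 => ?_) (QP Y.t_mem) inf_le_left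
    (fun p hp => (Z0.dich h p2 p1 hP hp).imp (fun e => ⟨hp, e⟩) fun e => ⟨mul_mem hp (QP Y.t_mem), e.1⟩)
    (fun s hs => Z0.no_dd h (p2 hs.1).2 hs.2) (cl2_of_sq' inf_le_right fun p hp => ?_)
    fun k => mem_N_of_finite fun p hp => ⟨conj_mem (hP k) hp.1, conj_mem (N_le_NC _ (Y.h_U0 k)) hp.2⟩
  · have m := conj_mem g2 (QP Y.t_mem)
    have d := (DD.refl t).conj g
    have := h.NQ_of Y (h.NP_NZ (Y.T_le.trans QP) (p2.trans inf_le_right) g2)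
      (((Z0.dich h p2 p1 hP m).resolve_left fun e => Z0.no_dd h (p2 m).2 e d).2 (DD.sq h.toSt d).1)
    exact p4 g ⟨this, h.two_NQ (.inl rfl) this (r1.piElt g1)⟩ (r1.piElt g1)
  · have m := Z0.sq_Q h (p2 hp.1) (p1.piElt hp.1)
    refine ⟨m, (h.Q0_eq.ge ⟨m, (mul_mem hp hp).2⟩).2, K.B_left fun x => ?_⟩
    exact (Z0.HH h (p2 hp.1) (p1.piElt hp.1) (l := fun _ => 0) (fun u hu => by
      rw [conj_eq_of_mem_C hp.2 hu, X.z_zero, mul_one]) x).symm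

end H2.SZ
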