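import Mathlib
import Cfsg.Agent.H2.ZDefs
import Cfsg.Agent.H2.ZA1
import Cfsg.Agent.H2.Z1a

set_option autoImplicit false
set_option linter.unusedVariables false
set_option linter.unusedSectionVars false

namespace H2.SZ

open Cfsg H24 Subgroup
open H2.C2 (Cl2)

universe u

variable {G : Type u} [Group G] [Finite G] {F : Type*} [Field F] [Fintype F] {K : FD F}
  {L G0 D P P0 Q R A C T E : Subgroup G} {t g s φ : G} {X : SzD K L} {c : F}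

/-! ### Z1b -/

theorem Mp.exists_l {Y : QD X t D} (h : Mp Y G0 P) : ∃ l : G → F →+ F,
    (∀ p ∈ P, ∀ u ∈ Y.U0, p * u * p⁻¹ = u * X.z (l p (Y.π u).2.2)) ∧
    (∀ a ∈ P, ∀ b ∈ P, ∀ y, l (a * b) y = l a y + l b y) ∧
    (∀ k, ∀ a ∈ P, ∀ y, l (X.h k * a * (X.h k)⁻¹) (K.nm k * y) = K.nm k * l a y) ∧
    ∀ a ∈ Y.Q, ∀ y, l a y = (Y.π a).1 * y := by
  have : ∀ p, ∃ l : F →+ F, p ∈ P → ∀ u ∈ Y.U0, p * u * p⁻¹ = u * X.z (l (Y.π u).2.2) := fun p => by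
    by_cases hp : p ∈ P
    · exact (h.toCs.exists_l (h.P_Z hp) fun u hu => h.M_triv (h.P_N hp) (h.P_Z hp) (Y.U0_Q0 hu)).imp
        fun l k _ => k
    · exact ⟨0, fun k => absurd k hp⟩
  choose l hl using this
  refine ⟨l, hl, fun a ha b hb y => ?_, fun k a ha y => ?_, fun a ha y => ?_⟩ <;>
    obtain ⟨u, hu, e⟩ := Y.exists_U0 y
  · have := hl _ (mul_mem ha hb) u hu
    rw [show a * b * u * (a * b)⁻¹ = a * (b * u * b⁻¹) * a⁻¹ by group, hl b hb u hu, ← conj_mul, hl a ha u hu,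
      conj_eq_of_mem_C (h.P_Z ha) (X.z_mem_Z _), mul_assoc, X.z_mul, mul_right_inj, e] at this
    exact (X.z_inj this).symm
  · have := hl _ (conj_mem (h.h_P k) ha) _ (conj_mem (Y.h_U0 k) hu)
    rw [conj_inv, conj_mul, conj_mul, hl a ha u hu, ← conj_mul, X.h_z, mul_right_inj, Y.π_h k u hu.1, e] at this
    exact (X.z_inj this).symm
  · have := (hl a (h.Q_le ha) u hu).symm.trans (h.cU ha hu)
    rw [mul_right_inj, e] at this
    exact X.z_inj this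

theorem Mp.dich {Y : QD X t D} (h : Mp Y G0 P) :
    Goal G0 t ∨ ∀ p ∈ P, p ∈ C[Y.U0] ∨ p * t ∈ C[Y.U0] := by
  obtain ⟨l, hl, lm, lh, lq⟩ := h.exists_l
  have tP := h.Q_le Y.t_mem
  have lt : ∀ y, l t y = y := fun y => by rw [lq t Y.t_mem, Y.π_t, one_mul]
  have hm : ∀ k, ∀ a ∈ P, X.h k * a * (X.h k)⁻¹ ∈ P := fun k a ha => conj_mem (h.h_P k) ha
  have l0 : ∀ p ∈ P, (∀ y, l p y = 0) → p ∈ C[Y.U0] := fun p hp e => mem_C'.2 fun u hu => by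
    rw [← mul_inv_eq_iff_eq_mul, hl p hp u hu, e, X.z_zero, mul_one]
  suffices Goal G0 t ∨ ∀ p ∈ P, (∀ y, l p y = 0) ∨ ∀ y, l p y = y from this.imp_right fun k p hp =>
    (k p hp).imp (l0 p hp) fun e => l0 _ (mul_mem hp tP) fun y => by rw [lm p hp t tP, e, lt, K.add_self]
  by_cases hB : ∃ b ∈ P ⊓ C[Y.Q0], b ∉ Y.U0
  · obtain ⟨b0, h0, h1⟩ := hB
    refine .inr fun p hp => K.idem {a | ∃ p ∈ P, a = l p} ?_ ?_ ?_ _ ⟨p, hp, rfl⟩
    · rintro _ ⟨a, ha, rfl⟩ _ ⟨b, hb, rfl⟩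
      exact ⟨_, mul_mem ha hb, AddMonoidHom.ext fun y => (lm a ha b hb y).symm⟩
    · rintro _ ⟨a, ha, rfl⟩ k
      exact ⟨_, ⟨_, hm k a ha, rfl⟩, lh k a ha⟩
    rintro _ ⟨p, hp, rfl⟩ y
    obtain ⟨b, hb, b1, rfl⟩ := h.root h0 h1 y
    have ab := fun x hx y hy => mem_C'.1 (abl_iff.1 h.abl (x := x) hx) y hy
    obtain ⟨d, hd, e⟩ : ∃ d ∈ P ⊓ C[Y.Q0], p * b * p⁻¹ = b * d :=
      ⟨_, mul_mem (inv_mem hb) (conj_mem (h.NB (norm_self _ hp)) hb), (mul_inv_cancel_left _ _).symm⟩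
    have e1 : d * d = X.z (l p (Y.π (b * b)).2.2) := by
      have := hl p hp _ b1
      rwa [← conj_mul, e, mul_assoc, ← mul_assoc d, ab d hd b hb, mul_assoc, ← mul_assoc, mul_right_inj] at this
    have dU := h.B1 hd ⟨_, e1⟩
    have e2 : p * (p * b * p⁻¹) * p⁻¹ = b := by
      rw [show p * (p * b * p⁻¹) * p⁻¹ = p * p * b * (p * p)⁻¹ by group, ab _ (h.sqP hp) b hb, mul_inv_cancel_right]
    rw [e, ← conj_mul, e, hl p hp d dU, mul_assoc, mul_eq_left, ← mul_assoc, e1, X.z_mul, X.z_eq_one,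
      X.z_inj ((h.sqU dU).symm.trans e1)] at e2
    exact (K.eq_of_add e2).symm
  have BU : ∀ b ∈ P ⊓ C[Y.Q0], b ∈ Y.U0 := fun b hb => by_contra fun e => hB ⟨b, hb, e⟩
  have : ∀ p, ∃ u, p ∈ P → u ∈ Y.U0 ∧ p * t * p⁻¹ = t * u := fun p => ⟨t * p * t⁻¹ * p⁻¹, fun hp =>
    ⟨BU _ (h.comm tP hp), by rw [← mul_assoc, ← mul_assoc, ← mul_assoc, h.tt, one_mul, h.ti]⟩⟩
  choose w hw using this
  obtain ⟨σ, hσ⟩ : ∃ σ : G → F, ∀ p, σ p = (Y.π (w p)).2.2 := ⟨_, fun _ => rfl⟩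
  have wm : ∀ a ∈ P, ∀ b ∈ P, w (a * b) = w a * w b * X.z (l a (σ b)) := fun a ha b hb => by
    have := (hw _ (mul_mem ha hb)).2
    rw [show a * b * t * (a * b)⁻¹ = a * (b * t * b⁻¹) * a⁻¹ by group, (hw b hb).2, ← conj_mul, (hw a ha).2,
      hl a ha _ (hw b hb).1, mul_assoc, mul_right_inj] at this
    rw [← this, hσ, mul_assoc]
  have σm : ∀ a ∈ P, ∀ b ∈ P, σ (a * b) = σ a + σ b := fun a ha b hb => by
    rw [hσ, wm a ha b hb, Y.π_mz (mul_mem (hw a ha).1 (hw b hb).1).1, Y.π_mul _ (hw a ha).1.1 _ (hw b hb).1.1,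
      hσ, hσ]
    rfl
  have σh : ∀ k, ∀ a ∈ P, σ (X.h k * a * (X.h k)⁻¹) = K.nm k * σ a := fun k a ha => by
    have := (hw _ (hm k a ha)).2
    rw [show X.h k * a * (X.h k)⁻¹ * t * (X.h k * a * (X.h k)⁻¹)⁻¹ = X.h k * (a * t * a⁻¹) * (X.h k)⁻¹ by
      conv_lhs => rw [← h.ht X k]
      rw [conj_inv, conj_mul, conj_mul], (hw a ha).2, ← conj_mul, h.ht, mul_right_inj] at this
    rw [hσ, hσ, ← this, Y.π_h k _ (hw a ha).1.1]
  have σQ : ∀ a ∈ P, σ a = 0 → a ∈ Y.Q := fun a ha e => by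
    obtain ⟨b, e1⟩ := Y.π_ker _ (hw a ha).1.1 (by rw [Y.π_U0 (hw a ha).1, ← hσ, e]; rfl)
    exact h.CQ2 Y (h.P_Z ha) (h.pi.piElt ha) (e1 ▸ (hw a ha).2)
  have lz : ∀ a ∈ P, σ a = 0 → ∃ ε, (ε = 0 ∨ ε = 1) ∧ ∀ y, l a y = ε * y := fun a ha e =>
    ⟨_, Y.π_wd a (σQ a ha e), lq a (σQ a ha e)⟩
  have σt : σ t = 0 := by
    have := (hw t tP).2
    rw [mul_inv_cancel_right, left_eq_mul] at this
    rw [hσ, this, Y.π_one]; rfl
  have sq : ∀ p ∈ P, (Y.π (p * p)).2.2 = σ p + l p (σ p) := fun p hp => by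
    have := (Y.cm_t (BU _ (h.sqP hp)).1).symm.trans (hw _ (mul_mem hp hp)).2
    rw [mul_right_inj, wm p hp p hp, h.sqU (hw p hp).1, ← hσ, X.z_mul] at this
    exact X.z_inj this
  by_cases s0 : ∀ p ∈ P, σ p = 0
  · refine .inr fun p hp => ?_
    obtain ⟨ε, rfl | rfl, e⟩ := lz p hp (s0 p hp) <;> simp [e]
  have : ∀ a, ∃ v ∈ P, σ v = a := fun a => by
    obtain ⟨p, hp, e⟩ : ∃ p ∈ P, σ p ≠ 0 := by simpa using s0
    by_cases a0 : a = 0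
    · exact ⟨t, tP, σt.trans a0.symm⟩
    · obtain ⟨k, e1⟩ := K.exists_nm e a0
      exact ⟨_, hm k p hp, (σh k p hp).trans e1⟩
  choose v hv σv using this
  obtain ⟨k, hk⟩ := K.exists_unit
  have n1 : 1 + K.nm k ≠ 0 := fun e => K.nm_ne_one hk (K.eq_of_add e).symm
  obtain ⟨β, hβ⟩ : ∃ β : F → F → F, ∀ a ∈ P, ∀ y, β (σ a) y = l a y + l (X.h k * a * (X.h k)⁻¹) y :=
    ⟨fun a y => l (v a) y + l (X.h k * v a * (X.h k)⁻¹) y, fun a ha y => by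
      obtain ⟨ε, -, e⟩ := lz _ (mul_mem (hv (σ a)) ha) (by rw [σm _ (hv _) a ha, σv, K.add_self])
      obtain ⟨y', rfl⟩ : ∃ y', y = K.nm k * y' := ⟨y / K.nm k, (mul_div_cancel₀ _ K.nm_ne).symm⟩
      have e1 := e (K.nm k * y')
      have e2 := e y'
      rw [lm _ (hv _) a ha] at e1 e2
      change l _ _ + l _ _ = _
      rw [lh k _ (hv _), lh k a ha]
      linear_combination e1 + K.nm k * e2 - K.add_self (l a (K.nm k * y')) - K.add_self (K.nm k * l a y') +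
        K.add_self (ε * K.nm k * y')⟩
  obtain ⟨c, hc⟩ := K.blem2 β (fun a b y => by
    rw [← σv a, ← σv b, ← σm _ (hv a) _ (hv b), hβ _ (hv a), hβ _ (hv b), hβ _ (mul_mem (hv a) (hv b)),
      ← conj_mul, lm _ (hv a) _ (hv b), lm _ (hm k _ (hv a)) _ (hm k _ (hv b))]
    ring) (fun a y y' => by
    rw [← σv a, hβ _ (hv a), hβ _ (hv a), hβ _ (hv a), map_add, map_add]; ring) fun j a y => by
    rw [← σv a, ← σh j _ (hv a), hβ _ (hv a), hβ _ (hm j _ (hv a)), lh j _ (hv a), mul_add,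
      ← lh j _ (hm k _ (hv a)), ← mul_assoc, ← mul_assoc, X.h_comm k, mul_assoc _ _ (X.h k)⁻¹, ← mul_inv_rev,
      X.h_comm k]
    simp only [mul_assoc, mul_inv_rev]
  obtain ⟨c', form⟩ : ∃ c', ∀ p ∈ P, (∀ y, l p y = c' * K.rt (σ p * y)) ∨ ∀ y, l p y = c' * K.rt (σ p * y) + y :=
    ⟨c * K.rt (1 + K.nm k)⁻¹, fun p hp => by
      have m := hv (σ p / (1 + K.nm k))
      have m' := mul_mem m (hm k _ m)
      obtain ⟨ε, hε, e⟩ := lz _ (mul_mem hp m') (by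
        rw [σm p hp _ m', σm _ m _ (hm k _ m), σh k _ m, σv, ← one_add_mul, mul_div_cancel₀ _ n1, K.add_self])
      have : ∀ y, l p y = c * K.rt (1 + K.nm k)⁻¹ * K.rt (σ p * y) + ε * y := fun y => by
        have e1 := e y
        rw [lm p hp _ m', lm _ m _ (hm k _ m), ← hβ _ m, hc, σv, div_mul_eq_mul_div, div_eq_inv_mul, map_mul,
          ← mul_assoc] at e1
        linear_combination e1 - K.add_self (c * K.rt (1 + K.nm k)⁻¹ * K.rt (σ p * y))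
      rcases hε with rfl | rfl
      exacts [.inl fun y => by simp [this], .inr fun y => by simp [this]]⟩
  have f2 : ∀ p ∈ P, (∀ y, l p y = c' * K.rt (σ p * y) + y) → ∀ y, l (p * t) y = c' * K.rt (σ (p * t) * y) :=
    fun p hp e y => by rw [lm p hp t tP, σm p hp t tP, e, lt, σt, add_zero, add_assoc, K.add_self, add_zero]
  by_cases c0 : c' = 0
  · exact .inr fun p hp => by simpa [c0] using form p hp
  obtain rfl : c' = 1 := by
    obtain ⟨p, hp, e1, e2⟩ : ∃ p ∈ P, σ p = 1 ∧ ∀ y, l p y = c' * K.rt (σ p * y) := by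
      rcases form _ (hv 1) with e | e
      · exact ⟨_, hv 1, σv 1, e⟩
      · exact ⟨_, mul_mem (hv 1) tP, by rw [σm _ (hv 1) t tP, σv, σt, add_zero], f2 _ (hv 1) e⟩
    have := hl p hp _ (BU _ (h.sqP hp))
    rw [← mul_assoc, mul_inv_cancel_right, left_eq_mul, X.z_eq_one, sq p hp, e2, e2, e1] at this
    simpa using (K.eq_of_add ((map_eq_zero K.rt).1 ((mul_eq_zero.1 this).resolve_left c0) |>
      (one_mul _).symm.trans)).symm
  simp only [one_mul] at form f2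
  let P0 : Subgroup G :=
    { carrier := {p | p ∈ P ∧ ∀ y, l p y = K.rt (σ p * y)}
      one_mem' := ⟨one_mem _, fun y => by
        have e1 := lm 1 (one_mem _) 1 (one_mem _) y
        have e2 := σm 1 (one_mem _) 1 (one_mem _)
        rw [mul_one, K.add_self] at e1 e2
        simp [e1, e2]⟩
      mul_mem' := fun {a b} ha hb => ⟨mul_mem ha.1 hb.1, fun y => by
        rw [lm a ha.1 b hb.1, σm a ha.1 b hb.1, ha.2, hb.2, add_mul, map_add]⟩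
      inv_mem' := fun {a} ha => ⟨inv_mem ha.1, fun y => by
        have e1 := lm _ (inv_mem ha.1) _ (mul_mem ha.1 ha.1) y
        have e2 := σm _ (inv_mem ha.1) _ (mul_mem ha.1 ha.1)
        rw [inv_mul_cancel_left, lm a ha.1 a ha.1, K.add_self, add_zero] at e1
        rw [inv_mul_cancel_left, σm a ha.1 a ha.1, K.add_self, add_zero] at e2
        rw [← e1, ← e2, ha.2]⟩ }
  have cas : ∀ p ∈ P, p ∈ P0 ∨ p * t ∈ P0 := fun p hp =>
    (form p hp).imp (fun e => ⟨hp, e⟩) fun e => ⟨mul_mem hp tP, f2 p hp e⟩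
  have nd : ∀ s ∈ P0, ¬ DD t s := fun s hs hd => K.rt_ne (σ s) fun y => by
    obtain ⟨u, hu, e⟩ := Y.exists_U0 y
    have := (hl s hs.1 u hu).symm.trans ((h.dd_inv hd (h.P_N hs.1) (h.P_Z hs.1) hu).trans (h.tU hu).symm)
    rw [hl t tP u hu, mul_right_inj, e, hs.2, lt] at this
    exact X.z_inj this
  have sZ : ∀ p ∈ P0, p * p ∈ X.Z := fun p hp => Y.π_ker _ (BU _ (h.sqP hp.1)).1 (by
    rw [Y.π_U0 (BU _ (h.sqP hp.1)), sq p hp.1, hp.2, K.rt_mul_self, K.add_self]; rfl)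
  refine .inl (h.E2 (P0 := P0) (syl_of_two h.pi fun R r1 r2 g g1 g2 => ?_) tP (fun _ k => k.1) cas nd
    (X.cl2_of_sq (fun p hp => h.P_Z hp.1) sZ) fun j => mem_N_of_finite fun p hp => ⟨hm j p hp.1, fun y => ?_⟩)
  · have m := conj_mem g2 tP
    have d := (DD.refl t).conj g
    obtain ⟨b, e⟩ := sZ _ ((cas _ m).resolve_left fun e => nd _ e d)
    have := h.NQ_of Y (h.NP g2).2 (h.CQ2 Y (h.P_Z m) (h.pi.piElt m) (b := b) (by
      rw [inv_eq_of_mul_eq_one_right (DD.sq h.toSt d).1, ← h.tz, ← e]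
      simp [mul_assoc, h.tt]))
    exact h.two g g2 (h.two_NQ (.inr rfl) this (r1.piElt g1)) (r1.piElt g1)
  · obtain ⟨y', rfl⟩ : ∃ y', y = K.nm j * y' := ⟨y / K.nm j, (mul_div_cancel₀ _ K.nm_ne).symm⟩
    rw [lh j p hp.1, σh j p hp.1, hp.2, mul_mul_mul_comm, map_mul K.rt (_ * _), K.rt_mul_self]

theorem Mp.cl2 {Y : QD X t D} (h : Mp Y G0 P) : Cl2 (P ⊓ C[Y.U0]) := by
  have ab := fun x hx y hy => mem_C'.1 (abl_iff.1 h.abl (x := x) hx) y hy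
  have k : ∀ w ∈ P ⊓ C[Y.Q0], w * w = 1 → w ∈ X.Z := fun w hw e => h.U2 (h.B1 hw (e ▸ one_mem _)) e
  have k1 : ∀ s ∈ P ⊓ C[Y.U0], ∀ b ∈ P ⊓ C[Y.Q0], s * b * s⁻¹ * b⁻¹ ∈ X.Z := fun s hs b hb => by
    have m1 := conj_mem (h.NB (norm_self _ hs.1)) hb
    have m := mul_mem m1 (inv_mem hb)
    have e : s * (s * b * s⁻¹ * b⁻¹) * s⁻¹ = (s * b * s⁻¹ * b⁻¹)⁻¹ := by
      rw [show s * (s * b * s⁻¹ * b⁻¹) * s⁻¹ = s * s * b * (s * s)⁻¹ * (s * b * s⁻¹)⁻¹ by group,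
        ab _ (h.sqP hs.1) b hb]
      group
    generalize s * b * s⁻¹ * b⁻¹ = d at m e
    refine k d m (by_contra fun e3 => ?_)
    obtain ⟨n, n1, n2⟩ := inv_pow' (h.pi.piElt (mul_mem m m).1) e3
    rw [(Commute.refl d).mul_pow] at n1 n2
    have := h.B1 (pow_mem m n) (k _ (mul_mem (pow_mem m n) (pow_mem m n)) n2)
    refine n1 (mul_eq_one_iff_eq_inv.2 ?_)
    rw [← inv_pow, ← e, conj_pow, conj_eq_of_mem_C hs.2 this]
  refine le_trans (commutator_le.2 fun a ha b hb => ?_) (cents_symm inf_le_right)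
  have m := h.comm ha.1 hb.1
  refine h.B1 m ?_
  have := mul_mem (inv_mem (k1 a ha _ m)) (inv_mem (k1 b hb _ (h.sqP ha.1)))
  rwa [show (a * (a * b * a⁻¹ * b⁻¹) * a⁻¹ * (a * b * a⁻¹ * b⁻¹)⁻¹)⁻¹ * (b * (a * a) * b⁻¹ * (a * a)⁻¹)⁻¹ =
    a * b * a⁻¹ * b⁻¹ * (a * b * a⁻¹ * b⁻¹) by group] at this

theorem Mp.twoZ5 {Y : QD X t D} (h : Mp Y G0 P) (hm : K.m ≠ 1) (hg : g ∈ N[P]) (h2 : PiElt {2} g) :
    g ∈ C[X.Z] := by
  have g0 := (h.NP hg).1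
  obtain ⟨α, Γ, γ, -, -, e1, e2, -, e4⟩ := h.exists_a0 g0
  obtain ⟨j, hj⟩ := h2.exists_pow Nat.prime_two
  have k : ∀ (n : ℕ) a, α^[n] a = (Y.π (g ^ n * X.u a 0 * (g ^ n)⁻¹)).2.1 := fun n a => by
    induction n with
    | zero => simp [Y.π_u]
    | succ n ih =>
      rw [Function.iterate_succ_apply', ih, show g ^ (n + 1) * X.u a 0 * (g ^ (n + 1))⁻¹ =
        g * (g ^ n * X.u a 0 * (g ^ n)⁻¹) * g⁻¹ by group, e2 _ (conj_mem (pow_mem g0 n) (Y.u_Q0 a 0))]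
  have a0 := K.pq_fix hm α γ e4 j fun a => by rw [k, ← hj, pow_orderOf_eq_one]; simp [Y.π_u]
  refine mem_C'.2 ?_
  rintro _ ⟨b, rfl⟩
  rw [← mul_inv_eq_iff_eq_mul, e1, K.B_ext γ fun a b => by rw [e4, a0, a0]]

theorem Mp.goal {Y : QD X t D} (h : Mp Y G0 P) (h2 : ∀ g ∈ N[P], PiElt {2} g → g ∈ C[X.Z]) :
    Goal G0 t := by
  have tP := h.Q_le Y.t_mem
  refine h.dich.elim id fun k => h.E2 (P0 := P ⊓ C[Y.U0])
    (syl_of_two h.pi fun R r1 r2 g g1 g2 => h.two g g2 (h2 g g2 (r1.piElt g1)) (r1.piElt g1)) tP inf_le_left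
    (fun p hp => (k p hp).imp (fun e => ⟨hp, e⟩) fun e => ⟨mul_mem hp tP, e⟩) (fun s hs hd => ?_) h.cl2
    fun k => mem_N_of_finite fun p hp => ⟨conj_mem (h.h_P k) hp.1, conj_mem (N_le_NC _ (Y.h_U0 k)) hp.2⟩
  obtain ⟨u, hu, e⟩ := Y.exists_U0 1
  have := h.dd_inv hd (h.P_N hs.1) (h.P_Z hs.1) hu
  rw [conj_eq_of_mem_C hs.2 hu, ← mul_eq_one_iff_eq_inv, h.sqU hu, e] at this
  exact X.z1 this

end H2.SZ
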