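import Mathlib
import Cfsg.Agent.H2.ZDefs
import Cfsg.Agent.H2.Z1a
import Cfsg.Agent.H17.Z8

set_option autoImplicit false
set_option linter.unusedVariables false
set_option linter.unusedSectionVars false

namespace H2.SZ

open Cfsg H24 Subgroup
open H2.C2 (Cl2)

universe u

variable {G : Type u} [Group G] [Finite G] {F : Type*} [Field F] [Fintype F] {K : FD F}
  {L G0 D P P0 Q R A C T E : Subgroup G} {t g s φ : G} {X : SzD K L} {c : F}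

/-! ### Z3a -/

theorem two_mem {H : Subgroup G} (h : PiElt {2} g) {n : ℕ} (hn : Odd n) (m : g ^ n ∈ H) : g ∈ H := by
  obtain ⟨j, hj⟩ := h.exists_pow Nat.prime_two
  exact zpowers_le.2 m (mem_zpowers_pow_iff.2 (hj ▸ (Nat.coprime_two_right.2 hn).pow_right j))

theorem Mp.conj_t {Y : QD X t D} (h : Mp Y G0 P) (hm : K.m = 1) (hg : g ∈ N[P]) :
    ∃ r, ∃ c ∈ P ⊓ C[Y.Q0], g * t * g⁻¹ = t * X.u r 0 * c ∧ (PiElt {2} g → r = 0 → g ∈ C[X.Z]) := by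
  have h1 := (h.NP hg).1
  have hU := h.N0_U h1
  obtain ⟨α, Γ, γ, a1, g1, e1, e2, e3, -⟩ := h.exists_a0 h1
  let A := AddEquiv.ofBijective α (Finite.injective_iff_bijective.1 a1)
  obtain ⟨r, hr⟩ := K.chk_c hm (Γ.comp A.symm.toAddMonoidHom) fun x y e => by
    obtain ⟨a, rfl⟩ := A.surjective x
    obtain ⟨b, rfl⟩ := A.surjective y
    have k : ∀ a, K.nm (A a) + Γ.comp A.symm.toAddMonoidHom (A a) = γ (K.nm a) := fun a =>
      (congrArg (_ + Γ ·) (A.symm_apply_apply a)).trans (e3 a).symm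
    rw [k, k] at e
    rw [K.nm_inj (g1 e)]
  replace hr : ∀ a, Γ a = K.B r (α a) := fun a => (congrArg Γ (A.symm_apply_apply a)).symm.trans (hr (A a))
  have wQ := mul_mem Y.t_mem (Y.u_mem r 0)
  refine ⟨r, _, mem_inf.2 ⟨mul_mem (inv_mem (h.Q_le wQ)) (conj_mem hg (h.Q_le Y.t_mem)), mem_C'.2 fun q hq => ?_⟩,
    (mul_inv_cancel_left _ _).symm, fun h2 e => (X.two_of h2 α α.map_add fun a => by
      rw [e1, e3, hr, e, K.B_zero_left, add_zero]).1⟩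
  obtain ⟨a, ea⟩ : ∃ a, α a = (Y.π q).2.1 := A.surjective _
  have m := conj_mem h1 (Y.u_Q0 a 0)
  have e4 := e2 _ (Y.u_Q0 a 0)
  rw [Y.π_u, map_zero, add_zero] at e4
  have m1 : (g * X.u a 0 * g⁻¹)⁻¹ * q ∈ Y.U0 := ⟨mul_mem (inv_mem m.1) hq.1, by
    rw [Y.π_mul _ (inv_mem m.1) _ hq.1, Y.π_inv m.1, e4, Prod.fst_add, hq.2, Prod.snd_add, Prod.fst_add, ← ea]
    exact ⟨add_zero _, K.add_self _⟩⟩
  have e5 : t * X.u r 0 * (g * X.u a 0 * g⁻¹) * (t * X.u r 0)⁻¹ = g * X.u a 0 * g⁻¹ := by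
    rw [Y.cm wQ m.1, h.bf_eq, e4, Y.π_mul _ Y.t_mem _ (Y.u_mem _ _), Y.π_t, Y.π_u, mul_eq_left, X.z_eq_one, hr]
    simp [K.add_self]
  have e6 : g * t * g⁻¹ * (g * X.u a 0 * g⁻¹) * (g * t * g⁻¹)⁻¹ = g * X.u a 0 * g⁻¹ := by
    rw [conj_mul, ← h.tu]; group
  rw [← mul_inv_cancel_left (g * X.u a 0 * g⁻¹) q]
  generalize (g * X.u a 0 * g⁻¹)⁻¹ * q = u at m1
  have e7 : t * X.u r 0 * u * (t * X.u r 0)⁻¹ = u⁻¹ := by
    rw [← h.tU m1, mul_assoc t, mem_C.1 (h.U0_C m1) _ (Y.u_Q0 r 0)]; group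
  have e8 : g * t * g⁻¹ * u * (g * t * g⁻¹)⁻¹ = u⁻¹ := by
    calc _ = g * (t * (g⁻¹ * u * g) * t⁻¹) * g⁻¹ := by group
      _ = _ := by rw [h.tU (conj_mem' hU m1)]; group
  generalize g * X.u a 0 * g⁻¹ = p at e5 e6
  generalize g * t * g⁻¹ = v at e6 e8
  generalize t * X.u r 0 = w at e5 e7
  calc _ = w⁻¹ * (v * p * v⁻¹ * (v * u * v⁻¹)) * v := by group
    _ = w⁻¹ * (w * p * w⁻¹ * (w * u * w⁻¹)) * v := by rw [e5, e6, e7, e8]
    _ = _ := by group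

theorem Mp.exists_ph {Y : QD X t D} (h : Mp Y G0 P) (hm : K.m = 1) (hg : g ∈ N[P])
    (h2 : PiElt {2} g) (hn : g ∉ C[X.Z]) : ∃ φ, Ph Y G0 P φ := by
  classical
  have tP := h.Q_le Y.t_mem
  have ab := fun x hx y hy => mem_C'.1 (abl_iff.1 h.abl (x := x) hx) y hy
  have zB : ∀ b, X.z b ∈ P ⊓ C[Y.Q0] := fun b => h.U_B (Y.Z_U0 (X.z_mem_Z b))
  have : ∀ b, ∃ y, b ∈ P ⊓ C[Y.Q0] → t * b * (t * b) = X.z y := fun b => by
    by_cases hb : b ∈ P ⊓ C[Y.Q0]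
    · exact (h.B2 hb).imp fun y e _ => e
    · exact ⟨0, fun k => absurd k hb⟩
  choose ζ hζ using this
  have ht : ∀ b ∈ P ⊓ C[Y.Q0], t * b * t⁻¹ = X.z (ζ b) * b⁻¹ := fun b hb => by rw [← hζ b hb, h.ti]; group
  have ζm : ∀ a ∈ P ⊓ C[Y.Q0], ∀ b ∈ P ⊓ C[Y.Q0], ζ (a * b) = ζ a + ζ b := fun a ha b hb => by
    have := ht _ (mul_mem ha hb)
    rw [← conj_mul, ht a ha, ht b hb, mul_assoc, ← mul_assoc a⁻¹, ab _ (inv_mem ha) _ (zB _), ab a ha b hb,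
      mul_inv_rev, mul_assoc, ← mul_assoc, mul_left_inj, X.z_mul] at this
    exact ab a ha b hb ▸ (X.z_inj this).symm
  have ζU : ∀ u ∈ Y.U0, ζ u = 0 := fun u hu => X.z_eq_one.1 (by
    simpa using (h.tU hu).symm.trans (ht u (h.U_B hu)))
  have hB : ∀ k, ∀ b ∈ P ⊓ C[Y.Q0], X.h k * b * (X.h k)⁻¹ ∈ P ⊓ C[Y.Q0] := fun k b => conj_mem (h.NB (h.h_P k))
  have ζh : ∀ k, ∀ b ∈ P ⊓ C[Y.Q0], ζ (X.h k * b * (X.h k)⁻¹) = K.nm k * ζ b := fun k b hb => X.z_inj (by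
    rw [← hζ _ (hB k b hb), ← X.h_z, ← hζ b hb, ← conj_mul, ← conj_mul, h.ht])
  have ζr : ∀ r, ∀ c ∈ P ⊓ C[Y.Q0], DD t (t * X.u r 0 * c) → ζ c = K.nm r := fun r c hc hd => by
    have := (DD.sq h.toSt hd).1
    have c1 : Commute (X.u r 0) (t * c) := Commute.mul_right (h.tu X r 0) (mem_C.1 hc.2 _ (Y.u_Q0 r 0))
    rw [← h.tu, mul_assoc _ t c, c1.symm.mul_mul_mul_comm, X.u_sq, hζ c hc, X.z_mul, X.z_eq_one] at this
    exact (K.eq_of_add this).symm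
  obtain ⟨r0, c0, hc0, e0, r1⟩ := h.conj_t hm hg
  have z0 := ζr r0 c0 hc0 (e0 ▸ (DD.refl t).conj g)
  have n0 : ζ c0 ≠ 0 := fun e => hn (r1 h2 (K.nm_eq_zero.1 (z0.symm.trans e)))
  have sqB : ∀ c ∈ P ⊓ C[Y.Q0], ζ c = 0 → ∃ b ∈ P ⊓ C[Y.Q0], c = b * b := fun c hc e => by
    let f : ↥(P ⊓ C[Y.Q0]) →* ↥(P ⊓ C[Y.Q0]) := MonoidHom.mk' (fun b => b * b) fun a b => Subtype.ext (by
      change a * b * (a * b : G) = a * a * (b * b)
      rw [mul_assoc, ← mul_assoc (b : G), ab _ b.2 _ a.2]; group)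
    let f' : ↥(P ⊓ C[Y.Q0]) →* Multiplicative F := MonoidHom.mk' (fun b => .ofAdd (ζ b)) fun a b =>
      congrArg _ (ζm _ a.2 _ b.2)
    have k1 : f.ker = X.Z.subgroupOf _ := Subgroup.ext fun b => ⟨fun e =>
      have e' : (b : G) * b = 1 := congrArg Subtype.val e
      h.U2 (h.B1 b.2 (e' ▸ one_mem _)) e', fun ⟨y, e⟩ => Subtype.ext (by
        change (b : G) * b = 1
        rw [show (b : G) = _ from e, X.z_sq])⟩
    have k2 : f'.range = ⊤ := eq_top_iff.2 fun y _ => by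
      by_cases y0 : y.toAdd = 0
      · exact ⟨1, (map_one _).trans y0.symm⟩
      · obtain ⟨k, e⟩ := K.exists_nm n0 y0
        exact ⟨⟨_, hB k c0 hc0⟩, (ζh k c0 hc0).trans e⟩
    have k3 := f.ker.card_mul_index.trans f'.ker.card_mul_index.symm
    rw [index_ker, index_ker, k1, k2, Nat.card_congr (subgroupOfEquivOfLe (Y.Z_U0.trans h.U_B)).toEquiv,
      X.card_Z, card_top, Nat.card_eq_fintype_card (α := Multiplicative F), Fintype.card_multiplicative,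
      mul_comm] at k3
    have k4 : f.range = f'.ker := eq_of_le_of_card_ge (by
      rintro _ ⟨b, rfl⟩
      exact (ζm _ b.2 _ b.2).trans (K.add_self _)) (Nat.eq_of_mul_eq_mul_right Fintype.card_pos k3).ge
    obtain ⟨b, e1⟩ := k4.ge (show (⟨c, hc⟩ : ↥(P ⊓ C[Y.Q0])) ∈ f'.ker from e)
    exact ⟨b, b.2, (congrArg Subtype.val e1).symm⟩
  have cj1 : ∀ b ∈ P ⊓ C[Y.Q0], b⁻¹ * t * b = t * (b * b) * X.z (ζ b) := fun b hb => by
    have := ht b hb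
    rw [mul_inv_eq_iff_eq_mul, mul_assoc, ← inv_mul_eq_iff_eq_mul, X.z_inv, ← mul_assoc, h.tz] at this
    rw [← this, mul_assoc, mul_assoc, mul_assoc t, ab _ (zB _) _ (mul_mem hb hb)]
  have cj2 : ∀ b ∈ P ⊓ C[Y.Q0], ∃ e ∈ P ⊓ C[Y.Q0], e⁻¹ * t * e = t * (b * b) := fun b hb => by
    obtain ⟨w, hw, e⟩ := Y.exists_U0 (ζ b)
    have m := h.U_B hw
    refine ⟨_, mul_mem hb m, ?_⟩
    rw [cj1 _ (mul_mem hb m), ζm b hb w m, ζU w hw, add_zero, mul_assoc b, ← mul_assoc w, ab w m b hb,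
      mul_assoc b w, h.sqU hw, e]
    simp [mul_assoc, X.z_sq]
  have big : ∃ b ∈ P ⊓ C[Y.Q0], b ∉ Y.U0 := ⟨c0, hc0, fun e => n0 (ζU _ e)⟩
  have sqB' : ∀ c ∈ P ⊓ C[Y.Q0], t * c * (t * c) = 1 → ∃ b ∈ P ⊓ C[Y.Q0], c = b * b := fun c hc e =>
    sqB c hc (X.z_eq_one.1 ((hζ c hc).symm.trans e))
  have BT : ∀ p ∈ P, ∃ b ∈ P ⊓ C[Y.Q0], ∃ s ∈ X.T t, p = b * s := fun p hp => by
    have e : t * (t * p * t⁻¹ * p⁻¹) = p * t * p⁻¹ := by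
      rw [← mul_assoc, ← mul_assoc, ← mul_assoc, h.tt, one_mul, h.ti]
    obtain ⟨b, hb, e1⟩ := sqB' _ (h.comm tP hp) (by rw [e]; exact (DD.sq h.toSt ((DD.refl t).conj p)).1)
    obtain ⟨d, hd, e2⟩ := cj2 b hb
    rw [← e1, e] at e2
    have m := mul_mem hd.1 hp
    exact ⟨_, inv_mem hd, _, h.two_T (h.P_Z m) (by
      rw [← mul_inv_eq_iff_eq_mul, show d * p * t * (d * p)⁻¹ = d * (p * t * p⁻¹) * d⁻¹ by group, ← e2]
      group) (h.pi.piElt m), (inv_mul_cancel_left _ _).symm⟩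
  choose ρ hρ using K.nm_surj
  have om : ∀ c ∈ P ⊓ C[Y.Q0], ∃ m ∈ N[P], t * X.u (ρ (ζ c)) 0 * c = m * t * m⁻¹ := fun c hc => by
    obtain ⟨m, hm, c1, hc1, e1, e2⟩ : ∃ m ∈ N[P], ∃ c1 ∈ P ⊓ C[Y.Q0], m * t * m⁻¹ = t * X.u (ρ (ζ c)) 0 * c1 ∧
        ζ c1 = ζ c := by
      by_cases y0 : ζ c = 0
      · refine ⟨1, one_mem _, 1, one_mem _, ?_, (ζU 1 (one_mem _)).trans y0.symm⟩
        rw [y0, K.nm_eq_zero.1 (hρ 0), X.u_zero]; simp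
      · obtain ⟨k, e⟩ := K.exists_nm n0 y0
        refine ⟨_, mul_mem (h.h_P k) hg, _, hB k c0 hc0, ?_, (ζh k c0 hc0).trans e⟩
        rw [show X.h k * g * t * (X.h k * g)⁻¹ = X.h k * (g * t * g⁻¹) * (X.h k)⁻¹ by group, e0, ← conj_mul,
          ← conj_mul, h.ht, X.h_u, mul_zero, K.nm_inj (x := k * r0) (y := ρ (ζ c)) (by rw [K.nm_mul, ← z0, e, hρ])]
    obtain ⟨b, hb, e3⟩ := sqB _ (mul_mem (inv_mem hc1) hc) (by
      have := ζm _ hc1 _ (mul_mem (inv_mem hc1) hc)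
      rwa [mul_inv_cancel_left, e2, left_eq_add] at this)
    obtain ⟨d, hd, e4⟩ := cj2 _ (conj_mem' (h.NB hm) hb)
    refine ⟨_, mul_mem hm (inv_mem (norm_self _ hd.1)), ?_⟩
    rw [show m * d⁻¹ * t * (m * d⁻¹)⁻¹ = m * (d⁻¹ * t * d) * m⁻¹ by group, e4,
      show m * (t * (m⁻¹ * b * m * (m⁻¹ * b * m))) * m⁻¹ = m * t * m⁻¹ * (b * b) by group, e1, ← e3]
    group
  have card : Nat.card {x // ∃ m ∈ N[P], x = m * t * m⁻¹} = ♯(P ⊓ C[Y.Q0]) := (Nat.card_congr (Equiv.ofBijective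
    (fun c : ↥(P ⊓ C[Y.Q0]) => (⟨_, om c c.2⟩ : {x // ∃ m ∈ N[P], x = m * t * m⁻¹})) ⟨fun a b e => ?_, ?_⟩)).symm
  rotate_left
  · have e1 : t * X.u (ρ (ζ a)) 0 * a = t * X.u (ρ (ζ b)) 0 * b := congrArg Subtype.val e
    rw [mul_assoc, mul_assoc, mul_right_inj] at e1
    have m := mul_mem (inv_mem (Y.u_mem (ρ (ζ b)) 0)) (Y.u_mem (ρ (ζ a)) 0)
    have := (h.QC0 m (by
      rw [show (X.u (ρ (ζ b)) 0)⁻¹ * X.u (ρ (ζ a)) 0 = b * (a : G)⁻¹ by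
        rw [inv_mul_eq_iff_eq_mul, ← mul_assoc, ← e1, mul_inv_cancel_right]]
      exact (mul_mem b.2 (inv_mem a.2)).2)).2.2
    rw [X.u_inv, X.u_mul, Y.π_u] at this
    rw [K.eq_of_add this, mul_right_inj] at e1
    exact Subtype.ext e1
  · rintro ⟨_, m, hm', rfl⟩
    obtain ⟨r, c, hc, e, -⟩ := h.conj_t hm hm'
    exact ⟨⟨c, hc⟩, Subtype.ext (by
      change t * X.u (ρ (ζ c)) 0 * c = m * t * m⁻¹
      rw [ζr r c hc (e ▸ (DD.refl t).conj m), K.nm_inj (hρ _), e])⟩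
  have gZ := (h.NP hg).2
  obtain ⟨γ, g1, g2⟩ := X.exists_γ gZ
  obtain ⟨k, k1, k2⟩ : ∃ k : Fˣ, (g * X.h k) ^ 3 ∈ C[X.Z] ∧ g * X.h k ∉ C[X.Z] := by
    rcases K.chk_o hm γ g1 with e | ⟨k, e1, x, e2⟩
    · refine absurd (two_mem h2 (n := 21) (by decide) (mem_C'.2 ?_)) hn
      rintro _ ⟨b, rfl⟩
      have : ∀ n : ℕ, g ^ n * X.z b * (g ^ n)⁻¹ = X.z (γ^[n] b) := fun n => by
        induction n with
        | zero => simp
        | succ n ih => rw [Function.iterate_succ_apply', ← g2, ← ih]; group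
      rw [← mul_inv_eq_iff_eq_mul, this, e]
    · have : ∀ b, g * X.h k * X.z b * (g * X.h k)⁻¹ = X.z (γ (K.nm k * b)) := fun b => by
        rw [← g2, ← X.h_z]; group
      refine ⟨k, mem_C'.2 ?_, fun e => e2 (X.z_inj ((this x).symm.trans (conj_eq_of_mem_C e (X.z_mem_Z x))))⟩
      rintro _ ⟨b, rfl⟩
      rw [← mul_inv_eq_iff_eq_mul]
      conv_rhs => rw [← e1 b, ← this, ← this, ← this]
      generalize g * X.h k = m
      simp only [pow_succ, pow_zero, one_mul, mul_inv_rev, mul_assoc]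
  have mN := mul_mem hg (h.h_P k)
  generalize g * X.h k = m at k1 k2 mN
  obtain ⟨f, f1, f2, f3, f4⟩ : ∃ f ∈ N[P], PiElt {2}ᶜ f ∧ f ^ 3 ∈ C[X.Z] ∧ f ∉ C[X.Z] := by
    have k3 : ∀ x ∈ zpowers m, x ^ 3 ∈ C[X.Z] := by
      rintro _ ⟨n, rfl⟩
      rw [← zpow_natCast, ← zpow_mul, mul_comm, zpow_mul, zpow_natCast]
      exact zpow_mem k1 n
    exact ⟨_, constt_mem _ mN, piElt_constt _ m, k3 _ (constt_mem_zpowers _ m), fun e => k2 (by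
      rw [← constt_mul_constt {2} m]
      exact mul_mem (two_mem (piElt_constt _ m) (n := 3) (by decide) (k3 _ (constt_mem_zpowers _ m))) e)⟩
  let ψ : Equiv.Perm {x // ∃ m ∈ N[P], x = m * t * m⁻¹} := (MulAut.conj f).toEquiv.subtypeEquiv fun x =>
    ⟨fun ⟨m, hm, e⟩ => ⟨f * m, mul_mem f1 hm, by rw [e]; change f * _ * f⁻¹ = _; group⟩,
      fun ⟨m, hm, e⟩ => ⟨f⁻¹ * m, mul_mem (inv_mem f1) hm, by
        have e : f * x * f⁻¹ = _ := e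
        rw [show f⁻¹ * m * t * (f⁻¹ * m)⁻¹ = f⁻¹ * (m * t * m⁻¹) * f by group, ← e]; group⟩⟩
  have := Fintype.ofFinite {x // ∃ m ∈ N[P], x = m * t * m⁻¹}
  have i3 : Fact (Nat.Prime 3) := ⟨Nat.prime_three⟩
  obtain ⟨⟨_, n, hn', rfl⟩, e⟩ := Equiv.Perm.exists_fixed_point_of_prime (p := 3) (n := 1) (σ := ψ) (by
    rw [← Nat.card_eq_fintype_card, card]
    exact fun e => absurd (h.pi.inf_left C[Y.Q0] 3 Nat.prime_three e) (by decide)) (Equiv.ext fun x => by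
      obtain ⟨_, n, hn', rfl⟩ := x
      refine Subtype.ext ?_
      change f * (f * (f * (n * t * n⁻¹) * f⁻¹) * f⁻¹) * f⁻¹ = n * t * n⁻¹
      rw [show ∀ x, f * (f * (f * x * f⁻¹) * f⁻¹) * f⁻¹ = f ^ 3 * x * (f ^ 3)⁻¹ from fun x => by
          simp only [pow_succ, pow_zero, one_mul, mul_inv_rev, mul_assoc],
        mem_C.1 (h.P_D (conj_mem hn' tP)) _ (h.oddD _ (pow_mem f1 3) f3 (f2.pow 3)), mul_inv_cancel_right])
  have e1 : f * (n * t * n⁻¹) * f⁻¹ = n * t * n⁻¹ := congrArg Subtype.val e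
  have nZ := N_le_NC _ (h.NP hn').2
  have m1 := conj_mem' (norm_self _ hn') f1
  refine ⟨n⁻¹ * f * n, h, hm, m1, ?_, h.oddD _ (pow_mem m1 3) ?_ ?_, fun e => f4 ?_, BT, sqB', big⟩
  · calc _ = n⁻¹ * (f * (n * t * n⁻¹) * f⁻¹) * f * n := by group
      _ = _ := by rw [e1]; group
  · have := conj_mem (inv_mem nZ) f3
    rwa [← conj_pow, inv_inv] at this
  · simpa using (f2.conj n⁻¹).pow 3
  · simpa [mul_assoc] using conj_mem nZ e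

end H2.SZ
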