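import Mathlib
import Cfsg.Agent.H2.ZDefs
import Cfsg.Agent.H2.Z1a
import Cfsg.Agent.H5.LyT

set_option autoImplicit false
set_option linter.unusedVariables false
set_option linter.unusedSectionVars false

namespace H2.SZ

open Cfsg H24 Subgroup
open H2.C2 (Cl2)

universe u

variable {G : Type u} [Group G] [Finite G] {F : Type*} [Field F] [Fintype F] {K : FD F}
  {L G0 D P P0 Q R A C T E : Subgroup G} {t g s φ : G} {X : SzD K L} {c : F}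

/-! ### The exceptional configuration for `q = 8` does not occur -/

theorem card_mod {p n : ℕ} (hp : p.Prime) (hg : g ∈ N[A]) (h : g ^ p ^ n ∈ C[A]) :
    ♯A ≡ ♯(A ⊓ C{g}) [MOD p] := by
  classical
  let f : Function.End A := fun a => ⟨g * a * g⁻¹, conj_mem hg a.2⟩
  have hf : ∀ (k : ℕ) (a : A), ((f ^ k) a : G) = g ^ k * a * (g ^ k)⁻¹ := fun k => by
    induction k with
    | zero => intro a; simp; rfl
    | succ k ih => intro a; rw [pow_succ]; exact (ih (f a)).trans (by simp only [f]; group)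
  have := Fact.mk hp
  have := Fintype.ofFinite A
  have c := Equiv.Perm.card_fixedPoints_modEq (f := f) (p := p) (n := n)
    (funext fun a => Subtype.ext ((hf _ a).trans (conj_eq_of_mem_C h a.2)))
  rw [← Nat.card_eq_fintype_card, ← Nat.card_eq_fintype_card] at c
  refine c.trans (by
    rw [Nat.card_congr (β := ↥(A ⊓ C{g}))
      ⟨fun a => ⟨a.1.1, a.1.2, mem_C1.2 (eq_mul_of_mul_inv_eq (congrArg Subtype.val a.2)).symm⟩,
        fun a => ⟨⟨a.1, a.2.1⟩, Subtype.ext (mul_inv_eq_of_eq_mul (mem_C1.1 a.2.2).symm)⟩,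
        fun _ => rfl, fun _ => rfl⟩])

/-- the norm map of an element of order three -/
def nu (φ a : G) : G := a * (φ * a * φ⁻¹) * (φ * (φ * a * φ⁻¹) * φ⁻¹)

section
variable {a b : G}

theorem nu_mem (hφ : φ ∈ N[A]) (ha : a ∈ A) : nu φ a ∈ A :=
  mul_mem (mul_mem ha (conj_mem hφ ha)) (conj_mem hφ (conj_mem hφ ha))
theorem nu_mul (hA : Abl A) (hφ : φ ∈ N[A]) (ha : a ∈ A) (hb : b ∈ A) :
    nu φ (a * b) = nu φ a * nu φ b := by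
  have a1 := conj_mem hφ ha
  have a2 := conj_mem hφ a1
  have b1 := conj_mem hφ hb
  rw [nu, nu, nu, ← conj_mul, ← conj_mul]
  generalize φ * a * φ⁻¹ = a' at *
  generalize φ * a' * φ⁻¹ = a'' at *
  generalize φ * b * φ⁻¹ = b' at *
  rw [show a * b * (a' * b') * (a'' * (φ * b' * φ⁻¹)) = a * (b * a') * (b' * a'') * (φ * b' * φ⁻¹) by
    group, hA.comm hb a1, hA.comm b1 a2, show a * (a' * b) * (a'' * b') = a * a' * (b * a'') * b' by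
    group, hA.comm hb a2]
  group
theorem nu_C (hA : Abl A) (hφ : φ ∈ N[A]) (h3 : φ ^ 3 ∈ C[A]) (ha : a ∈ A) : nu φ a ∈ C{φ} := by
  have a1 := conj_mem hφ ha
  rw [mem_C1_comm, mem_C1_iff_conj, nu, mul_assoc a, hA.comm ha (mul_mem a1 (conj_mem hφ a1)),
    ← conj_eq_of_mem_C h3 ha, conj_eq_of_mem_C h3 ha, ← hA.comm ha (mul_mem a1 (conj_mem hφ a1))]
  conv_rhs => rw [hA.comm ha (mul_mem a1 (conj_mem hφ a1))]; enter [2]; rw [← conj_eq_of_mem_C h3 ha]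
  simp only [pow_succ, pow_zero]
  group
theorem nu_fix (h : a ∈ C{φ}) : nu φ a = a * a * a := by
  rw [nu, mem_C1_iff_conj.1 (mem_C1_comm.1 h), mem_C1_iff_conj.1 (mem_C1_comm.1 h)]

end

/-- the elements of the centraliser of `φ` that are used -/
structure Pz {L D : Subgroup G} {t : G} {X : SzD K L} (Y : QD X t D) (G0 P : Subgroup G) (φ : G)
    (y : F) (x b : G) : Prop extends Ph Y G0 P φ where
  y0 : y ≠ 0
  zφ : X.z y ∈ C{φ}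
  zu : ∀ w ∈ X.Z, w ∈ C{φ} → w = 1 ∨ w = X.z y
  xS : x ∈ X.S
  xφ : x ∈ C{φ}
  xx : x * x = X.z y
  bB : b ∈ P ⊓ C[Y.Q0]
  bφ : b ∈ C{φ}
  bU : b * b ∈ Y.U0
  bb : b * b * (b * b) = X.z y

namespace Ph
variable {Y : QD X t D} (h : Ph Y G0 P φ)
include h

theorem q8 : Fintype.card F = 8 := by rw [K.card, h.m1]; rfl
theorem φZ' : φ ∈ N[X.Z] := (h.NP h.φP).2
theorem φB : φ ∈ N[P ⊓ C[Y.Q0]] := h.NB h.φP
theorem φ3P : φ ^ 3 ∈ C[P] := cents_symm h.P_D h.φ3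
theorem ZP : X.Z ≤ P := Y.Z_U0.trans (h.U_B.trans inf_le_left)
theorem TP : X.T t ≤ P := Y.T_le.trans h.Q_le
theorem nuB {a : G} (ha : a ∈ P ⊓ C[Y.Q0]) : nu φ a ∈ C{φ} :=
  nu_C h.abl h.φB (C_anti inf_le_left h.φ3P) ha
theorem card_fix (hA : A ≤ X.Z) (hn : φ ∈ N[A]) :
    ♯A ≡ ♯(A ⊓ C{φ}) [MOD 3] ∧ (♯A = 1 ∨ ♯A = 2 ∨ ♯A = 4 ∨ ♯A = 8) := by
  refine ⟨card_mod (n := 1) Nat.prime_three hn (C_anti (hA.trans h.ZP) h.φ3P), ?_⟩
  have := card_dvd hA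
  rw [X.card_Z, h.q8] at this
  have := Nat.le_of_dvd (by norm_num) this
  interval_cases ♯A <;> omega
theorem card_Zφ : ♯(X.Z ⊓ C{φ}) = 2 := by
  have e1 := (h.card_fix le_rfl h.φZ').1
  have e2 := (h.card_fix (A := X.Z ⊓ C{φ}) inf_le_left
    (norm_inf (X := zpowers φ) (zpowers_le.2 h.φZ') (norm_of_le (zpowers_le_C1 φ)) (mem_zpowers φ))).2
  have e3 : ♯(X.Z ⊓ C{φ}) ≠ 8 := fun e => h.φZ (mem_C_iff_le_C1.2
    ((eq_of_card_eq inf_le_left (by rw [e, X.card_Z, h.q8])).ge.trans inf_le_right))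
  rw [X.card_Z, h.q8, Nat.ModEq] at e1
  omega

theorem exists_pz : ∃ y x b, Pz Y G0 P φ y x b := by
  obtain ⟨_, ⟨⟨y, rfl⟩, zφ⟩, z1⟩ := exists_ne_one (ne_bot_of_prime (h.card_Zφ ▸ Nat.prime_two))
  have y0 : y ≠ 0 := mt X.z_eq_one.2 z1
  have zu : ∀ w ∈ X.Z, w ∈ C{φ} → w = 1 ∨ w = X.z y := fun w h1 h2 =>
    (mem_zp_inv (X.z_sq y)).1 ((zpowers_eq_of_prime (h.card_Zφ ▸ Nat.prime_two)
      (mem_inf.2 ⟨X.z_mem_Z y, zφ⟩) z1).ge (mem_inf.2 ⟨h1, h2⟩))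
  have φS : φ ∈ N[X.S] := h.TI X h.φt y0 (conj_mem h.φZ' (X.z_mem_Z y))
  obtain ⟨x, ⟨xS, xφ⟩, xZ⟩ : ∃ x ∈ X.S ⊓ C{φ}, x ∉ X.Z := by
    by_contra hn
    have e := card_mod (n := 1) Nat.prime_three φS (C_anti ((X.S_T t).trans h.TP) h.φ3P)
    rw [le_antisymm (le_inf (fun x hx => by_contra fun e => hn ⟨x, hx, e⟩) inf_le_right)
      (inf_le_inf_right _ X.Z_le_S), h.card_Zφ, X.card_S, h.q8] at e
    exact absurd e (by decide)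
  obtain ⟨b0, b1, b2⟩ := h.big
  obtain ⟨b, hb, bU, e⟩ := h.root b1 b2 y
  have e1 : nu φ b * nu φ b = nu φ (b * b) := (nu_mul h.abl h.φB hb hb).symm
  refine ⟨y, x, nu φ b, h, y0, zφ, zu, xS, xφ, (zu _ ?_ (mul_mem xφ xφ)).resolve_left
    fun e => xZ (X.mem_Z_of_sq xS e), nu_mem h.φB hb, h.nuB hb,
    e1 ▸ nu_mem (h.N0_U (h.NP h.φP).1) bU, ?_⟩
  · obtain ⟨a, c, rfl⟩ := xS
    exact ⟨_, X.u_sq a c⟩
  · rw [e1, ← nu_mul h.abl h.φB (h.U_B bU) (h.U_B bU), h.sqU bU, e, nu_fix zφ, X.z_sq, one_mul]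

end Ph

namespace Pz
variable {Y : QD X t D} {y : F} {x b : G} (h : Pz Y G0 P φ y x b)
include h

theorem z1 : X.z y ≠ 1 := mt X.z_eq_one.1 h.y0
theorem tφ : t ∈ C{φ} := mem_C1.2 h.φt.symm
theorem xP : x ∈ P := h.TP (X.S_T t h.xS)
theorem xQ : x ∈ Y.Q0 := by
  obtain ⟨a, c, e⟩ := h.xS
  exact e ▸ Y.u_Q0 a c

theorem twoZ (h1 : g ∈ N[X.Z]) (h2 : g ∈ C{φ}) (h3 : X.z y ∈ C{g}) (h4 : PiElt {2} g) :
    g ∈ C[X.Z] := by
  let W : Subgroup G :=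
    { carrier := {w | w ∈ X.Z ∧ nu φ w = 1}
      mul_mem' := fun ha hb => ⟨mul_mem ha.1 hb.1, by
        rw [nu_mul X.abl_Z h.φZ' ha.1 hb.1, ha.2, hb.2, mul_one]⟩
      one_mem' := ⟨one_mem _, by simp [nu]⟩
      inv_mem' := by rintro _ ⟨⟨c, rfl⟩, e⟩; rw [X.z_inv]; exact ⟨⟨c, rfl⟩, e⟩ }
  have gW : g ∈ N[W] := mem_N_of_finite fun w hw => ⟨conj_mem h1 hw.1, by
    have e : ∀ a, φ * (g * a * g⁻¹) * φ⁻¹ = g * (φ * a * φ⁻¹) * g⁻¹ := fun a => by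
      rw [show φ * (g * a * g⁻¹) * φ⁻¹ = φ * g * a * (φ * g)⁻¹ by group, ← mem_C1.1 h2]; group
    rw [nu, e, e, conj_mul, conj_mul, ← nu, hw.2, mul_one, mul_inv_cancel]⟩
  have W0 : W ≠ ⊥ := fun e => h.φZ (mem_C'.2 fun w hw => by
    have w1 := conj_mem h.φZ' hw
    have : w * (φ * w * φ⁻¹) ∈ W := ⟨mul_mem hw w1, by
      have k := mem_C1_iff_conj.1 (mem_C1_comm.1 (nu_C X.abl_Z h.φZ' (C_anti h.ZP h.φ3P) hw))
      obtain ⟨c, ec⟩ := nu_mem h.φZ' hw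
      rw [nu_mul X.abl_Z h.φZ' hw w1, show nu φ (φ * w * φ⁻¹) = φ * nu φ w * φ⁻¹ by
        simp only [nu]; group, k, ec, X.z_sq]⟩
    obtain ⟨c, rfl⟩ := hw
    rw [e, mem_bot, mul_eq_one_iff_inv_eq, X.z_inv] at this
    exact eq_mul_of_mul_inv_eq this.symm)
  obtain ⟨n, hn⟩ := h4.exists_pow Nat.prime_two
  have e1 := card_mod (n := n) Nat.prime_two gW (by rw [← hn, pow_orderOf_eq_one]; exact one_mem _)
  have e2 := ((X.pi_S.of_le X.Z_le_S).of_le (K := W) fun w hw => hw.1).dvd_card W0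
  obtain ⟨w, ⟨⟨w1, w2⟩, w3⟩, w4⟩ := exists_ne_one (H := W ⊓ C{g}) fun e => by
    rw [e, card_bot, Nat.ModEq] at e1
    omega
  have φV : φ ∈ N[X.Z ⊓ C{g}] := norm_inf (X := zpowers φ) (zpowers_le.2 h.φZ')
    (norm_of_le (zpowers_le.2 (mem_C1_comm.1 h2))) (mem_zpowers φ)
  obtain ⟨e3, e4⟩ := h.card_fix inf_le_left φV
  rw [show X.Z ⊓ C{g} ⊓ C{φ} = X.Z ⊓ C{φ} from le_antisymm (inf_le_inf_right _ inf_le_left)
    fun w hw => ⟨⟨hw.1, (h.zu w hw.1 hw.2).elim (fun e => e ▸ one_mem _) fun e => e ▸ h3⟩, hw.2⟩,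
    h.card_Zφ, Nat.ModEq] at e3
  have e5 : ♯(X.Z ⊓ C{g}) ≠ 2 := fun e => by
    rcases (mem_zp_inv (X.z_sq y)).1 ((zpowers_eq_of_prime (e ▸ Nat.prime_two)
      (mem_inf.2 ⟨X.z_mem_Z y, h3⟩) h.z1).ge (mem_inf.2 ⟨w1, w3⟩)) with e | e
    · exact w4 e
    · rw [e, nu_fix h.zφ, X.z_sq, one_mul] at w2
      exact h.z1 w2
  exact mem_C_iff_le_C1.2 ((eq_of_card_eq (B := X.Z) inf_le_left (by
    rw [X.card_Z, h.q8]; omega)).ge.trans inf_le_right)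

theorem sq_eq {a : G} (ha : a * x * a⁻¹ ∈ P ⊓ C{φ}) : a * X.z y * a⁻¹ = X.z y := by
  have e : a * x * a⁻¹ * (a * x * a⁻¹) = a * X.z y * a⁻¹ := by rw [conj_mul, h.xx]
  have e2 : a * X.z y * a⁻¹ * (a * X.z y * a⁻¹) = 1 := by simp [X.z_sq]
  exact (h.zu _ (h.U2 (h.B1 (e ▸ h.sqP ha.1) (e2 ▸ one_mem _)) e2)
    (e ▸ mul_mem ha.2 ha.2)).resolve_left (mt conj_eq_one_iff'.1 h.z1)

theorem syl : Syl 2 C{φ} (P ⊓ C{φ}) := by
  by_contra hn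
  obtain ⟨R, r2, r1, r3, r4⟩ := exists_lt_norm_of_not_syl Nat.prime_two (h.pi.inf_left _)
    inf_le_right hn
  obtain ⟨g, gR, gP⟩ := SetLike.exists_of_lt r1
  have gz := h.sq_eq (conj_mem (r4 gR) ⟨h.xP, h.xφ⟩)
  have tP := h.TP (X.t_T t)
  have s1 := conj_mem (r4 gR) ⟨tP, h.tφ⟩
  obtain ⟨k, k1, k2⟩ := h.F2 ((DD.refl t).conj g) (h.P_Z s1.1)
  have gZ : g ∈ N[X.Z] := by
    have := X.NS_le_NZ (h.TI X (g := k⁻¹ * g) (by
      rw [mul_assoc, eq_mul_of_mul_inv_eq k2]; group) h.y0 (by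
      rw [show k⁻¹ * g * X.z y * (k⁻¹ * g)⁻¹ = k⁻¹ * (g * X.z y * g⁻¹) * k by group, gz]
      exact conj_mem' k1 (X.z_mem_Z y)))
    simpa using mul_mem k1 this
  have gC := h.twoZ gZ (r3 gR) (mem_C1_comm.1 (mem_C1_iff_conj.2 gz)) (r2.piElt gR)
  have cB : t * g * t⁻¹ * g⁻¹ ∈ P ⊓ C[Y.Q0] := mem_inf.2 ⟨by
    simpa only [h.ti, mul_assoc] using mul_mem tP s1.1,
    (h.comm_Y ⟨h.tN0, h.tZ X⟩ ⟨h.N0_of gZ (h.P_N s1.1), gC⟩).2⟩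
  have cφ : t * g * t⁻¹ * g⁻¹ ∈ C{φ} := by
    simpa only [h.ti, mul_assoc] using mul_mem h.tφ s1.2
  have e0 : t * (t * g * t⁻¹ * g⁻¹) = g * t * g⁻¹ := by
    rw [h.ti, ← mul_assoc, ← mul_assoc, ← mul_assoc, h.tt, one_mul]
  generalize t * g * t⁻¹ * g⁻¹ = c at cB cφ e0
  obtain ⟨d, hd, e⟩ := h.sqB c cB (by rw [e0, conj_mul, h.tt, mul_one, mul_inv_cancel])
  obtain ⟨d, dB, dφ, rfl⟩ : ∃ d ∈ P ⊓ C[Y.Q0], d ∈ C{φ} ∧ c = d * d :=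
    ⟨nu φ d * c⁻¹, mul_mem (nu_mem h.φB hd) (inv_mem cB), mul_mem (h.nuB hd) (inv_mem cφ), by
      rw [mul_assoc, ← mul_assoc c⁻¹, h.abl.comm (inv_mem cB) (nu_mem h.φB hd), ← mul_assoc,
        ← mul_assoc, ← nu_mul h.abl h.φB hd hd, ← e, nu_fix cφ]; group⟩
  have fin : ∀ e ∈ P ⊓ C{φ}, e⁻¹ * t * e = g * t * g⁻¹ → False := fun e he e1 => gP ⟨by
    have := h.TP (h.two_T (mul_mem (h.P_Z he.1) gC) (by
      rw [mul_assoc, eq_mul_of_mul_inv_eq e1.symm]; group) (r2.piElt (mul_mem (r1.le he) gR)))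
    exact (mul_mem_cancel_left (mem_inf.1 he).1).1 this, r3 gR⟩
  have k : d⁻¹ * t * d = t * d * (t * d * (t * d))⁻¹ * d := by
    conv_lhs => rw [← h.ti]
    group
  rcases h.zu _ (h.B2 dB) (mul_mem (mul_mem h.tφ dφ) (mul_mem h.tφ dφ)) with e1 | e1
  · exact fin d ⟨dB.1, dφ⟩ (by rw [k, e1, ← e0, inv_one, mul_one, mul_assoc])
  · refine fin (d * (b * b)) ⟨mul_mem dB.1 (h.U_B h.bU).1, mul_mem dφ (mul_mem h.bφ h.bφ)⟩ ?_
    have c1 := h.abl.comm dB (h.U_B h.bU)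
    have c2 := eq_mul_of_mul_inv_eq (h.tU h.bU)
    rw [← h.bb] at e1
    generalize b * b = w at *
    calc _ = w⁻¹ * (d⁻¹ * t * d) * w := by group
      _ = w⁻¹ * t * d * (w * w)⁻¹ * (d * w) := by rw [k, e1]; group
      _ = t * (w * d) * (w * w)⁻¹ * (w * d) := by rw [← c2, c1]; group
      _ = t * (d * w) * (w * w)⁻¹ * (w * d) := by rw [c1]
      _ = _ := by rw [← e0]; group

theorem xc {p : G} (hp : p ∈ P ⊓ C{φ}) : p * x * p⁻¹ = x := by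
  obtain ⟨d, hd, s, hs, rfl⟩ := h.BT p hp.1
  obtain ⟨a, c, ex⟩ := h.xS
  obtain ⟨a', e⟩ : ∃ a', s * x * s⁻¹ = x * X.z (K.B a' a) := by
    obtain ⟨a', c', rfl | rfl⟩ := (h.mem_T X).1 hs
    · exact ⟨a', by rw [ex, X.u_conj]⟩
    · exact ⟨a', by rw [ex, show t * X.u a' c' * X.u a c * (t * X.u a' c')⁻¹ =
        t * (X.u a' c' * X.u a c * (X.u a' c')⁻¹) * t⁻¹ by group, X.u_conj, X.u_z, ← h.tu X,
        mul_inv_cancel_right]⟩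
  have e1 : d * s * x * (d * s)⁻¹ = x * X.z (K.B a' a) := by
    rw [show d * s * x * (d * s)⁻¹ = d * (s * x * s⁻¹) * d⁻¹ by group, e]
    exact conj_eq_of_mem_C hd.2 (mul_mem h.xQ (Y.U0_Q0 (Y.Z_U0 (X.z_mem_Z _))))
  have m : x * X.z (K.B a' a) ∈ C{φ} := e1 ▸ mul_mem (mul_mem hp.2 h.xφ) (inv_mem hp.2)
  rcases h.zu _ (X.z_mem_Z _) ((mul_mem_cancel_left h.xφ).1 m) with e2 | e2
  · rw [e1, e2, mul_one]
  · rw [← h.xx, ex, X.u_sq] at e2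
    have := K.nm_inj (x := a' + a) (y := a') (by rw [K.nm_add, X.z_inj e2, add_assoc, K.add_self, add_zero])
    exact absurd (by rw [← h.xx, ex, X.u_sq, add_eq_left.1 this, K.nm_zero, X.z_zero]) h.z1

theorem move {a : G} (h1 : a ∈ C{φ}) (h2 : a ∈ C{X.z y}) (h3 : PiElt {2} a) :
    ∃ k ∈ C{φ} ⊓ C{X.z y}, k * a * k⁻¹ ∈ P ⊓ C{φ} := by
  obtain ⟨k, hk, e⟩ := Sylow_Jsub Nat.prime_two (Hall.of_le h.syl (L := C{φ} ⊓ C{X.z y})
    (le_inf inf_le_right (inf_le_left.trans (h.P_Z.trans (C_le_C1 (X.z_mem_Z y))))) inf_le_left)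
    h3.isPi (zpowers_le.2 ⟨h1, h2⟩)
  exact ⟨k, hk, e (conj_mem_cj k (mem_zpowers a))⟩

theorem iso (hg : g ∈ C{φ}) (e : X.z y * (g * X.z y * g⁻¹) = g * X.z y * g⁻¹ * X.z y) :
    g * X.z y * g⁻¹ = X.z y := by
  obtain ⟨k, hk, e1⟩ := h.move (mul_mem (mul_mem hg h.zφ) (inv_mem hg)) (mem_C1.2 e.symm)
    ((piElt_of_sq (X.z_sq y)).conj g)
  have k1 := (mem_inf.1 hk).1
  obtain ⟨l, ⟨-, l2⟩, e2⟩ := h.move (a := (k * g)⁻¹ * x * (k * g))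
    (mul_mem (mul_mem (inv_mem (mul_mem k1 hg)) h.xφ) (mul_mem k1 hg)) (mem_C1.2 (by
      have := eq_mul_of_mul_inv_eq (h.xc e1)
      calc _ = (k * g)⁻¹ * (x * (k * (g * X.z y * g⁻¹) * k⁻¹)) * (k * g) := by group
        _ = _ := by rw [← this]; group))
    (by simpa using (h.pi.piElt h.xP).conj (k * g)⁻¹)
  have e3 := h.sq_eq (a := l * (k * g)⁻¹) (by simpa only [mul_inv_rev, inv_inv, mul_assoc] using e2)
  calc _ = g * l⁻¹ * (l * X.z y * l⁻¹) * l * g⁻¹ := by group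
    _ = g * l⁻¹ * (l * (k * g)⁻¹ * X.z y * (l * (k * g)⁻¹)⁻¹) * l * g⁻¹ := by
      rw [e3, mem_C1_iff_conj.1 l2]
    _ = k⁻¹ * X.z y * k⁻¹⁻¹ := by group
    _ = _ := mem_C1_iff_conj.1 (inv_mem (mem_inf.1 hk).2)

theorem four {a : G} (h1 : a ∈ C{φ}) (h2 : a * a = 1) (h3 : a * X.z y = X.z y * a) (h4 : a ≠ 1)
    (h5 : a ≠ X.z y) (hg : g ∈ C{φ}) (e : X.z y * a = g * a * g⁻¹) :
    ♯(H4.OC C{φ}) = ♯(H4.OC C{φ} ⊓ C{X.z y}) *
      {s | ∃ k ∈ H4.OC C{φ} ⊓ C{a}, k * X.z y * k⁻¹ = s}.ncard ^ 2 := by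
  have e1 := H5.four_formula (H4.OC_odd C{φ}) (X.z_sq y) h2 h3 h.z1 h4 h5
    (fun _ => H4.OC_conj' h.zφ) fun _ => H4.OC_conj' h1
  rw [e, show H4.OC C{φ} ⊓ C{g * a * g⁻¹} = cj g (H4.OC C{φ} ⊓ C{a}) by
      rw [cj_inf, cj_C1, cj_of_mem_N (mem_N_of_finite fun _ => H4.OC_conj' hg)], card_cj,
    ← H4.ncard_conj_class (_ ⊓ C{a}) (X.z y),
    show H4.OC C{φ} ⊓ centralizer {X.z y, a} = H4.OC C{φ} ⊓ C{a} ⊓ C{X.z y} by
      ext; simp [mem_centralizer_iff, and_assoc, and_comm, and_left_comm]] at e1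
  exact Nat.eq_of_mul_eq_mul_right (pow_pos (card_pos _) 2) (e1.trans (by ring))

end Pz

theorem Ph.false {Y : QD X t D} (h : Ph Y G0 P φ) : False := by
  obtain ⟨y, x, b, h⟩ := h.exists_pz
  have wφ := mul_mem h.bφ h.bφ
  have c1 : x * (b * b) = b * b * x := mem_C.1 (h.U0_C h.bU) x h.xQ
  have c2 := h.tU h.bU
  have xt : x * t = t * x := by obtain ⟨a, c, e⟩ := h.xS; exact e ▸ h.tu X a c
  have xU : x ∉ Y.U0 := fun e => by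
    obtain ⟨a, c, ex⟩ := h.xS
    have := e.2.2
    rw [ex, Y.π_u] at this
    exact h.z1 (by rw [← h.xx, ex, X.u_sq, show a = 0 from this, K.nm_zero, X.z_zero])
  have e1 := h.four h.tφ h.tt (h.tz X y).symm h.t1 (fun e => h.zn y (e ▸ DD.refl _)) (inv_mem wφ) (by
    rw [h.tz, ← h.bb, ← eq_mul_of_mul_inv_eq c2, inv_inv, mul_assoc t])
  have e2 := h.four (mul_mem h.xφ wφ) (by
      rw [mul_assoc, ← mul_assoc (b * b), ← c1, mul_assoc, h.bb, ← mul_assoc, h.xx, X.z_sq])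
    (mem_C'.1 (h.P_Z (mul_mem h.xP (h.U_B h.bU).1)) _ (X.z_mem_Z y))
    (fun e => xU (eq_inv_of_mul_eq_one_left e ▸ inv_mem h.bU))
    (fun e => xU (eq_mul_inv_of_mul_eq e ▸ mul_mem (Y.Z_U0 (X.z_mem_Z y)) (inv_mem h.bU))) h.tφ (by
      rw [← mul_assoc t, ← xt, mul_assoc x, mul_assoc x, c2, ← X.z_inv, ← mul_assoc,
        mem_C.1 (h.P_Z h.xP) _ (inv_mem (X.z_mem_Z y)), ← h.bb]; group)
  have e3 := Nat.pow_left_injective two_ne_zero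
    (Nat.eq_of_mul_eq_mul_left (card_pos _) (e1.symm.trans e2))
  have oJ := odd_of_le (H4.OC_odd C{φ}) (inf_le_left (b := L))
  have zz : ∀ g ∈ C{φ}, X.z y * g * X.z y * g⁻¹ ∈ H4.OC C{φ} := fun g =>
    H4.zstar_rel h.zφ (X.z_sq y) h.z1 fun _ => h.iso
  have iJ : ∀ g ∈ H4.OC C{φ} ⊓ L, X.z y * g * X.z y = g⁻¹ := fun g =>
    H4.inv_of_fpf oJ (X.z_sq y) (fun g hg => mem_inf.2 ⟨by simpa only [X.z_inv] using H4.OC_conj' h.zφ hg.1,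
      mul_mem (mul_mem (X.z_mem y) hg.2) (X.z_mem y)⟩) fun g hg e =>
        (X.pi_S.piElt (X.cent_z hg.2 h.y0 e)).eq_one ((piNat_compl_singleton Nat.prime_two).2
          (H4.odd_orderOf oJ hg).not_two_dvd_nat)
  have e4 : {s | ∃ k ∈ H4.OC C{φ} ⊓ C{t}, k * X.z y * k⁻¹ = s} =
      (X.z y * ·) '' (H4.OC C{φ} ⊓ L : Subgroup G) := by
    refine Set.ext fun s => ⟨?_, ?_⟩
    · rintro ⟨k, hk, rfl⟩
      exact ⟨_, mem_inf.2 ⟨zz k (H4.OC_le _ hk.1), by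
        simpa only [mul_assoc] using mul_mem (X.z_mem y) (conj_mem (h.Ct k (mem_C1.1 hk.2)) (X.z_mem y))⟩,
        by simp only [← mul_assoc, X.z_sq, one_mul]⟩
    · rintro ⟨j, hj, rfl⟩
      obtain ⟨n, e⟩ := H4.exists_sq_eq (H4.odd_orderOf oJ hj)
      have m := pow_mem (show j ∈ H4.OC C{φ} ⊓ L from hj) n
      refine ⟨(j ^ n)⁻¹, inv_mem ⟨m.1, mem_C1.2 (mem_C.1 h.tC _ m.2)⟩, ?_⟩
      rw [inv_inv, ← iJ _ m, mul_assoc (X.z y * _), X.z_sq, mul_one, mul_assoc, e]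
  rw [e4, Set.ncard_image_of_injective _ (mul_right_injective _), ← Nat.card_coe_set_eq,
    ← Set.ncard_sdiff_singleton_add_one (a := X.z y) (by exact ⟨1, one_mem _, by simp⟩)] at e3
  have e5 := H4.card_dvd_of_conj (zpowers b) ({s | ∃ k ∈ H4.OC C{φ} ⊓ C{x * (b * b)},
    k * X.z y * k⁻¹ = s} \ {X.z y}) (fun g hg s hs => by
      have g1 := zpowers_le.2 h.bB hg
      have g2 := conj_eq_of_mem_C (h.P_Z g1.1) (X.z_mem_Z y)
      obtain ⟨⟨k, hk, rfl⟩, h1⟩ := hs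
      have g3 : g ∈ C{x * (b * b)} := C_le_C1 (mul_mem h.xQ (Y.U0_Q0 h.bU)) g1.2
      refine ⟨⟨g * k * g⁻¹, mem_inf.2 ⟨H4.OC_conj' (zpowers_le.2 h.bφ hg) hk.1,
        mul_mem (mul_mem g3 hk.2) (inv_mem g3)⟩, ?_⟩, fun e => h1 ?_⟩
      · conv_lhs => rw [← g2]
        group
      · exact (MulAut.conj g).injective (e.trans g2.symm)) fun g hg s hs e => by
    by_contra g1
    obtain ⟨n, n1, n2⟩ := inv_pow' (h.pi.piElt (zpowers_le.2 h.bB hg).1) g1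
    have := (h.zu _ (h.U2 (h.B1 (pow_mem (zpowers_le.2 h.bB hg) n) (n2 ▸ one_mem _)) n2)
      (pow_mem (zpowers_le.2 h.bφ hg) n)).resolve_left n1
    obtain ⟨⟨k, hk, rfl⟩, h1⟩ := hs
    exact h1 (h.iso (H4.OC_le _ hk.1) (this ▸ ((show Commute g _ from e).pow_left n).eq))
  rw [card_zpowers', orderOf_eq_prime_pow (p := 2) (n := 2) (fun e => h.z1 (by
    rw [← h.bb, ← e, sq, pow_mul, sq, sq])) (by
      rw [← X.z_sq y, ← h.bb, pow_succ, sq, pow_mul, pow_mul, sq, sq, sq])] at e5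
  have J1 : ♯(H4.OC C{φ} ⊓ L) ≠ 1 := fun e => by
    have e6 := card_mod (n := 1) Nat.prime_three (h.Ct φ h.φt) (h.D_L h.φ3)
    have e7 := card_mod (n := 1) Nat.prime_three (h.TI X h.φt h.y0 (conj_mem h.φZ' (X.z_mem_Z y)))
      (C_anti ((X.S_T t).trans h.TP) h.φ3P)
    rw [le_antisymm (inf_le_inf_right _ X.S_le) fun l hl => ⟨X.cent_z hl.1 h.y0 (by
      have : X.z y * l * X.z y * l⁻¹ ∈ H4.OC C{φ} ⊓ L := mem_inf.2 ⟨zz l hl.2,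
        mul_mem (mul_mem (mul_mem (X.z_mem y) hl.1) (X.z_mem y)) (inv_mem (mem_inf.1 hl).1)⟩
      rw [card_eq_one'.1 e, mem_bot, mul_inv_eq_one, mul_assoc, ← eq_inv_mul_iff_mul_eq,
        X.z_inv] at this
      exact this), hl.2⟩, X.card_S] at e7
    have := e6.trans e7.symm
    rw [X.card, h.q8] at this
    exact absurd this (by decide)
  have := X.tor h.m1 _ inf_le_right (abl_iff.2 (le_C_iff.2 fun a ha b hb =>
    H4.comm_of_inv (X.z_sq y) iJ ha hb)) oJ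
  change ♯(H4.OC C{φ} ⊓ L) = _ at e3
  omega

end H2.SZ
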