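import Mathlib
import Cfsg.Agent.H2.ZDefs
import Cfsg.Agent.H2.ZA1
import Cfsg.Agent.H2.ZB
import Cfsg.Agent.H24.Base3
import Cfsg.Agent.H8.SzLie
import Cfsg.Agent.H8.SzCount

/-! # Standard subgroup `Sz(q)`: coordinates in `Sz(q)` and its automorphisms -/

set_option autoImplicit false
set_option linter.unusedVariables false
set_option linter.unusedSectionVars false

namespace H2.SZ

open Cfsg H24 Subgroup

universe u

namespace ZM

variable {F : Type*} [Field F] [Fintype F] {K : FD F}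
  {M : Type*} [Group M] [Finite M] {X : SzD K (⊤ : Subgroup M)} {w : M}

/-- the Weyl element -/
structure Wy (X : SzD K (⊤ : Subgroup M)) (w : M) : Prop where
  ww : w * w = 1
  wf : ∀ k, X.h k * w * X.h k = w
  nw : w ∉ N[X.S]
  br : ∀ g, g ∈ N[X.S] ∨ ∃ a b, ∃ n ∈ N[X.S], g = X.u a b * w * n

theorem B_of (X : SzD K (⊤ : Subgroup M)) {g s : M} (hs : s ∈ X.S) (h1 : s ≠ 1)
    (h : g * s * g⁻¹ ∈ X.S) : g ∈ N[X.S] := by
  obtain ⟨a, b, rfl⟩ := hs
  obtain ⟨c, d, e⟩ := h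
  obtain ⟨a', b', i, rfl⟩ := X.ti g (mem_top _) a b c d h1 e
  exact mul_mem (norm_self _ (X.u_mem_S _ _)) (X.h_NS i)

theorem of_B (X : SzD K (⊤ : Subgroup M)) {g : M} (h : g ∈ N[X.S]) :
    ∃ a b k, g = X.u a b * X.h k := by
  obtain ⟨c, d, e⟩ := conj_mem h (X.u_mem_S 0 1)
  exact X.ti g (mem_top _) 0 1 c d X.z1 e

theorem Wy.inv (h : Wy X w) : w⁻¹ = w := inv_eq_of_mul_eq_one_right h.ww

theorem Wy.key (h : Wy X w) {s : M} (hs : s ∈ X.S) (e : w * s * w⁻¹ ∈ N[X.S]) : s = 1 := by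
  by_contra h1
  exact h.nw (B_of X hs h1 (X.syl_S.le_of_norm ((X.pi_S.piElt hs).conj w).isPi le_top
    (zpowers_le.2 e) (mem_zpowers _)))

theorem aut_S {β : MulAut M} (hβ : ∀ b, β (X.z b) = X.z b) {x : M} (hx : x ∈ X.S) : β x ∈ X.S := by
  obtain ⟨a, b, rfl⟩ := hx
  refine X.cent_z (mem_top _) one_ne_zero ?_
  rw [← hβ 1, ← map_mul, ← map_mul, X.z_u]

theorem aut_B {β : MulAut M} (hβ : ∀ b, β (X.z b) = X.z b) {n : M} (hn : n ∈ N[X.S]) :
    β n ∈ N[X.S] := by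
  obtain ⟨c, e⟩ := conj_mem (X.NS_le_NZ hn) (X.z_mem_Z 1)
  refine B_of X (X.Z_le_S (X.z_mem_Z 1)) X.z1 ?_
  rw [← hβ 1, ← map_inv, ← map_mul, ← map_mul, e, hβ]
  exact X.Z_le_S (X.z_mem_Z c)

theorem Wy.fix (h : Wy X w) {β : MulAut M} (hβ : ∀ b, β (X.z b) = X.z b) {n : M} (hn : n ∈ N[X.S])
    (hw : β w = w * n) (x : M) : β x = x := by
  have hf : ∀ k, β (X.h k) = X.h k := fun k => by
    have fN := X.h_NS k
    have fz := X.h_z k
    have wf := h.wf k
    generalize X.h k = f at fN fz wf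
    have m : f⁻¹ * β f ∈ X.S := X.cent_z (mem_top _) one_ne_zero (by
      rw [← mul_inv_eq_iff_eq_mul, mul_inv_rev, inv_inv, ← hβ 1, ← map_inv, mul_assoc f⁻¹,
        ← map_mul, mul_assoc, ← mul_assoc (β _), ← map_mul, fz, hβ, hβ, ← fz]
      group)
    refine (inv_mul_eq_one.1 (h.key m ?_)).symm
    have e := congrArg β wf
    rw [map_mul, map_mul, hw] at e
    have e2 : w * f⁻¹ = f * w := by rw [mul_inv_eq_iff_eq_mul, wf]
    have e3 : w * β f * w⁻¹ = n * (β f)⁻¹ * n⁻¹ := by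
      rw [← h.inv, inv_inv, eq_mul_inv_iff_mul_eq, eq_mul_inv_iff_mul_eq, mul_assoc, mul_assoc,
        mul_assoc, inv_mul_eq_iff_eq_mul, ← e]
      simp only [mul_assoc]
    rw [show w * (f⁻¹ * β f) * w⁻¹ = w * f⁻¹ * w⁻¹ * (w * β f * w⁻¹) by group, e2, e3,
      mul_inv_cancel_right]
    exact mul_mem fN (conj_mem (norm_self _ hn) (inv_mem (aut_B hβ fN)))
  have k : ∀ a, ∃ b, β (X.u a 0) = X.u a b := fun a => by
    obtain ⟨c, d, e⟩ := aut_S hβ (X.u_mem_S a 0)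
    have := hβ (K.nm a)
    rw [← X.u_sq a 0, map_mul, e, X.u_sq, X.u_sq] at this
    obtain rfl := K.nm_inj (X.z_inj this)
    exact ⟨d, e⟩
  choose γ hγ using k
  let γ' : F →+ F := AddMonoidHom.mk' γ fun a c => by
    have := map_mul β (X.u a 0) (X.u c 0)
    rw [X.u_mul, X.u_eq, map_mul, hβ, hγ, hγ, hγ, SzD.z, X.u_mul, X.u_mul] at this
    have := (X.u_inj this).2
    rw [mul_zero] at this
    linear_combination this
  have hu : ∀ a b, β (X.u a b) = X.u a b := fun a b => by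
    have : γ a = 0 := K.eqv0 γ' (fun k a => by
      have := congrArg β (X.h_u k a 0)
      rw [map_mul, map_mul, map_inv, hf, hγ, X.h_u, mul_zero, hγ] at this
      exact (X.u_inj this).2.symm) a
    rw [X.u_eq, map_mul, hγ, this, hβ]
  have hB : ∀ g ∈ N[X.S], β g = g := fun g hg => by
    obtain ⟨a, b, i, rfl⟩ := of_B X hg
    rw [map_mul, hu, hf]
  obtain rfl : n = 1 := by
    rcases h.br (w * X.z 1 * w⁻¹) with e | ⟨a, b, m, hm, e⟩
    · exact absurd (h.key (X.Z_le_S (X.z_mem_Z 1)) e) X.z1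
    obtain ⟨c, e1⟩ := conj_mem (X.NS_le_NZ hn) (X.z_mem_Z 1)
    have e2 := congrArg β e
    simp only [map_mul, map_inv, hw, hβ, hu, hB m hm] at e2
    rw [show w * n * X.z 1 * (w * n)⁻¹ = w * (n * X.z 1 * n⁻¹) * w⁻¹ by group, e1] at e2
    have e3 : w * X.z (1 + c) * w⁻¹ = m⁻¹ * n * m := by
      rw [← X.z_mul, ← conj_mul, ← X.z_inv 1, ← conj_inv, e, e2]; group
    have e4 := h.key (X.Z_le_S (X.z_mem_Z _)) (e3 ▸ mul_mem (mul_mem (inv_mem hm) hn) hm)
    rw [e4, mul_one, mul_inv_cancel, eq_comm, ← inv_inv m, inv_inv, conj_eq_one_iff] at e3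
    exact e3
  rcases h.br x with e | ⟨a, b, m, hm, rfl⟩
  · exact hB x e
  · rw [map_mul, map_mul, hu, hw, hB m hm, mul_one]

theorem Wy.autZ (h : Wy X w) {α : MulAut M} (hα : ∀ b, α (X.z b) = X.z b) :
    ∃ a b, ∀ x, α x = X.u a b * x * (X.u a b)⁻¹ := by
  rcases h.br (α w) with e | ⟨a, b, n, hn, e⟩
  · refine absurd ?_ h.nw
    simpa using aut_B (β := α⁻¹) (fun b => by
      conv_lhs => rw [← hα b]
      simp) e
  refine ⟨a, b, fun x => ?_⟩
  have := h.fix (β := (MulAut.conj (X.u a b))⁻¹ * α) (fun c => by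
      simp only [MulAut.mul_apply, hα, MulAut.conj_inv_apply]
      rw [mul_assoc, X.z_u, inv_mul_cancel_left])
    (mul_mem hn (norm_self _ (X.u_mem_S a b))) (by
      simp only [MulAut.mul_apply, e, MulAut.conj_inv_apply]; group) x
  simp only [MulAut.mul_apply, MulAut.conj_inv_apply] at this
  conv_rhs => rw [← this]
  group

theorem aut2 {α : MulAut M} (hα : ∀ x ∈ X.S, α x ∈ X.S) {n : ℕ} (hn : α ^ 2 ^ n = 1) (b : F) :
    α (X.z b) = X.z b := by
  choose A D hA using fun a => hα _ (X.u_mem_S a 0)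
  have k : ∀ a, α (X.z (K.nm a)) = X.z (K.nm (A a)) := fun a => by
    rw [← X.u_sq a 0, map_mul, hA, X.u_sq]
  have add : ∀ a b, A (a + b) = A a + A b := fun a b => K.nm_inj (X.z_inj (by
    rw [← k, ← X.u_sq _ (0 + 0 + K.σ a * b), ← X.u_mul, map_mul, map_mul, hA, hA, X.u_mul, X.u_sq]))
  have : ∀ b, ∃ c, α (X.z b) = X.z c := fun b => by
    obtain ⟨a, rfl⟩ := K.nm_surj b
    exact ⟨_, k a⟩
  choose γ hγ using this
  have it : ∀ n : ℕ, ∀ a, (α ^ n) (X.z (K.nm a)) = X.z (K.nm (A^[n] a)) := by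
    intro n
    induction n with
    | zero => simp
    | succ n ih => intro a; rw [pow_succ, MulAut.mul_apply, Function.iterate_succ_apply, ← ih, k]
  have e := K.two_fix (AddMonoidHom.mk' A add) (AddMonoidHom.mk' γ fun a b => X.z_inj (by
      rw [← X.z_mul, ← hγ, ← hγ, ← hγ, ← map_mul, X.z_mul]))
    (fun a => X.z_inj ((hγ _).symm.trans (k a))) n
    fun a => K.nm_inj (X.z_inj ((it _ a).symm.trans (by rw [hn]; rfl)))
  obtain ⟨a, rfl⟩ := K.nm_surj b
  rw [k]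
  exact congrArg _ (congrArg _ (e a))

theorem tor {m : ℕ} (T : H8.Sz.Ctx F m) (hF : Nat.card F = 8) (J : Subgroup (Cfsg.Sz F m))
    (hA : Abl J) (hO : Odd ♯J) : ♯J = 1 ∨ ♯J = 5 ∨ ♯J = 7 ∨ ♯J = 13 := by
  rcases J.bot_or_exists_ne_one with rfl | ⟨g, hg, h1⟩
  · exact .inl card_bot
  have cm : ∀ c ∈ J, ∀ x, x * c * x⁻¹ * (x * g * x⁻¹) = x * g * x⁻¹ * (x * c * x⁻¹) := fun c hc x => by
    rw [conj_mul, conj_mul, hA.comm hc hg]
  have dv : ∀ x, ∀ A : Subgroup (Cfsg.Sz F m), (∀ c ∈ J, x * c * x⁻¹ ∈ A) → ♯J ∣ ♯A := fun x A h =>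
    card_dvd_of_injective (((MulAut.conj x).toMonoidHom.comp J.subtype).codRestrict A
      fun c => h c c.2) fun a b e => Subtype.ext ((MulAut.conj x).injective (congrArg Subtype.val e))
  rcases T.trichotomy g with ⟨x, hx⟩ | ⟨x, hx⟩ | h3
  · have := dv x T.U fun c hc => T.mem_U_of_commute hx (by simpa using h1) (cm c hc x)
    rw [T.card_U, hF] at this
    exact .inl (Nat.Coprime.eq_one_of_dvd ((Nat.coprime_two_right.2 hO).pow_right 6) this)
  · have := dv x T.H fun c hc => T.mem_H_of_commute hx (by simpa using h1) (cm c hc x)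
    rw [T.card_H, hF] at this
    rcases (Nat.dvd_prime (by decide)).1 this with e | e <;> simp [e]
  have d := T.card_dvd_of_fpf J fun c hc c1 => T.fpf_of_commute h3 c1 (hA.comm hg hc)
  obtain ⟨y, y', hy, hy', -, -, e, -, h⟩ := T.exists_tori (by rw [T.card_Sz, hF]; decide) (by omega)
  have le : ∀ y x, H8.Sz.Fpf y → x * g * x⁻¹ ∈ centralizer {y} → ♯J ≤ ♯(centralizer {y}) :=
    fun y x hy hx => Nat.le_of_dvd Nat.card_pos (dv x _ fun c hc => by
      rw [← T.centralizer_eq_of_fpf hy hx (by simpa using h1)]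
      exact mem_centralizer_singleton_iff.2 (cm c hc x))
  have : ♯J ≤ 18 := by
    rcases h g h3 with ⟨x, hx⟩ | ⟨x, hx⟩
    · have := le y x hy hx; omega
    · have := le y' x hy' hx; omega
  rw [hF] at d
  generalize ♯J = n at d this
  exact (by decide : ∀ n ≤ 18, n ∣ 8 ^ 2 + 1 → n = 1 ∨ n = 5 ∨ n = 7 ∨ n = 13) n this d

theorem exists_wy (K : FD F) (e : M ≃* ↥(Cfsg.Lie.Sz F (2 ^ (K.m + 1)))) :
    ∃ (X : SzD K (⊤ : Subgroup M)) (w : M), Wy X w := by
  obtain ⟨T⟩ := H8.Sz.nonempty_ctx (F := F) K.hm K.card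
  let ψ : Cfsg.Sz F K.m ≃* M := T.lieEquiv.trans e.symm
  have σ : ∀ x, T.σ x = K.σ x := fun x => (T.σ_eq x).trans (K.σ_eq x).symm
  let ι : Fˣ ≃* Fˣ := Units.mapEquiv K.τ.toMulEquiv
  have hι : ∀ k, (ι k : F) = K.τ k := fun _ => rfl
  have hB : ∀ g ∈ H8.Sz.B F K.m, ∃ a b k, ψ g = ψ (T.u a b) * ψ (T.h (ι k)) := fun g hg => by
    obtain ⟨a, b, k, rfl⟩ := T.mem_B.1 hg
    exact ⟨a, b, ι.symm k, by simp⟩
  have := T.isSimpleGroup
  let X : SzD K (⊤ : Subgroup M) :=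
    { u := fun a b => ψ (T.u a b)
      h := ψ.toMonoidHom.comp (T.hHom.comp ι.toMonoidHom)
      u_mem := fun _ _ => mem_top _
      h_mem := fun _ => mem_top _
      u_mul := fun a b c d => by rw [← map_mul, T.u_mul, σ]
      u_inj := fun h => T.u_inj.1 (ψ.injective h)
      h_u := fun k a b => by
        change ψ (T.h (ι k)) * _ * (ψ (T.h (ι k)))⁻¹ = _
        rw [← map_inv, ← map_mul, ← map_mul, T.h_conj_u, σ, hι, K.σ_τ, ← map_pow, K.τ_sq, FD.nm]
      card := by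
        rw [card_top, ← Nat.card_congr ψ.toEquiv, T.card_Sz, Nat.card_eq_fintype_card]
      simple := (topEquiv.trans ψ.symm).isSimpleGroup
      ti := fun g _ a b c d h1 h2 => by
        obtain ⟨g, rfl⟩ := ψ.surjective g
        rw [← map_inv, ← map_mul, ← map_mul] at h2
        exact hB g (T.mem_B_of_conj_mem_U (T.u_mem_U _ _) (fun e => h1 (by rw [e, map_one]))
          (ψ.injective h2 ▸ T.u_mem_U _ _))
      autZ := fun g _ h => by
        obtain ⟨g, rfl⟩ := ψ.surjective g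
        obtain ⟨a, b, rfl⟩ := T.mem_U_of_commute (c := g) (T.u_mem_U 0 1) (T.u_ne_one (by simp))
          (ψ.injective (by rw [map_mul, map_mul]; exact h 1))
        exact ⟨a, b, 1, one_mem _, by simp⟩
      aut2 := fun g _ _ => ⟨g, mem_top _, 1, one_mem _, (mul_one g).symm⟩
      tor := fun hm J _ hA hO => by
        have c := Nat.card_congr (ψ.symm.subgroupMap J).toEquiv
        rw [c] at hO ⊢
        refine tor T (by rw [Nat.card_eq_fintype_card, K.card, hm]; rfl) _ (hA.map _) hO }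
  have mB : ∀ a b k, X.u a b * X.h k ∈ N[X.S] := fun a b k =>
    mul_mem (norm_self _ (X.u_mem_S _ _)) (X.h_NS k)
  have hh : ∀ k, X.h k = ψ (T.h (ι k)) := fun _ => rfl
  refine ⟨X, ψ T.w, by rw [← map_mul, T.w_mul_w, map_one], fun k => ?_, fun h => ?_, fun g => ?_⟩
  · rw [hh, ← map_mul, ← map_mul, mul_assoc, T.w_mul_h, ← mul_assoc, T.h_mul, mul_inv_cancel, T.h_one,
      one_mul]
  · obtain ⟨a, b, i, e⟩ := of_B X h
    rw [hh] at e
    have e : ψ T.w = ψ (T.u a b * T.h (ι i)) := by rw [map_mul]; exact e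
    have := T.w_inf
    rw [ψ.injective e, mul_smul, T.h_inf, T.u_inf] at this
    exact T.pt_ne_inf 0 0 this.symm
  · obtain ⟨g, rfl⟩ := ψ.surjective g
    rcases T.bruhat g with h | ⟨a, b, c, d, k, rfl⟩
    · obtain ⟨a, b, k, e⟩ := hB g (T.mem_B.2 h)
      exact .inl (e ▸ mB a b k)
    · exact .inr ⟨a, b, _, mB c d (ι.symm k), by simp [X, T.hHom_apply]⟩

end ZM

variable {G : Type u} [Group G] [Finite G] {F : Type*} [Field F] [Fintype F] {K : FD F}
  {L : Subgroup G}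

theorem exists_fd {m : ℕ} (hm : 1 ≤ m) (hF : Fintype.card F = 2 ^ (2 * m + 1)) :
    ∃ K : FD F, K.m = m := by
  obtain ⟨T⟩ := H8.Sz.nonempty_ctx (F := F) hm hF
  exact ⟨⟨m, hm, hF, RingEquiv.ofBijective T.σ (Finite.injective_iff_bijective.1 T.σ.injective),
    T.σ_eq, T.sq⟩, rfl⟩

theorem exists_szD (K : FD F) (e : Nonempty (↥L ≃* ↥(Cfsg.Lie.Sz F (2 ^ (K.m + 1))))) :
    Nonempty (SzD K L) := by
  obtain ⟨e⟩ := e
  obtain ⟨X, w, h⟩ := ZM.exists_wy K e
  have ap : ∀ (g : N[L]) (x : L), ((L.normalizerMonoidHom g x : L) : G) = g * x * (g : G)⁻¹ :=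
    fun _ _ => rfl
  have aZ : ∀ g ∈ N[L], (∀ b, g * X.u 0 b = X.u 0 b * g) →
      ∃ a b, ∃ k ∈ C[L], g = (X.u a b : G) * k := fun g hg hz => by
    obtain ⟨a, b, e⟩ := h.autZ (α := L.normalizerMonoidHom ⟨g, hg⟩) fun b => Subtype.ext (by
      rw [ap, mul_inv_eq_iff_eq_mul]; exact hz b)
    refine ⟨a, b, (X.u a b : G)⁻¹ * g, mem_C'.2 fun x hx => ?_, by group⟩
    have := congrArg Subtype.val (e ⟨x, hx⟩)
    rw [ap] at this
    simp only [coe_mul, InvMemClass.coe_inv] at this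
    rw [mul_assoc, eq_mul_of_mul_inv_eq this]
    group
  have := X.simple
  exact ⟨{
    u := fun a b => X.u a b
    h := L.subtype.comp X.h
    u_mem := fun a b => (X.u a b).2
    h_mem := fun k => (X.h k).2
    u_mul := fun a b c d => congrArg Subtype.val (X.u_mul a b c d)
    u_inj := fun h => X.u_inj (Subtype.ext h)
    h_u := fun k a b => congrArg Subtype.val (X.h_u k a b)
    card := card_top.symm.trans X.card
    simple := topEquiv.symm.isSimpleGroup
    ti := fun g hg a b c d h1 h2 => by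
      obtain ⟨a', b', i, e⟩ := X.ti ⟨g, hg⟩ (mem_top _) a b c d (fun e => h1 (congrArg Subtype.val e))
        (Subtype.ext h2)
      exact ⟨a', b', i, congrArg Subtype.val e⟩
    tor := fun hm J hJ hA hO => by
      have c := Nat.card_congr (subgroupOfEquivOfLe hJ).toEquiv
      rw [← c] at hO ⊢
      exact X.tor hm _ le_top (hA.subgroupOf L) hO
    autZ := aZ
    aut2 := fun g hg h2 => by
      have s := X.syl_S.map L.subtype
      rw [map_subtype_top] at s
      obtain ⟨P, hP, gP⟩ := Sylow_superset Nat.prime_two h2.isPi (zpowers_le.2 hg)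
      obtain ⟨l, hl, e⟩ := Sylow_trans Nat.prime_two (hP.inf_nml ⟨norm_self L, le_rfl⟩) s
      have m : l * g * l⁻¹ ∈ N[L] := conj_mem (norm_self _ (norm_self _ hl)) hg
      have n : l * g * l⁻¹ ∈ N[X.S.map L.subtype] := by
        rw [e, ← cj_N]
        exact conj_mem_cj l (norm_inf (X := zpowers g) (gP.trans (norm_self P)) (zpowers_le.2 hg)
          (mem_zpowers g))
      obtain ⟨j, hj⟩ := (h2.conj l).exists_pow Nat.prime_two
      obtain ⟨a, b, k, hk, e⟩ := aZ _ m fun b => by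
        have := congrArg Subtype.val (ZM.aut2 (X := X) (α := L.normalizerMonoidHom ⟨_, m⟩)
          (fun x hx => by
            obtain ⟨y, hy, e⟩ := conj_mem n ⟨x, hx, rfl⟩
            exact (Subtype.ext e : y = L.normalizerMonoidHom ⟨_, m⟩ x) ▸ hy) (n := j) (by
            rw [← map_pow, show (⟨_, m⟩ : N[L]) ^ 2 ^ j = 1 from Subtype.ext (by
              rw [SubmonoidClass.coe_pow, ← hj]; exact pow_orderOf_eq_one _), map_one]) b)
        rwa [ap, mul_inv_eq_iff_eq_mul] at this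
      refine ⟨l⁻¹ * X.u a b * l, mul_mem (mul_mem (inv_mem hl) (X.u a b).2) hl, k, hk, ?_⟩
      rw [mul_assoc, mem_C.1 hk l hl, ← mul_assoc, mul_assoc l⁻¹, ← e]
      group }⟩

end H2.SZ
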