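import Mathlib
import Cfsg.Agent.H2.ZDefs
import Cfsg.Agent.H2.ZA1
import Cfsg.Agent.H2.ZM
import Cfsg.Agent.H2.ZR

/-! # Standard subgroup `Sz(q)`: the centre of the standard subgroup is trivial -/

set_option autoImplicit false
set_option linter.unusedVariables false
set_option linter.unusedSectionVars false

namespace H2.SZ

open Cfsg H24 Subgroup
open scoped commutatorElement

universe u

namespace ZC

variable {F : Type*} [Field F] [Fintype F] {K : FD F}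
  {M H : Type*} [Group M] [Finite M] [Group H] [Finite H]

theorem tc {p : ℕ} (hM : Group.IsPerfect M) {Q : Subgroup M} (hQ : Syl p ⊤ Q) {x : M} (hx : x ∈ Q)
    (hc : x ∈ center M) : x ∈ ⁅Q, Q⁆ := by
  let V : M →* Abelianization Q := MonoidHom.transfer (Abelianization.of (G := Q))
  have h2 : V x = 1 := Abelianization.commutator_subset_ker V
    (Group.IsPerfect.commutator_eq_top (G := M) ▸ mem_top x)
  have e := MonoidHom.transfer_eq_pow (Abelianization.of (G := Q)) x fun k g _ => by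
    rw [mul_assoc, ← mem_center_iff.1 (pow_mem hc k) g, inv_mul_cancel_left]
  have h4 := (Abelianization.ker_of Q).le (e.symm.trans h2)
  have h5 : x ^ Q.index ∈ ⁅Q, Q⁆ := by
    have := mem_map_of_mem Q.subtype h4
    rw [commutator_def, map_commutator, ← MonoidHom.range_eq_map, range_subtype] at this
    exact this
  have h6 : (Q.relIndex ⊤).Coprime (orderOf x) := (hQ.idx.coprime' (hQ.pi.piElt hx))
  rw [relIndex_top_right] at h6
  obtain ⟨m, hm⟩ := exists_pow_eq_self_of_coprime h6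
  rw [← hm]
  exact pow_mem h5 m

theorem l1 {a b y : M} (h : a * ⁅b, y⁆ = ⁅b, y⁆ * a) : ⁅a * b, y⁆ = ⁅b, y⁆ * ⁅a, y⁆ := by
  rw [show ⁅a * b, y⁆ = a * ⁅b, y⁆ * a⁻¹ * ⁅a, y⁆ by simp only [commutatorElement_def]; group, h,
    mul_inv_cancel_right]

theorem l2 {a b y : M} (h : a * ⁅y, b⁆ = ⁅y, b⁆ * a) : ⁅y, a * b⁆ = ⁅y, a⁆ * ⁅y, b⁆ := by
  rw [show ⁅y, a * b⁆ = ⁅y, a⁆ * (a * ⁅y, b⁆ * a⁻¹) by simp only [commutatorElement_def]; group, h,
    mul_inv_cancel_right]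

theorem syl_cov {φ : M →* H} (hk : φ.ker = center M) (X : SzD K φ.range)
    (h2 : IsPi {2} (center M)) : Syl 2 ⊤ (X.S.comap φ) := by
  refine Hall.mk' le_top (isPi_of_relIndex (K := φ.ker) (ker_le_comap φ _) (hk ▸ h2) ?_) ?_
  · rw [← MonoidHom.comap_bot, relIndex_comap, map_comap_eq, relIndex_bot_left]
    exact X.pi_S.inf_right _
  · rw [relIndex_comap, ← MonoidHom.range_eq_map]
    exact X.syl_S.idx

theorem cov {φ : M →* H} (hk : φ.ker = center M) (X : SzD K φ.range) (hM : Group.IsPerfect M)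
    (h2 : IsPi {2} (center M)) {t : M} (ht : t ∈ center M) (t1 : t ≠ 1)
    (hinv : ∀ c ∈ center M, c * c = 1 → c = 1 ∨ c = t) :
    ∃ ψ : F → M, (∀ a b, ψ (a + b) = ψ a * ψ b) ∧ (∀ b, φ (ψ b) = X.z b) ∧
      ∀ a ≠ 0, ∀ b ≠ 0, (∃ g, ψ b = g * ψ a * g⁻¹) ∧ ∃ g, t * ψ b = g * ψ a * g⁻¹ := by
  have ce : ∀ {x}, φ x = 1 → ∀ y, y * x = x * y := fun e => mem_center_iff.1 (hk.le e)
  have cj : ∀ {x x'}, φ x = φ x' → ∀ y, x * y * x⁻¹ = x' * y * x'⁻¹ := fun {x x'} e y => by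
    have := ce (x := x'⁻¹ * x) (by rw [map_mul, map_inv, e, inv_mul_cancel]) y
    rw [show x * y * x⁻¹ = x' * (x'⁻¹ * x * y) * x⁻¹ by group, ← this]
    group
  have cc : ∀ {x x' y y'}, φ x = φ x' → φ y = φ y' → ⁅x, y⁆ = ⁅x', y'⁆ := fun {x x' y y'} e e' => by
    rw [commutatorElement_def, cj e, show x' * y * x'⁻¹ * y⁻¹ = x' * (y * x'⁻¹ * y⁻¹) by group, cj e']
    group
  have cg : ∀ g x y : M, g * ⁅x, y⁆ * g⁻¹ = ⁅g * x * g⁻¹, g * y * g⁻¹⁆ := fun g x y => by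
    simp only [commutatorElement_def]; group
  choose U hU using fun a b => X.u_mem a b
  choose h hh using fun k => X.h_mem k
  have hz : ∀ a, φ (U 0 a) = X.z a := hU 0
  have zz : ∀ a b, φ ⁅U 0 a, U 0 b⁆ = 1 := fun a b => by
    rw [map_commutatorElement, hz, hz, commutatorElement_eq_one_iff_mul_comm, X.z_mul, X.z_mul,
      add_comm]
  have ab : ∀ a b, ⁅U 0 a, U 0 b⁆ = 1 := K.alt0 (fun a b => ⁅U 0 a, U 0 b⁆)
    (fun a a' b => (cc (by rw [map_mul, hz, hz, hz, X.z_mul, add_comm]) rfl).trans (l1 (ce (zz _ _) _)))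
    (fun a b b' => (cc rfl (by rw [map_mul, hz, hz, hz, X.z_mul])).trans (l2 (ce (zz _ _) _)))
    (fun a => commutatorElement_self _) fun k a b => by
      obtain ⟨l, hl⟩ := K.exists_nm one_ne_zero k.ne_zero
      rw [mul_one] at hl
      refine (cc (x' := h l * U 0 a * (h l)⁻¹) (y' := h l * U 0 b * (h l)⁻¹) ?_ ?_).trans ?_
      · rw [map_mul, map_mul, map_inv, hh, hz, hz, X.h_z, hl]
      · rw [map_mul, map_mul, map_inv, hh, hz, hz, X.h_z, hl]
      · rw [← cg, ce (zz a b), mul_inv_cancel_right]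
  obtain ⟨k0, hk0⟩ := K.exists_unit
  have c0 : K.nm k0 + 1 ≠ 0 := fun e => K.nm_ne_one hk0 (K.eq_of_add e)
  let ψ : F → M := fun b => ⁅h k0, U 0 (b / (K.nm k0 + 1))⁆
  have p1 : ∀ b, φ (ψ b) = X.z b := fun b => by
    rw [map_commutatorElement, commutatorElement_def, hh, hz, X.h_z, X.z_inv, X.z_mul]
    congr 1
    field_simp
  have p2 : ∀ a b, ψ (a + b) = ψ a * ψ b := fun a b =>
    (cc rfl (by rw [map_mul, hz, hz, hz, X.z_mul, add_div])).trans (l2 (by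
      rw [← commutatorElement_eq_one_iff_mul_comm]
      exact (cc rfl ((p1 b).trans (hz b).symm)).trans (ab _ _)))
  have p0 : ψ 0 = 1 := mul_left_cancel (a := ψ 0) (by rw [← p2, add_zero, mul_one])
  have pp : ∀ b, ψ b * ψ b = 1 := fun b => by rw [← p2, K.add_self, p0]
  have p3 : ∀ k b, h k * ψ b * (h k)⁻¹ = ψ (K.nm k * b) := fun k b => (cg _ _ _).trans (cc
    (by rw [map_mul, map_mul, map_inv, hh, hh, X.h_comm, mul_inv_cancel_right])
    (by rw [map_mul, map_mul, map_inv, hh, hz, hz, X.h_z, mul_div_assoc]))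
  refine ⟨ψ, p2, p1, ?_⟩
  by_cases hc : ∃ a a' b, U a a' * ψ b ≠ ψ b * U a a'
  · obtain ⟨a, a', b, hc⟩ := hc
    have c1 : φ ⁅U a a', ψ b⁆ = 1 := by
      rw [map_commutatorElement, hU, p1, commutatorElement_eq_one_iff_mul_comm, X.z_u]
    have e : U a a' * ψ b * (U a a')⁻¹ = ⁅U a a', ψ b⁆ * ψ b := by group
    have e2 : t * ψ b = U a a' * ψ b * (U a a')⁻¹ := by
      rw [e, (hinv _ (hk.le c1) ?_).resolve_left (by rwa [commutatorElement_eq_one_iff_mul_comm])]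
      have : ⁅U a a', ψ b⁆ * ψ b * (⁅U a a', ψ b⁆ * ψ b) = 1 := by
        rw [← e, conj_mul, pp, mul_one, mul_inv_cancel]
      rwa [mul_assoc, ← mul_assoc (ψ b), ce c1, mul_assoc, pp, mul_one] at this
    have b0 : b ≠ 0 := by
      rintro rfl
      rw [p0, mul_one, one_mul] at hc
      exact hc rfl
    intro c c0 d d0
    obtain ⟨k, hk⟩ := K.exists_nm c0 d0
    obtain ⟨l, hl⟩ := K.exists_nm c0 b0
    obtain ⟨m, hm⟩ := K.exists_nm b0 d0
    refine ⟨⟨h k, by rw [p3, hk]⟩, h m * U a a' * h l, ?_⟩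
    rw [← hm, ← p3, ← mul_assoc, ← mul_assoc, ← mem_center_iff.1 ht, mul_assoc (h m), e2, ← hl, ← p3]
    group
  exfalso
  push Not at hc
  have sz : ∀ {x w a b c}, φ x = X.u a b → φ w = X.z c → x * w = w * x := fun {x w a b c} e e' => by
    rw [← commutatorElement_eq_one_iff_mul_comm, cc (e.trans (hU a b).symm) (e'.trans (p1 c).symm),
      commutatorElement_eq_one_iff_mul_comm, hc]
  have cj2 : ∀ {x y a b c d}, φ x = X.u a b → φ y = X.u c d →
      x * y * x⁻¹ = U a 0 * y * (U a 0)⁻¹ := fun {x y a b c d} e e' => by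
    rw [cj (x' := U a 0 * ψ b) (by rw [map_mul, hU, p1, e, ← X.u_eq]), mul_assoc (U a 0),
      ← sz e' (p1 b)]
    group
  have cc2 : ∀ {x y a b c d}, φ x = X.u a b → φ y = X.u c d → ⁅x, y⁆ = ⁅U a 0, U c 0⁆ :=
    fun {x y a b c d} e e' => by
      rw [commutatorElement_def, cj2 e e', show ∀ x : M, x * y * x⁻¹ * y⁻¹ = x * (y * x⁻¹ * y⁻¹) from
        fun _ => by group, cj2 e' (by rw [map_inv, hU, X.u_inv])]
      group
  have g1 : ∀ a c, φ ⁅U a 0, U c 0⁆ = X.z (K.B a c) := fun a c => by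
    rw [map_commutatorElement, commutatorElement_def, hU, hU, X.u_conj, X.u_z_conj]
  have key := K.alt0 (fun a c => ⁅U a 0, U c 0⁆ * ψ (K.B a c))
    (fun a a' c => by
      rw [K.B_add_left, p2, ← cc2 (x := U a' 0 * U a 0) (by rw [map_mul, hU, hU, X.u_mul, add_comm])
        (hU c 0), l1 (sz (hU _ _) (g1 _ _)), mul_assoc, mul_assoc, ← mul_assoc ⁅U a' 0, _⁆,
        sz (g1 a' c) (p1 _), mul_assoc])
    (fun a c c' => by
      rw [K.B_add_right, p2, ← cc2 (y := U c 0 * U c' 0) (hU a 0) (by rw [map_mul, hU, hU, X.u_mul]),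
        l2 (sz (hU _ _) (g1 _ _)), mul_assoc, mul_assoc, ← mul_assoc ⁅_, U c' 0⁆,
        sz (g1 a c') (p1 _), mul_assoc])
    (fun a => by rw [commutatorElement_self, K.B_self, p0, mul_one]) fun k a c => by
      rw [K.B_mul, ← p3, ← cc2 (x := h k * U a 0 * (h k)⁻¹) (y := h k * U c 0 * (h k)⁻¹)
        (by rw [map_mul, map_mul, map_inv, hh, hU, X.h_u])
        (by rw [map_mul, map_mul, map_inv, hh, hU, X.h_u]), ← cg, conj_mul,
        ce (x := _ * ψ _) (by rw [map_mul, g1, p1, X.z_sq]), mul_inv_cancel_right]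
  let Y : Subgroup M :=
    { carrier := {g | ∃ b, g = ψ b}
      mul_mem' := by rintro _ _ ⟨a, rfl⟩ ⟨b, rfl⟩; exact ⟨_, (p2 a b).symm⟩
      one_mem' := ⟨0, p0.symm⟩
      inv_mem' := by rintro _ ⟨a, rfl⟩; exact ⟨a, inv_eq_of_mul_eq_one_right (pp a)⟩ }
  have f1 : φ t = 1 := hk.ge ht
  obtain ⟨b, e⟩ := (commutator_le (H₁ := X.S.comap φ) (H₂ := X.S.comap φ) (H₃ := Y)).2
    (fun x ⟨a, b, e⟩ y ⟨c, d, e'⟩ => ⟨K.B a c, by
      rw [cc2 e e', eq_inv_of_mul_eq_one_left (key a c), inv_eq_of_mul_eq_one_right (pp _)]⟩)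
    (tc hM (syl_cov hk X h2) (x := t) (by rw [mem_comap, f1]; exact one_mem _) ht)
  rw [e, p1, X.z_eq_one] at f1
  exact t1 (by rw [e, f1, p0])

theorem two_center (hM : Group.IsPerfect M)
    (e : M ⧸ center M ≃* ↥(Cfsg.Lie.Sz F (2 ^ (K.m + 1)))) : IsPi {2} (center M) := fun p hp hd => by
  by_contra p2
  have := Fact.mk hp
  obtain ⟨T⟩ := H8.Sz.nonempty_ctx (F := F) K.hm K.card
  obtain ⟨x, hx, ho⟩ := exists_orderOf_eq hp hd
  obtain ⟨Q, hQ, xQ⟩ := Sylow_superset hp (piElt_of_orderOf_prime hp ho).isPi le_top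
  let f := ((e.trans T.lieEquiv.symm).toMonoidHom.comp (QuotientGroup.mk' _)).comp Q.subtype
  have := T.isCyclic_of_isPGroup p2 f.range ((hQ.pi.isPGroup hp).of_surjective _ f.rangeRestrict_surjective)
  have hA : Abl Q := abl_iff.2 fun a ha => mem_C.2 fun b hb => congrArg Subtype.val
    (commutative_of_cyclic_center_quotient f.rangeRestrict (fun y hy => mem_center_iff.2 fun g =>
      Subtype.ext (mem_center_iff.1 ((QuotientGroup.eq_one_iff _).1 ((e.trans T.lieEquiv.symm).injective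
        ((congrArg Subtype.val hy).trans (map_one _).symm))) g)) ⟨b, hb⟩ ⟨a, ha⟩)
  have := tc hM hQ (xQ (mem_zpowers x)) hx
  rw [der1_eq_bot.2 hA, mem_bot] at this
  exact hp.one_lt.ne (by rw [← ho, this, orderOf_one])

end ZC

variable {G : Type u} [Group G] [Finite G] {F : Type*} [Field F] [Fintype F] {K : FD F}
  {L G0 : Subgroup G} {t : G}

theorem St.center_bot (h : St L G0 t) (hq : IsQuasisimple L)
    (cyc : ∀ R ≤ C[L], IsPi {2} R → IsCyclic R) (K : FD F)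
    (e : Nonempty (↥L ⧸ center ↥L ≃* ↥(Cfsg.Lie.Sz F (2 ^ (K.m + 1))))) : center ↥L = ⊥ := by
  by_contra hne
  obtain ⟨e⟩ := e
  have h2 := ZC.two_center hq.1 e
  have cL : ∀ c : L, c ∈ center L ↔ (c : G) ∈ C[L] := fun c => by
    rw [mem_center_iff, mem_C]
    exact ⟨fun h x hx => congrArg Subtype.val (h ⟨x, hx⟩), fun h x => Subtype.ext (h x x.2)⟩
  have uq : ∀ k ∈ C[L], k * t = t * k → k * k = 1 → k = 1 ∨ k = t := fun k hk e1 e2 =>
    or_iff_not_imp_left.2 fun k1 => cyc_inv (cyc (zpowers t ⊔ zpowers k)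
      (sup_le (zpowers_le.2 h.tC) (zpowers_le.2 hk)) ((piElt_of_sq h.tt).isPi.sup (piElt_of_sq e2).isPi
        (zpowers_le.2 (C_le_N _ (by rw [C_zpowers]; exact mem_C1.2 e1)))))
      (mem_sup_right (mem_zpowers k)) (mem_sup_left (mem_zpowers t)) k1 e2 h.t1 h.tt
  have Lt : L ≤ C{t} := fun x hx => mem_C1.2 (mem_C.1 h.tC x hx)
  have uq' : ∀ c ∈ center L, c * c = 1 → (c : G) = 1 ∨ (c : G) = t := fun c hc e =>
    uq _ ((cL c).1 hc) (mem_C1.1 (Lt c.2)) (congrArg Subtype.val e)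
  have tL : t ∈ L := by
    obtain ⟨s, hs, s1, s2⟩ : ∃ s ∈ center L, s ≠ 1 ∧ s * s = 1 := by
      obtain ⟨p, hp, hd⟩ := Nat.exists_prime_and_dvd (card_eq_one.not.2 hne)
      obtain rfl : p = 2 := h2 p hp hd
      obtain ⟨s, hs, ho⟩ := exists_orderOf_eq hp hd
      exact ⟨s, hs, fun e => by simp [e] at ho, by rw [← sq, ← ho, pow_orderOf_eq_one]⟩
    exact (uq' s hs s2).resolve_left (fun e => s1 (Subtype.ext e)) ▸ s.2
  let Zc : Subgroup N[L] := (L ⊓ C[L]).subgroupOf N[L]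
  have : Zc.Normal := Nml.normal ⟨inf_le_left.trans (norm_self L), norm_inf le_rfl (N_le_NC L)⟩
  let π := QuotientGroup.mk' Zc
  let φ : L →* N[L] ⧸ Zc := π.comp (inclusion (norm_self L))
  have hk : φ.ker = center L := Subgroup.ext fun c => by
    rw [cL, MonoidHom.mem_ker]
    exact (QuotientGroup.eq_one_iff _).trans ⟨fun h => h.2, fun h => ⟨c.2, h⟩⟩
  obtain ⟨X⟩ := exists_szD (L := φ.range) K ⟨((QuotientGroup.quotientKerEquivRange φ).symm.trans
    (QuotientGroup.quotientMulEquivOfEq hk)).trans e⟩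
  obtain ⟨ψ, p2, p1, p3⟩ := ZC.cov hk X hq.1 h2 (t := ⟨t, tL⟩) ((cL _).2 h.tC)
    (fun e => h.t1 (congrArg Subtype.val e)) fun c hc e => (uq' c hc e).imp Subtype.ext Subtype.ext
  have p0 : ψ 0 = 1 := mul_left_cancel (a := ψ 0) (by rw [← p2, add_zero, mul_one])
  have pp : ∀ b, ψ b * ψ b = 1 := fun b => by rw [← p2, K.add_self, p0]
  have LL : ⁅L, L⁆ = L := by
    have := hq.1
    have := congrArg (map L.subtype) (Group.IsPerfect.commutator_eq_top (G := L))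
    rwa [_root_.commutator_def, map_commutator, ← MonoidHom.range_eq_map, range_subtype] at this
  have aut : ∀ g ∈ N[L], PiElt {2} g → ∃ l ∈ L, ∃ k ∈ C[L], g = l * k := fun g hg g2 => by
    obtain ⟨_, ⟨l, rfl⟩, k, hk, e⟩ := X.aut2 (π ⟨g, hg⟩) (mem_N_of_finite (by
      rintro _ ⟨x, rfl⟩
      exact ⟨⟨_, conj_mem hg x.2⟩, rfl⟩)) (PiElt.map (by rwa [PiElt, ← orderOf_coe]) π)
    let B := (C[φ.range].comap π).map N[L].subtype
    have hB : ⁅L, B⁆ ≤ C[L] := commutator_le.2 (by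
      rintro x hx _ ⟨y, hy, rfl⟩
      have : π ⁅(⟨x, norm_self L hx⟩ : N[L]), y⁆ = 1 := by
        rw [map_commutatorElement, commutatorElement_eq_one_iff_mul_comm]
        exact mem_C.1 hy _ ⟨⟨x, hx⟩, rfl⟩
      exact ((QuotientGroup.eq_one_iff _).1 this).2)
    have := three_subgroup (commutator_eq_bot_iff_le_centralizer.2 hB)
      (commutator_eq_bot_iff_le_centralizer.2 (commutator_comm L B ▸ hB))
    rw [LL, commutator_comm, commutator_eq_bot_iff_le_centralizer] at this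
    refine ⟨l, l.2, (l : G)⁻¹ * g, this ⟨(inclusion (norm_self L) l)⁻¹ * ⟨g, hg⟩, ?_, rfl⟩, by group⟩
    change π _ ∈ C[φ.range]
    rw [map_mul, map_inv, e]
    exact (inv_mul_cancel_left (φ l) k).symm ▸ hk
  have hU := (ZC.syl_cov hk X h2).map L.subtype
  rw [map_subtype_top] at hU
  obtain ⟨T, hT, UT⟩ := Sylow_superset Nat.prime_two hU.pi (hU.le.trans Lt)
  have mU : ∀ x : L, φ x ∈ X.S → (x : G) ∈ T := fun x hx => UT ⟨x, hx, rfl⟩
  have tp : ∀ b, (ψ b : G) * t = t * ψ b := fun b => mem_C1.1 (Lt (ψ b).2)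
  have p2' : ∀ a b, (ψ a : G) * ψ b = ψ (a + b) := fun a b => by rw [p2]; rfl
  let E : Subgroup G :=
    { carrier := {g | ∃ b, g = ψ b ∨ g = t * ψ b}
      mul_mem' := by
        rintro _ _ ⟨a, rfl | rfl⟩ ⟨b, rfl | rfl⟩
        · exact ⟨a + b, .inl (p2' a b)⟩
        · exact ⟨a + b, .inr (by rw [← mul_assoc, tp, mul_assoc, p2'])⟩
        · exact ⟨a + b, .inr (by rw [mul_assoc, p2'])⟩
        · exact ⟨a + b, .inl (by rw [mul_assoc, ← mul_assoc _ t, tp, mul_assoc, p2', ← mul_assoc, h.tt,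
            one_mul])⟩
      one_mem' := ⟨0, .inl (by rw [p0]; rfl)⟩
      inv_mem' := by
        rintro _ ⟨a, rfl | rfl⟩
        · exact ⟨a, .inl (inv_eq_of_mul_eq_one_right (congrArg Subtype.val (pp a)))⟩
        · exact ⟨a, .inr (by rw [mul_inv_rev, h.ti,
            inv_eq_of_mul_eq_one_right (congrArg Subtype.val (pp a) : (ψ a : G) * ψ a = 1), tp])⟩ }
  have inv : ∀ e ∈ T, e * e = 1 → e ∈ E := fun e he e2 => by
    have et := mem_C1.1 (hT.le he)
    obtain ⟨l, hl, k, hk', rfl⟩ := aut e (h.Ct e et) (piElt_of_sq e2)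
    have lk := mem_C.1 hk' l hl
    have TL : T ⊓ L = _ := hU.eq_of_le (hT.pi.inf_left L) (le_inf UT hU.le) inf_le_right
    have sq : φ ⟨l, hl⟩ * φ ⟨l, hl⟩ = 1 := by
      rw [← map_mul]
      refine hk.ge ((cL _).2 ?_)
      have : l * l = (k * k)⁻¹ := by
        rw [eq_inv_iff_mul_eq_one, ← e2, mul_assoc, mul_assoc, ← mul_assoc l k, ← mul_assoc k l, lk]
      change l * l ∈ _
      exact this ▸ inv_mem (mul_mem hk' hk')
    have nS : φ ⟨l, hl⟩ ∈ N[X.S] := mem_N_of_finite fun s hs => by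
      obtain ⟨x, rfl⟩ := X.S_le hs
      have m : l * k * x * (l * k)⁻¹ ∈ T ⊓ L :=
        ⟨conj_mem (norm_self T he) (mU x hs), conj_mem (h.Ct _ et) x.2⟩
      rw [TL, mul_assoc l, ← mem_C.1 hk' x x.2] at m
      obtain ⟨y, hy, e⟩ := m
      rw [← map_inv, ← map_mul, ← map_mul, show ⟨l, hl⟩ * x * ⟨l, hl⟩⁻¹ = y from Subtype.ext
        (Eq.trans (by simp [mul_assoc]) e.symm)]
      exact hy
    obtain ⟨b, e⟩ := X.mem_Z_of_sq (X.syl_S.le_of_norm (piElt_of_sq sq).isPi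
      (zpowers_le.2 ⟨_, rfl⟩) (zpowers_le.2 nS) (mem_zpowers _)) sq
    have c : (ψ b : G) * l ∈ C[L] := (cL (ψ b * ⟨l, hl⟩)).1 (hk.le (by
      rw [MonoidHom.mem_ker, map_mul, p1, e, X.z_sq]))
    have pb : (ψ b : G) * ψ b = 1 := congrArg Subtype.val (pp b)
    have ck := mul_mem c hk'
    have e3 : l * k = ψ b * (ψ b * l * k) := by
      rw [mul_assoc _ l, ← mul_assoc, pb, one_mul]
    rcases uq _ ck (by rw [mul_assoc _ l, mul_assoc, et, ← mul_assoc, tp, mul_assoc]) (by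
      rw [e3, mul_assoc, ← mul_assoc _ (ψ b : G), ← mem_C.1 ck _ (ψ b).2, mul_assoc, ← mul_assoc,
        pb, one_mul] at e2
      exact e2) with e4 | e4
    · exact ⟨b, .inl (by rw [e3, e4, mul_one])⟩
    · exact ⟨b, .inr (by rw [e3, e4, tp])⟩
  obtain ⟨s, hs, st, sD⟩ := h.zs hT (h.le tL) h.t1 h.tt
  obtain ⟨a, a0, ha⟩ : ∃ a, a ≠ 0 ∧ DD t (ψ a) := by
    obtain ⟨a, rfl | rfl⟩ := inv s hs (sD.sq h).1
    · exact ⟨a, fun e => (sD.sq h).2 (by rw [e, p0]; rfl), sD⟩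
    · have a0 : a ≠ 0 := fun e => st (by rw [e, p0]; exact mul_one t)
      obtain ⟨g, e⟩ := (p3 a a0 a a0).2
      have e : t * ψ a = g * ψ a * (g : G)⁻¹ := congrArg Subtype.val e
      exact ⟨a, a0, DD.of_conj (g := g) (e ▸ sD)⟩
  have pT : ∀ b, (ψ b : G) ∈ T := fun b => mU _ (p1 b ▸ X.Z_le_S (X.z_mem_Z b))
  have tT : t ∈ T := mU ⟨t, tL⟩ (by rw [hk.ge ((cL _).2 h.tC)]; exact one_mem _)
  refine h.allD hT (E := E) ?_ (abl_iff.2 fun x hx => mem_C.2 fun y hy => ?_) inv ?_ hU.le hU.pi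
    (fun hA => X.not_abl_S ?_) fun P h1 h2 h3 => ?_
  · rintro _ ⟨b, rfl | rfl⟩
    exacts [pT b, mul_mem tT (pT b)]
  · have cm : ∀ a b, Commute (ψ a : G) (ψ b) := fun a b => by rw [Commute, SemiconjBy, p2', p2', add_comm]
    have ct : ∀ a, Commute (ψ a : G) t := tp
    obtain ⟨a, rfl | rfl⟩ := hx <;> obtain ⟨b, rfl | rfl⟩ := hy
    exacts [cm b a, (ct a).symm.mul_left (cm b a), (ct b).mul_right (cm b a),
      ((Commute.refl t).mul_right (ct a).symm).mul_left ((ct b).mul_right (cm b a))]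
  · rintro _ ⟨b, rfl | rfl⟩ e1
    · obtain ⟨g, e⟩ := (p3 a a0 b fun e => e1 (by rw [e, p0]; rfl)).1
      exact e ▸ ha.conj g
    · rcases eq_or_ne b 0 with rfl | b0
      · rw [p0]; exact (mul_one t).symm ▸ DD.refl t
      obtain ⟨g, e⟩ := (p3 a a0 b b0).2
      have e : t * ψ b = g * ψ a * (g : G)⁻¹ := congrArg Subtype.val e
      exact e ▸ ha.conj g
  · have := ((abl_map_iff L.subtype_injective).1 hA).map φ
    rwa [map_comap_eq_self X.S_le] at this
  · have hn : P ⊴ L := ⟨h1, h3⟩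
    have := X.simple
    have n2 : (P.subgroupOf L).map φ ⊴ φ.range := by
      have := (Nml.map (⟨le_top, (normalizer_eq_top_iff.2 hn.normal).ge⟩ : P.subgroupOf L ⊴ ⊤) φ)
      rwa [← MonoidHom.range_eq_map] at this
    rcases n2.normal.eq_bot_or_eq_top with e | e
    · rw [subgroupOf_eq_bot, disjoint_iff, inf_eq_left.2 n2.le, Subgroup.map_eq_bot_iff, hk] at e
      exact abl_iff.2 fun x hx => mem_C.2 fun y hy => mem_C.1 ((cL ⟨x, h1 hx⟩).1 (e hx)) y (h1 hy)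
    · exact absurd ((X.abl_of_nml n2.le ((isPi_subgroupOf h2 L).map φ) n2.norm).of_le
        (X.S_le.trans (subgroupOf_eq_top.1 e))) X.not_abl_S

end H2.SZ
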