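import Mathlib
import Cfsg.Agent.H2.ZDefs
import Cfsg.Agent.H2.ZE

set_option autoImplicit false
set_option linter.unusedVariables false
set_option linter.unusedSectionVars false

namespace H2.SZ

open Cfsg H24 Subgroup
open H2.C2 (Cl2)

universe u

variable {G : Type u} [Group G] [Finite G] {F : Type*} [Field F] [Fintype F] {K : FD F}
  {L G0 D P P0 Q R A C T E : Subgroup G} {t g s φ : G} {X : SzD K L} {c : F}

/-! ### ZQ1 -/

theorem St.exists_x (h : St L G0 t) (X : SzD K L) : ∃ x : G → F,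
    (∀ s ∈ X.T t, s * s = X.z (K.nm (x s))) ∧ (∀ s ∈ X.T t, ∀ s' ∈ X.T t, x (s * s') = x s + x s') ∧
      ∀ a b, x (X.u a b) = a := by
  have sq : ∀ a b, t * X.u a b * (t * X.u a b) = X.z (K.nm a) := fun a b => by
    rw [mul_assoc, ← mul_assoc (X.u a b), h.tu, mul_assoc, X.u_sq, ← mul_assoc, h.tt, one_mul]
  have : ∀ s, ∃ a, s ∈ X.T t → s * s = X.z (K.nm a) := fun s => by
    by_cases hs : s ∈ X.T t
    · obtain ⟨a, b, rfl | rfl⟩ := (h.mem_T X).1 hs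
      exacts [⟨a, fun _ => X.u_sq a b⟩, ⟨a, fun _ => sq a b⟩]
    · exact ⟨0, fun k => absurd k hs⟩
  choose x hx using this
  have x1 : ∀ a b, x (X.u a b) = a := fun a b =>
    K.nm_inj (X.z_inj ((hx _ ((h.mem_T X).2 ⟨a, b, .inl rfl⟩)).symm.trans (X.u_sq a b)))
  have x2 : ∀ a b, x (t * X.u a b) = a := fun a b =>
    K.nm_inj (X.z_inj ((hx _ ((h.mem_T X).2 ⟨a, b, .inr rfl⟩)).symm.trans (sq a b)))
  refine ⟨x, hx, fun s hs s' hs' => ?_, x1⟩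
  obtain ⟨a, b, rfl | rfl⟩ := (h.mem_T X).1 hs <;> obtain ⟨c, d, rfl | rfl⟩ := (h.mem_T X).1 hs'
  · rw [X.u_mul, x1, x1, x1]
  · rw [← mul_assoc, h.tu, mul_assoc, X.u_mul, x1, x2, x2]
  · rw [mul_assoc, X.u_mul, x1, x2, x2]
  · rw [mul_assoc, ← mul_assoc (X.u a b), h.tu, mul_assoc, X.u_mul, ← mul_assoc, h.tt, one_mul, x1, x2, x2]

theorem St.two_NT (h : St L G0 t) (X : SzD K L) (hg : g ∈ N[X.T t]) (h2 : PiElt {2} g) :
    g ∈ C[X.Z] ∧ ∀ s ∈ X.T t, ∃ b, g * s * g⁻¹ = s * X.z b ∨ g * s * g⁻¹ = s * (t * X.z b) := by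
  obtain ⟨x, x1, x2, x3⟩ := h.exists_x X
  have m : ∀ a b, X.u a b ∈ X.T t := fun a b => mem_sup_right (X.u_mem_S a b)
  have x0 : ∀ s ∈ X.T t, x s = 0 ↔ s * s = 1 := fun s hs => by rw [x1 s hs, X.z_eq_one, K.nm_eq_zero]
  have hz := (X.two_of h2 (fun a => x (g * X.u a 0 * g⁻¹)) (fun a b => by
    have e : X.u (a + b) 0 = X.u a 0 * X.u b 0 * X.z (K.σ a * b) := by
      rw [X.u_mul, X.u_z]; congr 1; linear_combination -K.add_self (K.σ a * b)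
    have c := fun a b => conj_mem hg (m a b)
    rw [e, SzD.z, ← conj_mul, ← conj_mul, x2 _ (mul_mem (c _ _) (c _ _)) _ (c 0 _), x2 _ (c _ _) _ (c _ _),
      (x0 _ (c 0 _)).2 (by rw [conj_mul]; exact conj_eq_one_iff.2 (X.z_sq _)), add_zero])
    fun a => by rw [← X.u_sq a 0, ← conj_mul, x1 _ (conj_mem hg (m a 0))]).1
  refine ⟨hz, fun s hs => ?_⟩
  have c := conj_mem hg hs
  have e : x (g * s * g⁻¹) = x s := K.nm_inj (X.z_inj (by
    rw [← x1 _ c, conj_mul, x1 s hs, conj_eq_of_mem_C hz (X.z_mem_Z _)]))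
  obtain ⟨b, e⟩ := h.inv_T X (mul_mem (inv_mem hs) c) ((x0 _ (mul_mem (inv_mem hs) c)).1 (by
    rw [x2 _ (inv_mem hs) _ c, e, ← x2 _ (inv_mem hs) _ hs, inv_mul_cancel, x0 _ (one_mem _), mul_one]))
  exact ⟨b, by simpa only [inv_mul_eq_iff_eq_mul] using e⟩

theorem Lc.exists_qz (h : Lc X G0 t D) : Goal G0 t ∨ ∃ Q y, QZ X t D Q y := by
  have S := h.toSt
  have tT : t ∈ X.T t := mem_sup_left (mem_zpowers t)
  have TZ : X.T t ≤ C[X.Z] := (S.T_C X).trans inf_le_right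
  have inv : ∀ s ∈ X.T t, DD t s → ∃ b, s = t * X.z b := fun s hs d => by
    obtain ⟨b, e | e⟩ := S.inv_T X hs (d.sq S).1
    exacts [absurd (e ▸ d) (h.zn b), ⟨b, e⟩]
  by_cases hT : Syl 2 ⊤ (X.T t)
  · refine .inl (h.E2 hT tT le_sup_right (fun p hp => ?_) (fun s hs d => ?_) X.cl2_S X.h_NS)
    · obtain ⟨a, b, rfl | rfl⟩ := (S.mem_T X).1 hp
      · exact .inl (X.u_mem_S a b)
      · right; rw [mul_assoc, S.tu, ← mul_assoc, h.tt, one_mul]; exact X.u_mem_S a b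
    · obtain ⟨b, rfl⟩ := X.mem_Z_of_sq hs (d.sq S).1
      exact h.zn b d
  obtain ⟨p, p2, pN, pT⟩ : ∃ p, PiElt {2} p ∧ p ∈ N[X.T t] ∧ p ∉ X.T t := by
    by_contra n
    exact hT (syl_of_two (S.pi_T X) fun R hR _ g hg k => by_contra fun k' => n ⟨g, hR.piElt hg, k, k'⟩)
  let C0 : Subgroup G :=
    { carrier := {g | g ∈ C[X.Z] ∧ ∃ b, g * t * g⁻¹ = t * X.z b}
      one_mem' := ⟨one_mem _, 0, by simp [X.z_zero]⟩
      mul_mem' := fun {a b} ⟨h1, c, h2⟩ ⟨h3, d, h4⟩ => ⟨mul_mem h1 h3, c + d, by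
        rw [show a * b * t * (a * b)⁻¹ = a * (b * t * b⁻¹) * a⁻¹ by group, h4, ← conj_mul, h2,
          conj_eq_of_mem_C h1 (X.z_mem_Z _), mul_assoc, X.z_mul]⟩
      inv_mem' := fun {a} ⟨h1, c, h2⟩ => ⟨inv_mem h1, c, by
        rw [inv_inv, ← mul_left_inj (X.z c), mul_assoc, ← mem_C.1 h1 _ (X.z_mem_Z c), mul_assoc t, X.z_sq, mul_one,
          ← mul_assoc, mul_assoc a⁻¹, ← h2]; group⟩ }
  have : ∀ g, ∃ b, g ∈ C0 → g * t * g⁻¹ = t * X.z b := fun g => by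
    by_cases hg : g ∈ C0
    exacts [hg.2.imp fun _ e _ => e, ⟨0, fun k => absurd k hg⟩]
  choose y hy using this
  have yeq : ∀ g ∈ C0, ∀ b, g * t * g⁻¹ = t * X.z b → y g = b := fun g hg b e =>
    X.z_inj (mul_left_cancel ((hy g hg).symm.trans e))
  have ymul : ∀ a ∈ C0, ∀ b ∈ C0, y (a * b) = y a + y b := fun a ha b hb => yeq _ (mul_mem ha hb) _ (by
    rw [show a * b * t * (a * b)⁻¹ = a * (b * t * b⁻¹) * a⁻¹ by group, hy b hb, ← conj_mul, hy a ha,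
      conj_eq_of_mem_C ha.1 (X.z_mem_Z _), mul_assoc, X.z_mul])
  have y0 : ∀ g ∈ C0, y g = 0 ↔ g * t = t * g := fun g hg => by
    rw [← mul_inv_eq_iff_eq_mul, hy g hg, mul_eq_left, X.z_eq_one]
  have ct : ∀ g ∈ C[X.Z], g * t = t * g → g ∈ C0 := fun g hg e => ⟨hg, 0, by rw [e, X.z_zero]; simp⟩
  have yinv : ∀ g ∈ C0, y g⁻¹ = y g := fun g hg => K.eq_of_add (by
    rw [← ymul _ (inv_mem hg) _ hg, inv_mul_cancel, y0 _ (one_mem _)]; simp)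
  have yh : ∀ k, ∀ g ∈ C0, X.h k * g * (X.h k)⁻¹ ∈ C0 ∧ y (X.h k * g * (X.h k)⁻¹) = K.nm k * y g := fun k g hg => by
    have e : X.h k * g * (X.h k)⁻¹ * t * (X.h k * g * (X.h k)⁻¹)⁻¹ = t * X.z (K.nm k * y g) := by
      conv_lhs => rw [← S.ht X k]
      rw [conj_inv, conj_mul, conj_mul, hy g hg, ← conj_mul, S.ht, X.h_z]
    have m : _ ∈ C0 := ⟨conj_mem (N_le_NC _ (X.h_NZ k)) hg.1, _, e⟩
    exact ⟨m, yeq _ m _ e⟩
  have TC : X.T t ≤ C0 := fun s hs => ct s (TZ hs) (mem_C1.1 (S.T_C X hs).1)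
  obtain ⟨Q, q1, q2, q3, q4, q5, q6⟩ := h.lift (C := C0) (TC tT)
    (fun d hd => ct d (C_anti (X.Z_le_S.trans X.S_le) (h.D_L hd)) (mem_C1.1 (h.D_t hd))) (fun _ k => k.1)
    (fun k => mem_N_of_finite fun g hg => (yh k g hg).1) fun g hg k => h.odd_D hg.1 (mem_C1.1 (zpowers_le.2
      (mem_C1.2 ((y0 _ (pow_mem hg 2)).1 (by rw [sq, ymul g hg g hg, K.add_self])))
      (mem_zpowers_pow_iff.2 ((piNat_compl_iff_coprime Nat.prime_two).1 k)))) k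
  have TQ : X.T t ≤ Q := fun s hs => q4 s (TC hs) ((S.pi_T X).piElt hs)
  have ker : ∀ q ∈ Q, y q = 0 → q ∈ X.T t := fun q hq e => h.two_T (q2 hq).1 ((y0 q (q2 hq)).1 e) (q1.piElt hq)
  have yT : ∀ s ∈ X.T t, y s = 0 := fun s hs => (y0 s (TC hs)).2 (mem_C1.1 (S.T_C X hs).1)
  have hN : ∀ k, X.h k ∈ N[Q] := fun k => q5 (mem_N_of_finite fun g hg => (yh k g hg).1)
  have orb : ∀ a ∈ Q, y a ≠ 0 → ∀ b ≠ 0, ∃ k, y (X.h k * a * (X.h k)⁻¹) = b := fun a ha a0 b hb =>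
    (K.exists_nm a0 hb).imp fun k e => (yh k a (q2 ha)).2.trans e
  have pQ : p ∈ Q := q4 p ⟨(S.two_NT X pN p2).1, inv _ (conj_mem pN tT) ((DD.refl t).conj p)⟩ p2
  have onto : ∀ b, ∃ q ∈ Q, y q = b := fun b => by
    by_cases hb : b = 0
    · exact ⟨1, one_mem _, hb ▸ yT 1 (one_mem _)⟩
    · obtain ⟨k, e⟩ := orb p pQ (fun e => pT (ker p pQ e)) b hb
      exact ⟨_, conj_mem (hN k) pQ, e⟩
  obtain ⟨x, x1, -⟩ := S.exists_x X
  have QT : Q ≤ N[X.T t] := fun q hq => mem_N_of_finite fun s hs => ker _ (conj_mem (norm_self _ hq) (TQ hs)) (by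
    rw [ymul _ (q2 (mul_mem hq (TQ hs))) _ (q2 (inv_mem hq)), ymul _ (q2 hq) _ (TC hs), yT s hs, add_zero,
      yinv q (q2 hq), K.add_self])
  have E : ∀ s, (∃ b, s = X.z b ∨ s = t * X.z b) ↔ s ∈ zpowers t ⊔ X.Z := fun s => ⟨by
    rintro ⟨b, rfl | rfl⟩
    exacts [mem_sup_right (X.z_mem_Z b), mul_mem_sup (mem_zpowers t) (X.z_mem_Z b)], fun k => by
      refine S.inv_T X (sup_le_sup_left X.Z_le_S _ k) ?_
      obtain ⟨_, ⟨n, rfl⟩, _, ⟨b, rfl⟩, rfl⟩ := (mem_sup_of_norm (norm_of_cent (cents_symm (zpowers_le.2 (S.tZ X))))).1 k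
      have c : Commute (X.z b) t := S.tz X b
      rw [(c.zpow_right n).mul_mul_mul_comm, X.z_sq, ← (Commute.refl t).mul_zpow, h.tt]; simp⟩
  by_cases hq : ∀ q ∈ Q, q * q ∈ zpowers t ⊔ X.Z
  · refine .inr ⟨Q, y, TQ, fun q hq => (q2 hq).1, q3, hN, fun q hq => hy q (q2 hq), onto, ker, fun q m => ?_,
      fun g hg b e => q6 g ⟨hg, b, e⟩⟩
    obtain ⟨b, e | e⟩ := (E _).2 (hq q m)
    · exact ⟨b, e⟩
    refine ⟨_, x1 q (ker q m ((y0 q (q2 m)).2 ?_))⟩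
    rw [← mul_left_inj (X.z b), mul_assoc, ← e, mul_assoc, mem_C'.1 (q2 m).1 _ (X.z_mem_Z b), ← mul_assoc, ← mul_assoc,
      ← e]
  push Not at hq
  obtain ⟨q, hq, hn⟩ := hq
  have k1 : ∀ a ∈ Q, ∀ s ∈ X.T t, a * a = 1 → s * a * (s * a) ∈ zpowers t ⊔ X.Z := fun a ha s hs e => by
    obtain ⟨b, e1⟩ := (S.two_NT X (QT ha) (q1.piElt ha)).2 s hs
    rw [show s * a * (s * a) = s * (a * s * a⁻¹) * (a * a) by group, e, mul_one]
    rcases e1 with e1 | e1 <;> rw [e1, ← mul_assoc s, x1 s hs] <;>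
      refine mul_mem (mem_sup_right (X.z_mem_Z _)) ((E _).1 ⟨b, ?_⟩)
    exacts [.inl rfl, .inr rfl]
  have q0 : y q ≠ 0 := fun e => hn (by rw [x1 q (ker q hq e)]; exact mem_sup_right (X.z_mem_Z _))
  have k2 : ∀ a ∈ Q, a * a = 1 → a ∈ X.T t := fun a ha h2 => by
    refine ker a ha (by_contra fun a0 => ?_)
    obtain ⟨k, e⟩ := orb a ha a0 _ q0
    have m := conj_mem (hN k) ha
    have := k1 _ m _ (ker _ (mul_mem hq (inv_mem m)) (by
      rw [ymul _ (q2 hq) _ (q2 (inv_mem m)), yinv _ (q2 m), e, K.add_self])) (by rw [conj_mul, h2]; simp)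
    rw [inv_mul_cancel_right] at this
    exact hn this
  refine .inl (h.E3 (syl_of_two q1 fun R hR le g hg gN => ?_) ⟨X.Z_le_S.trans (le_sup_right.trans TQ), ?_⟩)
  · have d := (DD.refl t).conj g
    obtain ⟨b, e⟩ := inv _ (k2 _ (conj_mem gN (TQ tT)) (d.sq S).1) d
    obtain ⟨r, hr, rfl⟩ := onto b
    have c : r⁻¹ * g * t = t * (r⁻¹ * g) := by
      rw [← hy r (q2 hr)] at e
      rw [← mul_left_inj g⁻¹, ← mul_right_inj r]
      simpa only [mul_assoc, mul_inv_cancel_left, mul_inv_cancel, mul_one] using e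
    have p2 := hR.piElt (mul_mem (inv_mem (le hr)) hg)
    have := h.two_T (X.two_NS (S.TI X c one_ne_zero (conj_mem (mul_mem (inv_mem (C_le_N _ (q2 hr).1))
      (h.NP_NZ TQ (fun q hq => (q2 hq).1) gN)) (X.z_mem_Z 1))) p2) c p2
    exact (mul_mem_cancel_left (inv_mem hr)).1 (TQ this)
  · rintro _ ⟨b, rfl⟩ g hg
    have e : g * X.z b * g⁻¹ * (g * X.z b * g⁻¹) = 1 := by rw [conj_mul, X.z_sq]; simp
    obtain ⟨c, e | e⟩ := S.inv_T X (k2 _ hg e) e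
    exacts [⟨c, e⟩, absurd (DD.of_conj (e ▸ h.dd c)) (h.zn b)]

end H2.SZ
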