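import Mathlib
import Cfsg.Agent.H2.ZDefs
import Cfsg.Agent.H2.ZA1
import Cfsg.Agent.H2.ZL

set_option autoImplicit false
set_option linter.unusedVariables false
set_option linter.unusedSectionVars false

namespace H2.SZ

open Cfsg H24 Subgroup
open H2.C2 (Cl2)

universe u

variable {G : Type u} [Group G] [Finite G] {F : Type*} [Field F] [Fintype F] {K : FD F}
  {L G0 D P P0 Q R A C T E : Subgroup G} {t g s φ : G} {X : SzD K L} {c : F}

/-! ### ZQ2 -/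

namespace QZ
variable {y : G → F} (hQ : QZ X t D Q y) {k k' g' : G}
include hQ

theorem zc' (hg : g ∈ Q) (b : F) : g * X.z b * g⁻¹ = X.z b := conj_eq_of_mem_C (hQ.zc hg) (X.z_mem_Z b)
theorem zq (hg : g ∈ Q) (b : F) : X.z b * g = g * X.z b := mem_C.1 (hQ.zc hg) _ (X.z_mem_Z b)
theorem um (a b : F) : X.u a b ∈ Q := hQ.T_le (mem_sup_right (X.u_mem_S a b))
theorem tm : t ∈ Q := hQ.T_le (mem_sup_left (mem_zpowers t))

theorem exists_sc : ∃ (sf : G → F) (cm : G → G → F), (∀ g ∈ Q, g * g = X.z (sf g)) ∧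
    ∀ g ∈ Q, ∀ k ∈ Q, g * k * g⁻¹ = k * X.z (cm g k) := by
  have : ∀ g, ∃ b, g ∈ Q → g * g = X.z b := fun g => by
    by_cases hg : g ∈ Q
    exacts [(hQ.sq g hg).imp fun _ e _ => e, ⟨0, fun k => absurd k hg⟩]
  choose sf hs using this
  have inv : ∀ g ∈ Q, g⁻¹ = g * X.z (sf g) := fun g hg => by
    rw [inv_eq_iff_mul_eq_one, ← mul_assoc, hs g hg, X.z_sq]
  refine ⟨sf, fun g k => sf k + sf (k * g) + sf g, hs, fun g hg k hk => ?_⟩
  rw [← inv_mul_eq_iff_eq_mul, inv k hk, inv g hg, ← hQ.zq hk, ← X.z_mul, ← X.z_mul, ← hs _ (mul_mem hk hg)]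
  simp only [mul_assoc]

end QZ

theorem QZ.exists_qd {y : G → F} (h : Lc X G0 t D) (hQ : QZ X t D Q y) : Nonempty (QD X t D) := by
  classical
  have S := h.toSt
  obtain ⟨sf, cm, hs, hc⟩ := hQ.exists_sc
  have um := hQ.um
  have zm : ∀ b, X.z b ∈ Q := um 0
  have tm := hQ.tm
  have hm : ∀ k, ∀ g ∈ Q, X.h k * g * (X.h k)⁻¹ ∈ Q := fun k g => conj_mem (hQ.h_N k)
  have ceq : ∀ g ∈ Q, ∀ k ∈ Q, ∀ c, g * k * g⁻¹ = k * X.z c → cm g k = c := fun g hg k hk c e =>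
    X.z_inj (mul_left_cancel ((hc g hg k hk).symm.trans e))
  have cr : ∀ g ∈ Q, ∀ k ∈ Q, ∀ k' ∈ Q, cm g (k * k') = cm g k + cm g k' := fun g hg k hk k' hk' =>
    ceq g hg _ (mul_mem hk hk') _ (by
      rw [← conj_mul, hc g hg k hk, hc g hg k' hk', mul_assoc, ← mul_assoc (X.z _), hQ.zq hk', ← X.z_mul]
      simp only [mul_assoc])
  have cl : ∀ g ∈ Q, ∀ g' ∈ Q, ∀ k ∈ Q, cm (g * g') k = cm g k + cm g' k := fun g hg g' hg' k hk =>
    ceq _ (mul_mem hg hg') k hk _ (by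
      rw [show g * g' * k * (g * g')⁻¹ = g * (g' * k * g'⁻¹) * g⁻¹ by group, hc g' hg' k hk, ← conj_mul,
        hc g hg k hk, hQ.zc' hg, mul_assoc, X.z_mul])
  have c0 : ∀ g ∈ Q, ∀ k ∈ Q, g * k = k * g → cm g k = 0 := fun g hg k hk e =>
    ceq g hg k hk 0 (by rw [e, X.z_zero]; simp)
  have czr : ∀ g ∈ Q, ∀ k ∈ Q, ∀ b, cm g (k * X.z b) = cm g k := fun g hg k hk b => by
    rw [cr g hg k hk _ (zm b), c0 g hg _ (zm b) (hQ.zq hg b).symm, add_zero]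
  have czl : ∀ g ∈ Q, ∀ k ∈ Q, ∀ b, cm (g * X.z b) k = cm g k := fun g hg k hk b => by
    rw [cl g hg _ (zm b) k hk, c0 _ (zm b) k hk (hQ.zq hk b), add_zero]
  have ch : ∀ l, ∀ g ∈ Q, ∀ k ∈ Q, cm (X.h l * g * (X.h l)⁻¹) (X.h l * k * (X.h l)⁻¹) = K.nm l * cm g k :=
    fun l g hg k hk => ceq _ (hm l g hg) _ (hm l k hk) _ (by
      rw [conj_inv, conj_mul, conj_mul, hc g hg k hk, ← conj_mul, X.h_z])
  have seq : ∀ g ∈ Q, ∀ c, g * g = X.z c → sf g = c := fun g hg c e => X.z_inj ((hs g hg).symm.trans e)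
  have smul : ∀ g ∈ Q, ∀ k ∈ Q, sf (k * g) = sf k + cm g k + sf g := fun g hg k hk => seq _ (mul_mem hk hg) _ (by
    rw [show k * g * (k * g) = k * (g * k * g⁻¹) * (g * g) by group, hc g hg k hk, ← mul_assoc k, hs g hg, hs k hk,
      X.z_mul, X.z_mul])
  have sz : ∀ g ∈ Q, ∀ b, sf (g * X.z b) = sf g := fun g hg b => seq _ (mul_mem hg (zm b)) _ (by
    rw [mul_assoc, ← mul_assoc (X.z b), hQ.zq hg, mul_assoc, X.z_sq, mul_one, hs g hg])
  have yc : ∀ g ∈ Q, y g = cm g t := fun g hg => (ceq g hg t tm _ (hQ.spec g hg)).symm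
  have uadd : ∀ a b, X.u (a + b) 0 = X.u a 0 * X.u b 0 * X.z (K.σ a * b) := fun a b => by
    rw [X.u_mul, X.u_z]; congr 1; linear_combination -K.add_self (K.σ a * b)
  have cadd : ∀ g ∈ Q, ∀ a b, cm g (X.u (a + b) 0) = cm g (X.u a 0) + cm g (X.u b 0) := fun g hg a b => by
    rw [uadd, czr g hg _ (mul_mem (um _ _) (um _ _)), cr g hg _ (um _ _) _ (um _ _)]
  obtain ⟨ξ, ξ1, ξ2⟩ := K.exists_xco
  obtain ⟨x, xmul, xu, xt, xh⟩ : ∃ x : G → F, (∀ g ∈ Q, ∀ k ∈ Q, x (g * k) = x g + x k) ∧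
      (∀ a b, x (X.u a b) = a) ∧ x t = 0 ∧ ∀ (l : Fˣ), ∀ g ∈ Q, x (X.h l * g * (X.h l)⁻¹) = l * x g := by
    refine ⟨fun g => if hg : g ∈ Q then ξ (AddMonoidHom.mk' (fun a => cm g (X.u a 0)) (cadd g hg)) else 0, fun g hg k hk => ?_,
      fun a b => ?_, ?_, fun l g hg => ?_⟩
    · simp only [dif_pos hg, dif_pos hk, dif_pos (mul_mem hg hk), ← map_add]
      exact congrArg ξ (AddMonoidHom.ext fun a => cl g hg k hk _ (um a 0))
    · simp only [dif_pos (um a b)]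
      exact ξ1 a _ fun c => ceq _ (um a b) _ (um c 0) _ (X.u_conj a b c 0)
    · simp only [dif_pos tm]
      exact ξ1 0 _ fun c => (c0 t tm _ (um c 0) (S.tu X c 0).symm).trans (K.B_zero_left c).symm
    · simp only [dif_pos hg, dif_pos (hm l g hg)]
      exact ξ2 l _ _ fun a => by simpa [X.h_u] using ch l g hg _ (um a 0)
  have ymul : ∀ g ∈ Q, ∀ k ∈ Q, y (g * k) = y g + y k := fun g hg k hk => by
    rw [yc _ (mul_mem hg hk), yc g hg, yc k hk, cl g hg k hk t tm]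
  have yu : ∀ a b, y (X.u a b) = 0 := fun a b => (yc _ (um a b)).trans (c0 _ (um a b) t tm (S.tu X a b))
  have yt : y t = 0 := (yc t tm).trans (c0 t tm t tm rfl)
  have yh : ∀ (l : Fˣ), ∀ g ∈ Q, y (X.h l * g * (X.h l)⁻¹) = K.nm l * y g := fun l g hg => by
    rw [yc _ (hm l g hg), yc g hg, ← ch l g hg t tm, S.ht]
  have E : ∀ g ∈ Q, x g = 0 → y g = 0 → ∃ b, g = X.z b ∨ g = t * X.z b := fun g hg e1 e2 => by
    obtain ⟨a, b, rfl | rfl⟩ := (S.mem_T X).1 (hQ.ker g hg e2)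
    · rw [xu] at e1; exact ⟨b, .inl (e1 ▸ rfl)⟩
    · rw [xmul t tm _ (um a b), xt, xu, zero_add] at e1; exact ⟨b, .inr (e1 ▸ rfl)⟩
  have xy : ∀ a b, ∃ g ∈ Q, x g = a ∧ y g = b := fun a b => by
    obtain ⟨q, hq, rfl⟩ := hQ.onto b
    exact ⟨_, mul_mem (um (a + x q) 0) hq, by rw [xmul _ (um _ _) q hq, xu, add_assoc, K.add_self, add_zero],
      by rw [ymul _ (um _ _) q hq, yu, zero_add]⟩
  obtain ⟨k0, hk0⟩ := K.exists_unit
  have n1 : 1 + (k0 : F) ≠ 0 := fun e => hk0 (Units.ext (K.eq_of_add e).symm)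
  have n2 : 1 + K.nm k0 ≠ 0 := fun e => K.nm_ne_one hk0 (K.eq_of_add e).symm
  obtain ⟨θ, hθ⟩ : ∃ θ : G → G, ∀ a, θ a = a * (X.h k0 * a * (X.h k0)⁻¹) := ⟨_, fun _ => rfl⟩
  have θm : ∀ a ∈ Q, θ a ∈ Q := fun a ha => hθ a ▸ mul_mem ha (hm k0 a ha)
  have θx : ∀ a ∈ Q, ∀ b, x (θ a * X.z b) = (1 + k0) * x a ∧ y (θ a * X.z b) = (1 + K.nm k0) * y a := fun a ha b => by
    rw [xmul _ (θm a ha) _ (zm b), ymul _ (θm a ha) _ (zm b), hθ, xmul a ha _ (hm k0 a ha), ymul a ha _ (hm k0 a ha),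
      xh k0 a ha, yh k0 a ha, SzD.z, xu, yu]
    constructor <;> ring
  have θmul : ∀ a ∈ Q, ∀ c ∈ Q, θ a * θ c = θ (a * c) * X.z (cm (X.h k0 * a * (X.h k0)⁻¹) c) := fun a ha c hc' => by
    rw [hθ, hθ, hθ, ← conj_mul, mul_assoc (a * c), ← hQ.zq (mul_mem (hm k0 a ha) (hm k0 c hc')), ← mul_assoc (a * c),
      mul_assoc a c, ← hc _ (hm k0 a ha) c hc']
    group
  let M : Subgroup G :=
    { carrier := {g | ∃ a ∈ Q, ∃ b, g = θ a * X.z b}
      one_mem' := ⟨1, one_mem _, 0, by simp [hθ, X.z_zero]⟩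
      mul_mem' := by
        rintro _ _ ⟨a, ha, b, rfl⟩ ⟨c, hc', d, rfl⟩
        exact ⟨_, mul_mem ha hc', _, by
          rw [mul_assoc, ← mul_assoc (X.z b), hQ.zq (θm c hc'), mul_assoc, X.z_mul, ← mul_assoc, θmul a ha c hc',
            mul_assoc, X.z_mul]⟩
      inv_mem' := by
        rintro _ ⟨a, ha, b, rfl⟩
        refine ⟨a, ha, b + sf (θ a * X.z b), ?_⟩
        rw [← X.z_mul, ← mul_assoc, inv_eq_iff_mul_eq_one, ← mul_assoc, hs _ (mul_mem (θm a ha) (zm b)), X.z_sq] }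
  have zM : ∀ b, X.z b ∈ M := fun b => ⟨1, one_mem _, b, by simp [hθ]⟩
  have tM : t ∉ M := by
    rintro ⟨a, ha, b, e⟩
    obtain ⟨e1, e2⟩ := θx a ha b
    rw [← e, xt] at e1
    rw [← e, yt] at e2
    obtain ⟨c, rfl | rfl⟩ := E a ha ((mul_eq_zero.1 e1.symm).resolve_left n1) ((mul_eq_zero.1 e2.symm).resolve_left n2)
    · rw [hθ, X.h_z, X.z_mul, X.z_mul] at e
      exact h.zn _ ⟨1, by rw [← e]; simp⟩
    · rw [hθ, ← conj_mul, S.ht, X.h_z, mul_assoc t, ← mul_assoc (X.z c), S.tz, ← mul_assoc t, ← mul_assoc t,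
        h.tt, one_mul, X.z_mul, X.z_mul] at e
      exact h.zn _ ⟨1, by rw [← e]; simp⟩
  have cas : ∀ g ∈ Q, g ∈ M ∨ t * g ∈ M := fun g hg => by
    obtain ⟨a, ha, e1, e2⟩ := xy (x g / (1 + k0)) (y g / (1 + K.nm k0))
    have m : θ a * X.z 0 ∈ M := ⟨a, ha, 0, rfl⟩
    have m' := mul_mem (θm a ha) (zm 0)
    obtain ⟨b, e⟩ := E _ (mul_mem hg m') (by
      rw [xmul g hg _ m', (θx a ha 0).1, e1, mul_div_cancel₀ _ n1, K.add_self]) (by
      rw [ymul g hg _ m', (θx a ha 0).2, e2, mul_div_cancel₀ _ n2, K.add_self])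
    rcases e with e | e
    · exact .inl ((mul_mem_cancel_right m).1 (by rw [e]; exact zM b))
    refine .inr ((mul_mem_cancel_right m).1 ?_)
    rw [mul_assoc, e, ← mul_assoc, h.tt, one_mul]; exact zM b
  have hM : ∀ l, X.h l ∈ N[M] := fun l => mem_N_of_finite (by
    rintro _ ⟨a, ha, b, rfl⟩
    refine ⟨_, hm l a ha, K.nm l * b, ?_⟩
    rw [← conj_mul, X.h_z, hθ, hθ, mul_left_inj, ← conj_mul, mul_right_inj, ← mul_assoc, ← mul_assoc, X.h_comm l,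
      mul_assoc _ _ (X.h l)⁻¹, ← mul_inv_rev, X.h_comm l]
    group)
  obtain ⟨π, hπ⟩ : ∃ π : G → F × F × F, ∀ g, π g = (if g ∈ M then 0 else 1, x g, y g) := ⟨_, fun _ => rfl⟩
  have πt : π t = (1, 0, 0) := by rw [hπ, if_neg tM, xt, yt]
  have πu : ∀ a b, π (X.u a b) = (0, a, 0) := fun a b => by
    rw [hπ, xu, yu, if_pos]
    refine ⟨_, um (a / (1 + k0)) 0, b + K.σ (a / (1 + k0)) * (k0 * (a / (1 + k0))), ?_⟩
    rw [hθ, X.h_u, X.u_mul, X.u_z]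
    congr 1
    · field_simp
    · linear_combination -K.add_self (K.σ (a / (1 + k0)) * (k0 * (a / (1 + k0))))
  have πmul : ∀ g ∈ Q, ∀ k ∈ Q, π (g * k) = π g + π k := fun g hg k hk => by
    simp only [hπ, xmul g hg k hk, ymul g hg k hk, Prod.mk_add_mk, Prod.mk.injEq, and_true]
    by_cases a : g ∈ M <;> by_cases b : k ∈ M
    · simp [a, b, mul_mem a b]
    · simp [a, b, mul_mem_cancel_left a]
    · simp [a, b, mul_mem_cancel_right b]
    · have := mul_mem (mul_mem ((cas g hg).resolve_left a) ((cas k hk).resolve_left b)) (zM (cm t g))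
      rw [show t * g * (t * k) = t * g * t⁻¹ * k by rw [S.ti, mul_assoc (t * g)], hc t tm g hg, mul_assoc g,
        hQ.zq hk, mul_assoc, mul_assoc, X.z_sq, mul_one] at this
      simp [a, b, this, K.add_self]
  have πker : ∀ g ∈ Q, π g = 0 → g ∈ X.Z := fun g hg e => by
    simp only [hπ, Prod.mk_eq_zero, ite_eq_left_iff, one_ne_zero, imp_false, not_not] at e
    obtain ⟨b, rfl | rfl⟩ := E g hg e.2.1 e.2.2
    exacts [X.z_mem_Z b, absurd ((mul_mem_cancel_right (zM b)).1 e.1) tM]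
  have πwd : ∀ g, WD (π g) := fun g => by rw [hπ]; by_cases a : g ∈ M <;> simp [WD, a]
  have πs : ∀ b, ∃ g ∈ Q, π g = (0, 0, b) := fun b => by
    obtain ⟨g, hg, e1, e2⟩ := xy 0 b
    rcases cas g hg with a | a
    · exact ⟨g, hg, by rw [hπ, if_pos a, e1, e2]⟩
    · exact ⟨_, mul_mem tm hg, by rw [hπ, if_pos a, xmul t tm g hg, ymul t tm g hg, xt, yt, e1, e2]; simp⟩
  have πh : ∀ (l : Fˣ), ∀ g ∈ Q, π (X.h l * g * (X.h l)⁻¹) = ((π g).1, l * (π g).2.1, K.nm l * (π g).2.2) :=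
    fun l g hg => by simp only [hπ, xh l g hg, yh l g hg, ← mem_N.1 (hM l) g]
  have eqz : ∀ g ∈ Q, ∀ k ∈ Q, π g = π k → ∃ b, g = k * X.z b := fun g hg k hk e => by
    obtain ⟨b, e1⟩ := πker _ (mul_mem hk hg) (by rw [πmul k hk g hg, e, K.add_self3])
    exact ⟨sf k + b, by rw [← X.z_mul, ← e1, ← mul_assoc, ← mul_assoc, mul_assoc k, hQ.zq hk, ← mul_assoc, hs k hk,
      X.z_sq, one_mul]⟩
  choose w hw ew using πs
  have wh : ∀ (l : Fˣ) b, ∃ c, X.h l * w b * (X.h l)⁻¹ = w (K.nm l * b) * X.z c := fun l b =>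
    eqz _ (hm l _ (hw b)) _ (hw _) (by rw [πh l _ (hw b), ew, ew]; simp)
  have k1 : ∀ b, sf (w b) = sf (w 1) * b := fun b => by
    by_cases h0 : b = 0
    · obtain ⟨c, e⟩ := πker _ (hw b) (by rw [ew, h0]; rfl)
      rw [seq _ (hw b) 0 (by rw [e, X.z_sq, X.z_zero]), h0, mul_zero]
    obtain ⟨l, rfl⟩ := K.exists_nm one_ne_zero h0
    obtain ⟨c, e⟩ := wh l 1
    rw [← sz _ (hw _) c, ← e, seq _ (hm l _ (hw 1)) _ (by rw [conj_mul, hs _ (hw 1), X.h_z])]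
    ring
  obtain ⟨c2, k2⟩ := K.blem (fun a b => cm (w b) (X.u a 0)) (fun a a' b => cadd _ (hw b) a a') (fun a b b' => by
    obtain ⟨c, e⟩ := eqz _ (hw (b + b')) _ (mul_mem (hw b) (hw b')) (by rw [πmul _ (hw b) _ (hw b'), ew, ew, ew]; simp)
    rw [e, czl _ (mul_mem (hw b) (hw b')) _ (um _ _), cl _ (hw b) _ (hw b') _ (um _ _)]) fun l a b => by
    obtain ⟨c, e⟩ := wh l b
    rw [← ch l _ (hw b) _ (um a 0), e, czl _ (hw _) _ (hm l _ (um a 0)), X.h_u, mul_zero]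
  refine ⟨⟨Q, sf (w 1), c2, π, tm, le_sup_right.trans hQ.T_le, πt, πu, πmul, πker, fun g _ => πwd g,
    fun b => ⟨_, hw b, ew b⟩, fun g hg => ?_, hQ.zc, hQ.h_N, πh, hQ.Q_D, hQ.CQ⟩⟩
  have yw : ∀ b, cm (w b) t = b := fun b => by rw [← yc _ (hw b)]; simpa [hπ] using congrArg (·.2.2) (ew b)
  rw [hs g hg]
  congr 1
  rcases πwd g with e | e
  · obtain ⟨b, e1⟩ := eqz g hg _ (mul_mem (um (π g).2.1 0) (hw (π g).2.2)) (by
      rw [πmul _ (um _ _) _ (hw _), πu, ew]; ext <;> simp [e])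
    conv_lhs => rw [e1]
    rw [sz _ (mul_mem (um _ _) (hw _)), smul _ (hw _) _ (um _ _), seq _ (um _ _) _ (X.u_sq _ _), k1, k2, FD.qf, e]
    ring
  · have m := mul_mem tm (um (π g).2.1 0)
    obtain ⟨b, e1⟩ := eqz g hg _ (mul_mem m (hw (π g).2.2)) (by
      rw [πmul _ m _ (hw _), πmul _ tm _ (um _ _), πt, πu, ew]; ext <;> simp [e])
    conv_lhs => rw [e1]
    rw [sz _ (mul_mem m (hw _)), smul _ (hw _) _ m, seq _ m _ (by
      rw [mul_assoc, ← mul_assoc (X.u _ _), S.tu, mul_assoc, X.u_sq, ← mul_assoc, h.tt, one_mul]), k1,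
      cr _ (hw _) t tm _ (um _ _), k2, yw, FD.qf, e]
    ring

end H2.SZ
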