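import Mathlib
import Cfsg.Agent.S1347
import Cfsg.Agent.H2.ZC
import Cfsg.Agent.H2.ZQ1
import Cfsg.Agent.H2.ZQ2
import Cfsg.Agent.H2.Z0
import Cfsg.Agent.H2.Z1b
import Cfsg.Agent.H2.Z3a
import Cfsg.Agent.H2.Z3b

/-! # Standard subgroup `Sz(q)` with cyclic Sylow `2`-subgroups in its centraliser -/

set_option autoImplicit false

namespace H2.SZ

open Cfsg H24 Subgroup

universe u

variable {G : Type u} [Group G] [Finite G] {F : Type*} [Field F] [Fintype F]
  {L G0 : Subgroup G} {t : G}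

theorem St.goal (h : St L G0 t) (hq : IsQuasisimple L) (cyc : ∀ R ≤ C[L], IsPi {2} R → IsCyclic R)
    (K : FD F) (e : Nonempty (↥L ⧸ center ↥L ≃* ↥(Cfsg.Lie.Sz F (2 ^ (K.m + 1))))) : Goal G0 t := by
  obtain ⟨X⟩ := exists_szD K (L := L) (e.map fun e => (QuotientGroup.quotientBot.symm.trans
    (QuotientGroup.quotientMulEquivOfEq (h.center_bot hq cyc K ⟨e⟩).symm)).trans e)
  obtain ⟨D, h1⟩ := h.exists_lc X cyc
  obtain g | ⟨Q, y, h2⟩ := h1.exists_qz
  · exact g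
  obtain ⟨Y⟩ := h2.exists_qd h1
  obtain g | h3 | h3 := h1.cases Y
  · exact g
  · exact h3.goal0
  obtain ⟨P, h4⟩ := h3.exists_mp
  refine h4.goal fun g hg g2 => ?_
  by_cases hm : K.m = 1
  · by_contra hn
    obtain ⟨φ, h5⟩ := h4.exists_ph hm hg g2 hn
    exact h5.false
  · exact h4.twoZ5 hm hg g2

theorem prod_of_comm {X Y : Subgroup G} (h1 : ∀ a ∈ X, ∀ b ∈ Y, a * b = b * a) (h2 : X ⊓ Y = ⊥) :
    Nonempty (↥(X ⊔ Y) ≃* X × Y) := by
  let f := X.subtype.noncommCoprod Y.subtype fun a b => h1 a a.2 b b.2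
  have fi : Function.Injective f := (injective_iff_map_eq_one f).2 fun ⟨a, b⟩ e => by
    replace e : (a : G) * b = 1 := e
    have : (a : G) ∈ X ⊓ Y := mem_inf.2 ⟨a.2, eq_inv_of_mul_eq_one_left e ▸ inv_mem b.2⟩
    rw [h2, mem_bot] at this
    rw [this, one_mul] at e
    exact Prod.ext (Subtype.ext this) (Subtype.ext e)
  have r : X ⊔ Y = f.range := by
    rw [show f.range = _ from MonoidHom.noncommCoprod_range .., range_subtype, range_subtype]
  exact ⟨(MulEquiv.subgroupCongr r).trans (MonoidHom.ofInjective fi).symm⟩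

theorem main72 (hO : Cfsg.oddCore G = ⊥) (hL : IsStandardSubgroup L) (hn : ¬ L.Normal)
    (hR : ∀ R : Sylow 2 ↥C[L], IsCyclic ↥(R : Subgroup ↥C[L])) (ht : orderOf t = 2) (tC : t ∈ C[L])
    {m : ℕ} (hm : 1 ≤ m) (hF : Fintype.card F = 2 ^ (2 * m + 1))
    (e : Nonempty (↥L ⧸ center ↥L ≃* ↥(Cfsg.Lie.Sz F (2 ^ (m + 1))))) :
    Nonempty (↥(layer G) ≃* ↥L × ↥L) ∨ IsLieTypeChar 2 ↥(layer G) ∧
      ¬ ∃ e ∈ layer G, ∀ x ∈ layer G, t * x * t⁻¹ = e * x * e⁻¹ := by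
  rcases Cfsg.Agent.S1347.result L hL hO t ht tC with h | ⟨X, -, -, ⟨i⟩, h1, h2, h3, -⟩ | ⟨h1, h2, -⟩
  · exact absurd h hn
  · obtain ⟨j⟩ := prod_of_comm h1 h2
    exact .inl ⟨((MulEquiv.subgroupCongr h3.symm).trans j).trans
      (i.prodCongr (((MulAut.conj t).subgroupMap X).symm.trans i))⟩
  have nC : C[layer G].Normal := inferInstance
  have ct : C[layer G] = ⊥ := by
    rcases Nat.even_or_odd ♯C[layer G] with e | e
    · refine absurd (normalizer_eq_top_iff.1 (eq_top_iff.2 fun g _ => ?_)) hn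
      rw [hL.2.2.2]
      by_contra hg
      exact Nat.not_even_iff_odd.2 (odd_of_le (hL.2.1.2 g hg) (le_inf (C_anti h1)
        ((cj_of_mem_N (norm_of_normal ⊤ _ (mem_top g))).ge.trans (cj_mono g (C_anti h1))))) e
    · exact eq_bot_of_le hO (le_sSup ⟨nC, e.coprime_two_right⟩)
  have h : St L (layer G) t := ⟨inferInstance, h2, h1, ct, fun e => by simp [e] at ht,
    by rw [← sq, ← ht, pow_orderOf_eq_one], tC, fun g hg => by
      by_contra hn
      rw [hL.2.2.2] at hn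
      have hm : t ∈ C[L] ⊓ cj g C[L] :=
        mem_inf.2 ⟨tC, by simpa only [hg, mul_inv_cancel_right] using conj_mem_cj g tC⟩
      exact Nat.not_even_iff_odd.2 (hL.2.1.2 g hn) (even_iff_two_dvd.2 (ht ▸ orderOf_dvd_card' hm))⟩
  obtain ⟨K, rfl⟩ := exists_fd hm hF
  obtain ⟨g1, g2⟩ := h.goal hL.1 (fun R h1 h2 => by
    obtain ⟨S, hS⟩ := ((h2.isPGroup Nat.prime_two).comap_subtype (K := C[L])).exists_le_sylow
    have := hR S
    have : IsCyclic (R.subgroupOf C[L]) := isCyclic_of_injective _ (inclusion_injective hS)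
    exact isCyclic_of_surjective _ (subgroupOfEquivOfLe h1).surjective) K e
  refine .inr ⟨g1, fun ⟨e, he, h3⟩ => g2 ?_⟩
  have : e⁻¹ * t ∈ C[layer G] := mem_C.2 fun x hx => by
    rw [mul_assoc, eq_mul_of_mul_inv_eq (h3 x hx)]; group
  rw [ct, mem_bot, inv_mul_eq_one] at this
  exact this ▸ he

end H2.SZ
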