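import Mathlib
import Cfsg.Agent.S1347
import Cfsg.Agent.H2.ZMain
import Cfsg.Agent.H2.UM
import Cfsg.Agent.H2.UR
import Cfsg.Agent.H2.UC3
import Cfsg.Agent.H2.UD2
import Cfsg.Agent.H2.UD4
import Cfsg.Agent.H2.UN2
import Cfsg.Agent.H2.US3
import Cfsg.Agent.H2.UV6

/-! # Standard subgroup `U₃(q)` with cyclic Sylow `2`-subgroups in its centraliser -/

set_option autoImplicit false

namespace H2.U3

open Cfsg H24 Subgroup
open H2.SZ (St DD Goal prod_of_comm)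

universe u

variable {G : Type u} [Group G] [Finite G] {E F : Type*} [Field E] [Fintype E] [Field F] [Fintype F]
  [Algebra E F] {K : UF E F} {L G0 : Subgroup G} {t : G}

theorem Sc.goal (h : Sc L G0 t) (X : UD K L) : Goal G0 t := by
  obtain ⟨D, h1⟩ := h.exists_lc X
  obtain ⟨Y⟩ := h1.exists_yd
  rcases Y.c01 h1 with hc | hc
  · obtain ⟨g, g1, g2, g3⟩ := Y.move h1 hc
    obtain ⟨P0, s, h2⟩ := Y.exists_pz h1 hc g1 g2 g3
    rcases h2.coord h1 with ⟨⟨N⟩⟩ | ⟨⟨N⟩⟩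
    · obtain ⟨P, h3⟩ := N.exists_env h1
      exact h3.ns_goal
    · obtain ⟨P, h3⟩ := N.exists_env h1
      exact h3.sp_goal
  · obtain ⟨P, h2⟩ := Y.exists_mp h1 hc
    obtain ⟨Y3, h3⟩ := h2.c3
    obtain ⟨P', h4⟩ := Y3.exists_env h1
    obtain ⟨a, h5⟩ := h4.exists_pc h3
    exact h5.goal

theorem main71 (hO : Cfsg.oddCore G = ⊥) (hL : IsStandardSubgroup L) (hn : ¬ L.Normal)
    (hR : ∀ R : Sylow 2 ↥C[L], IsCyclic ↥(R : Subgroup ↥C[L])) (ht : orderOf t = 2) (tC : t ∈ C[L])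
    {a : ℕ} (ha : 2 ≤ a) (hF : Fintype.card F = 4 ^ a)
    (e : Nonempty (↥L ⧸ center ↥L ≃* PSU 3 F (2 ^ a))) :
    Nonempty (↥(layer G) ≃* ↥L × ↥L) ∨ IsLieTypeChar 2 ↥(layer G) ∧
      ¬ ∃ e ∈ layer G, ∀ x ∈ layer G, t * x * t⁻¹ = e * x * e⁻¹ := by
  rcases Cfsg.Agent.S1347.result L hL hO t ht tC with h | ⟨X, -, -, ⟨i⟩, h1, h2, h3, -⟩ | ⟨h1, h2, -⟩
  · exact absurd h hn
  · obtain ⟨j⟩ := prod_of_comm h1 h2
    exact .inl ⟨((MulEquiv.subgroupCongr h3.symm).trans j).trans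
      (i.prodCongr (((MulAut.conj t).subgroupMap X).symm.trans i))⟩
  have nC : C[layer G].Normal := inferInstance
  have ct : C[layer G] = ⊥ := by
    rcases Nat.even_or_odd ♯C[layer G] with e | e
    · refine absurd (normalizer_eq_top_iff.1 (eq_top_iff.2 fun g _ => ?_)) hn
      rw [hL.2.2.2]
      by_contra hg
      exact Nat.not_even_iff_odd.2 (odd_of_le (hL.2.1.2 g hg) (le_inf (C_anti h1)
        ((cj_of_mem_N (norm_of_normal ⊤ _ (mem_top g))).ge.trans (cj_mono g (C_anti h1))))) e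
    · exact eq_bot_of_le hO (le_sSup ⟨nC, e.coprime_two_right⟩)
  have h : St L (layer G) t := ⟨inferInstance, h2, h1, ct, fun e => by simp [e] at ht,
    by rw [← sq, ← ht, pow_orderOf_eq_one], tC, fun g hg => by
      by_contra hn
      rw [hL.2.2.2] at hn
      have hm : t ∈ C[L] ⊓ cj g C[L] :=
        mem_inf.2 ⟨tC, by simpa only [hg, mul_inv_cancel_right] using conj_mem_cj g tC⟩
      exact Nat.not_even_iff_odd.2 (hL.2.1.2 g hn) (even_iff_two_dvd.2 (ht ▸ orderOf_dvd_card' hm))⟩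
  obtain ⟨E, _, _, _, K, ⟨X⟩⟩ := exists_ud L hL.1 ha hF e
  obtain ⟨g1, g2⟩ := Sc.goal ⟨h, fun R h1 h2 => by
    obtain ⟨S, hS⟩ := ((h2.isPGroup Nat.prime_two).comap_subtype (K := C[L])).exists_le_sylow
    have := hR S
    have : IsCyclic (R.subgroupOf C[L]) := isCyclic_of_injective _ (inclusion_injective hS)
    exact isCyclic_of_surjective _ (subgroupOfEquivOfLe h1).surjective⟩ X
  refine .inr ⟨g1, fun ⟨e, he, h3⟩ => g2 ?_⟩
  have : e⁻¹ * t ∈ C[layer G] := mem_C.2 fun x hx => by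
    rw [mul_assoc, eq_mul_of_mul_inv_eq (h3 x hx)]; group
  rw [ct, mem_bot, inv_mul_eq_one] at this
  exact this ▸ he

end H2.U3
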