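import Mathlib
import Cfsg.Agent.H2.Schmidt
import Cfsg.Agent.H11.Subnormal

/-!
# Wielandt's zipper lemma and subnormality criterion
-/

set_option autoImplicit false

namespace H2

open Cfsg Subgroup H11
open scoped Pointwise

universe u

variable {G : Type*} [Group G]

theorem conj_smul_ne_top {H : Subgroup G} (h : H ≠ ⊤) (g : G) : MulAut.conj g • H ≠ ⊤ := by
  intro e
  apply h
  rw [← index_eq_one, ← index_conj_smul g, e, index_top]

/-- If `S` is subnormal but not normal in `K` there is a conjugate `S^x ≠ S`, `x ∈ K`,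
normalizing `S`. -/
theorem SN.exists_conj_ne {S K : Subgroup G} (h : SN S K) (hn : ¬ K ≤ normalizer (S : Set G)) :
    ∃ x ∈ K, MulAut.conj x • S ≠ S ∧ MulAut.conj x • S ≤ normalizer (S : Set G) := by
  induction h with
  | refl => exact absurd le_normalizer hn
  | @tail A B hSA hAB ih =>
    by_cases hA : A ≤ normalizer (S : Set G)
    · obtain ⟨x, hx, hx'⟩ := SetLike.not_le_iff_exists.mp hn
      exact ⟨x, hx, fun e => hx' (H1.conj_smul_eq_iff_mem_normalizer.mp e),
        (H1.conj_smul_le_of_mem_normalizer (SN.le hSA) (hAB.2 hx)).trans hA⟩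
    · obtain ⟨x, hx, h'⟩ := ih hA
      exact ⟨x, hAB.1 hx, h'⟩

/-- **Zipper lemma.** -/
theorem zipper [Finite G] (S : Subgroup G) (h : ∀ H : Subgroup G, S ≤ H → H ≠ ⊤ → SN S H)
    (hS : ¬ S.IsSubnormal) :
    ∀ M K : Subgroup G, IsCoatom M → IsCoatom K → S ≤ M → S ≤ K → M = K := by
  induction S using WellFoundedGT.induction with
  | ind S ih =>
    have hN : normalizer (S : Set G) ≠ ⊤ := fun e => hS (normalizer_eq_top_iff.mp e).isSubnormal
    obtain ⟨M, hM, hle⟩ := exists_coatom_ge hN
    suffices key : ∀ K : Subgroup G, IsCoatom K → S ≤ K → K = M from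
      fun A B hA hB h1 h2 => (key A hA h1).trans (key B hB h2).symm
    intro K hK hSK
    by_cases hn : K ≤ normalizer (S : Set G)
    · exact ((hK.le_iff.mp (hn.trans hle)).resolve_left hM.1).symm
    obtain ⟨x, hx, hne, hxn⟩ := SN.exists_conj_ne (h K hSK hK.1) hn
    have hlt : S < S ⊔ MulAut.conj x • S := left_lt_sup.mpr fun hle =>
      hne (eq_of_le_of_card_ge hle (card_conj_smul x S).ge)
    have hTn : S ⊔ MulAut.conj x • S ≤ normalizer (S : Set G) := sup_le le_normalizer hxn
    refine ih _ hlt (fun H hH hHt => ?_) (fun hT => hS ?_) K M hK hM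
      (sup_le hSK (conj_smul_le_of_le hSK ⟨x, hx⟩)) (hTn.trans hle)
    · refine SN.sup (h H (le_sup_left.trans hH) hHt) ?_
      have := (h (MulAut.conj x⁻¹ • H) (by
        rw [map_inv, ← pointwise_smul_subset_iff]; exact le_sup_right.trans hH)
        (conj_smul_ne_top hHt _)).conj x
      rwa [← H1.conj_mul_smul, mul_inv_cancel, map_one, one_smul] at this
    · exact sn_top_iff.mp ((SN.of_le_normalizer le_sup_left hTn).trans (sn_top_iff.mpr hT))

theorem sn_of_forall_conj [Finite G] (A V : Subgroup G) (hAV : A ≤ V)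
    (h : ∀ g ∈ V, SN A (A ⊔ MulAut.conj g • A)) : SN A V := by
  induction V using WellFoundedLT.induction with
  | ind V ih =>
    by_contra hn
    have hsub : ∀ H : Subgroup V, A.subgroupOf V ≤ H → H ≠ ⊤ → SN (A.subgroupOf V) H := by
      intro H hH hHt
      have h1 : H.map V.subtype < V := by
        conv_rhs => rw [← V.range_subtype, MonoidHom.range_eq_map]
        exact map_subtype_lt_map_subtype.mpr (lt_top_iff_ne_top.mpr hHt)
      have h2 : A ≤ H.map V.subtype := by
        rw [← map_subgroupOf_eq_of_le hAV]; exact map_mono hH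
      have h3 := ih _ h1 h2 fun g hg => h g (h1.le hg)
      refine sn_iff.mpr ⟨hH, ?_⟩
      have h4 := (sn_iff.mp h3).2.comap
        (H.equivMapOfInjective V.subtype V.subtype_injective).toMonoidHom
      exact h4
    have hns : ¬ (A.subgroupOf V).IsSubnormal := fun h => hn (sn_iff.mpr ⟨hAV, h⟩)
    have hz := zipper _ hsub hns
    obtain ⟨M, hM, hAM⟩ := exists_coatom_ge (H := A.subgroupOf V)
      (fun e => hns (e ▸ IsSubnormal.top))
    have h1 : ∀ g : V, MulAut.conj g • A.subgroupOf V ≤ M := fun g => by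
      have hle : A ⊔ MulAut.conj (g : G) • A ≤ V := sup_le hAV (conj_smul_le_of_le hAV g)
      obtain ⟨K, hK, hle'⟩ := exists_coatom_ge (H := (A ⊔ MulAut.conj (g : G) • A).subgroupOf V)
        (fun e => hn (by
          have := h g g.2
          rwa [le_antisymm hle (subgroupOf_eq_top.mp e)] at this))
      rw [hz M K hM hK hAM ((comap_mono le_sup_left).trans hle'), conj_smul_subgroupOf hAV]
      exact (comap_mono le_sup_right).trans hle'
    have h2 : A.subgroupOf V ≤ M.normalCore := fun x hx g =>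
      h1 g (mem_conj_smul_iff.mpr (by simpa [mul_assoc] using hx))
    exact hns (sn_top_iff.mp ((hsub _ h2 fun e => hM.1 (top_le_iff.mp (e ▸ M.normalCore_le))).trans
      (SN.of_le_normalizer le_top le_normalizer_of_normal)))

/-- **Wielandt's subnormality criterion.** -/
theorem isSubnormal_of_forall_conj [Finite G] (A : Subgroup G)
    (h : ∀ g : G, (A.subgroupOf (A ⊔ MulAut.conj g • A)).IsSubnormal) : A.IsSubnormal :=
  sn_top_iff.mp (sn_of_forall_conj A ⊤ le_top fun g _ => sn_iff.mpr ⟨le_sup_left, h g⟩)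

/-- **Baer's theorem.** -/
theorem le_fitting_of_forall_conj_isNilpotent [Finite G] (A : Subgroup G)
    (h : ∀ g : G, Group.IsNilpotent (A ⊔ MulAut.conj g • A : Subgroup G)) :
    A.IsSubnormal ∧ A ≤ fittingSubgroup G := by
  have h1 := isSubnormal_of_forall_conj A fun g =>
    have := h g
    isSubnormal_of_isNilpotent _
  exact ⟨h1, le_fitting_of_isSubnormal h1 (isNilpotent_of_le (h 1) le_sup_left)⟩

/-- **Baer–Suzuki.** -/
theorem le_pCore_of_forall_conj_isPGroup [Finite G] {p : ℕ} [Fact p.Prime] (A : Subgroup G)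
    (h : ∀ g : G, IsPGroup p (A ⊔ MulAut.conj g • A : Subgroup G)) : A ≤ pCore p G :=
  le_pCore_of_isSubnormal
    (le_fitting_of_forall_conj_isNilpotent A fun g => (h g).isNilpotent).1
    ((h 1).to_le le_sup_left)

end H2
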